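import Cfsg.Agent.Lib.PLocal.HallHigman

/-!
`p`-local subgroups of a group with `C(O_p) ≤ O_p`.
-/

set_option linter.style.haveILetI false
open Cfsg Subgroup
open scoped commutatorElement

namespace CfsgLib.PLoc

variable {G : Type*} [Group G] [Finite G] {p : ℕ} [Fact p.Prime]

/-- An element of order prime to `p` centralizing a `p`-subgroup `P` and `C_Q(P)` is trivial. -/
theorem eq_one_of_centralizes (hc : centralizer (pCore p G : Set G) ≤ pCore p G) {P : Subgroup G}
    (hP : IsPGroup p P) {x : G} (hx : (orderOf x).Coprime p) (hxP : x ∈ centralizer (P : Set G))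
    (hxQ : pCore p G ⊓ centralizer (P : Set G) ≤ centralizer {x}) : x = 1 := by
  haveI := pCore_normal p G
  have h := commute_of_pxq hP (pCore_pgroup p G)
    (by rw [Subgroup.normalizer_eq_top]; exact le_top)
    (by rw [Subgroup.normalizer_eq_top]; exact Subgroup.mem_top _) hxP hx hxQ
  have hxC : x ∈ centralizer (pCore p G : Set G) := by
    intro y hy
    exact Subgroup.mem_centralizer_singleton_iff.mp (h hy)
  obtain ⟨k, hk⟩ := (IsPGroup.iff_orderOf.mp (pCore_pgroup p G)) ⟨x, hc hxC⟩
  rw [Subgroup.orderOf_mk] at hk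
  rcases Nat.eq_zero_or_pos k with rfl | hk0
  · simpa using hk
  · rw [hk, Nat.coprime_pow_left_iff hk0] at hx
    exact absurd hx (by simpa using (Nat.Prime.ne_one Fact.out : p ≠ 1))

theorem inf_centralizer_le_pCore_map {P L : Subgroup G} (hPL : centralizer (P : Set G) ≤ L) :
    pCore p G ⊓ centralizer (P : Set G) ≤ (pCore p L).map L.subtype := by
  have h := Subgroup.map_mono (f := L.subtype) (CfsgLib.Solvable.pCore_subgroupOf_le (p := p) L)
  rw [Subgroup.subgroupOf_map_subtype] at h
  exact (inf_le_inf_left _ hPL).trans h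

theorem pPrimeCore_local_eq_bot (hc : centralizer (pCore p G : Set G) ≤ pCore p G) {P L : Subgroup G}
    (hP : IsPGroup p P) (hLN : L ≤ normalizer (P : Set G)) (hCL : centralizer (P : Set G) ≤ L)
    (hPL : P ≤ L ∨ L ≤ centralizer (P : Set G)) : pPrimeCore p L = ⊥ := by
  rw [eq_bot_iff]
  intro x hx
  haveI := pPrimeCore_normal p (L : Type _)
  haveI := pCore_normal p (L : Type _)
  have hdis : pCore p L ⊓ pPrimeCore p L = ⊥ := CfsgLib.Solvable.pCore_inf_pPrimeCore_eq_bot
  have hcomm : ∀ y ∈ pCore p L, y * x = x * y := fun y hy =>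
    (Subgroup.commute_of_normal_of_disjoint (pCore p L) (pPrimeCore p L) inferInstance inferInstance
      (disjoint_iff.mpr hdis) y x hy hx)
  rw [Subgroup.mem_bot]
  apply Subtype.ext
  refine eq_one_of_centralizes hc hP ?_ ?_ ?_
  · rw [Subgroup.orderOf_coe, ← Subgroup.orderOf_mk x hx]
    exact (pPrimeCore_coprime p).coprime_dvd_left (orderOf_dvd_natCard _)
  · rcases hPL with hPL | hPL
    · intro a ha
      have hn : (P.subgroupOf L).Normal := (Subgroup.normal_subgroupOf_iff_le_normalizer hPL).mpr hLN
      exact congrArg Subtype.val (hcomm ⟨a, hPL ha⟩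
        (le_pCore_of hn hP.comap_subtype (Subgroup.mem_subgroupOf.mpr ha)))
    · exact hPL x.2
  · intro y hy
    obtain ⟨z, hz, rfl⟩ := inf_centralizer_le_pCore_map hCL hy
    exact Subgroup.mem_centralizer_singleton_iff.mpr (congrArg Subtype.val (hcomm z hz))

theorem centralizer_pCore_local_le (hc : centralizer (pCore p G : Set G) ≤ pCore p G) {P L : Subgroup G}
    (hP : IsPGroup p P) (hLN : L ≤ normalizer (P : Set G)) (hCL : centralizer (P : Set G) ≤ L)
    (hPL : P ≤ L ∨ L ≤ centralizer (P : Set G)) :
    centralizer (pCore p L : Set L) ≤ pCore p L := by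
  haveI := pCore_normal p (L : Type _)
  refine le_pCore_of inferInstance (isPGroup_of_coprime_order_trivial fun x hx hxo => ?_)
  apply Subtype.ext
  refine eq_one_of_centralizes hc hP (by rwa [Subgroup.orderOf_coe]) ?_ ?_
  · rcases hPL with hPL | hPL
    · intro a ha
      have hn : (P.subgroupOf L).Normal := (Subgroup.normal_subgroupOf_iff_le_normalizer hPL).mpr hLN
      exact congrArg Subtype.val (hx ⟨a, hPL ha⟩
        (le_pCore_of hn hP.comap_subtype (Subgroup.mem_subgroupOf.mpr ha)))
    · exact hPL x.2
  · intro y hy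
    obtain ⟨z, hz, rfl⟩ := inf_centralizer_le_pCore_map hCL hy
    exact Subgroup.mem_centralizer_singleton_iff.mpr (congrArg Subtype.val (hx z hz))

/-- Restriction of a surjection with kernel prime to `p` to a subgroup. -/
theorem isPConstrained_subgroup_iff {H : Type*} [Group H] {f : G →* H}
    (hker : (Nat.card f.ker).Coprime p) (L : Subgroup G) :
    IsPConstrained p L ↔ IsPConstrained p ↥(L.map f) := by
  refine isPConstrained_iff_of_coprime_ker (f := f.subgroupMap L) (f.subgroupMap_surjective L) ?_
  refine hker.coprime_dvd_left ?_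
  rw [MonoidHom.subgroupMap, ← Subgroup.card_map_of_injective L.subtype_injective]
  refine Subgroup.card_dvd_of_le ?_
  rintro _ ⟨x, hx, rfl⟩
  exact congrArg Subtype.val hx

theorem isPConstrained_of_trivial_core (hO : pPrimeCore p G = ⊥)
    (hc : centralizer (pCore p G : Set G) ≤ pCore p G) : IsPConstrained p G :=
  (isPConstrained_iff_of_surjective (f := MonoidHom.id G) Function.surjective_id
    (by rw [hO, MonoidHom.ker_id])).mpr hc

end CfsgLib.PLoc
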