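import Cfsg.Agent.Lib.PLocal.HallHigman

/-!
The upper `p`-series: unfolding, and `C(O_p) ≤ O_p` in the odd quotients of a `p`-solvable group.
-/

set_option linter.style.haveILetI false
open Cfsg Subgroup

namespace CfsgLib.PLoc

variable {G : Type*} [Group G] {p : ℕ}

theorem upperPSeries_odd (k : ℕ) :
    (upperPSeries p G (2 * k + 1)).1 =
      (pPrimeCore p (G ⧸ (upperPSeries p G (2 * k)).1)).comap (QuotientGroup.mk' _) := by
  conv_lhs => rw [upperPSeries]
  simp

theorem upperPSeries_even (k : ℕ) :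
    (upperPSeries p G (2 * k + 2)).1 =
      (pCore p (G ⧸ (upperPSeries p G (2 * k + 1)).1)).comap (QuotientGroup.mk' _) := by
  conv_lhs => rw [upperPSeries]
  simp [Nat.even_add_one]

theorem upperPSeries_le_succ_odd (k : ℕ) :
    (upperPSeries p G (2 * k)).1 ≤ (upperPSeries p G (2 * k + 1)).1 := by
  rw [upperPSeries_odd]
  intro x hx
  rw [Subgroup.mem_comap, show QuotientGroup.mk' _ x = 1 from (QuotientGroup.eq_one_iff x).mpr hx]
  exact one_mem _

theorem pPrimeCore_quotient_upper_odd [Finite G] (k : ℕ) :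
    pPrimeCore p (G ⧸ (upperPSeries p G (2 * k + 1)).1) = ⊥ := by
  haveI : Finite (G ⧸ (upperPSeries p G (2 * k)).1) := inferInstance
  refine pPrimeCore_quotient_eq_bot
    (f := QuotientGroup.map _ (upperPSeries p G (2 * k + 1)).1 (MonoidHom.id G)
      (upperPSeries_le_succ_odd k)) ?_ ?_
  · exact QuotientGroup.map_surjective_of_surjective _ _ _ (fun y => by
      obtain ⟨x, rfl⟩ := QuotientGroup.mk_surjective y; exact ⟨x, rfl⟩) (upperPSeries_le_succ_odd k)
  · refine (QuotientGroup.ker_map _ _ _ _).trans ?_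
    rw [Subgroup.comap_id, upperPSeries_odd]
    exact Subgroup.map_comap_eq_self_of_surjective (QuotientGroup.mk'_surjective _) _

theorem centralizer_pCore_quotient_upper_odd [Finite G] [Fact p.Prime] (hsol : IsPSolvable p G) (k : ℕ) :
    centralizer (pCore p (G ⧸ (upperPSeries p G (2 * k + 1)).1) : Set (G ⧸ (upperPSeries p G (2 * k + 1)).1))
      ≤ pCore p (G ⧸ (upperPSeries p G (2 * k + 1)).1) :=
  centralizer_pCore_le_self (isPSolvable_of_surjective (QuotientGroup.mk'_surjective _) hsol)
    (pPrimeCore_quotient_upper_odd k)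

end CfsgLib.PLoc
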