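import Mathlib.LinearAlgebra.Eigenspace.Minpoly
import Mathlib.LinearAlgebra.Matrix.ToLin
import Mathlib.LinearAlgebra.Matrix.SpecialLinearGroup
import Mathlib.LinearAlgebra.FiniteDimensional.Lemmas
import Mathlib.Algebra.CharP.Basic
import Mathlib.GroupTheory.PGroup
import Mathlib.Algebra.Polynomial.Splits
import Mathlib.FieldTheory.Minpoly.Field

/-!
Two quadratically acting generators: reduction to `SL₂`.
-/

set_option autoImplicit false

namespace CfsgLib.PLocal

open Polynomial

theorem one_add_pow_of_sq_zero {R : Type*} [Ring R] {N : R} (h : N * N = 0) (n : ℕ) :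
    (1 + N) ^ n = 1 + n • N := by
  induction n with
  | zero => simp
  | succ n ih =>
    rw [pow_succ, ih, add_mul, one_mul, mul_add, mul_one, smul_mul_assoc, h, smul_zero, add_zero,
      succ_nsmul]
    abel

section

variable {K : Type*} [Field K] {W : Type*} [AddCommGroup W] [Module K W]

theorem pow_char_eq_one_of_sq_zero (p : ℕ) [CharP K p] {T : Module.End K W}
    (h : (T - 1) * (T - 1) = 0) : T ^ p = 1 := by
  have h1 := one_add_pow_of_sq_zero h p
  rw [add_sub_cancel] at h1
  rw [h1, add_eq_left]
  ext w
  simp [LinearMap.smul_apply, ← Nat.cast_smul_eq_nsmul K p, CharP.cast_eq_zero]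

theorem exists_eigen_of_splits [FiniteDimensional K W] [Nontrivial W] {T : Module.End K W} {f : K[X]}
    (hs : f.Splits) (h0 : f ≠ 0) (hT : aeval T f = 0) : ∃ c : K, ∃ v : W, v ≠ 0 ∧ T v = c • v := by
  have hdvd : minpoly K T ∣ f := minpoly.dvd K T hT
  have hs' : (minpoly K T).Splits := hs.of_dvd h0 hdvd
  have hdeg : (minpoly K T).degree ≠ 0 :=
    (minpoly.degree_pos (Algebra.IsIntegral.isIntegral T)).ne'
  obtain ⟨c, hc⟩ := hs'.exists_eval_eq_zero hdeg
  obtain ⟨v, hv⟩ := (Module.End.hasEigenvalue_of_isRoot (f := T) hc).exists_hasEigenvector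
  exact ⟨c, v, hv.2, hv.apply_eq_smul⟩

theorem det_eq_one_of_sq_zero_two {M : Matrix (Fin 2) (Fin 2) K} (h : (M - 1) * (M - 1) = 0) :
    M.det = 1 := by
  have e : ∀ i j, ((M - 1) * (M - 1)) i j = 0 := fun i j => by rw [h]; rfl
  have e00 := e 0 0
  have e11 := e 1 1
  have e01 := e 0 1
  have e10 := e 1 0
  simp [Matrix.mul_apply, Fin.sum_univ_two] at e00 e11 e01 e10
  rw [Matrix.det_fin_two]
  have h2 : ((M 0 0 - 1) + (M 1 1 - 1)) * ((M 0 0 - 1) + (M 1 1 - 1)) =
      2 * ((M 0 0 - 1) * (M 1 1 - 1) - M 0 1 * M 1 0) := by
    linear_combination e00 + e11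
  by_cases hb : M 0 1 = 0
  · rw [hb] at e00 e11 ⊢
    simp only [zero_mul, mul_zero, add_zero, zero_add, mul_self_eq_zero, sub_eq_zero] at e00 e11
    rw [e00, e11]; ring
  · have ht : (M 0 0 - 1) + (M 1 1 - 1) = 0 := by
      have : M 0 1 * ((M 0 0 - 1) + (M 1 1 - 1)) = 0 := by linear_combination e01
      exact (mul_eq_zero.mp this).resolve_left hb
    linear_combination -e00 + (M 0 0) * ht

end

universe u v

theorem two_quadratic_to_SL2 {K : Type u} [Field K] {p : ℕ} [CharP K p] {H : Type*} [Group H]
    {a b : H} (hgen : Subgroup.closure {a, b} = ⊤) :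
    ∀ (n : ℕ) (W : Type v) [AddCommGroup W] [Module K W] [FiniteDimensional K W],
      Module.finrank K W = n → ∀ ρ : H →* Module.End K W,
      (ρ a - 1) * (ρ a - 1) = 0 → (ρ b - 1) * (ρ b - 1) = 0 →
      (∃ f : K[X], f.Splits ∧ f ≠ 0 ∧ aeval (ρ (a * b)) f = 0) →
      ¬ (∀ h, ∃ k : ℕ, ρ h ^ p ^ k = 1) →
      ∃ φ : H →* Matrix.SpecialLinearGroup (Fin 2) K, ¬ IsPGroup p φ.range ∧
        ((φ a : Matrix (Fin 2) (Fin 2) K) - 1) * ((φ a : Matrix (Fin 2) (Fin 2) K) - 1) = 0 ∧
        ((φ b : Matrix (Fin 2) (Fin 2) K) - 1) * ((φ b : Matrix (Fin 2) (Fin 2) K) - 1) = 0 := by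
  intro n
  induction n using Nat.strong_induction_on with
  | _ n ih =>
    intro W _ _ _ hn ρ ha hb hf hnp
    obtain ⟨f, hfs, hf0, hfT⟩ := hf
    have hW : Nontrivial W := by
      rcases subsingleton_or_nontrivial W with h | h
      · exact absurd (fun h' => ⟨0, LinearMap.ext fun w => Subsingleton.elim _ _⟩) hnp
      · exact h
    obtain ⟨c, v, hv0, hv⟩ := exists_eigen_of_splits hfs hf0 hfT
    have hA : ∀ w, ρ a (ρ a w) = (2 : K) • ρ a w - w := by
      intro w
      have := LinearMap.congr_fun ha w
      simp only [Module.End.mul_apply, LinearMap.sub_apply, Module.End.one_apply, map_sub,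
        LinearMap.zero_apply] at this
      rw [two_smul, ← sub_eq_zero, ← this]
      abel
    have hB : ∀ w, ρ b (ρ b w) = (2 : K) • ρ b w - w := by
      intro w
      have := LinearMap.congr_fun hb w
      simp only [Module.End.mul_apply, LinearMap.sub_apply, Module.End.one_apply, map_sub,
        LinearMap.zero_apply] at this
      rw [two_smul, ← sub_eq_zero, ← this]
      abel
    have hinj : ∀ h : H, Function.Injective (ρ h) := fun h => Function.LeftInverse.injective
      (g := ρ h⁻¹) fun w => by
        rw [← Module.End.mul_apply, ← map_mul, inv_mul_cancel, map_one, Module.End.one_apply]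
    have hvab : ρ a (ρ b v) = c • v := by
      rw [← Module.End.mul_apply, ← map_mul]; exact hv
    have hc : c ≠ 0 := by
      rintro rfl
      rw [zero_smul] at hvab
      exact hv0 (hinj b ((hinj a (hvab.trans (map_zero _).symm)).trans (map_zero _).symm))
    have hbv : ρ b v = c • ((2 : K) • v - ρ a v) := by
      apply hinj a
      rw [hvab, map_smul, map_sub, map_smul, hA, sub_sub_cancel]
    let U : Submodule K W := Submodule.span K {v, ρ a v}
    have hvU : v ∈ U := Submodule.subset_span (by simp)
    have havU : ρ a v ∈ U := Submodule.subset_span (by simp)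
    have hbvU : ρ b v ∈ U := by
      rw [hbv]; exact U.smul_mem _ (U.sub_mem (U.smul_mem _ hvU) havU)
    have hbavU : ρ b (ρ a v) ∈ U := by
      have h1 : ρ a v = (2 : K) • v - c⁻¹ • ρ b v := by
        rw [hbv, smul_smul, inv_mul_cancel₀ hc, one_smul, sub_sub_cancel]
      rw [h1, map_sub, map_smul, map_smul, hB]
      exact U.sub_mem (U.smul_mem _ hbvU) (U.smul_mem _ (U.sub_mem (U.smul_mem _ hbvU) hvU))
    have hgenU : ∀ x : H, (∀ u ∈ ({v, ρ a v} : Set W), ρ x u ∈ U) → U.map (ρ x) = U := by
      intro x hx
      refine Submodule.eq_of_le_of_finrank_eq ?_ ?_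
      · rw [Submodule.map_span_le]; exact hx
      · exact (Submodule.equivMapOfInjective (ρ x) (hinj x) U).finrank_eq.symm
    have hUinv : ∀ h : H, U.map (ρ h) = U := by
      intro h
      have hmem : h ∈ Subgroup.closure {a, b} := by rw [hgen]; trivial
      induction hmem using Subgroup.closure_induction with
      | mem x hx =>
        apply hgenU
        intro u hu
        simp only [Set.mem_insert_iff, Set.mem_singleton_iff] at hx hu
        rcases hx with rfl | rfl <;> rcases hu with rfl | rfl
        · exact havU
        · rw [hA]; exact U.sub_mem (U.smul_mem _ havU) hvU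
        · exact hbvU
        · exact hbavU
      | one => rw [map_one]; exact Submodule.map_id U
      | mul x y _ _ ihx ihy =>
        rw [map_mul, Module.End.mul_eq_comp, Submodule.map_comp, ihy, ihx]
      | inv x _ ihx =>
        conv_lhs => rw [← ihx]
        rw [← Submodule.map_comp, ← Module.End.mul_eq_comp, ← map_mul, inv_mul_cancel, map_one]
        exact Submodule.map_id U
    have hmaps : ∀ h : H, ∀ u ∈ U, ρ h u ∈ U := fun h u hu => by
      rw [← hUinv h]; exact Submodule.mem_map_of_mem hu
    let ρU : H →* Module.End K U :=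
      { toFun := fun h => (ρ h).restrict (hmaps h)
        map_one' := by ext u; simp [LinearMap.restrict_apply]
        map_mul' := fun x y => by ext u; simp [LinearMap.restrict_apply] }
    have hle : ∀ h : H, U ≤ U.comap (ρ h) := fun h u hu => hmaps h u hu
    let ρQ : H →* Module.End K (W ⧸ U) :=
      { toFun := fun h => U.mapQ U (ρ h) (hle h)
        map_one' := Submodule.linearMap_qext _ (by ext w; simp)
        map_mul' := fun x y => Submodule.linearMap_qext _ (by ext w; simp) }
    by_cases hQ : ∀ h, ∃ k : ℕ, ρQ h ^ p ^ k = 1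
    · have hUnp : ¬ ∀ h, ∃ k : ℕ, ρU h ^ p ^ k = 1 := by
        intro hU
        apply hnp
        intro h
        obtain ⟨k1, hk1⟩ := hQ h
        obtain ⟨k2, hk2⟩ := hU h
        refine ⟨k1 + k2 + 1, ?_⟩
        rw [← map_pow] at hk1 hk2
        have e1 : ρQ (h ^ p ^ (k1 + k2)) = 1 := by
          rw [pow_add, pow_mul, map_pow, hk1, one_pow]
        have e2 : ρU (h ^ p ^ (k1 + k2)) = 1 := by
          rw [pow_add, mul_comm, pow_mul, map_pow, hk2, one_pow]
        set g := h ^ p ^ (k1 + k2)
        have hsq : (ρ g - 1) * (ρ g - 1) = 0 := by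
          refine LinearMap.ext fun w => ?_
          have h1 : ρ g w - w ∈ U := by
            have := LinearMap.congr_fun e1 (Submodule.Quotient.mk w)
            exact (Submodule.Quotient.eq U).mp this
          have h2 : ρ g (ρ g w - w) = ρ g w - w :=
            congrArg Subtype.val (LinearMap.congr_fun e2 ⟨_, h1⟩)
          simp only [Module.End.mul_apply, LinearMap.sub_apply, Module.End.one_apply,
            LinearMap.zero_apply]
          rw [h2, sub_self]
        rw [pow_succ, pow_mul, ← map_pow]
        exact pow_char_eq_one_of_sq_zero p hsq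
      have haU : (ρU a - 1) * (ρU a - 1) = 0 := by
        refine LinearMap.ext fun u => Subtype.ext ?_
        exact LinearMap.congr_fun ha u
      have hbU : (ρU b - 1) * (ρU b - 1) = 0 := by
        refine LinearMap.ext fun u => Subtype.ext ?_
        exact LinearMap.congr_fun hb u
      have hind : ρ a v ∉ Submodule.span K {v} := by
        intro hmem
        obtain ⟨d, hd⟩ := Submodule.mem_span_singleton.mp hmem
        have hd1 : d = 1 := by
          have h1 := hA v
          rw [← hd, map_smul, ← hd, smul_smul, smul_smul, eq_sub_iff_add_eq] at h1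
          have h2 : (d * d + 1 - 2 * d) • v = 0 := by
            rw [sub_smul, add_smul, one_smul, h1, sub_self]
          have h3 := (smul_eq_zero.mp h2).resolve_right hv0
          have h4 : (d - 1) * (d - 1) = 0 := by linear_combination h3
          exact sub_eq_zero.mp (mul_self_eq_zero.mp h4)
        rw [hd1, one_smul] at hd
        have hb1 : ρ b v = c • v := by
          rw [hbv, ← hd, two_smul, add_sub_cancel_right]
        have hc1 : c = 1 := by
          have h1 := hB v
          rw [hb1, map_smul, hb1, smul_smul, smul_smul, eq_sub_iff_add_eq] at h1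
          have h2 : (c * c + 1 - 2 * c) • v = 0 := by
            rw [sub_smul, add_smul, one_smul, h1, sub_self]
          have h3 := (smul_eq_zero.mp h2).resolve_right hv0
          have h4 : (c - 1) * (c - 1) = 0 := by linear_combination h3
          exact sub_eq_zero.mp (mul_self_eq_zero.mp h4)
        rw [hc1, one_smul] at hb1
        apply hUnp
        intro h
        refine ⟨0, ?_⟩
        rw [pow_zero, pow_one]
        have hfix : ∀ x : H, ρ x v = v := by
          intro x
          have hmem : x ∈ Subgroup.closure {a, b} := by rw [hgen]; trivial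
          induction hmem using Subgroup.closure_induction with
          | mem x hx => rcases hx with rfl | rfl; exacts [hd.symm, hb1]
          | one => simp
          | mul x y _ _ ihx ihy => rw [map_mul, Module.End.mul_apply, ihy, ihx]
          | inv x _ ihx =>
            conv_lhs => rw [← ihx]
            rw [← Module.End.mul_apply, ← map_mul, inv_mul_cancel, map_one, Module.End.one_apply]
        refine LinearMap.ext fun u => Subtype.ext ?_
        obtain ⟨s, t, hst⟩ := Submodule.mem_span_pair.mp u.2
        show ρ h (u : W) = u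
        rw [← hst, map_add, map_smul, map_smul, ← hd, hfix]
      have hli : LinearIndependent K ![v, ρ a v] := by
        rw [LinearIndependent.pair_iff' hv0]
        intro d hd
        exact hind (Submodule.mem_span_singleton.mpr ⟨d, hd⟩)
      have hU2 : Module.finrank K U = 2 := by
        have := finrank_span_eq_card hli
        rwa [Matrix.range_cons, Matrix.range_cons, Matrix.range_empty, Set.union_empty,
          Set.singleton_union, Fintype.card_fin] at this
      let e := LinearMap.toMatrixAlgEquiv (Module.finBasisOfFinrankEq K U hU2)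
      have hea : (e (ρU a) - 1) * (e (ρU a) - 1) = 0 := by
        rw [← map_one e, ← map_sub, ← map_mul, haU, map_zero]
      have heb : (e (ρU b) - 1) * (e (ρU b) - 1) = 0 := by
        rw [← map_one e, ← map_sub, ← map_mul, hbU, map_zero]
      have hdet : ∀ h, (e (ρU h)).det = 1 := by
        intro h
        have hmem : h ∈ Subgroup.closure {a, b} := by rw [hgen]; trivial
        induction hmem using Subgroup.closure_induction with
        | mem x hx =>
          rcases hx with rfl | rfl
          exacts [det_eq_one_of_sq_zero_two hea, det_eq_one_of_sq_zero_two heb]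
        | one => rw [map_one, map_one, Matrix.det_one]
        | mul x y _ _ ihx ihy => rw [map_mul, map_mul, Matrix.det_mul, ihx, ihy, one_mul]
        | inv x _ ihx =>
          have h1 : (e (ρU x⁻¹)).det * (e (ρU x)).det = 1 := by
            rw [← Matrix.det_mul, ← map_mul, ← map_mul, inv_mul_cancel, map_one, map_one,
              Matrix.det_one]
          rwa [ihx, mul_one] at h1
      let φ : H →* Matrix.SpecialLinearGroup (Fin 2) K :=
        { toFun := fun h => ⟨e (ρU h), hdet h⟩
          map_one' := Subtype.ext (by simp)
          map_mul' := fun x y => Subtype.ext ((congrArg e (map_mul ρU x y)).trans (map_mul e _ _)) }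
      refine ⟨φ, fun hP => hUnp fun h => ?_, hea, heb⟩
      obtain ⟨k, hk⟩ := hP ⟨φ h, h, rfl⟩
      refine ⟨k, ?_⟩
      have h1 : (φ h) ^ p ^ k = 1 := congrArg Subtype.val hk
      rw [← map_pow φ] at h1
      rw [← map_pow]
      apply e.injective
      rw [map_one]
      exact congrArg Subtype.val h1
    · have hlt : Module.finrank K (W ⧸ U) < n := by
        have h1 := U.finrank_quotient_add_finrank
        have h2 : 0 < Module.finrank K U := by
          have : Nontrivial U := ⟨⟨⟨v, hvU⟩, 0, fun h => hv0 (congrArg Subtype.val h)⟩⟩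
          exact Module.finrank_pos
        omega
      refine ih _ hlt (W ⧸ U) rfl ρQ ?_ ?_ ⟨f, hfs, hf0, ?_⟩ hQ
      · refine Submodule.linearMap_qext _ (LinearMap.ext fun w => ?_)
        exact congrArg (Submodule.Quotient.mk (p := U)) (LinearMap.congr_fun ha w)
      · refine Submodule.linearMap_qext _ (LinearMap.ext fun w => ?_)
        exact congrArg (Submodule.Quotient.mk (p := U)) (LinearMap.congr_fun hb w)
      · have key : ∀ g : K[X], ∀ w : W, aeval (ρQ (a * b)) g (Submodule.Quotient.mk w) =
            Submodule.Quotient.mk (aeval (ρ (a * b)) g w) := by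
          intro g
          induction g using Polynomial.induction_on' with
          | add g₁ g₂ hg₁ hg₂ =>
            intro w
            rw [map_add, map_add, LinearMap.add_apply, LinearMap.add_apply, hg₁, hg₂, Submodule.Quotient.mk_add]
          | monomial m r =>
            intro w
            simp only [aeval_monomial, Module.End.mul_apply, Module.algebraMap_end_apply,
              Submodule.Quotient.mk_smul, ← map_pow]
            rfl
        refine Submodule.linearMap_qext _ (LinearMap.ext fun w => ?_)
        rw [LinearMap.comp_apply, LinearMap.comp_apply, Submodule.mkQ_apply, key f w, hfT]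
        rfl

end CfsgLib.PLocal
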