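import Mathlib.GroupTheory.Commutator.Basic
import Mathlib.GroupTheory.Index
import Mathlib.GroupTheory.OrderOfElement
import Mathlib.GroupTheory.PGroup
import Cfsg.Prelude.Def_PLocal

set_option autoImplicit false

open scoped commutatorElement

namespace CfsgLib.PLocal

variable {G : Type*} [Group G]

theorem commElt_eq_conj (a v : G) : ⁅a, v⁆ * v = a * v * a⁻¹ := by
  simp [commutatorElement_def]

theorem commElt_mem_of_normalizer {V : Subgroup G} {a v : G}
    (ha : a ∈ Subgroup.normalizer (V : Set G)) (hv : v ∈ V) : ⁅a, v⁆ ∈ V := by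
  rw [commutatorElement_def]
  exact V.mul_mem (Subgroup.mem_normalizer_iff.mp ha v |>.mp hv) (V.inv_mem hv)

theorem commutator_le_of_le_normalizer {V H : Subgroup G}
    (hHV : H ≤ Subgroup.normalizer (V : Set G)) : ⁅V, H⁆ ≤ V :=
  Subgroup.le_normalizer_iff_commutator_le_left.mp hHV

theorem commute_of_mem_comm {V : Subgroup G} (hV : IsMulCommutative V) {u v : G}
    (hu : u ∈ V) (hv : v ∈ V) : Commute u v :=
  Subgroup.le_centralizer_iff_isMulCommutative.mpr hV hv u hu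

theorem commutator_bot_iff_inf_centralizer {V A : Subgroup G} :
    ⁅V, A⁆ = ⊥ ↔ V ⊓ Subgroup.centralizer (A : Set G) = V := by
  rw [Subgroup.commutator_eq_bot_iff_le_centralizer, inf_eq_left]

theorem quadratic_elt_fixed {V H : Subgroup G} (hq : ⁅⁅V, H⁆, H⁆ = ⊥) {v h k : G}
    (hv : v ∈ V) (hh : h ∈ H) (hk : k ∈ H) : k * ⁅h, v⁆ * k⁻¹ = ⁅h, v⁆ := by
  have h1 : ⁅h, v⁆ ∈ ⁅V, H⁆ := by
    rw [Subgroup.commutator_comm]; exact Subgroup.commutator_mem_commutator hh hv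
  have h2 := Subgroup.commutator_eq_bot_iff_le_centralizer.mp hq h1 k hk
  rw [h2, mul_inv_cancel_right]

theorem quadratic_conj_mul {V H : Subgroup G} (hq : ⁅⁅V, H⁆, H⁆ = ⊥) {v h k : G}
    (hv : v ∈ V) (hh : h ∈ H) (hk : k ∈ H) :
    (h * k) * v * (h * k)⁻¹ = ⁅k, v⁆ * (⁅h, v⁆ * v) := by
  have h1 := quadratic_elt_fixed hq hv hk hh
  calc (h * k) * v * (h * k)⁻¹ = h * (k * v * k⁻¹) * h⁻¹ := by group
    _ = h * (⁅k, v⁆ * v) * h⁻¹ := by rw [commElt_eq_conj]
    _ = (h * ⁅k, v⁆ * h⁻¹) * (h * v * h⁻¹) := by group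
    _ = ⁅k, v⁆ * (⁅h, v⁆ * v) := by rw [h1, commElt_eq_conj]

theorem quadratic_commutator_le_centralizer {V H : Subgroup G} (hV : IsMulCommutative V)
    (hHV : H ≤ Subgroup.normalizer (V : Set G)) (hq : ⁅⁅V, H⁆, H⁆ = ⊥) :
    ⁅H, H⁆ ≤ Subgroup.centralizer (V : Set G) := by
  rw [Subgroup.commutator_le]
  intro h hh k hk
  rw [Subgroup.mem_centralizer_iff]
  intro v hv
  have hkh : k * h ∈ H := H.mul_mem hk hh
  have hv' : (k * h)⁻¹ * v * (k * h) ∈ V := by
    have := (Subgroup.mem_normalizer_iff.mp (hHV (H.inv_mem hkh)) v).mp hv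
    simpa using this
  have e1' := quadratic_conj_mul hq hv' hh hk
  have e2' := quadratic_conj_mul hq hv' hk hh
  have hc' : (h * k) * ((k * h)⁻¹ * v * (k * h)) * (h * k)⁻¹ = v := by
    have : ⁅k, (k * h)⁻¹ * v * (k * h)⁆ * (⁅h, (k * h)⁻¹ * v * (k * h)⁆ * ((k * h)⁻¹ * v * (k * h)))
        = ⁅h, (k * h)⁻¹ * v * (k * h)⁆ * (⁅k, (k * h)⁻¹ * v * (k * h)⁆ * ((k * h)⁻¹ * v * (k * h))) := by
      rw [← mul_assoc, ← mul_assoc (⁅h, (k * h)⁻¹ * v * (k * h)⁆),
        (commute_of_mem_comm hV (commElt_mem_of_normalizer (hHV hk) hv')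
          (commElt_mem_of_normalizer (hHV hh) hv')).eq]
    rw [e1', this, ← e2']
    group
  calc v * ⁅h, k⁆ = ((h * k) * ((k * h)⁻¹ * v * (k * h)) * (h * k)⁻¹) * ⁅h, k⁆ := by rw [hc']
    _ = ⁅h, k⁆ * v := by rw [commutatorElement_def]; group

theorem quadratic_pow_conj {V H : Subgroup G} (hV : IsMulCommutative V)
    (hHV : H ≤ Subgroup.normalizer (V : Set G)) (hq : ⁅⁅V, H⁆, H⁆ = ⊥) {v h : G}
    (hv : v ∈ V) (hh : h ∈ H) (n : ℕ) : h ^ n * v * (h ^ n)⁻¹ = ⁅h, v⁆ ^ n * v := by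
  induction n with
  | zero => simp
  | succ n ih =>
    calc h ^ (n + 1) * v * (h ^ (n + 1))⁻¹ = h * (h ^ n * v * (h ^ n)⁻¹) * h⁻¹ := by
          rw [pow_succ']; group
      _ = (h * ⁅h, v⁆ ^ n * h⁻¹) * (h * v * h⁻¹) := by rw [ih]; group
      _ = ⁅h, v⁆ ^ (n + 1) * v := by
          rw [← conj_pow, quadratic_elt_fixed hq hv hh hh, ← commElt_eq_conj h v, ← mul_assoc,
            ← pow_succ]

theorem quadratic_pow_mem_centralizer {p : ℕ} {V H : Subgroup G} (hV : Cfsg.IsElementaryAbelian p V)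
    (hHV : H ≤ Subgroup.normalizer (V : Set G)) (hq : ⁅⁅V, H⁆, H⁆ = ⊥) {a : G} (ha : a ∈ H) :
    a ^ p ∈ Subgroup.centralizer (V : Set G) := by
  rw [Subgroup.mem_centralizer_iff]
  intro v hv
  have := quadratic_pow_conj hV.1 hHV hq hv ha p
  rw [hV.2 _ (commElt_mem_of_normalizer (hHV ha) hv), one_mul] at this
  exact (mul_inv_eq_iff_eq_mul.mp this).symm

/-- `v ↦ [a, v]` on an abelian subgroup normalized by `a`. -/
def commHom (V : Subgroup G) (hV : IsMulCommutative V) (a : G)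
    (ha : a ∈ Subgroup.normalizer (V : Set G)) : ↥V →* ↥V where
  toFun v := ⟨⁅a, (v : G)⁆, commElt_mem_of_normalizer ha v.2⟩
  map_one' := by ext; simp
  map_mul' := by
    intro v w
    ext
    simp only [Subgroup.coe_mul]
    have hw := commElt_mem_of_normalizer ha w.2
    calc ⁅a, (v : G) * w⁆ = ⁅a, (v : G)⁆ * ((v : G) * ⁅a, (w : G)⁆ * (v : G)⁻¹) := by
          simp [commutatorElement_def, mul_assoc]
      _ = ⁅a, (v : G)⁆ * ⁅a, (w : G)⁆ := by
          rw [(commute_of_mem_comm hV v.2 hw).eq, mul_inv_cancel_right]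

@[simp] theorem commHom_coe (V : Subgroup G) (hV : IsMulCommutative V) (a : G)
    (ha : a ∈ Subgroup.normalizer (V : Set G)) (v : ↥V) :
    ((commHom V hV a ha v : ↥V) : G) = ⁅a, (v : G)⁆ := rfl

theorem commHom_mem_ker_iff (V : Subgroup G) (hV : IsMulCommutative V) (a : G)
    (ha : a ∈ Subgroup.normalizer (V : Set G)) (v : ↥V) :
    v ∈ (commHom V hV a ha).ker ↔ (v : G) ∈ Subgroup.centralizer (Subgroup.zpowers a : Set G) := by
  rw [MonoidHom.mem_ker, Subgroup.zpowers_eq_closure, Subgroup.centralizer_closure,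
    Subgroup.mem_centralizer_singleton_iff, Subtype.ext_iff, commHom_coe, Subgroup.coe_one,
    commutatorElement_eq_one_iff_mul_comm]
  exact eq_comm

theorem card_le_sq_of_quadratic [Finite G] {p : ℕ} (V : Subgroup G) (hV : Cfsg.IsElementaryAbelian p V)
    (a : G) (ha : a ∈ Subgroup.normalizer (V : Set G))
    (hq : ⁅⁅V, Subgroup.zpowers a⁆, Subgroup.zpowers a⁆ = ⊥) :
    Nat.card V ≤ Nat.card ↥(V ⊓ Subgroup.centralizer (Subgroup.zpowers a : Set G)) ^ 2 := by
  let f := commHom V hV.1 a ha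
  let C : Subgroup G := V ⊓ Subgroup.centralizer (Subgroup.zpowers a : Set G)
  have hker : f.ker.map V.subtype = C := by
    ext x
    constructor
    · rintro ⟨v, hv, rfl⟩
      exact ⟨v.2, (commHom_mem_ker_iff V hV.1 a ha v).mp hv⟩
    · rintro ⟨hx, hc⟩
      exact ⟨⟨x, hx⟩, (commHom_mem_ker_iff V hV.1 a ha _).mpr hc, rfl⟩
  have hrange : f.range.map V.subtype ≤ C := by
    rintro x ⟨y, ⟨v, rfl⟩, rfl⟩
    refine ⟨(f v).2, ?_⟩
    have : ⁅a, (v : G)⁆ ∈ ⁅V, Subgroup.zpowers a⁆ := by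
      rw [Subgroup.commutator_comm]
      exact Subgroup.commutator_mem_commutator (Subgroup.mem_zpowers a) v.2
    exact Subgroup.commutator_eq_bot_iff_le_centralizer.mp hq this
  have h1 : Nat.card f.ker = Nat.card C := by
    rw [← hker, Subgroup.card_map_of_injective V.subtype_injective]
  have h2 : Nat.card f.range ≤ Nat.card C := by
    rw [← Subgroup.card_map_of_injective V.subtype_injective]
    exact Subgroup.card_le_of_le hrange
  calc Nat.card V = Nat.card f.ker * f.ker.index := f.ker.card_mul_index.symm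
    _ = Nat.card f.ker * Nat.card f.range := by rw [Subgroup.index_ker]
    _ ≤ Nat.card C * Nat.card C := by rw [h1]; exact Nat.mul_le_mul_left _ h2
    _ = Nat.card C ^ 2 := (sq _).symm

end CfsgLib.PLocal
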