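import Mathlib.GroupTheory.Sylow
import Cfsg.Agent.Lib.PLocal.Quadratic

/-! Element-wise description of quadratic action of a single element, and its transport. -/

set_option autoImplicit false

open scoped commutatorElement

namespace CfsgLib.PLocal

variable {G : Type*} [Group G]

/-- `a` acts quadratically on `V`, element-wise: `a` fixes every `⁅a, v⁆`. -/
def QuadElt (V : Subgroup G) (a : G) : Prop :=
  ∀ v ∈ V, a * ⁅a, v⁆ * a⁻¹ = ⁅a, v⁆

theorem quadElt_of_bot {V : Subgroup G} {a : G}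
    (hq : ⁅⁅V, Subgroup.zpowers a⁆, Subgroup.zpowers a⁆ = ⊥) : QuadElt V a :=
  fun _ hv => quadratic_elt_fixed hq hv (Subgroup.mem_zpowers a) (Subgroup.mem_zpowers a)

theorem bot_of_quadElt [Finite G] {V : Subgroup G} {a : G} (hq : QuadElt V a) :
    ⁅⁅V, Subgroup.zpowers a⁆, Subgroup.zpowers a⁆ = ⊥ := by
  rw [Subgroup.commutator_eq_bot_iff_le_centralizer, Subgroup.commutator_le]
  intro v hv b hb
  obtain ⟨n, rfl⟩ : ∃ n : ℕ, a ^ n = b := (isOfFinOrder_of_finite a).mem_powers_iff_mem_zpowers.mpr hb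
  rw [Subgroup.zpowers_eq_closure, Subgroup.centralizer_closure, Subgroup.mem_centralizer_singleton_iff]
  have h1 : Commute a ⁅a, v⁆ := mul_inv_eq_iff_eq_mul.mp (hq v hv)
  have h2 : a ^ n * v * (a ^ n)⁻¹ = ⁅a, v⁆ ^ n * v := by
    clear hb
    induction n with
    | zero => simp
    | succ n ih =>
      calc a ^ (n + 1) * v * (a ^ (n + 1))⁻¹ = a * (a ^ n * v * (a ^ n)⁻¹) * a⁻¹ := by
            rw [pow_succ']; group
        _ = (a * ⁅a, v⁆ ^ n * a⁻¹) * (a * v * a⁻¹) := by rw [ih]; group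
        _ = ⁅a, v⁆ ^ (n + 1) * v := by
            rw [(h1.pow_right n).eq, mul_inv_cancel_right, ← commElt_eq_conj a v, ← mul_assoc, ← pow_succ]
  have h3 : ⁅a ^ n, v⁆ = ⁅a, v⁆ ^ n := by
    rw [commutatorElement_def, h2, mul_inv_cancel_right]
  rw [← commutatorElement_inv, h3]
  exact ((h1.pow_right n).inv_right).eq.symm

theorem quadratic_zpowers_iff [Finite G] {V : Subgroup G} {a : G} :
    ⁅⁅V, Subgroup.zpowers a⁆, Subgroup.zpowers a⁆ = ⊥ ↔ QuadElt V a :=
  ⟨quadElt_of_bot, bot_of_quadElt⟩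

theorem quadElt_conj {V : Subgroup G} {a g : G} (hg : g ∈ Subgroup.normalizer (V : Set G))
    (hq : QuadElt V a) : QuadElt V (g * a * g⁻¹) := by
  intro v hv
  have hv' : g⁻¹ * v * g ∈ V := by
    simpa using (Subgroup.mem_normalizer_iff.mp (inv_mem hg) v).mp hv
  have h := hq _ hv'
  simp only [commutatorElement_def] at h ⊢
  calc g * a * g⁻¹ * (g * a * g⁻¹ * v * (g * a * g⁻¹)⁻¹ * v⁻¹) * (g * a * g⁻¹)⁻¹
      = g * (a * (a * (g⁻¹ * v * g) * a⁻¹ * (g⁻¹ * v * g)⁻¹) * a⁻¹) * g⁻¹ := by group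
    _ = g * a * g⁻¹ * v * (g * a * g⁻¹)⁻¹ * v⁻¹ := by rw [h]; group

theorem quadElt_congr {V : Subgroup G} {a b : G} (ha : a ∈ Subgroup.normalizer (V : Set G))
    (h : ∀ v ∈ V, a * v * a⁻¹ = b * v * b⁻¹) (hq : QuadElt V a) : QuadElt V b := by
  intro v hv
  have e : ⁅b, v⁆ = ⁅a, v⁆ := by rw [commutatorElement_def, commutatorElement_def, h v hv]
  rw [e, ← h _ (commElt_mem_of_normalizer ha hv)]
  exact hq v hv

theorem quadElt_map {H : Type*} [Group H] (f : G →* H) {V : Subgroup G} {a : G} (hq : QuadElt V a) :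
    QuadElt (V.map f) (f a) := by
  rintro _ ⟨v, hv, rfl⟩
  have := congrArg f (hq v hv)
  rwa [map_mul, map_mul, map_inv, map_commutatorElement] at this

theorem quadElt_of_map {H : Type*} [Group H] {f : G →* H} (hf : Function.Injective f)
    {V : Subgroup G} {a : G} (hq : QuadElt (V.map f) (f a)) : QuadElt V a := by
  intro v hv
  apply hf
  rw [map_mul, map_mul, map_inv, map_commutatorElement]
  exact hq _ (Subgroup.mem_map_of_mem f hv)

theorem quadElt_mem_centralizer {V : Subgroup G} {a : G} (h : a ∈ Subgroup.centralizer (V : Set G)) :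
    QuadElt V a := by
  intro v hv
  have : ⁅a, v⁆ = 1 := commutatorElement_eq_one_iff_mul_comm.mpr (h v hv).symm
  simp [this]

end CfsgLib.PLocal
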