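import Mathlib.LinearAlgebra.Matrix.SpecialLinearGroup
import Mathlib.LinearAlgebra.Matrix.CharP
import Mathlib.GroupTheory.Sylow
import Mathlib.GroupTheory.Transfer
import Cfsg.Agent.Lib.Schur.SL2
import Cfsg.Agent.Lib.Solvable.CoprimeGeneration

/-!
Finite subgroups of `SL₂` in odd characteristic generated by unipotent elements: they are
`p`-groups or have non-abelian Sylow 2-subgroups.
-/

set_option autoImplicit false

open scoped MatrixGroups
open CfsgLib.SchurSL2

namespace CfsgLib.PLocal

variable {K : Type*} [Field K]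

local notation "M2" => Matrix (Fin 2) (Fin 2) K

theorem sl2_commute_of_commute {x y z : SL(2, K)} (hx : ¬ IsScalarMat (x : M2)) (hy : Commute x y)
    (hz : Commute x z) : Commute y z := by
  obtain ⟨c, hc⟩ := poly_of_commute hx (congrArg Subtype.val hy.eq)
  have h1 : Commute (x : M2) (z : M2) := congrArg Subtype.val hz.eq
  refine Subtype.ext ?_
  show (y : M2) * (z : M2) = (z : M2) * (y : M2)
  rw [hc]
  exact (((Commute.one_left (z : M2)).smul_left c.1).add_left (h1.smul_left c.2)).eq

theorem sl2_scalar_one : IsScalarMat ((1 : SL(2, K)) : M2) := by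
  refine ⟨?_, ?_, ?_⟩ <;> simp

section

variable {p : ℕ} [hp : Fact p.Prime] [CharP K p]

include hp

theorem sl2_sq_zero_of_pow {g : SL(2, K)} (hg : g ^ p = 1) :
    ((g : M2) - 1) * ((g : M2) - 1) = 0 := by
  have h1 : ((g : M2) - 1) ^ p = 0 := by
    rw [sub_pow_char_of_commute _ (Commute.one_right _), one_pow, ← Matrix.SpecialLinearGroup.coe_pow,
      hg, Matrix.SpecialLinearGroup.coe_one, sub_self]
  set t := (g : M2) 0 0 + (g : M2) 1 1
  have h2 : ((g : M2) - 1) * ((g : M2) - 1) = (t - 2) • (g : M2) := by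
    rw [mul_sub, sub_mul, sub_mul, cayley g, one_mul, mul_one, mul_one, sub_smul, two_smul]
    abel
  have h3 : (t - 2) ^ p • (1 : M2) = 0 := by
    have e : (((g : M2) - 1) * ((g : M2) - 1)) ^ p = 0 := by
      rw [(Commute.refl ((g : M2) - 1)).mul_pow, h1, mul_zero]
    rw [h2, smul_pow, ← Matrix.SpecialLinearGroup.coe_pow, hg,
      Matrix.SpecialLinearGroup.coe_one] at e
    exact e
  have h4 : (t - 2) ^ p = 0 := by
    have := congrFun (congrFun h3 0) 0
    simpa using this
  rw [h2, pow_eq_zero_iff hp.out.ne_zero |>.mp h4, zero_smul]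

theorem sl2_pow_of_sq_zero {g : SL(2, K)} (h : ((g : M2) - 1) * ((g : M2) - 1) = 0) : g ^ p = 1 := by
  refine Subtype.ext ?_
  show ((g ^ p : SL(2, K)) : M2) = 1
  have h1 : ((g : M2) - 1) ^ p = 0 :=
    pow_eq_zero_of_le hp.out.two_le (by rw [pow_two]; exact h)
  rw [sub_pow_char_of_commute _ (Commute.one_right _), one_pow, sub_eq_zero] at h1
  rw [Matrix.SpecialLinearGroup.coe_pow]; exact h1

theorem sl2_centralizer_unipotent {g y : SL(2, K)} (hg : g ^ p = 1) (hs : ¬ IsScalarMat (g : M2))
    (hy : Commute g y) : y ^ (2 * p) = 1 := by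
  obtain ⟨⟨c, d⟩, hcd⟩ := poly_of_commute hs (congrArg Subtype.val hy.eq)
  simp only at hcd
  set N := (g : M2) - 1 with hN
  have hN2 : N * N = 0 := sl2_sq_zero_of_pow hg
  set e := c + d with he
  have hy' : (y : M2) = e • (1 : M2) + d • N := by
    rw [hcd, hN, smul_sub, he, add_smul]; abel
  have hcay := cayley g
  have hdet : (g : M2) 0 0 * (g : M2) 1 1 - (g : M2) 0 1 * (g : M2) 1 0 = 1 := by
    rw [← Matrix.det_fin_two]; exact g.2
  have htr : ((g : M2) 0 0 + (g : M2) 1 1 - 2) • (g : M2) = 0 := by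
    rw [← hN2, hN, mul_sub, sub_mul, sub_mul, hcay, one_mul, mul_one, mul_one, sub_smul, two_smul]
    abel
  have ht : (g : M2) 0 0 + (g : M2) 1 1 = 2 := by
    rcases smul_eq_zero.mp htr with h | h
    · exact sub_eq_zero.mp h
    · exfalso
      rw [h] at hdet
      simp at hdet
  have he2 : e * e = 1 := by
    have hdy : (y : M2).det = 1 := y.2
    rw [hy', Matrix.det_fin_two] at hdy
    simp [hN] at hdy
    linear_combination hdy - (e * d) * ht - d * d * (hdet - ht)
  have hpow : (y : M2) ^ p = e ^ p • (1 : M2) := by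
    have hcomm : Commute (e • (1 : M2)) (d • N) :=
      ((Commute.one_left N).smul_left e).smul_right d
    rw [hy', add_pow_char_of_commute _ hcomm, smul_pow, one_pow, smul_pow,
      pow_eq_zero_of_le hp.out.two_le (show N ^ 2 = 0 by rw [pow_two, hN2]), smul_zero, add_zero]
  refine Subtype.ext ?_
  show ((y ^ (2 * p) : SL(2, K)) : M2) = 1
  rw [Matrix.SpecialLinearGroup.coe_pow, mul_comm, pow_mul, hpow, smul_pow, one_pow, ← pow_mul,
    mul_comm, pow_mul, pow_two, he2, one_pow, one_smul]

theorem sl2_conj_commute_cases (hp2 : p ≠ 2) {x y : SL(2, K)} (hs : ¬ IsScalarMat (x : M2))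
    (hx : x ^ (2 * p) ≠ 1) (hy : Commute x y) {g : SL(2, K)} (hg : y = g * x * g⁻¹) :
    y = x ∨ y = x⁻¹ := by
  have h2 : (2 : K) ≠ 0 := by
    intro h
    apply hp2
    have := (CharP.cast_eq_zero_iff K p 2).mp (by exact_mod_cast h)
    exact (Nat.prime_dvd_prime_iff_eq hp.out Nat.prime_two).mp this
  obtain ⟨⟨c, d⟩, hcd⟩ := poly_of_commute hs (congrArg Subtype.val hy.eq)
  simp only at hcd
  set t := (x : M2) 0 0 + (x : M2) 1 1 with ht
  have htr : (y : M2).trace = t := by
    rw [hg, Matrix.SpecialLinearGroup.coe_mul, Matrix.trace_mul_comm,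
      ← Matrix.SpecialLinearGroup.coe_mul, inv_mul_cancel_left, Matrix.trace_fin_two]
  have h1 : 2 * c + d * t = t := by
    rw [hcd, Matrix.trace_fin_two] at htr
    simp at htr
    rw [ht] at htr ⊢
    linear_combination htr
  have hdx : (x : M2) 0 0 * (x : M2) 1 1 - (x : M2) 0 1 * (x : M2) 1 0 = 1 := by
    rw [← Matrix.det_fin_two]; exact x.2
  have h3 : c * c + c * d * t + d * d = 1 := by
    have hdy : (y : M2).det = 1 := y.2
    rw [hcd, Matrix.det_fin_two] at hdy
    simp at hdy
    rw [ht]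
    linear_combination hdy - d * d * hdx
  have h4 : (d - 1) * (d + 1) * (4 - t * t) = 0 := by
    linear_combination 4 * h3 - (2 * c + d * t + t) * h1
  have h5 : 4 - t * t ≠ 0 := by
    intro h5
    apply hx
    have h6 : t = 2 ∨ t = -2 := by
      have : (t - 2) * (t + 2) = 0 := by linear_combination -h5
      rcases mul_eq_zero.mp this with h | h
      · exact Or.inl (sub_eq_zero.mp h)
      · exact Or.inr (eq_neg_of_add_eq_zero_left h)
    have key : ∀ ε : K, ε * ε = 1 → t = 2 * ε → x ^ (2 * p) = 1 := by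
      intro ε hε htε
      have hcay := cayley x
      rw [← ht] at hcay
      have hsq : ((x : M2) - ε • (1 : M2)) * ((x : M2) - ε • (1 : M2)) = 0 := by
        rw [sub_mul, mul_sub, mul_sub, hcay, smul_mul_assoc, mul_smul_comm, smul_mul_assoc,
          mul_smul_comm, one_mul, mul_one, smul_smul, hε, htε, one_mul, two_mul, add_smul, one_smul]
        abel
      have hp0 : ((x : M2) - ε • (1 : M2)) ^ p = 0 :=
        pow_eq_zero_of_le hp.out.two_le (by rw [pow_two]; exact hsq)
      rw [sub_pow_char_of_commute _ ((Commute.one_right _).smul_right ε), smul_pow, one_pow,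
        sub_eq_zero] at hp0
      refine Subtype.ext ?_
      show ((x ^ (2 * p) : SL(2, K)) : M2) = 1
      rw [Matrix.SpecialLinearGroup.coe_pow, mul_comm, pow_mul, hp0, smul_pow, one_pow, ← pow_mul,
        mul_comm, pow_mul, pow_two, hε, one_pow, one_smul]
    rcases h6 with h6 | h6
    · exact key 1 (one_mul 1) (by rw [h6]; ring)
    · exact key (-1) (by ring) (by rw [h6]; ring)
  rcases mul_eq_zero.mp ((mul_eq_zero.mp h4).resolve_right h5) with h | h
  · left
    have hd : d = 1 := sub_eq_zero.mp h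
    have hc : c = 0 := by
      have : 2 * c = 0 := by linear_combination h1 - t * hd
      exact (mul_eq_zero.mp this).resolve_left h2
    refine Subtype.ext ?_
    show (y : M2) = (x : M2)
    rw [hcd, hd, hc, zero_smul, one_smul, zero_add]
  · right
    have hd : d = -1 := eq_neg_of_add_eq_zero_left h
    have hc : c = t := by
      have : 2 * (c - t) = 0 := by linear_combination h1 - t * hd
      exact sub_eq_zero.mp ((mul_eq_zero.mp this).resolve_left h2)
    refine eq_inv_of_mul_eq_one_left (Subtype.ext ?_)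
    show (y : M2) * (x : M2) = 1
    rw [hcd, add_mul, smul_mul_assoc, smul_mul_assoc, one_mul, cayley x, ← ht, hd, hc, neg_smul,
      one_smul]
    abel

end

/-- An odd-order group with abelian centralizers, where the centralizers of `p`-elements are
`p`-groups and the centralizers of the other elements are self-normalizing, has a normal Sylow
`p`-subgroup. -/
theorem subsingleton_sylow_of_ca {X : Type*} [Group X] [Finite X] {p : ℕ} [hp : Fact p.Prime]
    (hodd : Odd (Nat.card X))
    (hab : ∀ x : X, x ≠ 1 → ∀ y z : X, Commute x y → Commute x z → Commute y z)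
    (hp1 : ∀ x : X, x ≠ 1 → x ^ p = 1 → ∀ y : X, Commute x y → y ^ p = 1)
    (hn : ∀ x : X, x ≠ 1 → x ^ p ≠ 1 → ∀ g : X, Commute x (g * x * g⁻¹) → Commute x g) :
    ∀ P Q : Sylow p X, P = Q := by
  classical
  have hexp : ∀ x : X, (∃ k : ℕ, x ^ p ^ k = 1) → x ^ p = 1 := by
    intro x ⟨k, hk⟩
    by_cases hx : x = 1
    · rw [hx, one_pow]
    obtain ⟨j, -, hj⟩ := (Nat.dvd_prime_pow hp.out).mp (orderOf_dvd_of_pow_eq_one hk)
    have hj0 : j ≠ 0 := by
      rintro rfl
      exact hx (orderOf_eq_one_iff.mp (by simpa using hj))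
    set z := x ^ p ^ (j - 1) with hz
    have hzp : z ^ p = 1 := by
      rw [hz, ← pow_mul, ← pow_succ, Nat.sub_add_cancel (Nat.one_le_iff_ne_zero.mpr hj0), ← hj,
        pow_orderOf_eq_one]
    have hz1 : z ≠ 1 := by
      intro h
      have h1 : p ^ j ∣ p ^ (j - 1) := hj ▸ orderOf_dvd_of_pow_eq_one h
      have := (Nat.pow_dvd_pow_iff_le_right hp.out.one_lt).mp h1
      omega
    exact hp1 z hz1 hzp x ((Commute.refl x).pow_left _)
  by_cases hall : ∀ x : X, x ^ p = 1
  · intro P Q
    have hX : IsPGroup p X := fun x => ⟨1, by rw [pow_one]; exact hall x⟩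
    apply Sylow.ext
    rw [← P.is_maximal' (hX.to_subgroup ⊤) le_top, ← Q.is_maximal' (hX.to_subgroup ⊤) le_top]
  push Not at hall
  obtain ⟨x, hx⟩ := hall
  have hx1 : x ≠ 1 := fun h => hx (by rw [h, one_pow])
  -- the centralizer of an element that is not a `p`-element
  let A : X → Subgroup X := fun y => Subgroup.centralizer {y}
  have hA : ∀ y z, z ∈ A y ↔ Commute y z := fun y z => by
    simp only [A, Subgroup.mem_centralizer_singleton_iff]
    exact eq_comm
  have hnotp : ∀ y : X, y ≠ 1 → y ^ p ≠ 1 → ∀ z ∈ A y, z ≠ 1 → z ^ p ≠ 1 := by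
    intro y _ hyp z hz hz1 hzp
    exact hyp (hp1 z hz1 hzp y ((hA y z).mp hz).symm)
  have hAeq : ∀ y : X, y ≠ 1 → ∀ z ∈ A y, z ≠ 1 → A z = A y := by
    intro y hy z hz hz1
    ext w
    rw [hA, hA]
    exact ⟨fun h => hab z hz1 y w ((hA y z).mp hz).symm h, fun h => hab y hy z w ((hA y z).mp hz) h⟩
  have hnorm : ∀ y : X, y ≠ 1 → y ^ p ≠ 1 →
      Subgroup.normalizer ((A y : Subgroup X) : Set X) = A y := by
    intro y hy hyp
    refine le_antisymm (fun g hg => ?_) Subgroup.le_normalizer
    rw [hA]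
    exact hn y hy hyp g ((hA y _).mp ((Subgroup.mem_normalizer_iff.mp hg y).mp ((hA y y).mpr (Commute.refl y))))
  -- the union of the conjugates of `A y`, without the identity
  let S : X → Finset X := fun y =>
    letI := Fintype.ofFinite X
    Finset.univ.filter (fun z => z ≠ 1 ∧ ∃ g : X, g⁻¹ * z * g ∈ A y)
  have hS : ∀ y z, z ∈ S y ↔ z ≠ 1 ∧ ∃ g : X, g⁻¹ * z * g ∈ A y := fun y z => by simp [S]
  have hScard : ∀ y : X, y ≠ 1 → y ^ p ≠ 1 →
      (S y).card = (A y).index * (Nat.card (A y) - 1) := by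
    intro y hy hyp
    letI := Fintype.ofFinite X
    let T := {a : A y // (a : X) ≠ 1}
    let f : (X ⧸ A y) × T → S y := fun qa =>
      ⟨qa.1.out * ((qa.2.1 : A y) : X) * qa.1.out⁻¹, (hS y _).mpr ⟨fun h => qa.2.2 (by simpa using h),
        ⟨qa.1.out, by simp [mul_assoc]⟩⟩⟩
    have hf : Function.Bijective f := by
      constructor
      · rintro ⟨q, a⟩ ⟨q', a'⟩ h
        have h' : q.out * ((a.1 : A y) : X) * q.out⁻¹ = q'.out * ((a'.1 : A y) : X) * q'.out⁻¹ :=
          congrArg Subtype.val h
        have hg : q'.out⁻¹ * q.out ∈ Subgroup.normalizer ((A y : Subgroup X) : Set X) := by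
          apply (Subgroup.mem_normalizer_iff).mpr
          intro w
          have e1 := hAeq y hy _ a.1.2 a.2
          have e2 := hAeq y hy _ a'.1.2 a'.2
          have ee : q'.out⁻¹ * q.out * ((a.1 : A y) : X) * (q'.out⁻¹ * q.out)⁻¹ = ((a'.1 : A y) : X) := by
            calc q'.out⁻¹ * q.out * ((a.1 : A y) : X) * (q'.out⁻¹ * q.out)⁻¹
                = q'.out⁻¹ * (q.out * ((a.1 : A y) : X) * q.out⁻¹) * q'.out := by group
              _ = ((a'.1 : A y) : X) := by rw [h']; group
          have m1 : ∀ u, u ∈ A y ↔ Commute ((a.1 : A y) : X) u := fun u => by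
            conv_rhs => rw [← hA, e1]
          have m2 : ∀ u, u ∈ A y ↔ Commute ((a'.1 : A y) : X) u := fun u => by
            conv_rhs => rw [← hA, e2]
          refine (m1 w).trans (Iff.trans ?_ (m2 _).symm)
          rw [← ee]
          exact (Commute.conj_iff _).symm
        rw [hnorm y hy hyp] at hg
        have hq : q = q' := by
          rw [← q.out_eq', ← q'.out_eq', eq_comm, QuotientGroup.eq]
          exact hg
        subst hq
        simp only [mul_left_inj, mul_right_inj] at h'
        exact Prod.ext rfl (Subtype.ext (Subtype.ext h'))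
      · rintro ⟨z, hz⟩
        obtain ⟨hz1, g, hg⟩ := (hS y z).mp hz
        let q : X ⧸ A y := QuotientGroup.mk g
        obtain ⟨a, ha⟩ : ∃ a : A y, q.out = g * a := by
          exact ⟨⟨g⁻¹ * q.out, QuotientGroup.eq.mp q.out_eq'.symm⟩, by simp⟩
        have hmem : q.out⁻¹ * z * q.out ∈ A y := by
          rw [ha, show (g * (a : X))⁻¹ * z * (g * (a : X)) = (a : X)⁻¹ * (g⁻¹ * z * g) * (a : X) by group]
          exact (A y).mul_mem ((A y).mul_mem ((A y).inv_mem a.2) hg) a.2
        refine ⟨(q, ⟨⟨_, hmem⟩, fun h => hz1 ?_⟩), Subtype.ext (show q.out * (q.out⁻¹ * z * q.out) * q.out⁻¹ = z by group)⟩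
        have h' : q.out⁻¹ * z * q.out = 1 := h
        calc z = q.out * (q.out⁻¹ * z * q.out) * q.out⁻¹ := by group
          _ = 1 := by rw [h']; group
    have := Nat.card_eq_of_bijective f hf
    rw [Nat.card_prod] at this
    have hT : Nat.card T = Nat.card (A y) - 1 := by
      have : Nat.card T = Nat.card {a : A y // a ≠ 1} :=
        Nat.card_congr (Equiv.subtypeEquivRight (fun a => by simp))
      rw [this, Nat.card_eq_fintype_card, Fintype.card_subtype_compl, Fintype.card_subtype_eq,
        Nat.card_eq_fintype_card]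
    rw [← Nat.card_eq_finsetCard, ← this, hT, Subgroup.index]
  have hcard3 : ∀ y : X, y ≠ 1 → 3 ≤ Nat.card (A y) := by
    intro y hy
    have h1 : Odd (Nat.card (A y)) := hodd.of_dvd_nat (Subgroup.card_subgroup_dvd_card _)
    have h2 : Nat.card (A y) ≠ 1 := by
      intro h
      have := (Subgroup.card_eq_one.mp h)
      have hmem : y ∈ A y := (hA y y).mpr (Commute.refl y)
      rw [this, Subgroup.mem_bot] at hmem
      exact hy hmem
    obtain ⟨m, hm⟩ := h1
    omega
  -- any two non-`p`-elements have conjugate centralizers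
  have honeclass : ∀ y : X, y ≠ 1 → y ^ p ≠ 1 → y ∈ S x := by
    intro y hy hyp
    by_contra hmem
    have hdisj : Disjoint (S x) (S y) := by
      rw [Finset.disjoint_left]
      intro z hzx hzy
      obtain ⟨hz1, g, hg⟩ := (hS x z).mp hzx
      obtain ⟨-, g', hg'⟩ := (hS y z).mp hzy
      apply hmem
      refine (hS x y).mpr ⟨hy, g'⁻¹⁻¹⁻¹ * g, ?_⟩
      have hz1' : g⁻¹ * z * g ≠ 1 := fun h => hz1 (by
        calc z = g * (g⁻¹ * z * g) * g⁻¹ := by group
          _ = 1 := by rw [h]; group)
      have h2 : Commute (g'⁻¹ * z * g') y := ((hA y _).mp hg').symm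
      rw [← hAeq x hx1 _ hg hz1', hA]
      have h3 := (Commute.conj_iff (g⁻¹ * g')).mpr h2
      rw [show g⁻¹ * g' * (g'⁻¹ * z * g') * (g⁻¹ * g')⁻¹ = g⁻¹ * z * g by group,
        show g⁻¹ * g' * y * (g⁻¹ * g')⁻¹ =
          (g'⁻¹⁻¹⁻¹ * g)⁻¹ * y * (g'⁻¹⁻¹⁻¹ * g) by group] at h3
      exact h3
    letI := Fintype.ofFinite X
    have h1 : (S x).card + (S y).card < Nat.card X := by
      rw [← Finset.card_union_of_disjoint hdisj, Nat.card_eq_fintype_card]
      refine Finset.card_lt_univ_of_notMem (x := 1) ?_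
      simp [hS]
    rw [hScard x hx1 hx, hScard y hy hyp] at h1
    have hxX := (A x).index_mul_card
    have hyX := (A y).index_mul_card
    obtain ⟨m, hm⟩ := Nat.exists_eq_add_of_le (hcard3 x hx1)
    obtain ⟨m', hm'⟩ := Nat.exists_eq_add_of_le (hcard3 y hy)
    rw [hm] at h1 hxX
    rw [hm'] at h1 hyX
    rw [show 3 + m - 1 = 2 + m by omega, show 3 + m' - 1 = 2 + m' by omega] at h1
    nlinarith
  -- counting the `p`-elements
  letI := Fintype.ofFinite X
  let U : Finset X := Finset.univ.filter (fun z => z ^ p = 1)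
  have hU : U = Finset.univ \ S x := by
    ext z
    simp only [U, Finset.mem_filter, Finset.mem_univ, true_and, Finset.mem_sdiff]
    constructor
    · intro hz hzS
      obtain ⟨hz1, g, hg⟩ := (hS x z).mp hzS
      refine hnotp x hx1 hx _ hg (fun h => hz1 ?_) ?_
      · calc z = g * (g⁻¹ * z * g) * g⁻¹ := by group
          _ = 1 := by rw [h]; group
      · rw [show g⁻¹ * z * g = g⁻¹ * z * g⁻¹⁻¹ by group, conj_pow, hz]; group
    · intro hz
      by_contra hzp
      exact hz (honeclass z (fun h => hzp (by rw [h, one_pow])) hzp)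
  have hUcard : U.card = (A x).index := by
    rw [hU, Finset.card_sdiff_of_subset (Finset.subset_univ _), Finset.card_univ,
      ← Nat.card_eq_fintype_card, hScard x hx1 hx, ← (A x).index_mul_card, Nat.mul_sub_one,
      Nat.sub_sub_self (Nat.le_mul_of_pos_right _ Nat.card_pos)]
  -- every Sylow subgroup for a prime other than `p` lies in a conjugate of `A x`
  have hindex : ∀ P : Sylow p X, (A x).index ∣ Nat.card (P : Subgroup X) := by
    intro P
    obtain ⟨k, hk⟩ := IsPGroup.iff_card.mp P.2
    have hpp : ∀ q : ℕ, q.Prime → q ∣ (A x).index → q = p := by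
      intro q hq hdvd
      by_contra hne
      haveI : Fact q.Prime := ⟨hq⟩
      obtain ⟨Q⟩ : Nonempty (Sylow q X) := inferInstance
      have hq1 : q ∣ Nat.card X := hdvd.trans (Subgroup.index_dvd_card _)
      haveI : Nontrivial (Q : Subgroup X) :=
        (Subgroup.nontrivial_iff_ne_bot _).mpr (Q.ne_bot_of_dvd_card hq1)
      haveI := Q.2.center_nontrivial
      obtain ⟨z, hz⟩ := exists_ne (1 : Subgroup.center (Q : Subgroup X))
      have hz1 : ((z : (Q : Subgroup X)) : X) ≠ 1 := fun h => hz (Subtype.ext (Subtype.ext h))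
      have hzp : ((z : (Q : Subgroup X)) : X) ^ p ≠ 1 := by
        intro h
        obtain ⟨n, hn'⟩ := Q.2 (z : (Q : Subgroup X))
        have hn'' : ((z : (Q : Subgroup X)) : X) ^ q ^ n = 1 := congrArg Subtype.val hn'
        apply hz1
        rw [← orderOf_eq_one_iff]
        exact Nat.eq_one_of_dvd_coprimes
          (Nat.Coprime.pow_right n ((Nat.coprime_primes hp.out hq).mpr (Ne.symm hne)))
          (orderOf_dvd_of_pow_eq_one h) (orderOf_dvd_of_pow_eq_one hn'')
      obtain ⟨-, g, hg⟩ := (hS x _).mp (honeclass _ hz1 hzp)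
      have hQle : ((Q : Subgroup X)).map (MulAut.conj g⁻¹).toMonoidHom ≤ A x := by
        rintro _ ⟨w, hw, rfl⟩
        have hz1' : g⁻¹ * ((z : (Q : Subgroup X)) : X) * g ≠ 1 := fun h => hz1 (by
          calc ((z : (Q : Subgroup X)) : X)
              = g * (g⁻¹ * ((z : (Q : Subgroup X)) : X) * g) * g⁻¹ := by group
            _ = 1 := by rw [h]; group)
        rw [← hAeq x hx1 _ hg hz1', hA]
        have hc : Commute ((z : (Q : Subgroup X)) : X) w :=
          (congrArg Subtype.val (Subgroup.mem_center_iff.mp z.2 ⟨w, hw⟩)).symm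
        have := (Commute.conj_iff g⁻¹).mpr hc
        simpa [MulAut.conj_apply] using this
      have h2 : Nat.card (Q : Subgroup X) ∣ Nat.card (A x) := by
        have h := Subgroup.card_dvd_of_le hQle
        rwa [Subgroup.card_map_of_injective (MulAut.conj g⁻¹).injective] at h
      have h3 : q * Nat.card (Q : Subgroup X) ∣ Nat.card X := by
        rw [← (A x).index_mul_card]
        exact Nat.mul_dvd_mul hdvd h2
      rw [← (Q : Subgroup X).index_mul_card] at h3
      exact Q.not_dvd_index (Nat.dvd_of_mul_dvd_mul_right Nat.card_pos h3)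
    have hidx : ∃ m, (A x).index = p ^ m := by
      rcases Nat.eq_zero_or_pos (A x).index with h | h
      · exact absurd h Subgroup.index_ne_zero_of_finite
      · exact ⟨_, Nat.eq_prime_pow_of_unique_prime_dvd h.ne' fun {q} hq hd => hpp q hq hd⟩
    obtain ⟨m, hm⟩ := hidx
    rw [hm]
    exact P.pow_dvd_card_of_pow_dvd_card (hm ▸ Subgroup.index_dvd_card _)
  intro P Q
  have key : ∀ R : Sylow p X, ((R : Subgroup X) : Set X).toFinset = U := by
    intro R
    refine Finset.eq_of_subset_of_card_le ?_ ?_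
    · intro z hz
      rw [Set.mem_toFinset] at hz
      obtain ⟨k, hk⟩ := R.2 ⟨z, hz⟩
      exact Finset.mem_filter.mpr ⟨Finset.mem_univ _, hexp z ⟨k, congrArg Subtype.val hk⟩⟩
    · rw [hUcard, Set.toFinset_card, ← Nat.card_eq_fintype_card]
      exact Nat.le_of_dvd Nat.card_pos (hindex R)
  refine Sylow.ext (SetLike.coe_injective ?_)
  rw [← Set.toFinset_inj, key P, key Q]

/-- A finite subgroup of `SL₂` of odd order generated by unipotent elements is a `p`-group. -/
theorem isPGroup_of_odd_sl2 {p : ℕ} [hp : Fact p.Prime] [CharP K p] (hp2 : p ≠ 2)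
    (X : Subgroup SL(2, K)) [Finite X] (hodd : Odd (Nat.card X)) (s : Set X)
    (hgen : Subgroup.closure s = ⊤) (hs : ∀ x ∈ s, x ^ p = 1) : IsPGroup p X := by
  have h2K : (2 : K) ≠ 0 := by
    intro h
    apply hp2
    have := (CharP.cast_eq_zero_iff K p 2).mp (by exact_mod_cast h)
    exact (Nat.prime_dvd_prime_iff_eq hp.out Nat.prime_two).mp this
  have hord : ∀ x : X, ∀ n : ℕ, x ^ (2 * n) = 1 → x ^ n = 1 := by
    intro x n h
    have h1 : (x ^ n) ^ 2 = 1 := by rw [← pow_mul, mul_comm]; exact h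
    exact orderOf_eq_one_iff.mp (Nat.eq_one_of_dvd_coprimes
      (Nat.coprime_two_left.mpr (hodd.of_dvd_nat (orderOf_dvd_natCard x)))
      (orderOf_dvd_of_pow_eq_one h1) (orderOf_pow_dvd n))
  have hns : ∀ x : X, x ≠ 1 → ¬ IsScalarMat ((x : SL(2, K)) : M2) := by
    intro x hx hsc
    apply hx
    have := hord x 1 (Subtype.ext (by
      rw [mul_one, Subgroup.coe_pow, pow_two]; exact sq_eq_one_of_isScalarMat hsc))
    rwa [pow_one] at this
  have key := subsingleton_sylow_of_ca (p := p) (X := X) hodd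
    (fun x hx y z hy hz => Subtype.ext
      (sl2_commute_of_commute (hns x hx) (congrArg Subtype.val hy.eq) (congrArg Subtype.val hz.eq)).eq)
    (fun x hx hxp y hy => hord y p (Subtype.ext (by
      rw [Subgroup.coe_pow]
      exact sl2_centralizer_unipotent (p := p) (congrArg Subtype.val hxp) (hns x hx)
        (congrArg Subtype.val hy.eq))))
    (fun x hx hxp g hg => by
      rcases sl2_conj_commute_cases hp2 (hns x hx)
        (fun h => hxp (hord x p (Subtype.ext (by rw [Subgroup.coe_pow]; exact h))))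
        (congrArg Subtype.val hg.eq : Commute (x : SL(2, K)) _)
        (show ((g * x * g⁻¹ : X) : SL(2, K)) = (g : SL(2, K)) * (x : SL(2, K)) * (g : SL(2, K))⁻¹ by rfl)
        with h | h
      · exact (mul_inv_eq_iff_eq_mul.mp (Subtype.ext h : g * x * g⁻¹ = x)).symm
      · have h' : g * x * g⁻¹ = x⁻¹ := Subtype.ext h
        have h2 : Commute (g ^ 2) x := by
          have : g ^ 2 * x * (g ^ 2)⁻¹ = x := by
            calc g ^ 2 * x * (g ^ 2)⁻¹ = g * (g * x * g⁻¹) * g⁻¹ := by rw [pow_two]; group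
              _ = g * x⁻¹ * g⁻¹ := by rw [h']
              _ = (g * x * g⁻¹)⁻¹ := by group
              _ = x := by rw [h', inv_inv]
          exact mul_inv_eq_iff_eq_mul.mp this
        obtain ⟨k, hk⟩ := hodd.of_dvd_nat (orderOf_dvd_natCard g)
        have hg2 : g = (g ^ 2) ^ (k + 1) := by
          rw [← pow_mul, show 2 * (k + 1) = 2 * k + 1 + 1 by ring, pow_succ, ← hk, pow_orderOf_eq_one,
            one_mul]
        rw [hg2]
        exact (h2.pow_left _).symm)
  obtain ⟨P⟩ : Nonempty (Sylow p X) := inferInstance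
  have hle : ∀ x ∈ s, x ∈ (P : Subgroup X) := by
    intro x hx
    have hpx : IsPGroup p (Subgroup.zpowers x) := by
      rintro ⟨_, m, rfl⟩
      refine ⟨1, Subtype.ext ?_⟩
      rw [pow_one, Subgroup.coe_pow, Subgroup.coe_one]
      show (x ^ m) ^ p = 1
      rw [← zpow_natCast, ← zpow_mul, mul_comm, zpow_mul, zpow_natCast, hs x hx, one_zpow]
    obtain ⟨Q, hQ⟩ := hpx.exists_le_sylow
    rw [key P Q]
    exact hQ (Subgroup.mem_zpowers x)
  have htop : (P : Subgroup X) = ⊤ := by
    rw [eq_top_iff, ← hgen, Subgroup.closure_le]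
    exact hle
  exact P.2.of_equiv ((MulEquiv.subgroupCongr htop).trans Subgroup.topEquiv)

end CfsgLib.PLocal
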