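import Mathlib.Algebra.Module.ZMod
import Mathlib.FieldTheory.IsAlgClosed.AlgebraicClosure
import Mathlib.LinearAlgebra.Matrix.ToLin
import Mathlib.Algebra.CharP.Algebra
import Mathlib.LinearAlgebra.FiniteDimensional.Defs
import Mathlib.LinearAlgebra.Dimension.Free
import Cfsg.Agent.Lib.PLocal.LinearTwo
import Cfsg.Agent.Lib.PLocal.Quadratic
import Cfsg.Agent.Lib.PLocal.QuadraticElt
import Cfsg.Agent.Lib.PLocal.SL2Finite

/-! Two quadratic elements on an elementary abelian group: a map to `SL₂`; Sylow 2-subgroups. -/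

set_option autoImplicit false

open scoped MatrixGroups commutatorElement
open CfsgLib.SchurSL2

namespace CfsgLib.PLocal

theorem isPGroup_map_of_quot {X Y : Type*} [Group X] [Group Y] (φ : X →* Y) {p : ℕ}
    (h : IsPGroup p X) : IsPGroup p φ.range :=
  h.of_surjective φ.rangeRestrict φ.rangeRestrict_surjective

/-- An additive endomorphism of a `ZMod n`-module, as a linear map. -/
def zmodEndHom (n : ℕ) (A : Type*) [AddCommGroup A] [Module (ZMod n) A] :
    AddMonoid.End A →+* Module.End (ZMod n) A where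
  toFun f := AddMonoidHom.toZModLinearMap n f
  map_one' := rfl
  map_mul' _ _ := rfl
  map_zero' := rfl
  map_add' _ _ := rfl

theorem exists_hom_sl2_of_end {p : ℕ} [hp : Fact p.Prime] {H : Type*} [Group H] {A : Type*}
    [AddCommGroup A] [Finite A] [Module (ZMod p) A] (σ : H →* AddMonoid.End A) {a b : H}
    (hgen : Subgroup.closure {a, b} = ⊤) (ha : ∀ x, σ a (σ a x - x) = σ a x - x)
    (hb : ∀ x, σ b (σ b x - x) = σ b x - x) (hnp : ¬ ∀ h, ∃ k : ℕ, σ (h ^ p ^ k) = 1) :
    ∃ φ : H →* Matrix.SpecialLinearGroup (Fin 2) (AlgebraicClosure (ZMod p)),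
      ¬ IsPGroup p φ.range ∧ φ a ^ p = 1 ∧ φ b ^ p = 1 := by
  classical
  let ρ₀ : H →* Module.End (ZMod p) A := (zmodEndHom p A).toMonoidHom.comp σ
  have hquad : ∀ c : H, (∀ x, σ c (σ c x - x) = σ c x - x) → (ρ₀ c - 1) * (ρ₀ c - 1) = 0 := by
    intro c hc
    refine LinearMap.ext fun x => ?_
    simp only [Module.End.mul_apply, LinearMap.sub_apply, Module.End.one_apply,
      LinearMap.zero_apply, sub_eq_zero]
    exact hc x
  let B := Module.finBasis (ZMod p) A
  let alg := algebraMap (ZMod p) (AlgebraicClosure (ZMod p))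
  let Φ : Module.End (ZMod p) A →+* Module.End (AlgebraicClosure (ZMod p))
        (Fin (Module.finrank (ZMod p) A) → AlgebraicClosure (ZMod p)) :=
    (Matrix.toLinAlgEquiv' : _ ≃ₐ[AlgebraicClosure (ZMod p)] _).toRingEquiv.toRingHom.comp
      ((RingHom.mapMatrix alg).comp (LinearMap.toMatrixAlgEquiv B).toRingEquiv.toRingHom)
  have hΦ : Function.Injective Φ := fun x y hxy =>
    (LinearMap.toMatrixAlgEquiv B).injective
      (Matrix.map_injective alg.injective (Matrix.toLinAlgEquiv'.injective hxy))
  let ρ : H →* Module.End (AlgebraicClosure (ZMod p))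
        (Fin (Module.finrank (ZMod p) A) → AlgebraicClosure (ZMod p)) :=
    Φ.toMonoidHom.comp ρ₀
  have hq : ∀ c : H, (∀ x, σ c (σ c x - x) = σ c x - x) → (ρ c - 1) * (ρ c - 1) = 0 := by
    intro c hc
    show (Φ (ρ₀ c) - 1) * (Φ (ρ₀ c) - 1) = 0
    rw [← map_one Φ, ← map_sub, ← map_mul, hquad c hc, map_zero]
  haveI : CharP (AlgebraicClosure (ZMod p)) p :=
    charP_of_injective_algebraMap alg.injective p
  have hnp' : ¬ ∀ h, ∃ k : ℕ, ρ h ^ p ^ k = 1 := by
    intro hall
    apply hnp
    intro h
    obtain ⟨k, hk⟩ := hall h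
    refine ⟨k, ?_⟩
    rw [← map_pow, ← map_one Φ] at hk
    have h1 : ρ₀ (h ^ p ^ k) = 1 := hΦ hk
    refine AddMonoidHom.ext fun x => ?_
    exact LinearMap.congr_fun h1 x
  obtain ⟨φ, hφ, hφa, hφb⟩ := two_quadratic_to_SL2 (p := p) hgen _ _ rfl ρ (hq a ha) (hq b hb)
    ⟨minpoly (AlgebraicClosure (ZMod p)) (ρ (a * b)), IsAlgClosed.splits _,
      minpoly.ne_zero (Algebra.IsIntegral.isIntegral _), minpoly.aeval _ _⟩ hnp'
  exact ⟨φ, hφ, sl2_pow_of_sq_zero hφa, sl2_pow_of_sq_zero hφb⟩

/-- Two quadratically acting generators of a group that is not a `p`-group give a homomorphism to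
`SL₂` over an algebraically closed field of characteristic `p` whose image is not a `p`-group. -/
theorem exists_hom_sl2_of_quad {G : Type*} [Group G] [Finite G] {p : ℕ} [hp : Fact p.Prime]
    {V : Subgroup G} (hV : Cfsg.IsElementaryAbelian p V) {H : Subgroup G}
    (hHV : H ≤ Subgroup.normalizer (V : Set G)) (hf : H ⊓ Subgroup.centralizer (V : Set G) = ⊥)
    {a b : H} (hgen : Subgroup.closure {a, b} = ⊤) (ha : QuadElt V (a : G)) (hb : QuadElt V (b : G))
    (hnp : ¬ IsPGroup p H) :
    ∃ φ : H →* Matrix.SpecialLinearGroup (Fin 2) (AlgebraicClosure (ZMod p)),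
      ¬ IsPGroup p φ.range ∧ φ a ^ p = 1 ∧ φ b ^ p = 1 := by
  letI : CommGroup V := { (inferInstance : Group V) with
    mul_comm := fun x y => Subtype.ext (commute_of_mem_comm hV.1 x.2 y.2).eq }
  have hsmul : ∀ x : Additive V, p • x = 0 := by
    intro x
    apply Additive.toMul.injective
    exact Subtype.ext (hV.2 _ (Additive.toMul x).2)
  letI : Module (ZMod p) (Additive V) := AddCommGroup.zmodModule hsmul
  let f : H → AddMonoid.End (Additive V) := fun h =>
    { toFun := fun x => Additive.ofMul ⟨(h : G) * (Additive.toMul x : V) * (h : G)⁻¹,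
        (Subgroup.mem_normalizer_iff.mp (hHV h.2) _).mp (Additive.toMul x).2⟩
      map_zero' := by apply Additive.toMul.injective; ext; simp
      map_add' := fun x y => by apply Additive.toMul.injective; ext; simp [mul_assoc] }
  let σ : H →* AddMonoid.End (Additive V) :=
    { toFun := f
      map_one' := by
        refine AddMonoidHom.ext fun x => ?_
        apply Additive.toMul.injective
        ext
        show ((1 : H) : G) * (Additive.toMul x : V) * ((1 : H) : G)⁻¹ = (Additive.toMul x : V)
        simp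
      map_mul' := fun g h => by
        refine AddMonoidHom.ext fun x => ?_
        apply Additive.toMul.injective
        ext
        show ((g * h : H) : G) * (Additive.toMul x : V) * ((g * h : H) : G)⁻¹ =
          (g : G) * ((h : G) * (Additive.toMul x : V) * (h : G)⁻¹) * (g : G)⁻¹
        simp [mul_assoc] }
  have hσ : ∀ c : H, QuadElt V (c : G) → ∀ x, σ c (σ c x - x) = σ c x - x := by
    intro c hc x
    apply Additive.toMul.injective
    ext
    have := hc _ (Additive.toMul x).2
    rw [commutatorElement_def] at this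
    show (c : G) * (Additive.toMul (σ c x - x) : V) * (c : G)⁻¹ = (Additive.toMul (σ c x - x) : V)
    rw [toMul_sub, Subgroup.coe_div, div_eq_mul_inv]
    exact this
  refine exists_hom_sl2_of_end (p := p) σ hgen (hσ a ha) (hσ b hb) fun hall => hnp fun h => ?_
  obtain ⟨k, hk⟩ := hall h
  refine ⟨k, ?_⟩
  ext
  rw [Subgroup.coe_one, ← Subgroup.mem_bot, ← hf]
  refine ⟨(h ^ p ^ k).2, fun v hv => ?_⟩
  have h2 : ((h ^ p ^ k : H) : G) * v * ((h ^ p ^ k : H) : G)⁻¹ = v :=
    congrArg (fun T : AddMonoid.End (Additive V) =>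
      ((Additive.toMul (T (Additive.ofMul ⟨v, hv⟩)) : V) : G)) hk
  exact (mul_inv_eq_iff_eq_mul.mp h2).symm

/-- A finite subgroup of `SL₂` generated by unipotents, not a `p`-group, has non-abelian Sylow
2-subgroups. -/
theorem sl2_sylow_two_not_comm {K : Type*} [Field K] {p : ℕ} [hp : Fact p.Prime] [CharP K p]
    (hp2 : p ≠ 2) (X : Subgroup SL(2, K)) [Finite X] (s : Set X) (hgen : Subgroup.closure s = ⊤)
    (hs : ∀ x ∈ s, x ^ p = 1) (hnp : ¬ IsPGroup p X) (T : Sylow 2 X) : ¬ IsMulCommutative T := by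
  classical
  intro hT
  have h2K : (2 : K) ≠ 0 := by
    intro h
    apply hp2
    have := (CharP.cast_eq_zero_iff K p 2).mp (by exact_mod_cast h)
    exact (Nat.prime_dvd_prime_iff_eq hp.out Nat.prime_two).mp this
  have heven : 2 ∣ Nat.card X := by
    by_contra h
    exact hnp (isPGroup_of_odd_sl2 hp2 X (Nat.odd_iff.mpr (Nat.two_dvd_ne_zero.mp h)) s hgen hs)
  letI : CommGroup (T : Subgroup X) := { (inferInstance : Group (T : Subgroup X)) with
    mul_comm := fun x y => Subtype.ext (commute_of_mem_comm hT x.2 y.2).eq }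
  haveI hcyc : IsCyclic (T : Subgroup X) := by
    refine CfsgLib.Solvable.isCyclic_of_card_pow_prime_le fun q hq => ?_
    rcases eq_or_ne q 2 with rfl | hq2
    · let ι : (powMonoidHom 2 : (T : Subgroup X) →* (T : Subgroup X)).ker → Bool := fun z =>
        decide (z = 1)
      have hι : Function.Injective ι := by
        have key : ∀ z : (powMonoidHom 2 : (T : Subgroup X) →* (T : Subgroup X)).ker, z ≠ 1 →
            ((((z : (T : Subgroup X)) : X) : SL(2, K)) : Matrix (Fin 2) (Fin 2) K) 0 0 = -1 ∧
            IsScalarMat ((((z : (T : Subgroup X)) : X) : SL(2, K)) : Matrix (Fin 2) (Fin 2) K) := by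
          intro z hz
          have hz2 : (((z : (T : Subgroup X)) : X) : SL(2, K)) * (((z : (T : Subgroup X)) : X) : SL(2, K)) = 1 := by
            have := z.2
            rw [MonoidHom.mem_ker, powMonoidHom_apply, pow_two] at this
            exact congrArg (fun w : (T : Subgroup X) => ((w : X) : SL(2, K))) this
          obtain ⟨h01, h10, hd⟩ := isScalarMat_of_sq_eq_one h2K hz2
          refine ⟨?_, h01, h10, hd⟩
          have hdet := (((z : (T : Subgroup X)) : X) : SL(2, K)).2
          rw [Matrix.det_fin_two, h01, ← hd, zero_mul, sub_zero] at hdet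
          refine (mul_self_eq_one_iff.mp hdet).resolve_left fun h => hz ?_
          refine Subtype.ext (Subtype.ext (Subtype.ext (Subtype.ext ?_)))
          ext i j
          fin_cases i <;> fin_cases j <;> simp [h, h01, h10, ← hd]
        intro z w hzw
        simp only [ι, decide_eq_decide] at hzw
        rcases eq_or_ne z 1 with hz | hz
        · rw [hz, hzw.mp hz]
        · have hw : w ≠ 1 := fun h => hz (hzw.mpr h)
          obtain ⟨a0, a1, a2, a3⟩ := key z hz
          obtain ⟨b0, b1, b2, b3⟩ := key w hw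
          refine Subtype.ext (Subtype.ext (Subtype.ext (Subtype.ext ?_)))
          ext i j
          fin_cases i <;> fin_cases j <;> simp [a0, a1, a2, ← a3, b0, b1, b2, ← b3]
      calc Nat.card _ ≤ Nat.card Bool := Nat.card_le_card_of_injective ι hι
        _ = 2 := by simp
    · have h1 : (powMonoidHom q : (T : Subgroup X) →* (T : Subgroup X)).ker = ⊥ := by
        rw [eq_bot_iff]
        intro z hz
        rw [MonoidHom.mem_ker, powMonoidHom_apply] at hz
        obtain ⟨k, hk⟩ := T.2 z
        rw [Subgroup.mem_bot, ← orderOf_eq_one_iff]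
        exact Nat.eq_one_of_dvd_coprimes
          (Nat.Coprime.pow_right k ((Nat.coprime_primes hq Nat.prime_two).mpr hq2))
          (orderOf_dvd_of_pow_eq_one hz) (orderOf_dvd_of_pow_eq_one hk)
      rw [h1, Subgroup.card_bot]
      exact hq.one_lt.le
  have hmin : (Nat.card X).minFac = 2 := (Nat.minFac_eq_two_iff _).mpr heven
  have hNC := IsCyclic.normalizer_le_centralizer (P := T) hmin hcyc
  have hcompl := MonoidHom.ker_transferSylow_isComplement' T hNC
  have hN : ∀ x ∈ s, x ∈ (MonoidHom.transferSylow T hNC).ker := by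
    intro x hx
    rw [MonoidHom.mem_ker, ← orderOf_eq_one_iff]
    obtain ⟨k, hk⟩ := T.2 (MonoidHom.transferSylow T hNC x)
    have hxp : MonoidHom.transferSylow T hNC x ^ p = 1 := by rw [← map_pow, hs x hx, map_one]
    exact Nat.eq_one_of_dvd_coprimes
      (Nat.Coprime.pow_right k ((Nat.coprime_primes hp.out Nat.prime_two).mpr hp2))
      (orderOf_dvd_of_pow_eq_one hxp) (orderOf_dvd_of_pow_eq_one hk)
  have htop : (MonoidHom.transferSylow T hNC).ker = ⊤ := by
    rw [eq_top_iff, ← hgen, Subgroup.closure_le]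
    exact hN
  rw [htop] at hcompl
  have hTbot : (T : Subgroup X) = ⊥ := by
    have := hcompl.disjoint
    rwa [top_disjoint] at this
  exact T.ne_bot_of_dvd_card heven hTbot

/-- Two quadratic generators, odd characteristic: non-abelian Sylow 2-subgroups. -/
theorem two_quad_sylow_two_not_comm {G : Type*} [Group G] [Finite G] {p : ℕ} [hp : Fact p.Prime]
    (hp2 : p ≠ 2) {V : Subgroup G} (hV : Cfsg.IsElementaryAbelian p V) {H : Subgroup G}
    (hHV : H ≤ Subgroup.normalizer (V : Set G)) (hf : H ⊓ Subgroup.centralizer (V : Set G) = ⊥)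
    {a b : H} (hgen : Subgroup.closure {a, b} = ⊤) (ha : QuadElt V (a : G)) (hb : QuadElt V (b : G))
    (hnp : ¬ IsPGroup p H) (T : Sylow 2 H) : ¬ IsMulCommutative T := by
  intro hT
  obtain ⟨φ, hφ, hφa, hφb⟩ := exists_hom_sl2_of_quad hV hHV hf hgen ha hb hnp
  haveI : CharP (AlgebraicClosure (ZMod p)) p :=
    charP_of_injective_algebraMap (algebraMap (ZMod p) (AlgebraicClosure (ZMod p))).injective p
  haveI : Finite φ.range := Finite.of_surjective φ.rangeRestrict φ.rangeRestrict_surjective
  refine sl2_sylow_two_not_comm hp2 φ.range ((fun h => φ.rangeRestrict h) '' {a, b}) ?_ ?_ hφ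
    (T.mapSurjective φ.rangeRestrict_surjective) ?_
  · rw [← MonoidHom.map_closure, hgen, Subgroup.map_top_of_surjective _ φ.rangeRestrict_surjective]
  · rintro _ ⟨h, hh, rfl⟩
    rcases hh with rfl | rfl
    exacts [Subtype.ext hφa, Subtype.ext hφb]
  · refine Subgroup.le_centralizer_iff_isMulCommutative.mp ?_
    rw [Sylow.coe_mapSurjective]
    rintro _ ⟨x, hx, rfl⟩ _ ⟨y, hy, rfl⟩
    show φ.rangeRestrict y * φ.rangeRestrict x = φ.rangeRestrict x * φ.rangeRestrict y
    rw [← map_mul, ← map_mul, (commute_of_mem_comm hT hy hx).eq]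

end CfsgLib.PLocal
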