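import Mathlib.GroupTheory.Sylow
import Mathlib.GroupTheory.Commutator.Basic
import Mathlib.GroupTheory.Index
import Cfsg.Prelude.Def_PLocal
import Cfsg.Agent.Lib.PLocal.Quadratic

/-! Basic facts on elementary abelian subgroups, `thompsonSubgroup`, `thompsonSubgroupOf` and `omegaOne`. -/

set_option autoImplicit false

namespace CfsgLib.PLocal

variable {G : Type*} [Group G] {p : ℕ}

theorem isEA_bot : Cfsg.IsElementaryAbelian p (⊥ : Subgroup G) := by
  refine ⟨Subgroup.le_centralizer_iff_isMulCommutative.mp bot_le, fun a ha => ?_⟩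
  rw [Subgroup.mem_bot.mp ha, one_pow]

theorem isEA_mono {A B : Subgroup G} (hB : Cfsg.IsElementaryAbelian p B) (h : A ≤ B) :
    Cfsg.IsElementaryAbelian p A := by
  refine ⟨Subgroup.le_centralizer_iff_isMulCommutative.mp ?_, fun a ha => hB.2 a (h ha)⟩
  intro a ha b hb
  exact (commute_of_mem_comm hB.1 (h hb) (h ha)).eq

theorem isEA_map {H : Type*} [Group H] {A : Subgroup G} (hA : Cfsg.IsElementaryAbelian p A)
    (f : G →* H) : Cfsg.IsElementaryAbelian p (A.map f) := by
  refine ⟨Subgroup.le_centralizer_iff_isMulCommutative.mp ?_, ?_⟩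
  · rintro _ ⟨a, ha, rfl⟩ _ ⟨b, hb, rfl⟩
    rw [← map_mul, ← map_mul, (commute_of_mem_comm hA.1 hb ha).eq]
  · rintro _ ⟨a, ha, rfl⟩
    rw [← map_pow, hA.2 a ha, map_one]

theorem isEA_of_map {H : Type*} [Group H] {A : Subgroup G} {f : G →* H} (hf : Function.Injective f)
    (hA : Cfsg.IsElementaryAbelian p (A.map f)) : Cfsg.IsElementaryAbelian p A := by
  refine ⟨Subgroup.le_centralizer_iff_isMulCommutative.mp ?_, ?_⟩
  · intro a ha b hb
    apply hf
    rw [map_mul, map_mul]
    exact (commute_of_mem_comm hA.1 (Subgroup.mem_map_of_mem f hb) (Subgroup.mem_map_of_mem f ha)).eq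
  · intro a ha
    apply hf
    rw [map_pow, map_one]
    exact hA.2 _ (Subgroup.mem_map_of_mem f ha)

theorem isEA_map_iff {H : Type*} [Group H] {A : Subgroup G} {f : G →* H} (hf : Function.Injective f) :
    Cfsg.IsElementaryAbelian p (A.map f) ↔ Cfsg.IsElementaryAbelian p A :=
  ⟨isEA_of_map hf, fun h => isEA_map h f⟩

theorem isEA_sup {A B : Subgroup G} (hA : Cfsg.IsElementaryAbelian p A)
    (hB : Cfsg.IsElementaryAbelian p B) (h : A ≤ Subgroup.centralizer (B : Set G)) :
    Cfsg.IsElementaryAbelian p (A ⊔ B) := by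
  have hA' := Subgroup.le_centralizer_iff_isMulCommutative.mpr hA.1
  have hB' := Subgroup.le_centralizer_iff_isMulCommutative.mpr hB.1
  have h' := Subgroup.le_centralizer_iff.mp h
  have key : A ⊔ B ≤ Subgroup.centralizer ((A ⊔ B : Subgroup G) : Set G) := by
    refine sup_le ?_ ?_
    · refine Subgroup.le_centralizer_iff.mp (sup_le hA' h')
    · refine Subgroup.le_centralizer_iff.mp (sup_le h hB')
  refine ⟨Subgroup.le_centralizer_iff_isMulCommutative.mp key, fun x hx => ?_⟩
  rw [Subgroup.sup_eq_closure] at hx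
  induction hx using Subgroup.closure_induction with
  | mem x hx => exact hx.elim (hA.2 x) (hB.2 x)
  | one => exact one_pow p
  | mul x y hx hy ihx ihy =>
    have hx' : x ∈ A ⊔ B := by rwa [Subgroup.sup_eq_closure]
    have hy' : y ∈ A ⊔ B := by rwa [Subgroup.sup_eq_closure]
    have hc : Commute x y := key hy' x hx'
    rw [hc.mul_pow, ihx, ihy, one_mul]
  | inv x hx ihx => rw [inv_pow, ihx, inv_one]

theorem isEA_isPGroup {A : Subgroup G} (hA : Cfsg.IsElementaryAbelian p A) : IsPGroup p A := by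
  intro a
  refine ⟨1, ?_⟩
  ext
  simp [hA.2 a a.2]

theorem exists_maxEA (p : ℕ) (G : Type*) [Group G] [Finite G] :
    ∃ A, A ∈ Cfsg.maxElementaryAbelianSubgroups p G := by
  classical
  obtain ⟨A, hA, hmax⟩ := Set.exists_max_image {A : Subgroup G | Cfsg.IsElementaryAbelian p A}
    (fun A => Nat.card A) (Set.toFinite _) ⟨⊥, isEA_bot⟩
  exact ⟨A, hA, fun B hB => hmax B hB⟩

theorem maxEA_le_thompson {A : Subgroup G} (hA : A ∈ Cfsg.maxElementaryAbelianSubgroups p G) :
    A ≤ Cfsg.thompsonSubgroup p G := le_sSup hA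

theorem thompsonSubgroupOf_le (p : ℕ) (U : Subgroup G) : Cfsg.thompsonSubgroupOf p U ≤ U :=
  Subgroup.map_subtype_le _

/-- The elementary abelian subgroups of `U` of largest order, as subgroups of `G`. -/
def maxEAIn (p : ℕ) (U : Subgroup G) : Set (Subgroup G) :=
  {A | A ≤ U ∧ Cfsg.IsElementaryAbelian p A ∧
    ∀ B : Subgroup G, B ≤ U → Cfsg.IsElementaryAbelian p B → Nat.card B ≤ Nat.card A}

theorem map_subtype_mem_maxEAIn {U : Subgroup G} {A : Subgroup U}
    (hA : A ∈ Cfsg.maxElementaryAbelianSubgroups p U) : A.map U.subtype ∈ maxEAIn p U := by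
  refine ⟨Subgroup.map_subtype_le A, isEA_map hA.1 _, fun B hBU hB => ?_⟩
  have h1 : Cfsg.IsElementaryAbelian p (B.subgroupOf U) := by
    apply isEA_of_map U.subtype_injective
    rwa [Subgroup.map_subgroupOf_eq_of_le hBU]
  have h2 := hA.2 _ h1
  rw [← Subgroup.map_subgroupOf_eq_of_le hBU, Subgroup.card_map_of_injective U.subtype_injective,
    Subgroup.card_map_of_injective U.subtype_injective]
  exact h2

theorem subgroupOf_mem_maxEA {U A : Subgroup G} (hA : A ∈ maxEAIn p U) :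
    A.subgroupOf U ∈ Cfsg.maxElementaryAbelianSubgroups p U := by
  refine ⟨isEA_of_map U.subtype_injective ?_, fun B hB => ?_⟩
  · rw [Subgroup.map_subgroupOf_eq_of_le hA.1]; exact hA.2.1
  · have h := hA.2.2 _ (Subgroup.map_subtype_le B) (isEA_map hB _)
    rw [← Subgroup.map_subgroupOf_eq_of_le hA.1, Subgroup.card_map_of_injective U.subtype_injective,
      Subgroup.card_map_of_injective U.subtype_injective] at h
    exact h

theorem thompsonSubgroupOf_eq (p : ℕ) (U : Subgroup G) :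
    Cfsg.thompsonSubgroupOf p U = sSup (maxEAIn p U) := by
  apply le_antisymm
  · rw [Cfsg.thompsonSubgroupOf, Subgroup.map_le_iff_le_comap, Cfsg.thompsonSubgroup, sSup_le_iff]
    intro A hA
    rw [← Subgroup.map_le_iff_le_comap]
    exact le_sSup (map_subtype_mem_maxEAIn hA)
  · rw [sSup_le_iff]
    intro A hA
    rw [← Subgroup.map_subgroupOf_eq_of_le hA.1]
    exact Subgroup.map_mono (maxEA_le_thompson (subgroupOf_mem_maxEA hA))

theorem maxEAIn_top : maxEAIn p (⊤ : Subgroup G) = Cfsg.maxElementaryAbelianSubgroups p G := by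
  ext A
  exact ⟨fun h => ⟨h.2.1, fun B hB => h.2.2 B le_top hB⟩,
    fun h => ⟨le_top, h.1, fun B _ hB => h.2 B hB⟩⟩

theorem thompsonSubgroupOf_top : Cfsg.thompsonSubgroupOf p (⊤ : Subgroup G) = Cfsg.thompsonSubgroup p G := by
  rw [thompsonSubgroupOf_eq, maxEAIn_top, Cfsg.thompsonSubgroup]

theorem exists_maxEAIn [Finite G] (p : ℕ) (U : Subgroup G) : ∃ A, A ∈ maxEAIn p U := by
  obtain ⟨A, hA⟩ := exists_maxEA p ↥U
  exact ⟨_, map_subtype_mem_maxEAIn hA⟩

theorem maxEA_mem_maxEAIn {U A : Subgroup G} (hA : A ∈ Cfsg.maxElementaryAbelianSubgroups p G)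
    (hAU : A ≤ U) : A ∈ maxEAIn p U :=
  ⟨hAU, hA.1, fun B _ hB => hA.2 B hB⟩

theorem maxEAIn_subset_maxEA {U A : Subgroup G} (hA : A ∈ Cfsg.maxElementaryAbelianSubgroups p G)
    (hAU : A ≤ U) {B : Subgroup G} (hB : B ∈ maxEAIn p U) :
    B ∈ Cfsg.maxElementaryAbelianSubgroups p G :=
  ⟨hB.2.1, fun C hC => le_trans (hA.2 C hC) (hB.2.2 A hAU hA.1)⟩

theorem maxEAIn_subset_of_le {U W A : Subgroup G} (hUW : U ≤ W) (hA : A ∈ maxEAIn p W) (hAU : A ≤ U)
    {B : Subgroup G} (hB : B ∈ maxEAIn p U) : B ∈ maxEAIn p W :=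
  ⟨hB.1.trans hUW, hB.2.1, fun C hCW hC => le_trans (hA.2.2 C hCW hC) (hB.2.2 A hAU hA.2.1)⟩

theorem mem_maxEAIn_of_le {U W A : Subgroup G} (hUW : U ≤ W) (hA : A ∈ maxEAIn p W) (hAU : A ≤ U) :
    A ∈ maxEAIn p U :=
  ⟨hAU, hA.2.1, fun C hCU hC => hA.2.2 C (hCU.trans hUW) hC⟩

theorem thompsonSubgroupOf_le_of_mem {U W A : Subgroup G} (hUW : U ≤ W) (hA : A ∈ maxEAIn p W)
    (hAU : A ≤ U) : Cfsg.thompsonSubgroupOf p U ≤ Cfsg.thompsonSubgroupOf p W := by
  rw [thompsonSubgroupOf_eq, thompsonSubgroupOf_eq]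
  exact sSup_le_sSup fun B hB => maxEAIn_subset_of_le hUW hA hAU hB

theorem thompsonSubgroupOf_eq_of_le [Finite G] {U W : Subgroup G}
    (hUW : U ≤ W) (h : Cfsg.thompsonSubgroupOf p W ≤ U) :
    Cfsg.thompsonSubgroupOf p U = Cfsg.thompsonSubgroupOf p W := by
  rw [thompsonSubgroupOf_eq] at h
  obtain ⟨A, hA⟩ := exists_maxEAIn p W
  refine le_antisymm (thompsonSubgroupOf_le_of_mem hUW hA ((le_sSup hA).trans h)) ?_
  rw [thompsonSubgroupOf_eq, thompsonSubgroupOf_eq, sSup_le_iff]
  intro B hB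
  exact le_sSup (mem_maxEAIn_of_le hUW hB ((le_sSup hB).trans h))

theorem thompsonSubgroupOf_eq_thompsonSubgroup [Finite G] {U : Subgroup G}
    (h : Cfsg.thompsonSubgroup p G ≤ U) : Cfsg.thompsonSubgroupOf p U = Cfsg.thompsonSubgroup p G := by
  rw [← thompsonSubgroupOf_top] at h ⊢
  exact thompsonSubgroupOf_eq_of_le le_top h

theorem maxEAIn_map {H : Type*} [Group H] {f : G →* H} (hf : Function.Injective f) (U : Subgroup G) :
    maxEAIn p (U.map f) = (fun A : Subgroup G => A.map f) '' maxEAIn p U := by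
  have key : ∀ B : Subgroup H, B ≤ U.map f → (B.comap f).map f = B := by
    intro B hB
    refine Subgroup.map_comap_eq_self (hB.trans ?_)
    exact Subgroup.map_le_range f U
  ext B
  constructor
  · rintro ⟨hBU, hB, hmax⟩
    refine ⟨B.comap f, ⟨?_, isEA_of_map hf (by rw [key B hBU]; exact hB), fun C hCU hC => ?_⟩,
      key B hBU⟩
    · intro x hx
      exact (Subgroup.mem_map_iff_mem hf).mp (hBU hx)
    · have h := hmax _ (Subgroup.map_mono hCU) (isEA_map hC f)
      rw [← key B hBU, Subgroup.card_map_of_injective hf, Subgroup.card_map_of_injective hf] at h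
      exact h
  · rintro ⟨A, ⟨hAU, hA, hmax⟩, rfl⟩
    refine ⟨Subgroup.map_mono hAU, isEA_map hA f, fun C hCU hC => ?_⟩
    have hle : C.comap f ≤ U := fun x hx => (Subgroup.mem_map_iff_mem hf).mp (hCU hx)
    have h := hmax _ hle (isEA_of_map hf (by rw [key C hCU]; exact hC))
    rw [← key C hCU, Subgroup.card_map_of_injective hf, Subgroup.card_map_of_injective hf]
    exact h

theorem thompsonSubgroupOf_map {H : Type*} [Group H] {f : G →* H} (hf : Function.Injective f)
    (U : Subgroup G) :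
    (Cfsg.thompsonSubgroupOf p U).map f = Cfsg.thompsonSubgroupOf p (U.map f) := by
  rw [thompsonSubgroupOf_eq, thompsonSubgroupOf_eq, maxEAIn_map hf, sSup_image, sSup_eq_iSup]
  simp only [Subgroup.map_iSup]

theorem thompsonSubgroup_map_equiv {H : Type*} [Group H] (e : G ≃* H) :
    (Cfsg.thompsonSubgroup p G).map e.toMonoidHom = Cfsg.thompsonSubgroup p H := by
  rw [← thompsonSubgroupOf_top, ← thompsonSubgroupOf_top, thompsonSubgroupOf_map e.injective,
    Subgroup.map_top_of_surjective _ e.surjective]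

theorem thompsonSubgroup_characteristic : (Cfsg.thompsonSubgroup p G).Characteristic :=
  Subgroup.characteristic_iff_map_eq.mpr fun e => thompsonSubgroup_map_equiv e

theorem thompsonSubgroupOf_map_subtype {U : Subgroup G} (W : Subgroup U) :
    (Cfsg.thompsonSubgroupOf p W).map U.subtype = Cfsg.thompsonSubgroupOf p (W.map U.subtype) :=
  thompsonSubgroupOf_map U.subtype_injective W

theorem thompsonSubgroupOf_conj (g : G) (U : Subgroup G) :
    (Cfsg.thompsonSubgroupOf p U).map (MulAut.conj g).toMonoidHom =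
      Cfsg.thompsonSubgroupOf p (U.map (MulAut.conj g).toMonoidHom) :=
  thompsonSubgroupOf_map (MulAut.conj g).injective U

theorem map_conj_eq_of_mem_normalizer {U : Subgroup G} {g : G}
    (hg : g ∈ Subgroup.normalizer (U : Set G)) : U.map (MulAut.conj g).toMonoidHom = U := by
  ext x
  rw [Subgroup.mem_map]
  constructor
  · rintro ⟨y, hy, rfl⟩
    exact (Subgroup.mem_normalizer_iff.mp hg y).mp hy
  · intro hx
    exact ⟨g⁻¹ * x * g, by simpa using (Subgroup.mem_normalizer_iff.mp (inv_mem hg) x).mp hx,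
      by simp [MulAut.conj_apply, mul_assoc]⟩

theorem mem_normalizer_of_map_conj_eq {U : Subgroup G} {g : G}
    (h : U.map (MulAut.conj g).toMonoidHom = U) : g ∈ Subgroup.normalizer (U : Set G) := by
  rw [Subgroup.mem_normalizer_iff]
  intro x
  conv_rhs => rw [← h]
  rw [Subgroup.mem_map]
  constructor
  · intro hx; exact ⟨x, hx, rfl⟩
  · rintro ⟨y, hy, hyx⟩
    have : y = x := (MulAut.conj g).injective hyx
    rwa [this] at hy

theorem normalizer_le_normalizer_thompsonSubgroupOf (U : Subgroup G) :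
    Subgroup.normalizer (U : Set G) ≤ Subgroup.normalizer (Cfsg.thompsonSubgroupOf p U : Set G) := by
  intro g hg
  apply mem_normalizer_of_map_conj_eq
  rw [thompsonSubgroupOf_conj, map_conj_eq_of_mem_normalizer hg]

theorem thompsonSubgroup_eq_iSup_sylow [Finite G] [Fact p.Prime] :
    Cfsg.thompsonSubgroup p G = ⨆ S : Sylow p G, Cfsg.thompsonSubgroupOf p (S : Subgroup G) := by
  apply le_antisymm
  · rw [Cfsg.thompsonSubgroup, sSup_le_iff]
    intro A hA
    obtain ⟨S, hS⟩ := (isEA_isPGroup hA.1).exists_le_sylow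
    refine le_iSup_of_le S ?_
    rw [thompsonSubgroupOf_eq]
    exact le_sSup (maxEA_mem_maxEAIn hA hS)
  · rw [iSup_le_iff]
    intro S
    rw [thompsonSubgroupOf_eq, ← thompsonSubgroupOf_top, thompsonSubgroupOf_eq, maxEAIn_top]
    obtain ⟨A, hA⟩ := exists_maxEA p G
    obtain ⟨g, hg⟩ : ∃ g : G, A.map (MulAut.conj g).toMonoidHom ≤ (S : Subgroup G) := by
      obtain ⟨T, hT⟩ := (isEA_isPGroup hA.1).exists_le_sylow
      obtain ⟨g, hg⟩ := MulAction.exists_smul_eq G T S
      refine ⟨g, ?_⟩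
      rw [← hg, Sylow.coe_subgroup_smul, Subgroup.pointwise_smul_def]
      exact Subgroup.map_mono hT
    have hA' : A.map (MulAut.conj g).toMonoidHom ∈ Cfsg.maxElementaryAbelianSubgroups p G := by
      refine ⟨isEA_map hA.1 _, fun B hB => ?_⟩
      rw [Subgroup.card_map_of_injective (MulAut.conj g).injective]
      exact hA.2 B hB
    exact sSup_le_sSup fun B hB => maxEAIn_subset_maxEA hA' hg hB

theorem exists_maxEA_le_sylow [Finite G] [Fact p.Prime] (S : Sylow p G) :
    ∃ A ∈ Cfsg.maxElementaryAbelianSubgroups p G, A ≤ (S : Subgroup G) := by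
  obtain ⟨A, hA⟩ := exists_maxEA p G
  obtain ⟨T, hT⟩ := (isEA_isPGroup hA.1).exists_le_sylow
  obtain ⟨g, hg⟩ := MulAction.exists_smul_eq G T S
  refine ⟨A.map (MulAut.conj g).toMonoidHom, ⟨isEA_map hA.1 _, fun B hB => ?_⟩, ?_⟩
  · rw [Subgroup.card_map_of_injective (MulAut.conj g).injective]
    exact hA.2 B hB
  · rw [← hg, Sylow.coe_subgroup_smul, Subgroup.pointwise_smul_def]
    exact Subgroup.map_mono hT

theorem maxEAIn_sylow_subset [Finite G] [Fact p.Prime] {S : Sylow p G} {B : Subgroup G}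
    (hB : B ∈ maxEAIn p (S : Subgroup G)) : B ∈ Cfsg.maxElementaryAbelianSubgroups p G := by
  obtain ⟨A, hA, hAS⟩ := exists_maxEA_le_sylow (p := p) S
  exact maxEAIn_subset_maxEA hA hAS hB

theorem exists_orderOf_eq_of_ne_bot [hp : Fact p.Prime] {A : Subgroup G} (hA : Cfsg.IsElementaryAbelian p A)
    (h : A ≠ ⊥) : ∃ x ∈ A, orderOf x = p := by
  obtain ⟨x, hx, hx1⟩ := (Subgroup.bot_or_exists_ne_one A).resolve_left h
  exact ⟨x, hx, orderOf_eq_prime (hA.2 x hx) hx1⟩

theorem isEA_zpowers {x : G} (hx : x ^ p = 1) : Cfsg.IsElementaryAbelian p (Subgroup.zpowers x) := by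
  refine ⟨inferInstance, ?_⟩
  rintro a ⟨n, rfl⟩
  rw [← zpow_natCast, ← zpow_mul, mul_comm, zpow_mul, zpow_natCast, hx, one_zpow]

theorem mem_maxEA_of_centralizing [Finite G] {A : Subgroup G}
    (hA : A ∈ Cfsg.maxElementaryAbelianSubgroups p G) {x : G}
    (hx : x ∈ Subgroup.centralizer (A : Set G)) (ho : x ^ p = 1) : x ∈ A := by
  have hle : Subgroup.zpowers x ≤ Subgroup.centralizer (A : Set G) := (Subgroup.zpowers_le).mpr hx
  have hEA := isEA_sup (isEA_zpowers ho) hA.1 hle
  have : A = Subgroup.zpowers x ⊔ A :=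
    Subgroup.eq_of_le_of_card_ge le_sup_right (hA.2 _ hEA)
  rw [this]
  exact Subgroup.mem_sup_left (Subgroup.mem_zpowers x)

theorem mem_maxEAIn_of_centralizing [Finite G] {U A : Subgroup G} (hA : A ∈ maxEAIn p U) {x : G}
    (hxU : x ∈ U) (hx : x ∈ Subgroup.centralizer (A : Set G)) (ho : x ^ p = 1) : x ∈ A := by
  have hle : Subgroup.zpowers x ≤ Subgroup.centralizer (A : Set G) := (Subgroup.zpowers_le).mpr hx
  have hEA := isEA_sup (isEA_zpowers ho) hA.2.1 hle
  have : A = Subgroup.zpowers x ⊔ A :=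
    Subgroup.eq_of_le_of_card_ge le_sup_right
      (hA.2.2 _ (sup_le (Subgroup.zpowers_le.mpr hxU) hA.1) hEA)
  rw [this]
  exact Subgroup.mem_sup_left (Subgroup.mem_zpowers x)

theorem thompsonSubgroup_ne_bot [Finite G] [hp : Fact p.Prime] (h : p ∣ Nat.card G) :
    Cfsg.thompsonSubgroup p G ≠ ⊥ := by
  obtain ⟨x, hx⟩ := exists_prime_orderOf_dvd_card' p h
  obtain ⟨A, hA⟩ := exists_maxEA p G
  intro hbot
  have hA1 : A = ⊥ := le_bot_iff.mp ((maxEA_le_thompson hA).trans hbot.le)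
  have := mem_maxEA_of_centralizing hA (x := x) (by
    rw [hA1]; intro y hy; rw [Subgroup.mem_bot.mp hy]; simp) (by rw [← hx]; exact pow_orderOf_eq_one x)
  rw [hA1, Subgroup.mem_bot] at this
  rw [this, orderOf_one] at hx
  exact hp.out.one_lt.ne hx

theorem mem_thompsonSubgroup_of_centralizing [Finite G] {x : G}
    (hx : x ∈ Subgroup.centralizer (Cfsg.thompsonSubgroup p G : Set G)) (ho : x ^ p = 1) :
    x ∈ Cfsg.thompsonSubgroup p G := by
  obtain ⟨A, hA⟩ := exists_maxEA p G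
  exact maxEA_le_thompson hA (mem_maxEA_of_centralizing hA
    (Subgroup.centralizer_le (maxEA_le_thompson hA) hx) ho)

/-! ### `omegaOne` -/

theorem omegaOne_le (p : ℕ) (H : Subgroup G) : Cfsg.omegaOne p H ≤ H :=
  (Subgroup.closure_le _).mpr fun _ hx => hx.1

theorem mem_omegaOne {H : Subgroup G} {x : G} (hx : x ∈ H) (ho : x ^ p = 1) :
    x ∈ Cfsg.omegaOne p H := Subgroup.subset_closure ⟨hx, ho⟩

theorem omegaOne_mono {H K : Subgroup G} (h : H ≤ K) : Cfsg.omegaOne p H ≤ Cfsg.omegaOne p K :=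
  Subgroup.closure_mono fun _ hx => ⟨h hx.1, hx.2⟩

theorem omegaOne_map {H : Type*} [Group H] {f : G →* H} (hf : Function.Injective f) (U : Subgroup G) :
    (Cfsg.omegaOne p U).map f = Cfsg.omegaOne p (U.map f) := by
  rw [Cfsg.omegaOne, Cfsg.omegaOne, MonoidHom.map_closure]
  congr 1
  ext y
  constructor
  · rintro ⟨x, ⟨hx, ho⟩, rfl⟩
    exact ⟨Subgroup.mem_map_of_mem f hx, by rw [← map_pow, ho, map_one]⟩
  · rintro ⟨⟨x, hx, rfl⟩, ho⟩
    exact ⟨x, ⟨hx, hf (by rw [map_pow, ho, map_one])⟩, rfl⟩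

theorem omegaOne_isEA {U : Subgroup G} (hU : IsMulCommutative U) :
    Cfsg.IsElementaryAbelian p (Cfsg.omegaOne p U) := by
  have hc := Subgroup.le_centralizer_iff_isMulCommutative.mpr hU
  refine ⟨Subgroup.le_centralizer_iff_isMulCommutative.mp fun a ha b hb =>
    hc (omegaOne_le p U ha) b (omegaOne_le p U hb), fun a ha => ?_⟩
  induction ha using Subgroup.closure_induction with
  | mem x hx => exact hx.2
  | one => exact one_pow p
  | mul x y hx hy ihx ihy =>
    have hcomm : Commute x y := commute_of_mem_comm hU (omegaOne_le p U hx) (omegaOne_le p U hy)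
    rw [hcomm.mul_pow, ihx, ihy, one_mul]
  | inv x hx ihx => rw [inv_pow, ihx, inv_one]

theorem center_sub_isMulCommutative (U : Subgroup G) :
    IsMulCommutative ↥(U ⊓ Subgroup.centralizer (U : Set G)) :=
  Subgroup.le_centralizer_iff_isMulCommutative.mp fun _ ha b hb => ha.2 b hb.1

theorem omegaCenter_isEA (U : Subgroup G) :
    Cfsg.IsElementaryAbelian p (Cfsg.omegaOne p (U ⊓ Subgroup.centralizer (U : Set G))) :=
  omegaOne_isEA (center_sub_isMulCommutative U)

theorem omegaOne_eq_self {U : Subgroup G} (hU : Cfsg.IsElementaryAbelian p U) :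
    Cfsg.omegaOne p U = U :=
  le_antisymm (omegaOne_le p U) fun x hx => mem_omegaOne hx (hU.2 x hx)

end CfsgLib.PLocal
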