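import Mathlib.GroupTheory.Index
import Cfsg.Agent.Lib.PLocal.Thompson

/-! Thompson replacement and Timmesfeld replacement for offenders on elementary abelian subgroups. -/

set_option autoImplicit false

open scoped commutatorElement

namespace CfsgLib.PLocal

variable {G : Type*} [Group G] {p : ℕ}

theorem card_mul_card_le_sup_inf [Finite G] (A B : Subgroup G) :
    Nat.card A * Nat.card B ≤ Nat.card ↥(A ⊔ B) * Nat.card ↥(A ⊓ B) := by
  have h1 : Nat.card A = Nat.card ↥(A ⊓ B) * B.relIndex A := by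
    rw [← Subgroup.relIndex_bot_left, ← Subgroup.relIndex_bot_left, ← Subgroup.inf_relIndex_right B A,
      inf_comm B A]
    exact (Subgroup.relIndex_mul_relIndex _ _ _ bot_le inf_le_left).symm
  have h2 : Nat.card ↥(A ⊔ B) = Nat.card B * B.relIndex (A ⊔ B) := by
    rw [← Subgroup.relIndex_bot_left, ← Subgroup.relIndex_bot_left]
    exact (Subgroup.relIndex_mul_relIndex _ _ _ bot_le le_sup_right).symm
  have h3 : B.relIndex A ≤ B.relIndex (A ⊔ B) :=
    Subgroup.relIndex_le_of_le_right le_sup_left Subgroup.index_ne_zero_of_finite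
  rw [h1, h2]
  calc Nat.card ↥(A ⊓ B) * B.relIndex A * Nat.card B
      = Nat.card B * B.relIndex A * Nat.card ↥(A ⊓ B) := by ring
    _ ≤ Nat.card B * B.relIndex (A ⊔ B) * Nat.card ↥(A ⊓ B) :=
        Nat.mul_le_mul_right _ (Nat.mul_le_mul_left _ h3)

theorem card_sup_mul_card_inf_le [Finite G] {A B : Subgroup G}
    (h : A ≤ Subgroup.centralizer (B : Set G)) :
    Nat.card ↥(A ⊔ B) * Nat.card ↥(A ⊓ B) ≤ Nat.card A * Nat.card B := by
  let f : ↥A × ↥B →* G := MonoidHom.noncommCoprod A.subtype B.subtype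
    fun a b => ((h a.2 b b.2).symm : (a : G) * b = b * a)
  have hr : f.range = A ⊔ B := by
    refine (MonoidHom.noncommCoprod_range _ _ _).trans ?_
    rw [Subgroup.range_subtype, Subgroup.range_subtype]
  let g : ↥(A ⊓ B) → f.ker := fun x => ⟨(⟨x, x.2.1⟩, ⟨(x : G)⁻¹, B.inv_mem x.2.2⟩),
    by rw [MonoidHom.mem_ker]; exact mul_inv_cancel (x : G)⟩
  have hg : Function.Injective g := fun x y hxy => Subtype.ext
    (congrArg (fun z : f.ker => ((z : ↥A × ↥B).1 : G)) hxy)
  have h1 := Nat.card_le_card_of_injective g hg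
  calc Nat.card ↥(A ⊔ B) * Nat.card ↥(A ⊓ B) ≤ f.ker.index * Nat.card f.ker := by
        rw [Subgroup.index_ker, hr]; exact Nat.mul_le_mul_left _ h1
    _ = Nat.card A * Nat.card B := by rw [Subgroup.index_mul_card, Nat.card_prod]

/-- The subgroup generated by the commutators `[u, a]`, `u ∈ s`, `a ∈ A`. -/
def commSpan (A : Subgroup G) (s : Set G) : Subgroup G :=
  Subgroup.closure {g | ∃ u ∈ s, ∃ a ∈ A, ⁅u, a⁆ = g}

theorem commSpan_coe (A U : Subgroup G) : commSpan A (U : Set G) = ⁅U, A⁆ := by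
  rw [Subgroup.commutator_def]
  rfl

theorem commSpan_union (A : Subgroup G) (s t : Set G) :
    commSpan A (s ∪ t) = commSpan A s ⊔ commSpan A t := by
  rw [commSpan, commSpan, commSpan, ← Subgroup.closure_union]
  congr 1
  ext g
  constructor
  · rintro ⟨u, hu, a, ha, rfl⟩
    exact hu.elim (fun h => Or.inl ⟨u, h, a, ha, rfl⟩) (fun h => Or.inr ⟨u, h, a, ha, rfl⟩)
  · rintro (⟨u, hu, a, ha, rfl⟩ | ⟨u, hu, a, ha, rfl⟩)
    · exact ⟨u, Or.inl hu, a, ha, rfl⟩
    · exact ⟨u, Or.inr hu, a, ha, rfl⟩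

theorem commSpan_le {V A : Subgroup G} (hAV : A ≤ Subgroup.normalizer (V : Set G)) {s : Set G}
    (hs : s ⊆ (V : Set G)) : commSpan A s ≤ V := by
  refine (Subgroup.closure_le _).mpr ?_
  rintro g ⟨u, hu, a, ha, rfl⟩
  exact commutator_le_of_le_normalizer hAV (Subgroup.commutator_mem_commutator (hs hu) ha)

section

variable (V A : Subgroup G)

/-- `[s, A] C_V(A)`. -/
def replX (s : Set G) : Subgroup G := commSpan A s ⊔ (V ⊓ Subgroup.centralizer (A : Set G))

/-- `C_A([s, A])`. -/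
def replA (s : Set G) : Subgroup G := A ⊓ Subgroup.centralizer (commSpan A s : Set G)

theorem replX_union (s t : Set G) : replX V A (s ∪ t) = replX V A s ⊔ replX V A t := by
  rw [replX, replX, replX, commSpan_union, ← sup_sup_distrib_right]

theorem replA_union (s t : Set G) : replA A (s ∪ t) = replA A s ⊓ replA A t := by
  rw [replA, replA, replA, commSpan_union, ← inf_inf_distrib_left]
  congr 1
  ext g
  rw [Subgroup.mem_inf, Subgroup.sup_eq_closure, Subgroup.centralizer_closure]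
  simp only [Subgroup.mem_centralizer_iff, Set.mem_union]
  exact ⟨fun h => ⟨fun x hx => h x (Or.inl hx), fun x hx => h x (Or.inr hx)⟩,
    fun h x hx => hx.elim (h.1 x) (h.2 x)⟩

theorem replX_le (hAV : A ≤ Subgroup.normalizer (V : Set G)) {s : Set G} (hs : s ⊆ (V : Set G)) :
    replX V A s ≤ V := sup_le (commSpan_le hAV hs) inf_le_left

theorem replX_le_fixed (hAV : A ≤ Subgroup.normalizer (V : Set G)) {s : Set G} (hs : s ⊆ (V : Set G)) :
    replX V A s ≤ V ⊓ Subgroup.centralizer (replA A s : Set G) := by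
  refine le_inf (replX_le V A hAV hs) (sup_le ?_ ?_)
  · exact Subgroup.le_centralizer_iff.mp inf_le_right
  · exact inf_le_right.trans (Subgroup.centralizer_le inf_le_left)

end

theorem replacement_single [Finite G] {V A : Subgroup G} (hV : IsMulCommutative V)
    (hAV : A ≤ Subgroup.normalizer (V : Set G))
    (hab : ⁅A, A⁆ ≤ Subgroup.centralizer (V : Set G)) {u : G} (hu : u ∈ V) :
    Nat.card A * Nat.card ↥(V ⊓ Subgroup.centralizer (A : Set G)) ≤
      Nat.card (replA A {u}) * Nat.card (replX V A {u}) := by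
  classical
  set C := V ⊓ Subgroup.centralizer (A : Set G) with hC
  set X := replX V A {u} with hX
  have hXV : X ≤ V := replX_le V A hAV (Set.singleton_subset_iff.mpr hu)
  have hconjV : ∀ a ∈ A, ∀ v ∈ V, a * v * a⁻¹ ∈ V := fun a ha v hv =>
    (Subgroup.mem_normalizer_iff.mp (hAV ha) v).mp hv
  have hdX : ∀ a ∈ A, a * u * a⁻¹ * u⁻¹ ∈ X := by
    intro a ha
    have h1 : ⁅u, a⁆ ∈ commSpan A {u} := Subgroup.subset_closure ⟨u, rfl, a, ha, rfl⟩
    have h2 := Subgroup.mem_sup_left (T := C) ((commSpan A {u}).inv_mem h1)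
    rw [commutatorElement_inv, commutatorElement_def] at h2
    exact h2
  have hcomm : ∀ a ∈ A, ∀ b ∈ A, ∀ v ∈ V, a * b * v * (a * b)⁻¹ = b * a * v * (b * a)⁻¹ := by
    intro a ha b hb v hv
    have h1 : ⁅a, b⁆ ∈ Subgroup.centralizer (V : Set G) :=
      hab (Subgroup.commutator_mem_commutator ha hb)
    have hw : b * a * v * (b * a)⁻¹ ∈ V := hconjV _ (A.mul_mem hb ha) v hv
    have h2 := h1 _ hw
    calc a * b * v * (a * b)⁻¹ = ⁅a, b⁆ * (b * a * v * (b * a)⁻¹) * ⁅a, b⁆⁻¹ := by
          rw [commutatorElement_def]; group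
      _ = b * a * v * (b * a)⁻¹ := by rw [← h2, mul_inv_cancel_right]
  -- the map `a ↦ [a, u]` into the cosets of `C` in `X`
  let CX : Subgroup X := C.subgroupOf X
  let q : A → X ⧸ CX := fun a => QuotientGroup.mk ⟨(a : G) * u * (a : G)⁻¹ * u⁻¹, hdX a a.2⟩
  let r : X ⧸ CX → A := fun x => if h : ∃ a, q a = x then h.choose else 1
  have hr : ∀ a, q (r (q a)) = q a := by
    intro a
    have h : ∃ b, q b = q a := ⟨a, rfl⟩
    simp only [r, dif_pos h]
    exact h.choose_spec
  have key : ∀ a b : A, q a = q b → ((b⁻¹ * a : A) : G) ∈ replA A {u} := by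
    intro a b hab'
    refine ⟨(b⁻¹ * a).2, ?_⟩
    have hz := QuotientGroup.eq.mp hab'
    rw [Subgroup.mem_subgroupOf] at hz
    simp only [Subgroup.coe_mul, Subgroup.coe_inv] at hz ⊢
    set e : G := (b : G)⁻¹ * (a : G) with he
    have heA : e ∈ A := A.mul_mem (A.inv_mem b.2) a.2
    set z : G := ((a : G) * u * (a : G)⁻¹ * u⁻¹)⁻¹ * ((b : G) * u * (b : G)⁻¹ * u⁻¹) with hzdef
    have hzV : z ∈ V := hz.1
    have hzA : ∀ c ∈ A, c * z * c⁻¹ = z := fun c hc => by
      rw [hz.2 c hc, mul_inv_cancel_right]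
    have hau := hconjV _ a.2 u hu
    have hbu := hconjV _ b.2 u hu
    have heu : e * u * e⁻¹ = u * z⁻¹ := by
      have h1 : (b : G) * u * (b : G)⁻¹ = z * ((a : G) * u * (a : G)⁻¹) := by
        calc (b : G) * u * (b : G)⁻¹
            = ((a : G) * u * (a : G)⁻¹ * u⁻¹) * z * u := by rw [hzdef]; group
          _ = z * ((a : G) * u * (a : G)⁻¹ * u⁻¹) * u := by
              rw [(commute_of_mem_comm hV hzV (V.mul_mem hau (V.inv_mem hu))).eq]
          _ = z * ((a : G) * u * (a : G)⁻¹) := by group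
      calc e * u * e⁻¹ = (b : G)⁻¹ * ((a : G) * u * (a : G)⁻¹) * (b : G) := by rw [he]; group
        _ = (b : G)⁻¹ * (z⁻¹ * ((b : G) * u * (b : G)⁻¹)) * (b : G) := by rw [h1]; group
        _ = ((b : G)⁻¹ * z * ((b : G)⁻¹)⁻¹)⁻¹ * u := by group
        _ = u * z⁻¹ := by
            rw [hzA _ (A.inv_mem b.2), (commute_of_mem_comm hV (V.inv_mem hzV) hu).eq]
    rw [commSpan, Subgroup.centralizer_closure]
    rintro g ⟨u', hu', c, hc, rfl⟩
    rw [Set.mem_singleton_iff] at hu'
    subst u'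
    have h3 : e * (c * u * c⁻¹ * u⁻¹) * e⁻¹ = c * u * c⁻¹ * u⁻¹ := by
      calc e * (c * u * c⁻¹ * u⁻¹) * e⁻¹
          = (e * c * u * (e * c)⁻¹) * (e * u * e⁻¹)⁻¹ := by group
        _ = (c * e * u * (c * e)⁻¹) * (e * u * e⁻¹)⁻¹ := by rw [hcomm e heA c hc u hu]
        _ = c * (e * u * e⁻¹) * c⁻¹ * (e * u * e⁻¹)⁻¹ := by group
        _ = c * (u * z⁻¹) * c⁻¹ * (u * z⁻¹)⁻¹ := by rw [heu]
        _ = (c * u * c⁻¹) * (c * z * c⁻¹)⁻¹ * z * u⁻¹ := by group
        _ = c * u * c⁻¹ * u⁻¹ := by rw [hzA c hc]; group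
    have h4 : Commute e (c * u * c⁻¹ * u⁻¹) := mul_inv_eq_iff_eq_mul.mp h3
    have h5 := h4.inv_right
    rw [show (c * u * c⁻¹ * u⁻¹)⁻¹ = ⁅u, c⁆ by rw [commutatorElement_def]; group] at h5
    exact h5.eq.symm
  let F : A → (X ⧸ CX) × replA A {u} := fun a => (q a, ⟨_, key a (r (q a)) (hr a).symm⟩)
  have hF : Function.Injective F := by
    intro a b h
    simp only [F, Prod.mk.injEq, Subtype.mk.injEq] at h
    obtain ⟨h1, h2⟩ := h
    rw [h1] at h2
    exact Subtype.ext (by simpa using h2)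
  have h1 := Nat.card_le_card_of_injective F hF
  rw [Nat.card_prod] at h1
  have hCX : Nat.card (X ⧸ CX) * Nat.card C = Nat.card X := by
    rw [← Nat.card_congr (Subgroup.subgroupOfEquivOfLe (le_sup_right : C ≤ X)).toEquiv]
    exact (Subgroup.card_eq_card_quotient_mul_card_subgroup CX).symm
  calc Nat.card A * Nat.card C
      ≤ Nat.card (X ⧸ CX) * Nat.card (replA A {u}) * Nat.card C := Nat.mul_le_mul_right _ h1
    _ = Nat.card (replA A {u}) * Nat.card X := by rw [← hCX]; ring

/-- Thompson's replacement dichotomy. -/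
theorem replacement_dichotomy [Finite G] {V A : Subgroup G} (hV : IsMulCommutative V)
    (hAV : A ≤ Subgroup.normalizer (V : Set G)) (hab : ⁅A, A⁆ ≤ Subgroup.centralizer (V : Set G))
    {U : Subgroup G} (hU : U ≤ V) :
    (∃ B : Subgroup G, B ≤ A ∧ Nat.card A * Nat.card ↥(V ⊓ Subgroup.centralizer (A : Set G)) <
      Nat.card B * Nat.card ↥(V ⊓ Subgroup.centralizer (B : Set G))) ∨
    (V ⊓ Subgroup.centralizer ((A ⊓ Subgroup.centralizer ((⁅U, A⁆ : Subgroup G) : Set G) : Subgroup G) : Set G)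
        = ⁅U, A⁆ ⊔ (V ⊓ Subgroup.centralizer (A : Set G)) ∧
      Nat.card A * Nat.card ↥(V ⊓ Subgroup.centralizer (A : Set G)) =
        Nat.card ↥(A ⊓ Subgroup.centralizer ((⁅U, A⁆ : Subgroup G) : Set G)) *
          Nat.card ↥(V ⊓ Subgroup.centralizer
            ((A ⊓ Subgroup.centralizer ((⁅U, A⁆ : Subgroup G) : Set G) : Subgroup G) : Set G))) := by
  classical
  by_cases hex : ∃ B : Subgroup G, B ≤ A ∧ Nat.card A * Nat.card ↥(V ⊓ Subgroup.centralizer (A : Set G)) <
      Nat.card B * Nat.card ↥(V ⊓ Subgroup.centralizer (B : Set G))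
  · exact Or.inl hex
  right
  push Not at hex
  set m := Nat.card A * Nat.card ↥(V ⊓ Subgroup.centralizer (A : Set G)) with hm
  have hpos : 0 < m := Nat.mul_pos Nat.card_pos Nat.card_pos
  have key : ∀ s : Finset G, (↑s : Set G) ⊆ (V : Set G) →
      V ⊓ Subgroup.centralizer (replA A (↑s : Set G) : Set G) = replX V A ↑s ∧
      Nat.card (replA A (↑s : Set G)) * Nat.card (replX V A (↑s : Set G)) = m := by
    intro s
    induction s using Finset.induction with
    | empty =>
      intro _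
      have h0 : commSpan A ((∅ : Finset G) : Set G) = ⊥ := by simp [commSpan]
      have hA : replA A ((∅ : Finset G) : Set G) = A := by
        rw [replA, h0, inf_eq_left]
        intro a _ x hx
        rw [Subgroup.mem_bot.mp hx]; simp
      have hX : replX V A ((∅ : Finset G) : Set G) = V ⊓ Subgroup.centralizer (A : Set G) := by
        rw [replX, h0, bot_sup_eq]
      rw [hA, hX]
      exact ⟨rfl, rfl⟩
    | insert u s _ ih =>
      intro hs
      rw [Finset.coe_insert] at hs ⊢
      obtain ⟨huV, hsV⟩ := Set.insert_subset_iff.mp hs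
      obtain ⟨ih1, ih2⟩ := ih hsV
      have huS : ({u} : Set G) ⊆ (V : Set G) := Set.singleton_subset_iff.mpr huV
      have hle := replX_le_fixed V A hAV huS
      have h1 := replacement_single hV hAV hab huV
      have h2 := hex (replA A {u}) inf_le_left
      have h3 : Nat.card (replA A {u}) * Nat.card (replX V A {u}) ≤
          Nat.card (replA A {u}) * Nat.card ↥(V ⊓ Subgroup.centralizer (replA A {u} : Set G)) :=
        Nat.mul_le_mul_left _ (Subgroup.card_le_of_le hle)
      have hu1 : Nat.card (replA A {u}) * Nat.card (replX V A {u}) = m :=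
        le_antisymm (h3.trans h2) h1
      have hu2 : V ⊓ Subgroup.centralizer (replA A {u} : Set G) = replX V A {u} := by
        refine (Subgroup.eq_of_le_of_card_ge hle ?_).symm
        exact Nat.le_of_mul_le_mul_left (h2.trans hu1.ge) Nat.card_pos
      have hle' := replX_le_fixed V A hAV (Set.union_subset huS hsV)
      rw [← Set.singleton_union]
      set A1 := replA A {u}
      set A2 := replA A (↑s : Set G)
      set X1 := replX V A {u}
      set X2 := replX V A (↑s : Set G)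
      rw [replA_union, replX_union] at hle' ⊢
      have p1 := card_mul_card_le_sup_inf A1 A2
      have p2 := card_mul_card_le_sup_inf X1 X2
      have hinf : X1 ⊓ X2 = V ⊓ Subgroup.centralizer ((A1 ⊔ A2 : Subgroup G) : Set G) := by
        rw [← hu2, ← ih1, ← inf_inf_distrib_left]
        congr 1
        ext g
        rw [Subgroup.mem_inf, Subgroup.sup_eq_closure, Subgroup.centralizer_closure]
        simp only [Subgroup.mem_centralizer_iff, Set.mem_union]
        exact ⟨fun h x hx => hx.elim (h.1 x) (h.2 x),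
          fun h => ⟨fun x hx => h x (Or.inl hx), fun x hx => h x (Or.inr hx)⟩⟩
      have p3 : Nat.card ↥(A1 ⊔ A2) * Nat.card ↥(X1 ⊓ X2) ≤ m := by
        rw [hinf]; exact hex _ (sup_le inf_le_left inf_le_left)
      set B := A1 ⊓ A2
      set Y := X1 ⊔ X2
      set CB := V ⊓ Subgroup.centralizer (B : Set G)
      have p4 : Nat.card B * Nat.card CB ≤ m := hex B (inf_le_left.trans inf_le_left)
      have p5 : Nat.card Y ≤ Nat.card CB := Subgroup.card_le_of_le hle'
      have p6 : m * m ≤ (Nat.card B * Nat.card Y) * m :=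
        calc m * m = (Nat.card A1 * Nat.card X1) * (Nat.card A2 * Nat.card X2) := by rw [hu1, ih2]
          _ = (Nat.card A1 * Nat.card A2) * (Nat.card X1 * Nat.card X2) := by ring
          _ ≤ (Nat.card ↥(A1 ⊔ A2) * Nat.card B) * (Nat.card Y * Nat.card ↥(X1 ⊓ X2)) :=
              Nat.mul_le_mul p1 p2
          _ = (Nat.card B * Nat.card Y) * (Nat.card ↥(A1 ⊔ A2) * Nat.card ↥(X1 ⊓ X2)) := by ring
          _ ≤ (Nat.card B * Nat.card Y) * m := Nat.mul_le_mul_left _ p3
      have p7 : m ≤ Nat.card B * Nat.card Y := Nat.le_of_mul_le_mul_right p6 hpos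
      refine ⟨(Subgroup.eq_of_le_of_card_ge hle' ?_).symm,
        le_antisymm (le_trans (Nat.mul_le_mul_left _ p5) p4) p7⟩
      exact Nat.le_of_mul_le_mul_left (p4.trans p7) Nat.card_pos
  obtain ⟨h1, h2⟩ := key (Set.toFinite (U : Set G)).toFinset (by simpa using hU)
  rw [Set.Finite.coe_toFinset, replA, replX, commSpan_coe] at h1
  rw [Set.Finite.coe_toFinset, replA, replX, commSpan_coe] at h2
  exact ⟨h1, by rw [h1, h2]⟩

theorem bestOffender_replacement [Finite G] {V A : Subgroup G} (hV : IsMulCommutative V)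
    (hAV : A ≤ Subgroup.normalizer (V : Set G)) (hA : Cfsg.IsBestOffenderOn p V A)
    {U : Subgroup G} (hU : U ≤ V) :
    Cfsg.IsBestOffenderOn p V (A ⊓ Subgroup.centralizer ((⁅U, A⁆ : Subgroup G) : Set G)) ∧
      V ⊓ Subgroup.centralizer ((A ⊓ Subgroup.centralizer ((⁅U, A⁆ : Subgroup G) : Set G) : Subgroup G) : Set G)
        = ⁅U, A⁆ ⊔ (V ⊓ Subgroup.centralizer (A : Set G)) ∧
      Nat.card ↥(A ⊓ Subgroup.centralizer ((⁅U, A⁆ : Subgroup G) : Set G)) *
          Nat.card ↥(V ⊓ Subgroup.centralizer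
            ((A ⊓ Subgroup.centralizer ((⁅U, A⁆ : Subgroup G) : Set G) : Subgroup G) : Set G)) =
        Nat.card A * Nat.card ↥(V ⊓ Subgroup.centralizer (A : Set G)) := by
  rcases replacement_dichotomy hV hAV hA.2.1 hU with ⟨B, hB, hlt⟩ | ⟨h1, h2⟩
  · exact absurd (hA.1 B hB) (not_le.mpr hlt)
  · refine ⟨⟨fun B hB => ?_, ?_, fun a ha => hA.2.2 a ha.1⟩, h1, h2.symm⟩
    · rw [← h2]; exact hA.1 B (hB.trans inf_le_left)
    · exact (Subgroup.commutator_mono inf_le_left inf_le_left).trans hA.2.1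

/-- A maximal elementary abelian subgroup is a best offender. -/
theorem maxEA_isBestOffenderOn [Finite G] {V : Subgroup G} (hV : Cfsg.IsElementaryAbelian p V)
    {A : Subgroup G} (hA : A ∈ Cfsg.maxElementaryAbelianSubgroups p G) :
    Cfsg.IsBestOffenderOn p V A := by
  have hAc : ⁅A, A⁆ = ⊥ := Subgroup.commutator_self_eq_bot_iff.mpr hA.1.1
  refine ⟨fun B hB => ?_, by rw [hAc]; exact bot_le, fun a ha => by rw [hA.1.2 a ha]; exact one_mem _⟩
  set D := V ⊓ Subgroup.centralizer (B : Set G)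
  have h1 : Cfsg.IsElementaryAbelian p (B ⊔ D : Subgroup G) :=
    isEA_sup (isEA_mono hA.1 hB) (isEA_mono hV inf_le_left) (Subgroup.le_centralizer_iff.mp inf_le_right)
  have h2 : B ⊓ D ≤ V ⊓ Subgroup.centralizer (A : Set G) :=
    le_inf (inf_le_right.trans inf_le_left)
      ((inf_le_left.trans hB).trans (Subgroup.le_centralizer_iff_isMulCommutative.mpr hA.1.1))
  calc Nat.card B * Nat.card D ≤ Nat.card ↥(B ⊔ D) * Nat.card ↥(B ⊓ D) := card_mul_card_le_sup_inf B D
    _ ≤ Nat.card A * Nat.card ↥(V ⊓ Subgroup.centralizer (A : Set G)) :=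
        Nat.mul_le_mul (hA.2 _ h1) (Subgroup.card_le_of_le h2)

end CfsgLib.PLocal
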