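import Mathlib.GroupTheory.Sylow
import Cfsg.Agent.Lib.Solvable.Core
import Cfsg.Agent.Lib.PLocal.Thompson

/-! Sylow subgroups of normal subgroups and Frattini arguments. -/

set_option autoImplicit false

namespace CfsgLib.PLocal

variable {G : Type*} [Group G] [Finite G] {p : ℕ}

theorem relIndex_eq_relIndex_sup_of_normal (S N : Subgroup G) [N.Normal] :
    S.relIndex N = S.relIndex (N ⊔ S) := by
  have hN : Nat.card ↥(N ⊔ S) = Nat.card N * N.relIndex S := by
    rw [← Subgroup.relIndex_sup_left (K := N) (H := S), ← Subgroup.relIndex_bot_left,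
      ← Subgroup.relIndex_bot_left]
    exact (Subgroup.relIndex_mul_relIndex _ _ _ bot_le le_sup_left).symm
  have hS : Nat.card ↥(N ⊔ S) = Nat.card S * S.relIndex (N ⊔ S) := by
    rw [← Subgroup.relIndex_bot_left, ← Subgroup.relIndex_bot_left]
    exact (Subgroup.relIndex_mul_relIndex _ _ _ bot_le le_sup_right).symm
  have h1 : Nat.card S = Nat.card ↥(S ⊓ N) * N.relIndex S := by
    rw [← Subgroup.relIndex_bot_left, ← Subgroup.relIndex_bot_left, ← Subgroup.inf_relIndex_right N S,
      inf_comm N S]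
    exact (Subgroup.relIndex_mul_relIndex _ _ _ bot_le inf_le_left).symm
  have h2 : Nat.card N = Nat.card ↥(S ⊓ N) * S.relIndex N := by
    rw [← Subgroup.relIndex_bot_left, ← Subgroup.relIndex_bot_left, ← Subgroup.inf_relIndex_right S N]
    exact (Subgroup.relIndex_mul_relIndex _ _ _ bot_le inf_le_right).symm
  have h := hN.symm.trans hS
  rw [h1, h2] at h
  have hpos : 0 < N.relIndex (S : Subgroup G) :=
    Nat.pos_of_ne_zero (Subgroup.index_ne_zero_of_finite (H := N.subgroupOf S))
  refine Nat.eq_of_mul_eq_mul_left (Nat.mul_pos (Nat.card_pos (α := ↥(S ⊓ N))) hpos) ?_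
  rw [← h]
  ring

variable [Fact p.Prime]

theorem not_dvd_relIndex_sylow (S : Sylow p G) (N : Subgroup G) [N.Normal] :
    ¬ p ∣ (S : Subgroup G).relIndex N := by
  rw [relIndex_eq_relIndex_sup_of_normal]
  exact fun h => S.not_dvd_index (h.trans (Subgroup.relIndex_dvd_index_of_le le_sup_right))

/-- The Sylow subgroup `S ∩ N` of a normal subgroup `N`. -/
noncomputable def sylowOfNormal (S : Sylow p G) (N : Subgroup G) [N.Normal] : Sylow p N :=
  (S.2.comap_subtype (K := N)).toSylow (not_dvd_relIndex_sylow S N)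

theorem sylowOfNormal_coe (S : Sylow p G) (N : Subgroup G) [N.Normal] :
    ((sylowOfNormal S N : Sylow p N) : Subgroup N) = (S : Subgroup G).subgroupOf N := by
  rw [sylowOfNormal]
  rfl

theorem sylowOfNormal_map (S : Sylow p G) (N : Subgroup G) [N.Normal] :
    ((sylowOfNormal S N : Sylow p N) : Subgroup N).map N.subtype = (S : Subgroup G) ⊓ N := by
  rw [sylowOfNormal_coe, Subgroup.subgroupOf_map_subtype]

/-- The Frattini argument, for `S ∩ N`. -/
theorem frattini_inf (S : Sylow p G) (N : Subgroup G) [N.Normal] :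
    N ⊔ Subgroup.normalizer (((S : Subgroup G) ⊓ N : Subgroup G) : Set G) = ⊤ := by
  rw [sup_comm, ← sylowOfNormal_map S N]
  exact Sylow.normalizer_sup_eq_top (sylowOfNormal S N)

/-- Frattini argument for the Thompson subgroup. -/
theorem frattini_thompson (S : Sylow p G) (N : Subgroup G) [N.Normal]
    (h : Cfsg.thompsonSubgroupOf p (S : Subgroup G) ≤ N) :
    N ⊔ Subgroup.normalizer (Cfsg.thompsonSubgroupOf p (S : Subgroup G) : Set G) = ⊤ := by
  rw [eq_top_iff, ← frattini_inf S N]
  refine sup_le_sup_left ?_ _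
  rw [← thompsonSubgroupOf_eq_of_le (U := (S : Subgroup G) ⊓ N) inf_le_left
    (le_inf (thompsonSubgroupOf_le p _) h)]
  exact normalizer_le_normalizer_thompsonSubgroupOf _

theorem exists_mul_of_sup_eq_top {N K : Subgroup G} [N.Normal] (h : N ⊔ K = ⊤) (g : G) :
    ∃ n ∈ N, ∃ k ∈ K, g = n * k := by
  have hg : g ∈ ((N ⊔ K : Subgroup G) : Set G) := by rw [h]; trivial
  rw [Subgroup.normal_mul] at hg
  obtain ⟨n, hn, k, hk, rfl⟩ := hg
  exact ⟨n, hn, k, hk, rfl⟩

theorem sylow_eq_map_conj (S T : Sylow p G) :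
    ∃ g : G, (T : Subgroup G) = (S : Subgroup G).map (MulAut.conj g).toMonoidHom := by
  obtain ⟨g, hg⟩ := MulAction.exists_smul_eq G S T
  refine ⟨g, ?_⟩
  rw [← hg, Sylow.coe_subgroup_smul, Subgroup.pointwise_smul_def]
  rfl

end CfsgLib.PLocal
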