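import Cfsg.Prelude.Def_CaseTheorems
import Cfsg.Prelude.Def_Local
import Mathlib.GroupTheory.Nilpotent
import Mathlib.GroupTheory.Sylow
import Mathlib.GroupTheory.QuotientGroup.Basic

/-!
Coprime lifting of centralizers and normalizers of `p`-subgroups along a surjection with kernel
of order prime to `p`; characterisation of `p`-constraint.
-/

set_option linter.style.haveILetI false
open Cfsg Subgroup
open scoped commutatorElement

namespace CfsgLib.PLoc

variable {G : Type*} [Group G] {H : Type*} [Group H] {p : ℕ}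

theorem pCore_pgroup (p : ℕ) (G : Type*) [Group G] : IsPGroup p ↥(pCore p G) :=
  Sylow.sSup_of_normal _ (fun _ h => h.2) (fun _ h => h.1)

theorem le_pCore_of {N : Subgroup G} (hn : N.Normal) (hp : IsPGroup p N) : N ≤ pCore p G :=
  le_sSup ⟨hn, hp⟩

theorem le_pPrimeCore_of {N : Subgroup G} (hn : N.Normal) (hp : (Nat.card N).Coprime p) :
    N ≤ pPrimeCore p G :=
  le_sSup ⟨hn, hp⟩

theorem card_sup_dvd_of_normal (N M : Subgroup G) [N.Normal] :
    Nat.card ↥(N ⊔ M) ∣ Nat.card N * Nat.card M := by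
  have h := Subgroup.card_mul_index (N.subgroupOf (N ⊔ M))
  have e : Nat.card ↥(N.subgroupOf (N ⊔ M)) = Nat.card N :=
    Nat.card_congr (Subgroup.subgroupOfEquivOfLe le_sup_left).toEquiv
  rw [e] at h
  rw [← h]
  refine Nat.mul_dvd_mul_left _ ?_
  show N.relIndex (N ⊔ M) ∣ _
  rw [Subgroup.relIndex_sup_left]
  exact (N.subgroupOf M).index_dvd_card

theorem pPrimeCore_coprime [Finite G] (p : ℕ) : (Nat.card ↥(pPrimeCore p G)).Coprime p := by
  let S : Set (Subgroup G) := {N : Subgroup G | N.Normal ∧ (Nat.card N).Coprime p}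
  have hbot : (⊥ : Subgroup G) ∈ S := ⟨inferInstance, by simp⟩
  obtain ⟨N, hN, hmax⟩ := Set.Finite.exists_maximal (s := S) (Set.toFinite S) ⟨⊥, hbot⟩
  have : pPrimeCore p G = N := by
    refine le_antisymm (sSup_le fun M hM => ?_) (le_sSup hN)
    haveI := hN.1
    haveI := hM.1
    have h : N ⊔ M ∈ S := ⟨inferInstance,
      Nat.Coprime.coprime_dvd_left (card_sup_dvd_of_normal N M) (Nat.Coprime.mul_left hN.2 hM.2)⟩
    exact le_sup_right.trans (hmax h le_sup_left)
  rw [this]
  exact hN.2

theorem disjoint_of_pgroup_coprime [Finite G] [Fact p.Prime] {P N : Subgroup G}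
    (hP : IsPGroup p P) (hN : (Nat.card N).Coprime p) : P ⊓ N = ⊥ := by
  obtain ⟨k, hk⟩ := IsPGroup.iff_card.mp hP
  apply Subgroup.inf_eq_bot_of_coprime
  rw [hk]
  exact Nat.Coprime.pow_left _ hN.symm

theorem coprime_of_relIndex_tower {A B : Subgroup G} (hAB : A ≤ B)
    (hA : (Nat.card A).Coprime p) (hi : (A.relIndex B).Coprime p) : (Nat.card B).Coprime p := by
  have h := Subgroup.relIndex_mul_relIndex ⊥ A B bot_le hAB
  rw [Subgroup.relIndex_bot_left, Subgroup.relIndex_bot_left] at h
  rw [← h]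
  exact Nat.Coprime.mul_left hA hi

theorem card_comap_of_surjective {f : G →* H} (hf : Function.Surjective f) (M : Subgroup H) :
    Nat.card ↥(M.comap f) = Nat.card f.ker * Nat.card M := by
  have h := Subgroup.relIndex_mul_relIndex ⊥ f.ker (M.comap f) bot_le
    (by rw [← MonoidHom.comap_bot]; exact Subgroup.comap_mono bot_le)
  rw [Subgroup.relIndex_bot_left, Subgroup.relIndex_bot_left] at h
  rw [← h, ← MonoidHom.comap_bot, Subgroup.relIndex_comap, Subgroup.map_comap_eq_self_of_surjective hf,
    Subgroup.relIndex_bot_left]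

/-- `n x` normalizes `P` for some `n ∈ N`, whenever `x` conjugates `P` into `P ⊔ N`. -/
theorem exists_mul_mem_normalizer [Finite G] [Fact p.Prime] {N P : Subgroup G} [N.Normal]
    (hN : (Nat.card N).Coprime p) (hP : IsPGroup p P) {x : G}
    (hx : ∀ a ∈ P, x * a * x⁻¹ ∈ P ⊔ N) : ∃ n ∈ N, n * x ∈ normalizer (P : Set G) := by
  set K : Subgroup G := P ⊔ N with hK
  set P' : Subgroup G := P.map (MulAut.conj x).toMonoidHom with hP'def
  have hP'K : P' ≤ K := by
    rintro _ ⟨a, ha, rfl⟩
    exact hx a ha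
  have hcard : Nat.card K = Nat.card N * Nat.card P := by
    have h := Subgroup.relIndex_mul_relIndex ⊥ N K bot_le le_sup_right
    rw [Subgroup.relIndex_bot_left, Subgroup.relIndex_bot_left, hK, Subgroup.relIndex_sup_right] at h
    rw [← h]
    congr 1
    have : (N.subgroupOf P) = ⊥ := by
      rw [Subgroup.subgroupOf_eq_bot, disjoint_iff, inf_comm]
      exact disjoint_of_pgroup_coprime hP hN
    show (N.subgroupOf P).index = _
    rw [this, Subgroup.index_bot]
  have hcardP' : Nat.card P' = Nat.card P :=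
    Subgroup.card_map_of_injective (MulAut.conj x).injective
  have key : ∀ Q : Subgroup G, Q ≤ K → Nat.card Q = Nat.card P →
      IsPGroup p ↥(Q.subgroupOf K) ∧ ¬ p ∣ (Q.subgroupOf K).index := by
    intro Q hQ hc
    have e : Nat.card ↥(Q.subgroupOf K) = Nat.card P :=
      (Nat.card_congr (Subgroup.subgroupOfEquivOfLe hQ).toEquiv).trans hc
    refine ⟨?_, ?_⟩
    · obtain ⟨k, hk⟩ := IsPGroup.iff_card.mp hP
      exact IsPGroup.of_card (e.trans hk)
    · have h := Subgroup.card_mul_index (Q.subgroupOf K)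
      rw [e, hcard, mul_comm (Nat.card N)] at h
      rw [Nat.eq_of_mul_eq_mul_left Nat.card_pos h]
      exact (Nat.Prime.coprime_iff_not_dvd Fact.out).mp hN.symm
  obtain ⟨h1, h1'⟩ := key P le_sup_left rfl
  obtain ⟨h2, h2'⟩ := key P' hP'K hcardP'
  obtain ⟨k, hk⟩ := MulAction.exists_smul_eq ↥K (h2.toSylow h2') (h1.toSylow h1')
  have hconj : ∀ a ∈ P, (k : G) * (x * a * x⁻¹) * (k : G)⁻¹ ∈ P := by
    intro a ha
    have hmem : (⟨x * a * x⁻¹, hx a ha⟩ : K) ∈ P'.subgroupOf K := by
      rw [Subgroup.mem_subgroupOf]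
      exact ⟨a, ha, rfl⟩
    have : k * ⟨x * a * x⁻¹, hx a ha⟩ * k⁻¹ ∈ (k • h2.toSylow h2' : Sylow p K) := by
      rw [Sylow.smul_def]
      exact ⟨_, hmem, rfl⟩
    rw [hk] at this
    exact this
  obtain ⟨q, hq, n, hn, hqn⟩ := Subgroup.mem_sup_of_normal_right.mp k.2
  refine ⟨n, hn, ?_⟩
  have hfin : ∀ a ∈ P, n * x * a * (n * x)⁻¹ ∈ P := by
    intro a ha
    have h := P.mul_mem (P.mul_mem (P.inv_mem hq) (hconj a ha)) hq
    rw [← hqn] at h
    simpa [mul_assoc] using h
  exact Subgroup.mem_normalizer_fintype hfin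

theorem normalizer_map_eq [Finite G] [Fact p.Prime] {f : G →* H} (hf : Function.Surjective f)
    (hker : (Nat.card f.ker).Coprime p) {P : Subgroup G} (hP : IsPGroup p P) :
    normalizer ((P.map f : Subgroup H) : Set H) = (normalizer (P : Set G)).map f := by
  refine le_antisymm ?_ (Subgroup.le_normalizer_map f)
  intro y hy
  obtain ⟨x, rfl⟩ := hf y
  have hx : ∀ a ∈ P, x * a * x⁻¹ ∈ P ⊔ f.ker := by
    intro a ha
    have := ((Subgroup.mem_normalizer_iff).mp hy (f a)).mp ⟨a, ha, rfl⟩
    rw [← map_inv, ← map_mul, ← map_mul] at this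
    rw [← Subgroup.comap_map_eq]
    exact this
  obtain ⟨n, hn, hnx⟩ := exists_mul_mem_normalizer hker hP hx
  exact ⟨n * x, hnx, by rw [map_mul, (MonoidHom.mem_ker).mp hn, one_mul]⟩

theorem centralizer_map_eq [Finite G] [Fact p.Prime] {f : G →* H} (hf : Function.Surjective f)
    (hker : (Nat.card f.ker).Coprime p) {P : Subgroup G} (hP : IsPGroup p P) :
    centralizer ((P.map f : Subgroup H) : Set H) = (centralizer (P : Set G)).map f := by
  refine le_antisymm ?_ ?_
  · intro y hy
    have hy' : y ∈ normalizer ((P.map f : Subgroup H) : Set H) := centralizer_le_normalizer _ hy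
    rw [normalizer_map_eq hf hker hP] at hy'
    obtain ⟨x, hx, rfl⟩ := hy'
    refine ⟨x, fun a ha => ?_, rfl⟩
    have h1 : x * a * x⁻¹ * a⁻¹ ∈ P :=
      P.mul_mem (((Subgroup.mem_normalizer_iff).mp hx a).mp ha) (P.inv_mem ha)
    have h2 : x * a * x⁻¹ * a⁻¹ ∈ f.ker := by
      have := (Subgroup.mem_centralizer_iff.mp hy) (f a) ⟨a, ha, rfl⟩
      simp only [MonoidHom.mem_ker, map_mul, map_inv, ← this]
      group
    have h3 : x * a * x⁻¹ * a⁻¹ ∈ P ⊓ f.ker := ⟨h1, h2⟩
    rw [disjoint_of_pgroup_coprime hP hker, Subgroup.mem_bot] at h3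
    calc a * x = (x * a * x⁻¹ * a⁻¹) * a * x := by rw [h3, one_mul]
      _ = x * a := by group
  · rintro _ ⟨x, hx, rfl⟩ _ ⟨a, ha, rfl⟩
    rw [← map_mul, ← map_mul, (Subgroup.mem_centralizer_iff.mp hx) a ha]

theorem pPrimeCore_eq_comap [Finite G] {f : G →* H} (hf : Function.Surjective f)
    (hker : (Nat.card f.ker).Coprime p) :
    pPrimeCore p G = (pPrimeCore p H).comap f := by
  haveI : Finite H := Finite.of_surjective f hf
  refine le_antisymm (sSup_le fun N hN => ?_) (le_pPrimeCore_of inferInstance ?_)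
  · rw [← Subgroup.map_le_iff_le_comap]
    exact le_pPrimeCore_of (hN.1.map f hf) (hN.2.coprime_dvd_left (Subgroup.card_map_dvd N f))
  · rw [card_comap_of_surjective hf]
    exact Nat.Coprime.mul_left hker (pPrimeCore_coprime p)

theorem pPrimeCore_quotient_eq_bot [Finite G] {f : G →* H} (hf : Function.Surjective f)
    (hker : f.ker = pPrimeCore p G) : pPrimeCore p H = ⊥ := by
  have h := pPrimeCore_eq_comap hf (p := p) (hker ▸ pPrimeCore_coprime p)
  rw [← hker, ← MonoidHom.comap_bot] at h
  exact (Subgroup.comap_injective hf h).symm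

theorem pCore_map_le {f : G →* H} (hf : Function.Surjective f) :
    (pCore p G).map f ≤ pCore p H :=
  le_pCore_of (Subgroup.Normal.map inferInstance f hf) ((pCore_pgroup p G).map f)

theorem pCore_eq_comap_of_bijective {f : G →* H} (hf : Function.Bijective f) :
    pCore p G = (pCore p H).comap f :=
  le_antisymm (Subgroup.map_le_iff_le_comap.mp (pCore_map_le hf.2))
    (le_pCore_of inferInstance ((pCore_pgroup p H).comap_of_injective f hf.1))

theorem comap_pCore_congr {X Y : Type*} [Group X] [Group Y] {f : G →* X} {g : G →* Y}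
    (hf : Function.Surjective f) (hg : Function.Surjective g) (h : f.ker = g.ker) :
    (pCore p X).comap f = (pCore p Y).comap g := by
  let e : X ≃* Y := ((QuotientGroup.quotientKerEquivOfSurjective f hf).symm.trans
    (QuotientGroup.quotientMulEquivOfEq h)).trans (QuotientGroup.quotientKerEquivOfSurjective g hg)
  have he : ∀ a, e (f a) = g a := by
    intro a
    have h1 : (QuotientGroup.quotientKerEquivOfSurjective f hf).symm (f a) = QuotientGroup.mk a :=
      (MulEquiv.symm_apply_eq _).mpr rfl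
    show QuotientGroup.quotientKerEquivOfSurjective g hg
      (QuotientGroup.quotientMulEquivOfEq h
        ((QuotientGroup.quotientKerEquivOfSurjective f hf).symm (f a))) = g a
    rw [h1]
    rfl
  ext a
  rw [pCore_eq_comap_of_bijective (f := e.toMonoidHom) e.bijective]
  simp only [Subgroup.mem_comap, MulEquiv.coe_toMonoidHom, he]

theorem pPrimePCore_eq_comap [Finite G] {f : G →* H} (hf : Function.Surjective f)
    (hker : f.ker = pPrimeCore p G) : pPrimePCore p G = (pCore p H).comap f :=
  comap_pCore_congr (QuotientGroup.mk'_surjective _) hf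
    ((QuotientGroup.ker_mk' _).trans hker.symm)

theorem pPrimeCore_le_pPrimePCore : pPrimeCore p G ≤ pPrimePCore p G := by
  intro x hx
  show QuotientGroup.mk' (pPrimeCore p G) x ∈ pCore p (G ⧸ pPrimeCore p G)
  rw [show QuotientGroup.mk' (pPrimeCore p G) x = 1 from (QuotientGroup.eq_one_iff x).mpr hx]
  exact one_mem _

/-- A Sylow `p`-subgroup of `O_{p',p}` maps onto `O_p` of the quotient. -/
theorem sylow_map_eq_pCore [Finite G] [Fact p.Prime] {f : G →* H} (hf : Function.Surjective f)
    (hker : f.ker = pPrimeCore p G) (P : Sylow p ↥(pPrimePCore p G)) :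
    ((P : Subgroup ↥(pPrimePCore p G)).map (pPrimePCore p G).subtype).map f = pCore p H := by
  haveI : Finite H := Finite.of_surjective f hf
  suffices key : ∀ (M : Subgroup G) (Q : Sylow p ↥M), M = (pCore p H).comap f →
      ((Q : Subgroup ↥M).map M.subtype).map f = pCore p H from
    key _ P (pPrimePCore_eq_comap hf hker)
  intro M P hM
  set P' := (P : Subgroup ↥M).map M.subtype with hP'
  have hMmap : M.map f = pCore p H := by rw [hM, Subgroup.map_comap_eq_self_of_surjective hf]
  have hP'M : P' ≤ M := Subgroup.map_subtype_le _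
  have hle : P'.map f ≤ pCore p H := hMmap ▸ Subgroup.map_mono hP'M
  refine le_antisymm hle ?_
  rw [← Subgroup.relIndex_eq_one]
  have h1 : ¬ p ∣ P'.relIndex M := by
    have : P'.relIndex M = (P : Subgroup ↥M).index := by
      show (P'.subgroupOf M).index = _
      rw [hP', Subgroup.subgroupOf, Subgroup.comap_map_eq_self_of_injective M.subtype_injective]
    rw [this]
    exact P.not_dvd_index
  have h2 : (P'.map f).relIndex (pCore p H) ∣ P'.relIndex M := by
    rw [← hMmap, Subgroup.relIndex_map_map]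
    exact Subgroup.relIndex_dvd_of_le_left _ le_sup_left |>.trans (by
      rw [sup_of_le_left (a := M) (by rw [hM, ← MonoidHom.comap_bot]; exact Subgroup.comap_mono bot_le)])
  obtain ⟨k, hk⟩ := IsPGroup.iff_card.mp (pCore_pgroup p H)
  have h3 : (P'.map f).relIndex (pCore p H) ∣ p ^ k := hk ▸ Subgroup.relIndex_dvd_card _ _
  obtain ⟨i, -, hi⟩ := (Nat.dvd_prime_pow Fact.out).mp h3
  rcases Nat.eq_zero_or_pos i with rfl | hipos
  · simpa using hi
  · exact absurd ((dvd_pow_self p hipos.ne').trans (hi ▸ h2)) h1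

theorem isPConstrained_iff_of_surjective [Finite G] [Fact p.Prime] {f : G →* H}
    (hf : Function.Surjective f) (hker : f.ker = pPrimeCore p G) :
    IsPConstrained p G ↔ centralizer (pCore p H : Set H) ≤ pCore p H := by
  have hcop : (Nat.card f.ker).Coprime p := hker ▸ pPrimeCore_coprime p
  have key : ∀ P : Sylow p ↥(pPrimePCore p G),
      (centralizer ((((P : Subgroup ↥(pPrimePCore p G)).map (pPrimePCore p G).subtype) : Subgroup G) : Set G)
        ≤ pPrimePCore p G ↔ centralizer (pCore p H : Set H) ≤ pCore p H) := by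
    intro P
    rw [← sylow_map_eq_pCore hf hker P, centralizer_map_eq hf hcop (P.isPGroup'.map _),
      sylow_map_eq_pCore hf hker P, Subgroup.map_le_iff_le_comap, ← pPrimePCore_eq_comap hf hker]
  exact ⟨fun h => (key (Classical.arbitrary _)).mp (h _), fun h P => (key P).mpr h⟩

theorem isPConstrained_iff [Finite G] [Fact p.Prime] :
    IsPConstrained p G ↔ centralizer (pCore p (G ⧸ pPrimeCore p G) : Set (G ⧸ pPrimeCore p G))
      ≤ pCore p (G ⧸ pPrimeCore p G) :=
  isPConstrained_iff_of_surjective (QuotientGroup.mk'_surjective _) (QuotientGroup.ker_mk' _)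

theorem isPConstrained_iff_of_coprime_ker [Finite G] [Fact p.Prime] {f : G →* H}
    (hf : Function.Surjective f) (hker : (Nat.card f.ker).Coprime p) :
    IsPConstrained p G ↔ IsPConstrained p H := by
  haveI : Finite H := Finite.of_surjective f hf
  rw [isPConstrained_iff (G := H)]
  refine isPConstrained_iff_of_surjective (f := (QuotientGroup.mk' (pPrimeCore p H)).comp f)
    ((QuotientGroup.mk'_surjective _).comp hf) ?_
  rw [← MonoidHom.comap_ker, QuotientGroup.ker_mk', pPrimeCore_eq_comap hf hker]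

end CfsgLib.PLoc
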