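import Cfsg.Agent.Lib.PLocal.Constrained

/-!
Automizers of `p`-subgroups along a surjection with kernel prime to `p`.
-/

set_option linter.style.haveILetI false
open Cfsg Subgroup

namespace CfsgLib.PLoc

variable {G : Type*} [Group G] [Finite G] {H : Type*} [Group H] {p : ℕ} [Fact p.Prime]

theorem automizer_condition_map {f : G →* H} (hf : Function.Surjective f)
    (hker : (Nat.card f.ker).Coprime p) {A P : Subgroup G} (hP : IsPGroup p P)
    (hA : A ≤ normalizer (P : Set G)) :
    (A.subgroupOf (normalizer (P : Set G))).map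
        (QuotientGroup.mk' ((centralizer (P : Set G)).subgroupOf (normalizer (P : Set G)))) ≤ pCore p _ ↔
    ((A.map f).subgroupOf (normalizer (P.map f : Set H))).map
        (QuotientGroup.mk' ((centralizer (P.map f : Set H)).subgroupOf (normalizer (P.map f : Set H)))) ≤ pCore p _ := by
  have hN := normalizer_map_eq hf hker hP
  have hmem : ∀ x : ↥(normalizer (P : Set G)), f x ∈ normalizer (P.map f : Set H) := fun x => by
    rw [hN]; exact ⟨x, x.2, rfl⟩
  let φ : ↥(normalizer (P : Set G)) →* ↥(normalizer (P.map f : Set H)) :=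
    (f.comp (normalizer (P : Set G)).subtype).codRestrict _ hmem
  have hφ : Function.Surjective φ := by
    rintro ⟨y, hy⟩
    rw [hN] at hy
    obtain ⟨x, hx, hxy⟩ := hy
    exact ⟨⟨x, hx⟩, Subtype.ext hxy⟩
  have hk : ((QuotientGroup.mk' ((centralizer (P.map f : Set H)).subgroupOf (normalizer (P.map f : Set H)))).comp φ).ker
      = (QuotientGroup.mk' ((centralizer (P : Set G)).subgroupOf (normalizer (P : Set G)))).ker := by
    rw [← MonoidHom.comap_ker, QuotientGroup.ker_mk', QuotientGroup.ker_mk']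
    ext x
    simp only [Subgroup.mem_comap, Subgroup.mem_subgroupOf]
    show f x ∈ centralizer ((P.map f : Subgroup H) : Set H) ↔ (x : G) ∈ centralizer (P : Set G)
    rw [centralizer_map_eq hf hker hP]
    refine ⟨?_, fun h => ⟨x, h, rfl⟩⟩
    rintro ⟨c, hc, hcx⟩ a ha
    have h1 : c⁻¹ * (x : G) ∈ f.ker := by simp [MonoidHom.mem_ker, hcx]
    have h2 : c⁻¹ * (x : G) ∈ normalizer (P : Set G) :=
      Subgroup.mul_mem _ (Subgroup.inv_mem _ (centralizer_le_normalizer _ hc)) x.2
    set n := c⁻¹ * (x : G) with hn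
    have h3 : n * a * n⁻¹ * a⁻¹ ∈ P ⊓ f.ker :=
      ⟨P.mul_mem (((Subgroup.mem_normalizer_iff).mp h2 a).mp ha) (P.inv_mem ha),
        by simp [MonoidHom.mem_ker, (MonoidHom.mem_ker).mp h1]⟩
    rw [disjoint_of_pgroup_coprime hP hker, Subgroup.mem_bot] at h3
    have hx : (x : G) = c * n := by rw [hn, mul_inv_cancel_left]
    rw [hx]
    calc a * (c * n) = c * (a * n) := by rw [← mul_assoc, hc a ha, mul_assoc]
      _ = c * ((n * a * n⁻¹ * a⁻¹) * a * n) := by rw [h3, one_mul]
      _ = c * n * a := by group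
  have hcomap : (pCore p _).comap (QuotientGroup.mk' ((centralizer (P : Set G)).subgroupOf (normalizer (P : Set G)))) =
      ((pCore p _).comap (QuotientGroup.mk' ((centralizer (P.map f : Set H)).subgroupOf (normalizer (P.map f : Set H))))).comap φ := by
    rw [Subgroup.comap_comap]
    exact comap_pCore_congr (QuotientGroup.mk'_surjective _)
      ((QuotientGroup.mk'_surjective _).comp hφ) hk.symm
  rw [Subgroup.map_le_iff_le_comap, Subgroup.map_le_iff_le_comap, hcomap, ← Subgroup.map_le_iff_le_comap]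
  have hmap : (A.subgroupOf (normalizer (P : Set G))).map φ =
      (A.map f).subgroupOf (normalizer (P.map f : Set H)) := by
    ext y
    constructor
    · rintro ⟨x, hx, rfl⟩
      exact Subgroup.mem_subgroupOf.mpr ⟨x, Subgroup.mem_subgroupOf.mp hx, rfl⟩
    · intro hy
      obtain ⟨x, hx, hxy⟩ := Subgroup.mem_subgroupOf.mp hy
      exact ⟨⟨x, hA hx⟩, Subgroup.mem_subgroupOf.mpr hx, Subtype.ext hxy⟩
  rw [hmap]

/-- A `p`-subgroup of the image lifts to a Sylow subgroup of any subgroup mapping onto it. -/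
theorem exists_pgroup_lift {f : G →* H} {L : Subgroup G} {B : Subgroup H}
    (hB : IsPGroup p B) (hLB : B ≤ L.map f) :
    ∃ A : Subgroup G, A ≤ L ∧ IsPGroup p A ∧ A.map f = B := by
  set K := L ⊓ B.comap f
  haveI : Finite ↥(K.map f) := Finite.of_surjective (f.subgroupMap K) (f.subgroupMap_surjective K)
  have hK : K.map f = B := le_antisymm (Subgroup.map_le_iff_le_comap.mpr inf_le_right) fun y hy => by
    obtain ⟨x, hx, rfl⟩ := hLB hy
    exact ⟨x, ⟨hx, hy⟩, rfl⟩
  haveI : Finite B := by rw [← hK]; infer_instance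
  obtain ⟨T⟩ := Sylow.nonempty (p := p) (G := K)
  refine ⟨(T : Subgroup K).map K.subtype, (Subgroup.map_subtype_le _).trans inf_le_left,
    T.isPGroup'.map _, ?_⟩
  have h1 : ((T : Subgroup K).map (f.subgroupMap K)) = ⊤ := by
    obtain ⟨n, hn⟩ := IsPGroup.iff_card.mp (hK ▸ hB : IsPGroup p ↥(K.map f))
    have hd : ((T : Subgroup K).map (f.subgroupMap K)).index ∣ p ^ n :=
      hn ▸ Subgroup.index_dvd_card _
    obtain ⟨i, -, hi⟩ := (Nat.dvd_prime_pow Fact.out).mp hd
    rw [← Subgroup.index_eq_one, hi]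
    rcases Nat.eq_zero_or_pos i with rfl | hipos
    · simp
    · refine absurd (((dvd_pow_self p hipos.ne').trans (dvd_of_eq hi.symm)).trans ?_) T.not_dvd_index
      exact Subgroup.index_map_dvd _ (f.subgroupMap_surjective K)
  have h2 := congrArg (Subgroup.map (K.map f).subtype) h1
  rw [Subgroup.map_map, ← MonoidHom.range_eq_map, Subgroup.range_subtype] at h2
  rw [Subgroup.map_map]
  exact h2.trans hK

end CfsgLib.PLoc
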