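import Cfsg.Agent.Lib.PLocal.ZJTheorem
import Cfsg.Agent.S0632

/-!
`G = O_{p'}(G) N(Z(J(S)))` for `p`-constrained, `p`-stable groups, and the `p`-local version.
-/

set_option linter.style.haveILetI false
open Cfsg Subgroup
open scoped commutatorElement Pointwise

namespace CfsgLib.PLoc

variable {G : Type*} [Group G] [Finite G] {p : ℕ} [Fact p.Prime]

omit [Fact p.Prime] in
theorem centerJ_map_of_injOn {H : Type*} [Group H] (f : G →* H) (e : ℕ) (S : Subgroup G)
    (h : Function.Injective (f.comp S.subtype)) : centerJ e (S.map f) = (centerJ e S).map f := by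
  have h1 := centerJ_map (f.comp S.subtype) h e (⊤ : Subgroup S)
  have h2 := centerJ_map S.subtype S.subtype_injective e (⊤ : Subgroup S)
  rw [← MonoidHom.range_eq_map, range_subtype] at h2
  rw [← map_map, ← map_map, ← MonoidHom.range_eq_map, range_subtype, ← h2] at h1
  exact h1

theorem zj_factorization (hp : p ≠ 2) (hc : IsPConstrained p G) (hs : IsPStable p G) {e : ℕ}
    (he : e = 0 ∨ e = p) (S : Sylow p G) :
    pPrimeCore p G ⊔ normalizer (centerJ e (S : Subgroup G) : Set G) = ⊤ := by
  set π := QuotientGroup.mk' (pPrimeCore p G)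
  have hcop : (Nat.card π.ker).Coprime p := by
    rw [QuotientGroup.ker_mk']; exact pPrimeCore_coprime p
  have hsurj : Function.Surjective π := QuotientGroup.mk'_surjective _
  have hc' : IsPConstrained p (G ⧸ pPrimeCore p G) := (isPConstrained_iff_of_coprime_ker hsurj hcop).mp hc
  have hs' : IsPStable p (G ⧸ pPrimeCore p G) := (Cfsg.Agent.S0632.result hs.2.1).mp hs
  have hn := centerJ_normal_of_stable hp hc' hs'
    (pPrimeCore_quotient_eq_bot hsurj (QuotientGroup.ker_mk' _)) he (S.mapSurjective hsurj)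
  rw [Sylow.coe_mapSurjective] at hn
  have hinj : Function.Injective (π.comp (S : Subgroup G).subtype) := by
    rw [← MonoidHom.ker_eq_bot_iff, eq_bot_iff]
    intro x hx
    have hx' : (x : G) ∈ (S : Subgroup G) ⊓ π.ker := ⟨x.2, hx⟩
    rw [disjoint_of_pgroup_coprime S.isPGroup' hcop, mem_bot] at hx'
    exact mem_bot.mpr (Subtype.ext hx')
  have hZp : IsPGroup p ↥(centerJ e (S : Subgroup G)) := S.isPGroup'.to_le (inf_le_left.trans (joinMaxAb_le e _))
  rw [centerJ_map_of_injOn π e _ hinj, ← normalizer_eq_top_iff,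
    normalizer_map_eq hsurj hcop hZp] at hn
  have h := congrArg (Subgroup.comap π) hn
  rw [comap_map_eq, QuotientGroup.ker_mk', comap_top, sup_comm] at h
  exact h

omit [Finite G] [Fact p.Prime] in
theorem lt_inf_normalizer_of_pgroup [Finite G] [Fact p.Prime] {R T : Subgroup G} (hT : IsPGroup p T) (h : R < T) :
    R < T ⊓ normalizer (R : Set G) := by
  haveI := hT.isNilpotent
  refine lt_of_le_of_ne (le_inf h.le le_normalizer) fun heq => ?_
  have hlt : R.subgroupOf T < ⊤ := by
    rw [lt_top_iff_ne_top, Ne, subgroupOf_eq_top]; exact not_le_of_gt h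
  obtain ⟨x, hxN, hx⟩ := SetLike.exists_of_lt (Group.normalizerCondition_of_isNilpotent (G := T) _ hlt)
  refine hx (mem_subgroupOf.mpr (heq.ge ⟨x.2, mem_normalizer_fintype fun z hz => ?_⟩))
  exact ((mem_normalizer_iff).mp hxN ⟨z, h.le hz⟩).mp (mem_subgroupOf.mpr hz)

theorem centerJ_ne_bot {e : ℕ} (he : e = 0 ∨ e = p) {R : Subgroup G} (hR : IsPGroup p R) (hR1 : R ≠ ⊥) :
    centerJ e R ≠ ⊥ := by
  obtain ⟨x, hx, hxo⟩ : ∃ x ∈ R, orderOf x = p := by
    haveI := (Subgroup.nontrivial_iff_ne_bot R).mpr hR1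
    obtain ⟨n, hn, hcard⟩ := hR.nontrivial_iff_card.mp inferInstance
    obtain ⟨x, hx⟩ := exists_prime_orderOf_dvd_card' (G := R) p (hcard ▸ dvd_pow_self p (Nat.pos_iff_ne_zero.mp hn))
    exact ⟨x, x.2, by rw [Subgroup.orderOf_coe, hx]⟩
  obtain ⟨A, hA⟩ := exists_isMaxAb e R
  have hA1 : A ≠ ⊥ := fun h => by
    haveI : IsMulCommutative (zpowers x) := inferInstance
    have hxe : ∀ a ∈ zpowers x, a ^ e = 1 := by
      rintro a ⟨k, rfl⟩
      rcases he with rfl | rfl
      · exact pow_zero _
      · rw [← zpow_natCast, ← zpow_mul, mul_comm, zpow_mul, zpow_natCast, ← hxo, pow_orderOf_eq_one, one_zpow]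
    have := hA.max (zpowers x) (zpowers_le.mpr hx) inferInstance hxe
    rw [h, Subgroup.card_bot, Nat.card_zpowers, hxo] at this
    exact absurd this (not_le.mpr (Nat.Prime.one_lt Fact.out))
  have hJ : joinMaxAb e R ≠ ⊥ := fun h => hA1 (le_bot_iff.mp (h ▸ le_joinMaxAb hA))
  haveI := (Subgroup.nontrivial_iff_ne_bot _).mpr hJ
  haveI := (hR.to_le (joinMaxAb_le e R)).center_nontrivial
  obtain ⟨⟨z, hz⟩, hz1⟩ := exists_ne (1 : Subgroup.center ↥(joinMaxAb e R))
  intro h
  have : (z : G) ∈ centerJ e R := ⟨z.2, fun a ha =>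
    congrArg Subtype.val (Subgroup.mem_center_iff.mp hz ⟨a, ha⟩)⟩
  rw [h, mem_bot] at this
  exact hz1 (Subtype.ext (Subtype.ext this))

/-- In a group all of whose `p`-locals are constrained, stable with trivial `p'`-core,
`N(Z(J(P)))` contains all the `p`-locals of subgroups of `P`. -/
theorem locals_le_normalizer_centerJ (hp : p ≠ 2) {e : ℕ} (he : e = 0 ∨ e = p)
    (hloc : ∀ Q : Subgroup G, IsPGroup p Q → Q ≠ ⊥ → pPrimeCore p ↥(normalizer (Q : Set G)) = ⊥ ∧
      IsPConstrained p ↥(normalizer (Q : Set G)) ∧ IsPStable p ↥(normalizer (Q : Set G)))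
    (P : Sylow p G) {Q : Subgroup G} (hQP : Q ≤ (P : Subgroup G)) (hQ1 : Q ≠ ⊥) :
    normalizer (Q : Set G) ≤ normalizer (centerJ e (P : Subgroup G) : Set G) := by
  set Z := centerJ e (P : Subgroup G)
  set M := normalizer (Z : Set G)
  suffices key : ∀ n, ∀ (P' : Sylow p G), centerJ e (P' : Subgroup G) = Z → ∀ Q : Subgroup G,
      Q ≤ (P' : Subgroup G) → Q ≠ ⊥ →
      Nat.card G - Nat.card ↥((P' : Subgroup G) ⊓ normalizer (Q : Set G)) ≤ n →
      normalizer (Q : Set G) ≤ M from key _ P rfl Q hQP hQ1 le_rfl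
  intro n
  induction n using Nat.strong_induction_on with
  | _ n ih =>
    intro P' hP' Q hQP' hQ hn
    set H := normalizer (Q : Set G) with hH
    set R := (P' : Subgroup G) ⊓ H with hR
    have hQR : Q ≤ R := le_inf hQP' le_normalizer
    obtain ⟨hO, hc, hs⟩ := hloc Q (P'.isPGroup'.to_le hQP') hQ
    -- a Sylow subgroup of `H` containing `R`
    obtain ⟨T₀, hT₀⟩ := ((P'.isPGroup'.to_le inf_le_left : IsPGroup p R).comap_subtype (K := H)).exists_le_sylow
    set T := (T₀ : Subgroup H).map H.subtype with hT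
    have hRT : R ≤ T := by
      have := Subgroup.map_mono (f := H.subtype) hT₀
      rwa [← Subgroup.subgroupOf, subgroupOf_map_subtype, inf_of_le_left inf_le_right] at this
    have hTH : T ≤ H := map_subtype_le _
    have hTZ : H ≤ normalizer (centerJ e T : Set G) := by
      have h := centerJ_normal_of_stable hp hc hs hO he T₀
      rw [hT, centerJ_map H.subtype H.subtype_injective]
      refine le_trans ?_ (le_normalizer_map _)
      rw [normalizer_eq_top, ← MonoidHom.range_eq_map, range_subtype]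
    have hlt_of : ∀ U : Subgroup G, ∀ P'' : Sylow p G, ∀ Q'' : Subgroup G, R < U →
        U ≤ (P'' : Subgroup G) ⊓ normalizer (Q'' : Set G) →
        centerJ e (P'' : Subgroup G) = Z → Q'' ≤ (P'' : Subgroup G) → Q'' ≠ ⊥ →
        normalizer (Q'' : Set G) ≤ M := by
      intro U P'' Q'' hRU hU hZ'' hQ'' hQ1''
      have h1 : Nat.card R < Nat.card ↥((P'' : Subgroup G) ⊓ normalizer (Q'' : Set G)) :=
        ((card_le_of_le hRU.le).lt_of_ne fun he => hRU.ne (eq_of_le_of_card_ge hRU.le he.ge)).trans_le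
          (card_le_of_le hU)
      have h2 : Nat.card R < Nat.card G := h1.trans_le (Subgroup.card_le_card_group _)
      exact ih _ (by omega) P'' hZ'' Q'' hQ'' hQ1'' le_rfl
    rcases (hRT).lt_or_eq with hlt | heq
    · -- `R` is not a Sylow subgroup of `H`
      rcases eq_or_ne R (P' : Subgroup G) with hRP | hRP
      · exact absurd (P'.is_maximal' (T₀.isPGroup'.map _) (hRP ▸ hRT)) (hRP ▸ hlt.ne')
      have hR1 : R ≠ ⊥ := fun h => hQ (le_bot_iff.mp (h ▸ hQR))
      have hRM : normalizer (R : Set G) ≤ M :=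
        hlt_of _ P' R (lt_inf_normalizer_of_pgroup P'.isPGroup' (lt_of_le_of_ne inf_le_left hRP)) le_rfl hP'
          inf_le_left hR1
      have hP'M : (P' : Subgroup G) ≤ M := by
        rw [show M = normalizer (centerJ e (P' : Subgroup G) : Set G) from by rw [hP']]
        exact (le_normalizer.trans (normalizer_le_normalizer_joinMaxAb e _)).trans
          (normalizer_join_le_normalizer_centerJ e _)
      set U := T ⊓ normalizer (R : Set G)
      have hUM : U ≤ M := inf_le_right.trans hRM
      obtain ⟨U₀, hU₀⟩ := (((T₀.isPGroup'.map H.subtype).to_le (inf_le_left : U ≤ T)).comap_subtype (K := M)).exists_le_sylow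
      obtain ⟨m, hm⟩ := MulAction.exists_smul_eq M (P'.subtype hP'M) U₀
      set P'' := (m : G) • P' with hP''
      have hUP : U ≤ (P'' : Subgroup G) := by
        intro u hu
        have h1 : (⟨u, hUM hu⟩ : M) ∈ m • P'.subtype hP'M := by
          rw [hm]; exact hU₀ (mem_subgroupOf.mpr hu)
        rw [Sylow.smul_subtype] at h1
        exact h1
      have hZ'' : centerJ e (P'' : Subgroup G) = Z := by
        rw [hP'', Sylow.coe_subgroup_smul]
        show centerJ e ((P' : Subgroup G).map (MulAut.conj (m : G)).toMonoidHom) = Z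
        rw [centerJ_map _ (MulAut.conj (m : G)).injective, hP']
        exact mem_normalizer_iff_map_conj_eq.mp m.2
      exact hlt_of U P'' Q (lt_inf_normalizer_of_pgroup (T₀.isPGroup'.map _) hlt)
        (le_inf hUP (inf_le_left.trans hTH)) hZ''
        (hQR.trans ((le_inf hRT le_normalizer).trans hUP)) hQ
    · -- `R` is a Sylow subgroup of `H`
      rw [← heq] at hTZ
      rcases eq_or_ne R (P' : Subgroup G) with hRP | hRP
      · rw [hRP, hP'] at hTZ; exact hTZ
      have hZR1 : centerJ e R ≠ ⊥ :=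
        centerJ_ne_bot he (P'.isPGroup'.to_le inf_le_left) fun h => hQ (le_bot_iff.mp (h ▸ hQR))
      refine hTZ.trans (hlt_of _ P' (centerJ e R)
        (lt_inf_normalizer_of_pgroup P'.isPGroup' (lt_of_le_of_ne inf_le_left hRP)) ?_ hP'
        ((inf_le_left.trans (joinMaxAb_le e R)).trans inf_le_left) hZR1)
      exact inf_le_inf_left _ ((normalizer_le_normalizer_joinMaxAb e _).trans (normalizer_join_le_normalizer_centerJ e _))

end CfsgLib.PLoc
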