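import Mathlib.GroupTheory.Sylow
import Mathlib.GroupTheory.Nilpotent
import Mathlib.GroupTheory.Exponent
import Mathlib.Algebra.Group.Subgroup.Pointwise
import Mathlib.Data.Nat.Choose.Basic
import Mathlib.Tactic.Group

/-!
The Glauberman replacement theorem.
-/

set_option linter.style.haveILetI false
open Subgroup
open scoped commutatorElement Pointwise

namespace CfsgLib.PLoc

variable {G : Type*} [Group G]

/-- The subgroup generated by the `b⁻¹ a b a⁻¹`. -/
def commWith (A : Subgroup G) (b : G) : Subgroup G :=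
  closure {g : G | ∃ a ∈ A, g = b⁻¹ * a * b * a⁻¹}

theorem commWith_eq_closure_inv (A : Subgroup G) (b : G) :
    closure {g : G | ∃ a ∈ A, g = a * b⁻¹ * a⁻¹ * b} = commWith A b := by
  refine le_antisymm ((closure_le _).mpr ?_) ((closure_le _).mpr ?_)
  · rintro _ ⟨a, ha, rfl⟩
    have h : b⁻¹ * a * b * a⁻¹ ∈ commWith A b := subset_closure ⟨a, ha, rfl⟩
    simpa [mul_assoc] using inv_mem h
  · rintro _ ⟨a, ha, rfl⟩
    have h : a * b⁻¹ * a⁻¹ * b ∈ closure {g : G | ∃ a ∈ A, g = a * b⁻¹ * a⁻¹ * b} :=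
      subset_closure ⟨a, ha, rfl⟩
    simpa [mul_assoc] using inv_mem h

theorem commutator_derived_central {A B : Subgroup G} (hAB : A ≤ normalizer (B : Set G))
    (hc : ⁅⁅B, B⁆, A⁆ = ⊥) :
    ⁅B, A⁆ ≤ B ∧ ⁅⁅B, A⁆, ⁅B, B⁆⁆ = ⊥ ∧
      ⁅⁅B, A⁆, ⁅B, A⁆⁆ ≤ B ⊓ centralizer (B : Set G) := by
  have hXB : ⁅B, A⁆ ≤ B := Subgroup.le_normalizer_iff_commutator_le_left.mp hAB
  have hXD : ⁅⁅B, A⁆, ⁅B, B⁆⁆ = ⊥ := by
    refine commutator_commutator_eq_bot_of_rotate ?_ ?_
    · rw [commutator_comm A ⁅B, B⁆, hc, commutator_bot_left]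
    · rw [← le_bot_iff, ← hc]
      exact commutator_mono (commutator_mono (Subgroup.commutator_le_self B) le_rfl) le_rfl
  refine ⟨hXB, hXD, le_inf ?_ (commutator_eq_bot_iff_le_centralizer.mp ?_)⟩
  · exact (commutator_mono hXB hXB).trans (Subgroup.commutator_le_self B)
  · refine commutator_commutator_eq_bot_of_rotate ?_ ?_
    · rw [← le_bot_iff, ← hXD, commutator_comm ⁅B, A⁆ ⁅B, B⁆]
      exact commutator_mono (commutator_mono hXB le_rfl) le_rfl
    · rw [← le_bot_iff, ← hXD, commutator_comm ⁅B, A⁆ ⁅B, B⁆]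
      exact commutator_mono (commutator_mono le_rfl hXB) le_rfl

theorem commWith_le_commutator {A B : Subgroup G} {b : G} (hb : b ∈ B) : commWith A b ≤ ⁅B, A⁆ := by
  refine (closure_le _).mpr ?_
  rintro _ ⟨a, ha, rfl⟩
  have h := commutator_mem_commutator (B.inv_mem hb) ha
  simpa [commutatorElement_def, mul_assoc] using h

theorem sq_eq_one_of_mem_derived_commWith {A B : Subgroup G} (hAB : A ≤ normalizer (B : Set G))
    (hc : ⁅⁅B, B⁆, A⁆ = ⊥) (hA : IsMulCommutative A) {b : G} (hb : b ∈ B)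
    (h3 : ⁅⁅commWith A b, A⁆, A⁆ = ⊥) {w : G} (hw : w ∈ ⁅commWith A b, commWith A b⁆) :
    w ^ 2 = 1 := by
  obtain ⟨hXB, hXD, hXX⟩ := commutator_derived_central hAB hc
  set M := commWith A b with hM
  set X := ⁅B, A⁆ with hX
  have hMX : M ≤ X := commWith_le_commutator hb
  have hNX : ⁅M, A⁆ ≤ X := (commutator_mono hMX le_rfl).trans
    (Subgroup.le_normalizer_iff_commutator_le_left.mp (normalizer_commutator_ge_right _ _))
  let x : G → G := fun a => b⁻¹ * a * b * a⁻¹
  have hxM : ∀ a ∈ A, x a ∈ M := fun a ha => subset_closure ⟨a, ha, rfl⟩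
  let n : G → G → G := fun a c => ⁅(x a)⁻¹, c⁆
  have hnN : ∀ a ∈ A, ∀ c ∈ A, n a c ∈ ⁅M, A⁆ := fun a ha c hc =>
    commutator_mem_commutator (M.inv_mem (hxM a ha)) hc
  -- conjugation by `a ∈ A`
  have conjb : ∀ a : G, a * b * a⁻¹ = b * x a := fun a => by simp only [x]; group
  have conjx : ∀ a c : G, a * x c * a⁻¹ = x c * n c a := fun a c => by
    simp only [n, commutatorElement_def]; group
  have fixD : ∀ a ∈ A, ∀ d ∈ ⁅B, B⁆, a * d * a⁻¹ = d := fun a ha d hd => by
    have := (commutator_eq_bot_iff_le_centralizer.mp hc hd) a ha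
    rw [this, mul_inv_cancel_right]
  have fixN : ∀ a ∈ A, ∀ z ∈ ⁅M, A⁆, a * z * a⁻¹ = z := fun a ha z hz => by
    have := (commutator_eq_bot_iff_le_centralizer.mp h3 hz) a ha
    rw [this, mul_inv_cancel_right]
  have commXD : ∀ u ∈ X, ∀ d ∈ ⁅B, B⁆, u * d * u⁻¹ = d := fun u hu d hd => by
    have := (commutator_eq_bot_iff_le_centralizer.mp hXD hu) d hd
    rw [← this, mul_inv_cancel_right]
  have cenXX : ∀ z ∈ ⁅X, X⁆, ∀ y ∈ B, y * z * y⁻¹ = z := fun z hz y hy => by
    rw [(hXX hz).2 y hy, mul_inv_cancel_right]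
  have mulL : ∀ u ∈ X, ∀ v ∈ B, ∀ y : G, y ∈ X → ⁅v * u, y⁆ = ⁅u, y⁆ * ⁅v, y⁆ := fun u hu v hv y hy => by
    rw [show ⁅v * u, y⁆ = (v * ⁅u, y⁆ * v⁻¹) * ⁅v, y⁆ by simp only [commutatorElement_def]; group,
      cenXX _ (commutator_mem_commutator hu hy) v hv]
  have mulR : ∀ v ∈ B, ∀ y ∈ X, ∀ z ∈ X, ⁅v, y * z⁆ = ⁅v, y⁆ * ⁅v, z⁆ := fun v hv y hy z hz => by
    rw [show ⁅v, y * z⁆ = ⁅v, y⁆ * (y * ⁅v, z⁆ * y⁻¹) by simp only [commutatorElement_def]; group,
      commXD y hy _ (commutator_mem_commutator hv (hXB hz))]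
  have hxX : ∀ a ∈ A, x a ∈ X := fun a ha => hMX (hxM a ha)
  have hconj : ∀ a u v : G, a * ⁅u, v⁆ * a⁻¹ = ⁅a * u * a⁻¹, a * v * a⁻¹⁆ := fun a u v =>
    conjugate_commutatorElement u v a
  have xn : ∀ a ∈ A, ∀ z ∈ ⁅M, A⁆, ⁅x a, z⁆ = 1 := by
    intro a ha z hz
    have h := fixD a ha _ (commutator_mem_commutator hb (hXB (hNX hz)))
    rw [hconj, conjb, fixN a ha z hz, mulL _ (hxX a ha) b hb z (hNX hz)] at h
    exact mul_eq_right.mp h
  have main : ∀ a ∈ A, ∀ c ∈ A, ⁅x a, x c⁆ * ⁅b, n c a⁆ = 1 := by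
    intro a ha c hc'
    have hn := hnN c hc' a ha
    have h := fixD a ha _ (commutator_mem_commutator hb (hXB (hxX c hc')))
    rw [hconj, conjb, conjx, mulL _ (hxX a ha) b hb _ (mul_mem (hxX c hc') (hNX hn)),
      mulR b hb _ (hxX c hc') _ (hNX hn), mulR _ (hXB (hxX a ha)) _ (hxX c hc') _ (hNX hn),
      xn a ha _ hn, mul_one, ← mul_assoc] at h
    have hz : ⁅x a, x c⁆ * ⁅b, x c⁆ = ⁅b, x c⁆ * ⁅x a, x c⁆ := by
      have h1 := cenXX _ (commutator_mem_commutator (hxX a ha) (hxX c hc')) ⁅b, x c⁆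
        (Subgroup.commutator_le_self B (commutator_mem_commutator hb (hXB (hxX c hc'))))
      calc ⁅x a, x c⁆ * ⁅b, x c⁆ = (⁅b, x c⁆ * ⁅x a, x c⁆ * ⁅b, x c⁆⁻¹) * ⁅b, x c⁆ := by rw [h1]
        _ = _ := inv_mul_cancel_right _ _
    rw [hz, mul_assoc] at h
    exact mul_eq_left.mp h
  have sym : ∀ a ∈ A, ∀ c ∈ A, ⁅b, n a c⁆ = ⁅b, n c a⁆ := by
    intro a ha c hc'
    have hcomm : a * c = c * a := Subgroup.mul_comm_of_mem_isMulCommutative A ha hc'
    have h : x a * (x c * n c a) = x c * (x a * n a c) := by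
      have h1 : a * (c * b * c⁻¹) * a⁻¹ = b * (x a * (x c * n c a)) := by
        rw [conjb c, show a * (b * x c) * a⁻¹ = (a * b * a⁻¹) * (a * x c * a⁻¹) by group, conjb, conjx,
          mul_assoc]
      have h2 : c * (a * b * a⁻¹) * c⁻¹ = b * (x c * (x a * n a c)) := by
        rw [conjb a, show c * (b * x a) * c⁻¹ = (c * b * c⁻¹) * (c * x a * c⁻¹) by group, conjb, conjx,
          mul_assoc]
      have h3 : a * (c * b * c⁻¹) * a⁻¹ = c * (a * b * a⁻¹) * c⁻¹ := by
        calc a * (c * b * c⁻¹) * a⁻¹ = (a * c) * b * (a * c)⁻¹ := by group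
          _ = (c * a) * b * (c * a)⁻¹ := by rw [hcomm]
          _ = _ := by group
      rw [h1, h2] at h3
      exact mul_left_cancel h3
    have h' : n a c = ⁅(x a)⁻¹, (x c)⁻¹⁆ * n c a := by
      have h0 : n a c = (x a)⁻¹ * (x c)⁻¹ * (x c * (x a * n a c)) := by group
      rw [h0, ← h]
      simp only [commutatorElement_def]
      group
    have hzX : ⁅(x a)⁻¹, (x c)⁻¹⁆ ∈ ⁅X, X⁆ :=
      commutator_mem_commutator (X.inv_mem (hxX a ha)) (X.inv_mem (hxX c hc'))
    rw [h', mulR b hb _ (Subgroup.commutator_le_self X hzX) _ (hNX (hnN c hc' a ha))]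
    have : ⁅b, ⁅(x a)⁻¹, (x c)⁻¹⁆⁆ = 1 :=
      commutatorElement_eq_one_iff_mul_comm.mpr ((hXX hzX).2 b hb)
    rw [this, one_mul]
  have gen : ∀ a ∈ A, ∀ c ∈ A, ⁅x a, x c⁆ ^ 2 = 1 := by
    intro a ha c hc'
    have h1 : ⁅x a, x c⁆ = ⁅x c, x a⁆ := by
      rw [eq_inv_of_mul_eq_one_left (main a ha c hc'), eq_inv_of_mul_eq_one_left (main c hc' a ha), sym a ha c hc']
    rw [sq]
    nth_rewrite 2 [h1]
    rw [← commutatorElement_inv (x a) (x c), mul_inv_cancel]
  -- spread to all of `M'`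
  let Good : G → Prop := fun z => z ∈ ⁅X, X⁆ ∧ z ^ 2 = 1
  have goodMul : ∀ u v, Good u → Good v → Good (u * v) := by
    intro u v hu hv
    refine ⟨mul_mem hu.1 hv.1, ?_⟩
    have : Commute u v := by
      have := cenXX u hu.1 v ((hXX hv.1).1)
      exact (show u * v = v * u by
        calc u * v = (v * u * v⁻¹) * v := by rw [this]
          _ = v * u := inv_mul_cancel_right _ _)
    rw [this.mul_pow, hu.2, hv.2, one_mul]
  have good1 : Good 1 := ⟨one_mem _, one_pow 2⟩
  have goodInv : ∀ u, Good u → Good u⁻¹ := fun u hu => ⟨inv_mem hu.1, by rw [inv_pow, hu.2, inv_one]⟩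
  have step : ∀ a ∈ A, ∀ v ∈ M, Good ⁅x a, v⁆ := by
    intro a ha v hv
    induction hv using closure_induction with
    | mem v hv => obtain ⟨c, hc', rfl⟩ := hv; exact ⟨commutator_mem_commutator (hxX a ha) (hxX c hc'), gen a ha c hc'⟩
    | one => rw [commutatorElement_one_right]; exact good1
    | mul u v hu hv ihu ihv =>
      rw [mulR _ (hXB (hxX a ha)) _ (hMX hu) _ (hMX hv)]
      exact goodMul _ _ ihu ihv
    | inv u hu ih =>
      have h := mulR _ (hXB (hxX a ha)) _ (hMX hu) _ (X.inv_mem (hMX hu))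
      rw [mul_inv_cancel, commutatorElement_one_right] at h
      rw [eq_inv_of_mul_eq_one_right h.symm]
      exact goodInv _ ih
  have step2 : ∀ u ∈ M, ∀ v ∈ M, Good ⁅u, v⁆ := by
    intro u hu v hv
    induction hu using closure_induction with
    | mem u hu => obtain ⟨c, hc', rfl⟩ := hu; exact step c hc' v hv
    | one => rw [commutatorElement_one_left]; exact good1
    | mul u u' hu hu' ihu ihu' =>
      rw [mulL _ (hMX hu') u (hXB (hMX hu)) v (hMX hv)]
      exact goodMul _ _ ihu' ihu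
    | inv u hu ih =>
      have h := mulL _ (X.inv_mem (hMX hu)) u (hXB (hMX hu)) v (hMX hv)
      rw [mul_inv_cancel, commutatorElement_one_left] at h
      rw [eq_inv_of_mul_eq_one_left h.symm]
      exact goodInv _ ih
  suffices h : Good w from h.2
  rw [Subgroup.commutator_def] at hw
  induction hw using closure_induction with
  | mem z hz => obtain ⟨u, hu, v, hv, rfl⟩ := hz; exact step2 u hu v hv
  | one => exact good1
  | mul u v _ _ ihu ihv => exact goodMul _ _ ihu ihv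
  | inv u _ ih => exact goodInv _ ih

theorem relIndex_sup_of_le_normalizer {H N : Subgroup G} (h : H ≤ normalizer (N : Set G)) :
    N.relIndex (H ⊔ N) = N.relIndex H := by
  haveI : (N.subgroupOf H).Normal := Subgroup.normal_subgroupOf_of_le_normalizer h
  haveI : (N.subgroupOf (H ⊔ N)).Normal :=
    Subgroup.normal_subgroupOf_of_le_normalizer (sup_le h le_normalizer)
  exact (Nat.card_congr (QuotientGroup.quotientInfEquivProdNormalizerQuotient H N h).toEquiv).symm

theorem card_sup_mul_card_inf {H N : Subgroup G} (h : H ≤ normalizer (N : Set G)) :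
    Nat.card ↥(H ⊔ N) * Nat.card ↥(H ⊓ N) = Nat.card H * Nat.card N := by
  have h1 := relIndex_mul_relIndex ⊥ N (H ⊔ N) bot_le le_sup_right
  have h2 := relIndex_mul_relIndex ⊥ (H ⊓ N) H bot_le inf_le_left
  rw [relIndex_bot_left, relIndex_bot_left, relIndex_sup_of_le_normalizer h] at h1
  rw [relIndex_bot_left, relIndex_bot_left, inf_relIndex_left] at h2
  calc Nat.card ↥(H ⊔ N) * Nat.card ↥(H ⊓ N)
      = Nat.card ↥(H ⊓ N) * N.relIndex H * Nat.card N := by rw [← h1]; ring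
    _ = Nat.card H * Nat.card N := by rw [h2]

theorem mul_pow_of_central_comm {a c w : G} (hw : c * a = a * c * w) (hwa : Commute w a)
    (hwc : Commute w c) (m : ℕ) : (a * c) ^ m = a ^ m * c ^ m * w ^ m.choose 2 := by
  have key : ∀ m : ℕ, c ^ m * a = a * c ^ m * w ^ m := by
    intro m
    induction m with
    | zero => simp
    | succ m ih =>
      calc c ^ (m + 1) * a = c * (c ^ m * a) := by rw [pow_succ', mul_assoc]
        _ = c * a * c ^ m * w ^ m := by rw [ih]; group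
        _ = a * c * (w * c ^ m) * w ^ m := by rw [hw]; group
        _ = a * c * (c ^ m * w) * w ^ m := by rw [(hwc.pow_right m).eq]
        _ = a * c ^ (m + 1) * w ^ (m + 1) := by rw [pow_succ' c, pow_succ' w]; group
  induction m with
  | zero => simp
  | succ m ih =>
    rw [pow_succ, ih]
    have hwk : Commute (w ^ m.choose 2) (a * c) := ((hwa.mul_right hwc).pow_left _)
    have hwc' : Commute (w ^ m) c := hwc.pow_left m
    calc a ^ m * c ^ m * w ^ m.choose 2 * (a * c) = a ^ m * (c ^ m * a) * c * w ^ m.choose 2 := by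
          rw [mul_assoc _ (w ^ _), hwk.eq]; group
      _ = a ^ m * (a * c ^ m * w ^ m) * c * w ^ m.choose 2 := by rw [key]
      _ = a ^ m * a * (c ^ m * c) * (w ^ m * w ^ m.choose 2) := by
          rw [show a ^ m * (a * c ^ m * w ^ m) * c * w ^ m.choose 2
              = a ^ m * a * c ^ m * (w ^ m * c) * w ^ m.choose 2 by group, hwc'.eq]
          group
      _ = a ^ (m + 1) * c ^ (m + 1) * w ^ (m + 1).choose 2 := by
          rw [← pow_succ, ← pow_succ, ← pow_add, Nat.choose_succ_succ, Nat.choose_one_right]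

/-- The replacement `A* = (A ∩ b⁻¹Ab)[A, b]`. -/
def starSub (A : Subgroup G) (b : G) : Subgroup G :=
  (A ⊓ A.map (MulAut.conj b⁻¹).toMonoidHom) ⊔ commWith A b

theorem mem_map_conj_inv {A : Subgroup G} {b x : G} :
    x ∈ A.map (MulAut.conj b⁻¹).toMonoidHom ↔ b * x * b⁻¹ ∈ A := by
  constructor
  · rintro ⟨a, ha, rfl⟩
    simpa [mul_assoc] using ha
  · intro h
    exact ⟨_, h, by simp [mul_assoc]⟩

theorem replacement [Finite G] {p : ℕ} [Fact p.Prime] (hG : IsPGroup p G) {B A : Subgroup G}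
    [B.Normal] (hB2 : p = 2 → IsMulCommutative B) (hA : IsMulCommutative A) (hBA : ⁅B, B⁆ ≤ A)
    {b : G} (hb : b ∈ B) (hbN : b ∈ normalizer ((normalizer (A : Set G)) : Set G))
    (hbA : b ∉ normalizer (A : Set G)) :
    Nat.card ↥(starSub A b) = Nat.card A ∧ IsMulCommutative ↥(starSub A b) ∧
      ⁅B, B⁆ ≤ starSub A b ∧ A ⊓ B < starSub A b ⊓ B ∧ starSub A b ⊓ B < B ∧
      A ≤ normalizer (starSub A b : Set G) ∧ starSub A b ≤ normalizer (A : Set G) ∧
      b ∈ normalizer (starSub A b : Set G) ∧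
      normalizer (A : Set G) < normalizer (starSub A b : Set G) ∧
      (p ≠ 2 → ∀ e : ℕ, (∀ a ∈ A, a ^ e = 1) → ∀ x ∈ starSub A b, x ^ e = 1) := by
  have hAN : A ≤ normalizer (A : Set G) := le_normalizer
  set N := normalizer (A : Set G) with hNdef
  set A1 := A.map (MulAut.conj b⁻¹).toMonoidHom with hA1
  set Z := A ⊓ A1 with hZdef
  set M := commWith A b with hMdef
  have hA1N : A1 ≤ N := fun x hx => by
    rw [hA1, mem_map_conj_inv] at hx
    exact ((mem_normalizer_iff).mp hbN x).mpr (hAN hx)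
  have hNA1 : N ≤ normalizer (A1 : Set G) := fun g hg => by
    refine mem_normalizer_iff.mpr fun y => ?_
    simp only [hA1, mem_map_conj_inv]
    rw [(mem_normalizer_iff).mp (((mem_normalizer_iff).mp hbN g).mp hg) (b * y * b⁻¹)]
    have e : b * g * b⁻¹ * (b * y * b⁻¹) * (b * g * b⁻¹)⁻¹ = b * (g * y * g⁻¹) * b⁻¹ := by group
    rw [e]
  haveI : IsMulCommutative A1 := Subgroup.map_isMulCommutative A (f := (MulAut.conj b⁻¹).toMonoidHom)
  have hZJ : ∀ z ∈ Z, ∀ y ∈ A ⊔ A1, y * z = z * y := by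
    intro z hz y hy
    have : A ⊔ A1 ≤ centralizer {z} := sup_le
      (fun a ha => mem_centralizer_singleton_iff.mpr (Subgroup.mul_comm_of_mem_isMulCommutative A ha hz.1))
      (fun a ha => mem_centralizer_singleton_iff.mpr (Subgroup.mul_comm_of_mem_isMulCommutative A1 ha hz.2))
    exact mem_centralizer_singleton_iff.mp (this hy)
  have hMJ : M ≤ A ⊔ A1 := by
    refine (closure_le _).mpr ?_
    rintro _ ⟨a, ha, rfl⟩
    refine mul_mem (le_sup_right (a := A) ?_) (le_sup_left (b := A1) (A.inv_mem ha))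
    rw [hA1, mem_map_conj_inv]
    simpa [mul_assoc] using ha
  have hJM : A ⊔ A1 = A ⊔ M := by
    refine le_antisymm (sup_le le_sup_left fun x hx => ?_) (sup_le le_sup_left hMJ)
    rw [hA1, mem_map_conj_inv] at hx
    have h1 : b⁻¹ * (b * x * b⁻¹) * b * (b * x * b⁻¹)⁻¹ ∈ A ⊔ M :=
      le_sup_right (a := A) (subset_closure ⟨_, hx, rfl⟩)
    have h2 : b * x * b⁻¹ ∈ A ⊔ M := le_sup_left (b := M) hx
    simpa [mul_assoc] using mul_mem h1 h2
  have hMN : M ≤ N := hMJ.trans (sup_le hAN hA1N)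
  have hMB : M ≤ B := (commWith_le_commutator hb).trans (Subgroup.commutator_le_left B A)
  have hBA1 : ⁅B, B⁆ ≤ A1 := fun x hx => by
    rw [hA1, mem_map_conj_inv]
    exact hBA ((inferInstance : (⁅B, B⁆).Normal).conj_mem x hx b)
  have hc : ⁅⁅B, B⁆, A⁆ = ⊥ :=
    le_bot_iff.mp ((commutator_mono hBA le_rfl).trans (Subgroup.commutator_self_eq_bot_iff.mpr hA).le)
  have hMA : ⁅M, A⁆ ≤ A := Subgroup.le_normalizer_iff_commutator_le_right.mp hMN
  have h3 : ⁅⁅M, A⁆, A⁆ = ⊥ :=
    le_bot_iff.mp ((commutator_mono hMA le_rfl).trans (Subgroup.commutator_self_eq_bot_iff.mpr hA).le)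
  haveI hMc : IsMulCommutative M := by
    by_cases hp : p = 2
    · haveI := hB2 hp
      exact IsMulCommutative.of_setLike_mul_comm fun u hu v hv =>
        Subgroup.mul_comm_of_mem_isMulCommutative B (hMB hu) (hMB hv)
    · rw [← Subgroup.commutator_self_eq_bot_iff, eq_bot_iff]
      intro w hw
      have h2 := sq_eq_one_of_mem_derived_commWith
        (by rw [Subgroup.normalizer_eq_top]; exact le_top) hc hA hb h3 hw
      obtain ⟨k, hk⟩ := hG w
      have hcop : Nat.Coprime (p ^ k) 2 :=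
        Nat.Coprime.pow_left _ ((Nat.coprime_primes Fact.out Nat.prime_two).mpr hp)
      have := pow_gcd_eq_one.mpr ⟨hk, h2⟩
      rwa [hcop.gcd_eq_one, pow_one] at this
  have hAMZ : A ⊓ B ≤ Z := fun x hx => by
    refine ⟨hx.1, ?_⟩
    have h1 : b⁻¹ * x * b ∈ A1 := by
      rw [hA1, mem_map_conj_inv]; simpa [mul_assoc] using hx.1
    have h2 : b⁻¹ * x * b * x⁻¹ ∈ A1 := hBA1 (by
      simpa [commutatorElement_def, mul_assoc] using commutator_mem_commutator (B.inv_mem hb) hx.2)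
    simpa [mul_assoc] using mul_mem (inv_mem h2) h1
  have hMcent : M ≤ centralizer (Z : Set G) := fun y hy z hz => (hZJ z hz y (hMJ hy)).symm
  have hstar : starSub A b = Z ⊔ M := rfl
  rw [hstar]
  have hZc : IsMulCommutative Z :=
    IsMulCommutative.of_setLike_mul_comm fun u hu v hv => Subgroup.mul_comm_of_mem_isMulCommutative A hu.1 hv.1
  have hScomm : IsMulCommutative ↥(Z ⊔ M) := by
    rw [← le_centralizer_iff_isMulCommutative]
    have hZ' : Z ≤ centralizer (M : Set G) := Subgroup.le_centralizer_iff.mp hMcent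
    refine sup_le ?_ ?_ <;> rw [Subgroup.le_centralizer_iff] <;> refine sup_le ?_ ?_
    · exact Subgroup.le_centralizer Z
    · exact hMcent
    · exact hZ'
    · exact Subgroup.le_centralizer M
  have hSJ : Z ⊔ M ≤ A ⊔ A1 := sup_le (inf_le_left.trans le_sup_left) hMJ
  have hSN : Z ⊔ M ≤ N := hSJ.trans (sup_le hAN hA1N)
  have hAS : A ⊓ (Z ⊔ M) = Z := by
    refine le_antisymm ?_ (le_inf inf_le_left le_sup_left)
    rintro x ⟨hxA, hx⟩
    rw [sup_comm] at hx
    have hx' : x ∈ (M : Set G) * (Z : Set G) := by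
      rw [← coe_mul_of_left_le_normalizer_right M Z (hMcent.trans (centralizer_le_normalizer _))]
      exact hx
    obtain ⟨m, hm, z, hz, rfl⟩ := hx'
    have hmA : m ∈ A := by simpa [mul_assoc] using A.mul_mem hxA (A.inv_mem (hz : z ∈ Z).1)
    exact Z.mul_mem (hAMZ ⟨hmA, hMB hm⟩) hz
  have hJS : A ⊔ A1 = (Z ⊔ M) ⊔ A := by
    rw [sup_comm (Z ⊔ M), ← sup_assoc, sup_of_le_left (inf_le_left : Z ≤ A), hJM]
  have hA1card : Nat.card A1 = Nat.card A := Subgroup.card_map_of_injective (MulAut.conj b⁻¹).injective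
  have hcard : Nat.card ↥(Z ⊔ M) = Nat.card A := by
    have h1 := card_sup_mul_card_inf (H := Z ⊔ M) (N := A) hSN
    have h2 := card_sup_mul_card_inf (H := A1) (N := A) hA1N
    rw [← hJS, inf_comm, hAS] at h1
    rw [sup_comm, inf_comm, ← hZdef, h1, hA1card] at h2
    exact Nat.eq_of_mul_eq_mul_right Nat.card_pos h2
  have hBS : ⁅B, B⁆ ≤ Z ⊔ M := (le_inf hBA hBA1).trans le_sup_left
  have hlt1 : A ⊓ B < (Z ⊔ M) ⊓ B := by
    refine lt_of_le_of_ne (le_inf (hAMZ.trans le_sup_left) inf_le_right) fun he => hbA ?_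
    have hM : M ≤ A := (le_inf le_sup_right hMB).trans (he.symm.le.trans inf_le_left)
    have hA1A : A1 ≤ A := by
      have h : A1 ≤ A ⊔ M := hJM ▸ le_sup_right
      rwa [sup_of_le_left hM] at h
    have hb' : b⁻¹ ∈ normalizer (A : Set G) := by
      refine mem_normalizer_fintype fun x hx => hA1A ?_
      rw [hA1, mem_map_conj_inv]
      simpa [mul_assoc] using hx
    simpa using inv_mem hb'
  have hlt2 : (Z ⊔ M) ⊓ B < B := by
    refine lt_of_le_of_ne inf_le_right fun he => hbA ?_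
    exact hSN ((he.symm.le hb).1)
  have hSalt : Z ⊔ M = Z ⊔ (A ⊔ A1) ⊓ B := by
    refine le_antisymm (sup_le_sup_left (le_inf hMJ hMB) _) (sup_le le_sup_left ?_)
    rintro x ⟨hx, hxB⟩
    rw [hJM, sup_comm] at hx
    have hx' : x ∈ (M : Set G) * (A : Set G) := by
      rw [← coe_mul_of_left_le_normalizer_right M A hMN]
      exact hx
    obtain ⟨m, hm, a, ha, rfl⟩ := hx'
    have haB : a ∈ B := by simpa using B.mul_mem (B.inv_mem (hMB hm)) hxB
    exact mul_mem (le_sup_right (a := Z) hm) (le_sup_left (b := M) (hAMZ ⟨ha, haB⟩))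
  have hNS : N ≤ normalizer ((Z ⊔ M : Subgroup G) : Set G) := by
    intro g hg
    rw [mem_normalizer_iff_map_conj_eq, hSalt]
    have hi : ∀ K L : Subgroup G, (K ⊓ L).map (MulAut.conj g : G →* G) =
        K.map (MulAut.conj g : G →* G) ⊓ L.map (MulAut.conj g : G →* G) := fun K L =>
      Subgroup.map_inf K L _ (MulAut.conj g).injective
    have hB' : B.map (MulAut.conj g : G →* G) = B :=
      mem_normalizer_iff_map_conj_eq.mp (by rw [Subgroup.normalizer_eq_top]; exact mem_top g)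
    simp only [Subgroup.map_sup, hi, hZdef, mem_normalizer_iff_map_conj_eq.mp hg,
      mem_normalizer_iff_map_conj_eq.mp (hNA1 hg), hB']
  have hbS : b ∈ normalizer ((Z ⊔ M : Subgroup G) : Set G) := by
    have h : Z ⊔ M ≤ (Z ⊔ M).comap (MulAut.conj b⁻¹).toMonoidHom := by
      refine sup_le ?_ ?_
      · intro z hz
        rw [mem_comap]
        have h1 : b⁻¹ * z * b * z⁻¹ ∈ Z ⊔ M := le_sup_right (a := Z) (subset_closure ⟨z, hz.1, rfl⟩)
        simpa [mul_assoc] using mul_mem h1 (le_sup_left (b := M) hz)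
      · intro y hy
        rw [mem_comap]
        have h1 : ⁅b⁻¹, y⁆ ∈ Z ⊔ M := hBS (commutator_mem_commutator (B.inv_mem hb) (hMB hy))
        simpa [commutatorElement_def, mul_assoc] using mul_mem h1 (le_sup_right (a := Z) hy)
    have hb' : b⁻¹ ∈ normalizer ((Z ⊔ M : Subgroup G) : Set G) :=
      mem_normalizer_fintype fun x hx => by simpa using h hx
    simpa using inv_mem hb'
  refine ⟨hcard, hScomm, hBS, hlt1, hlt2, hAN.trans hNS, hSN, hbS,
    lt_of_le_of_ne hNS fun he => hbA (he.symm.le hbS), ?_⟩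
  intro hp e he
  suffices h : Z ⊔ M ≤ (Z ⊔ M) ⊓ closure {x : G | x ∈ Z ⊔ M ∧ x ^ e = 1} by
    intro x hx
    have hx' := (h hx).2
    clear hx h
    induction hx' using closure_induction with
    | mem x hx => exact hx.2
    | one => exact one_pow e
    | mul u v hu hv ihu ihv =>
      have hsub : closure {x : G | x ∈ Z ⊔ M ∧ x ^ e = 1} ≤ Z ⊔ M :=
        (closure_le _).mpr fun x hx => hx.1
      rw [Commute.mul_pow (setLike_mul_comm (hsub hu) (hsub hv)), ihu, ihv, one_mul]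
    | inv u _ ih => rw [inv_pow, ih, inv_one]
  refine le_inf le_rfl (sup_le ?_ ?_)
  · intro z hz
    exact subset_closure ⟨le_sup_left (b := M) hz, he z hz.1⟩
  refine (closure_le _).mpr ?_
  rintro _ ⟨a, ha, rfl⟩
  refine subset_closure ⟨le_sup_right (a := Z) (subset_closure ⟨a, ha, rfl⟩), ?_⟩
  set u := b⁻¹ * a * b with hu
  set w := ⁅a, u⁻¹⁆ with hw
  have huA1 : u ∈ A1 := by rw [hA1, mem_map_conj_inv, hu]; simpa [mul_assoc] using ha
  have hwZ : w ∈ Z := by
    refine ⟨?_, ?_⟩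
    · exact Subgroup.le_normalizer_iff_commutator_le_left.mp hA1N
        (commutator_mem_commutator ha (A1.inv_mem huA1))
    · exact Subgroup.le_normalizer_iff_commutator_le_right.mp (hAN.trans hNA1)
        (commutator_mem_commutator ha (A1.inv_mem huA1))
  have hcw : ∀ y ∈ A ⊔ A1, Commute w y := fun y hy => (hZJ w hwZ y hy).symm
  have hswap : a⁻¹ * u = u * a⁻¹ * w := by
    rw [hw, commutatorElement_def]; group
  rw [mul_pow_of_central_comm hswap (hcw u (le_sup_right (a := A) huA1))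
    (hcw a⁻¹ (le_sup_left (b := A1) (A.inv_mem ha))) e]
  have hue : u ^ e = 1 := by
    have := conj_pow (a := b⁻¹) (b := a) (i := e)
    rw [inv_inv] at this
    rw [hu, this, he a ha]; group
  have hwe : w ^ e.choose 2 = 1 := by
    rw [← orderOf_dvd_iff_pow_eq_one]
    obtain ⟨k, hk⟩ := IsPGroup.iff_orderOf.mp hG w
    have hd : orderOf w ∣ e.choose 2 * 2 := by
      rw [Nat.choose_two_right, Nat.div_mul_cancel (Nat.even_mul_pred_self e).two_dvd]
      exact (orderOf_dvd_of_pow_eq_one (he w hwZ.1)).mul_right _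
    rw [hk] at hd ⊢
    exact (Nat.Coprime.pow_left k ((Nat.coprime_primes Fact.out Nat.prime_two).mpr hp)).dvd_of_dvd_mul_right hd
  rw [hue, inv_pow, he a ha, hwe, inv_one, one_mul, one_mul]

/-- A normal subgroup not normalizing `A` contains an element normalizing `N(A)` but not `A`. -/
theorem exists_mem_normalizer_normalizer [Finite G] {p : ℕ} [Fact p.Prime] (hG : IsPGroup p G)
    {B A : Subgroup G} [B.Normal] (hnot : ¬ B ≤ normalizer (A : Set G)) :
    ∃ b ∈ B, b ∈ normalizer ((normalizer (A : Set G)) : Set G) ∧ b ∉ normalizer (A : Set G) := by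
  set N := normalizer (A : Set G) with hN
  haveI : Group.IsNilpotent G := hG.isNilpotent
  haveI : Group.IsNilpotent ↥(B ⊔ N) := inferInstance
  have hlt : N.subgroupOf (B ⊔ N) < ⊤ := by
    rw [lt_top_iff_ne_top, Ne, subgroupOf_eq_top]
    exact fun h => hnot (le_sup_left.trans h)
  obtain ⟨x, hxN, hx⟩ := SetLike.exists_of_lt ((Group.normalizerCondition_of_isNilpotent (G := ↥(B ⊔ N))) _ hlt)
  obtain ⟨y, hy, n, hn, hyn⟩ := mem_sup_of_normal_left.mp x.2
  refine ⟨y, hy, ?_, fun h => hx (mem_subgroupOf.mpr (hyn ▸ N.mul_mem h hn))⟩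
  have hxG : (x : G) ∈ normalizer (N : Set G) := by
    refine mem_normalizer_fintype fun z hz => ?_
    have := ((mem_normalizer_iff).mp hxN ⟨z, le_sup_right (a := B) hz⟩).mp (mem_subgroupOf.mpr hz)
    simpa [mem_subgroupOf] using this
  have h2 := mul_mem hxG (inv_mem (le_normalizer hn : n ∈ normalizer (N : Set G)))
  rwa [← hyn, mul_inv_cancel_right] at h2

end CfsgLib.PLoc
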