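import Cfsg.Prelude.Def_PLocal
import Cfsg.Agent.Lib.PLocal.GlaubermanReplacement
import Mathlib.Order.Preorder.Finite

/-!
Families of abelian subgroups of largest order with exponent dividing `e` (`e = 0`: abelian,
`e = p`: elementary abelian), their intersection, and the replacement property.
-/

set_option linter.style.haveILetI false
open Cfsg Subgroup
open scoped commutatorElement

namespace CfsgLib.PLoc

variable {G : Type*} [Group G]

/-- `A` is abelian, of exponent dividing `e`, inside `D`, of largest order among such. -/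
structure IsMaxAb (e : ℕ) (D A : Subgroup G) : Prop where
  le : A ≤ D
  comm : IsMulCommutative A
  exp : ∀ a ∈ A, a ^ e = 1
  max : ∀ B : Subgroup G, B ≤ D → IsMulCommutative B → (∀ a ∈ B, a ^ e = 1) → Nat.card B ≤ Nat.card A

/-- The intersection of the family. -/
def interMaxAb (e : ℕ) (D : Subgroup G) : Subgroup G := sInf {A | IsMaxAb e D A}

/-- The join of the family. -/
def joinMaxAb (e : ℕ) (D : Subgroup G) : Subgroup G := sSup {A | IsMaxAb e D A}

theorem exists_isMaxAb [Finite G] (e : ℕ) (D : Subgroup G) : ∃ A, IsMaxAb e D A := by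
  let S : Set (Subgroup G) := {A | A ≤ D ∧ IsMulCommutative A ∧ ∀ a ∈ A, a ^ e = 1}
  have hbot : (⊥ : Subgroup G) ∈ S :=
    ⟨bot_le, IsMulCommutative.of_setLike_mul_comm fun a ha b hb => by simp_all, fun a ha => by simp_all⟩
  obtain ⟨A, hA, hmax⟩ := Set.exists_max_image S (fun A => Nat.card A) (Set.toFinite S) ⟨⊥, hbot⟩
  exact ⟨A, hA.1, hA.2.1, hA.2.2, fun B h1 h2 h3 => hmax B ⟨h1, h2, h3⟩⟩

theorem mem_of_commute [Finite G] {e : ℕ} {D A : Subgroup G} (hA : IsMaxAb e D A) {x : G}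
    (hxD : x ∈ D) (hxe : x ^ e = 1) (hx : ∀ a ∈ A, a * x = x * a) : x ∈ A := by
  haveI := hA.comm
  set T : Set G := {y : G | y ∈ A ∨ y = x}
  have hT : ∀ u ∈ T, ∀ v ∈ T, u * v = v * u := by
    intro u hu v hv
    rcases hu with hu | hu <;> rcases hv with hv | hv
    · exact setLike_mul_comm hu hv
    · rw [hv]; exact hx u hu
    · rw [hu]; exact (hx v hv).symm
    · rw [hu, hv]
  set B := closure T with hB
  haveI hBc : IsMulCommutative B := Subgroup.isMulCommutative_closure hT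
  have hexp : ∀ y ∈ B, y ^ e = 1 := by
    intro y hy
    induction hy using closure_induction with
    | mem y hy => rcases hy with hy | rfl; exacts [hA.exp y hy, hxe]
    | one => exact one_pow e
    | mul u v hu hv ihu ihv =>
      rw [Commute.mul_pow (setLike_mul_comm (s := B) hu hv), ihu, ihv, one_mul]
    | inv u _ ih => rw [inv_pow, ih, inv_one]
  have hBD : B ≤ D := by
    refine (closure_le _).mpr ?_
    rintro y (hy | rfl)
    exacts [hA.le hy, hxD]
  have hAB : A ≤ B := fun a ha => subset_closure (Or.inl ha)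
  rw [Subgroup.eq_of_le_of_card_ge hAB (hA.max B hBD hBc hexp)]
  exact subset_closure (Or.inr rfl)

theorem interMaxAb_le {e : ℕ} {D A : Subgroup G} (hA : IsMaxAb e D A) : interMaxAb e D ≤ A :=
  sInf_le hA

theorem joinMaxAb_le (e : ℕ) (D : Subgroup G) : joinMaxAb e D ≤ D :=
  sSup_le fun _ hA => hA.le

theorem le_joinMaxAb {e : ℕ} {D A : Subgroup G} (hA : IsMaxAb e D A) : A ≤ joinMaxAb e D :=
  le_sSup hA

theorem interMaxAb_le_centralizer (e : ℕ) (D : Subgroup G) :
    interMaxAb e D ≤ centralizer (joinMaxAb e D : Set G) := by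
  rw [Subgroup.le_centralizer_iff]
  refine sSup_le fun A hA => ?_
  haveI := hA.comm
  intro a ha z hz
  exact setLike_mul_comm (interMaxAb_le hA hz) ha

theorem mem_interMaxAb_iff [Finite G] {e : ℕ} {D : Subgroup G} {x : G} :
    x ∈ interMaxAb e D ↔ x ∈ joinMaxAb e D ∧ x ∈ centralizer (joinMaxAb e D : Set G) ∧ x ^ e = 1 := by
  obtain ⟨A, hA⟩ := exists_isMaxAb e D
  constructor
  · intro hx
    exact ⟨le_joinMaxAb hA (interMaxAb_le hA hx), interMaxAb_le_centralizer e D hx,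
      hA.exp x (interMaxAb_le hA hx)⟩
  · rintro ⟨h1, h2, h3⟩
    refine Subgroup.mem_sInf.mpr fun B hB => ?_
    exact mem_of_commute hB (joinMaxAb_le e D h1) h3 fun a ha => h2 a (le_joinMaxAb hB ha)

theorem isMaxAb_zero_iff (D A : Subgroup G) :
    A ∈ Set.image (fun B : Subgroup ↥D => B.map D.subtype) (maxAbelianSubgroups ↥D) ↔ IsMaxAb 0 D A := by
  constructor
  · rintro ⟨B, ⟨hB, hmax⟩, rfl⟩
    haveI := hB
    refine ⟨map_subtype_le B, map_isMulCommutative B (f := D.subtype), fun a _ => pow_zero a, fun C hC hc _ => ?_⟩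
    rw [Subgroup.card_map_of_injective D.subtype_injective, ← Nat.card_congr (subgroupOfEquivOfLe hC).toEquiv]
    exact hmax _ inferInstance
  · intro hA
    haveI := hA.comm
    refine ⟨A.subgroupOf D, ⟨inferInstance, fun C hC => ?_⟩, by
      simp only [subgroupOf_map_subtype, inf_of_le_left hA.le]⟩
    haveI := hC
    rw [Nat.card_congr (subgroupOfEquivOfLe hA.le).toEquiv,
      ← Subgroup.card_map_of_injective D.subtype_injective]
    exact hA.max _ (map_subtype_le C) (map_isMulCommutative C (f := D.subtype)) fun a _ => pow_zero a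

theorem isMaxAb_prime_iff (p : ℕ) (D A : Subgroup G) :
    A ∈ Set.image (fun B : Subgroup ↥D => B.map D.subtype) (maxElementaryAbelianSubgroups p ↥D) ↔
      IsMaxAb p D A := by
  constructor
  · rintro ⟨B, ⟨⟨hB, hBe⟩, hmax⟩, rfl⟩
    haveI := hB
    refine ⟨map_subtype_le B, map_isMulCommutative B (f := D.subtype), ?_, fun C hC hc hce => ?_⟩
    · rintro _ ⟨b, hb, rfl⟩
      rw [← map_pow, hBe b hb, map_one]
    rw [Subgroup.card_map_of_injective D.subtype_injective, ← Nat.card_congr (subgroupOfEquivOfLe hC).toEquiv]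
    exact hmax _ ⟨inferInstance, fun x hx => Subtype.ext (hce _ (mem_subgroupOf.mp hx))⟩
  · intro hA
    haveI := hA.comm
    refine ⟨A.subgroupOf D, ⟨⟨inferInstance, fun x hx => Subtype.ext (hA.exp _ (mem_subgroupOf.mp hx))⟩,
      fun C hC => ?_⟩, by simp only [subgroupOf_map_subtype, inf_of_le_left hA.le]⟩
    haveI := hC.1
    rw [Nat.card_congr (subgroupOfEquivOfLe hA.le).toEquiv,
      ← Subgroup.card_map_of_injective D.subtype_injective]
    refine hA.max _ (map_subtype_le C) (map_isMulCommutative C (f := D.subtype)) ?_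
    rintro _ ⟨c, hc, rfl⟩
    rw [← map_pow, hC.2 c hc, map_one]

theorem joinMaxAb_zero (P : Subgroup G) : thompsonSubgroupAOf P = joinMaxAb 0 P := by
  rw [thompsonSubgroupAOf, thompsonSubgroupA, (Subgroup.gc_map_comap P.subtype).l_sSup, joinMaxAb,
    ← sSup_image]
  congr 1
  ext A
  exact isMaxAb_zero_iff P A

theorem joinMaxAb_prime (p : ℕ) (P : Subgroup G) : thompsonSubgroupOf p P = joinMaxAb p P := by
  rw [thompsonSubgroupOf, thompsonSubgroup, (Subgroup.gc_map_comap P.subtype).l_sSup, joinMaxAb,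
    ← sSup_image]
  congr 1
  ext A
  exact isMaxAb_prime_iff p P A

theorem centerThompsonAOf_eq [Finite G] (P : Subgroup G) : centerThompsonAOf P = interMaxAb 0 P := by
  ext x
  rw [centerThompsonAOf, joinMaxAb_zero, mem_interMaxAb_iff, Subgroup.mem_inf]
  simp

theorem omegaCenterThompson_map_eq [Finite G] (p : ℕ) (P : Subgroup G) :
    (omegaCenterThompson p ↥P).map P.subtype = interMaxAb p P := by
  have hJ : (thompsonSubgroup p ↥P).map P.subtype = joinMaxAb p P := joinMaxAb_prime p P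
  refine le_antisymm ?_ ?_
  · rw [omegaCenterThompson, omegaOne, MonoidHom.map_closure, closure_le]
    rintro _ ⟨x, ⟨hx, hxp⟩, rfl⟩
    refine mem_interMaxAb_iff.mpr ⟨hJ ▸ ⟨x, hx.1, rfl⟩, ?_, by rw [← map_pow, hxp, map_one]⟩
    intro y hy
    rw [← hJ] at hy
    obtain ⟨z, hz, rfl⟩ := hy
    rw [← map_mul, ← map_mul, hx.2 z hz]
  · intro x hx
    obtain ⟨h1, h2, h3⟩ := mem_interMaxAb_iff.mp hx
    rw [← hJ] at h1
    obtain ⟨y, hy, rfl⟩ := h1
    refine ⟨y, subset_closure ⟨⟨hy, fun z hz => P.subtype_injective ?_⟩, P.subtype_injective ?_⟩, rfl⟩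
    · rw [map_mul, map_mul]
      exact h2 _ (hJ ▸ ⟨z, hz, rfl⟩)
    · rw [map_pow, map_one]
      exact h3

/-- Replacement property: if some member contains `[B, B]` but not `B`, then one with larger
`A ⊓ B` does, or `B` normalizes it. -/
theorem replacement_step [Finite G] {p : ℕ} [Fact p.Prime] (hG : IsPGroup p G) (hp : p ≠ 2)
    {e : ℕ} {D : Subgroup G} [D.Normal] {B : Subgroup G} [B.Normal] {A : Subgroup G}
    (hA : IsMaxAb e D A) (hBA : ⁅B, B⁆ ≤ A) (hnot : ¬ B ≤ normalizer (A : Set G)) :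
    ∃ A' : Subgroup G, IsMaxAb e D A' ∧ ⁅B, B⁆ ≤ A' ∧ ¬ B ≤ A' ∧ A ⊓ B < A' ⊓ B := by
  obtain ⟨b, hb, hbN, hbA⟩ := exists_mem_normalizer_normalizer hG hnot
  obtain ⟨h1, h2, h3, h4, h5, -, -, -, -, h10⟩ :=
    replacement hG (fun h => absurd h hp) hA.comm hBA hb hbN hbA
  refine ⟨starSub A b, ⟨?_, h2, h10 hp e hA.exp, fun C hC hc hce => h1 ▸ hA.max C hC hc hce⟩, h3,
    fun h => h5.ne (inf_eq_right.mpr h), h4⟩
  refine sup_le (inf_le_left.trans hA.le) ((closure_le _).mpr ?_)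
  rintro _ ⟨a, ha, rfl⟩
  have h := (inferInstance : D.Normal).conj_mem a (hA.le ha) b⁻¹
  rw [inv_inv] at h
  exact D.mul_mem h (D.inv_mem (hA.le ha))

theorem replacement_property [Finite G] {p : ℕ} [Fact p.Prime] (hG : IsPGroup p G) (hp : p ≠ 2)
    {e : ℕ} {D : Subgroup G} [D.Normal] {B : Subgroup G} [B.Normal]
    (h : ∃ U, IsMaxAb e D U ∧ ⁅B, B⁆ ≤ U ∧ ¬ B ≤ U) :
    ∃ A, IsMaxAb e D A ∧ ⁅B, B⁆ ≤ A ∧ ¬ B ≤ A ∧ B ≤ normalizer (A : Set G) := by
  let S : Set (Subgroup G) := {U | IsMaxAb e D U ∧ ⁅B, B⁆ ≤ U ∧ ¬ B ≤ U}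
  obtain ⟨A, ⟨hA, hBA, hnB⟩, hmax⟩ :=
    Set.exists_max_image S (fun A => Nat.card ↥(A ⊓ B)) (Set.toFinite S) h
  refine ⟨A, hA, hBA, hnB, by_contra fun hnot => ?_⟩
  obtain ⟨A', h1, h2, h3, h4⟩ := replacement_step hG hp hA hBA hnot
  refine absurd (hmax A' ⟨h1, h2, h3⟩) (not_le.mpr ?_)
  exact (Subgroup.card_le_of_le h4.le).lt_of_ne fun he => h4.ne (Subgroup.eq_of_le_of_card_ge h4.le he.ge)

end CfsgLib.PLoc
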