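import Cfsg.Agent.Lib.PLocal.Constrained
import Cfsg.Agent.Lib.Solvable.Core
import Mathlib.GroupTheory.SchurZassenhaus

/-!
Hall–Higman 1.2.3 from the chain definition of `IsPSolvable`, the `P × Q` lemma, and
invariance of `IsPSolvable` under quotients.
-/

set_option linter.style.haveILetI false
open Cfsg Subgroup
open scoped commutatorElement

namespace CfsgLib.PLoc

variable {G : Type*} [Group G] {H : Type*} [Group H] {p : ℕ}

theorem isPSolvable_of_surjective [Fact p.Prime] {f : G →* H} (hf : Function.Surjective f)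
    (hs : IsPSolvable p G) : IsPSolvable p H := by
  obtain ⟨n, S, h0, hl, hm, hn, hf'⟩ := hs
  refine ⟨n, fun i => (S i).map f, by simp [h0], by simp [hl, Subgroup.map_top_of_surjective _ hf],
    fun i j h => Subgroup.map_mono (hm h), fun i => (hn i).map f hf, fun i => ?_⟩
  have hd : ((S i.castSucc).map f).relIndex ((S i.succ).map f) ∣ (S i.castSucc).relIndex (S i.succ) := by
    rw [Subgroup.relIndex_map_map]
    haveI := hn i.castSucc
    have e : S i.succ ⊔ f.ker = S i.succ ⊔ (S i.castSucc ⊔ f.ker) := by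
      rw [← sup_assoc, sup_eq_left.mpr (hm (Fin.castSucc_le_succ i))]
    rw [e, Subgroup.relIndex_sup_right]
    exact Subgroup.relIndex_dvd_of_le_left _ le_sup_left
  rcases hf' i with ⟨m, hm'⟩ | hc
  · left
    obtain ⟨j, -, hj⟩ := (Nat.dvd_prime_pow Fact.out).mp (hm' ▸ hd)
    exact ⟨j, hj⟩
  · exact Or.inr (hc.coprime_dvd_left hd)

theorem relIndex_dvd_relIndex_right {N D L : Subgroup G} [N.Normal] (h : D ≤ L) :
    N.relIndex D ∣ N.relIndex L := by
  rw [← Subgroup.relIndex_sup_right (H := D) (K := N), ← Subgroup.relIndex_sup_right (H := L) (K := N)]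
  exact Dvd.intro _ (Subgroup.relIndex_mul_relIndex N (D ⊔ N) (L ⊔ N) le_sup_right (sup_le_sup_right h N))

theorem eq_of_central_coprime_index [Finite G] [Fact p.Prime] {E : Subgroup G}
    (hE : IsPGroup p E) (hc : E ≤ Subgroup.center G) (hi : E.index.Coprime p)
    (hO : pPrimeCore p G = ⊥) : E = ⊤ := by
  haveI : E.Normal := ⟨fun x hx g => by
    rw [Subgroup.mem_center_iff.mp (hc hx) g, mul_inv_cancel_right]; exact hx⟩
  obtain ⟨k, hk⟩ := IsPGroup.iff_card.mp hE
  obtain ⟨K, hK⟩ := Subgroup.exists_right_complement'_of_coprime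
    (N := E) (by rw [hk]; exact Nat.Coprime.pow_left _ hi.symm)
  have hsup := hK.sup_eq_top
  haveI : K.Normal := by
    rw [← Subgroup.normalizer_eq_top_iff, ← top_le_iff, ← hsup]
    refine sup_le ?_ Subgroup.le_normalizer
    exact hc.trans (Subgroup.center_le_normalizer _)
  have hKcard : Nat.card K = E.index := by
    have h1 := hK.card_mul
    rw [← E.card_mul_index] at h1
    exact Nat.eq_of_mul_eq_mul_left Nat.card_pos h1
  have : K ≤ pPrimeCore p G := le_pPrimeCore_of inferInstance (hKcard ▸ hi)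
  rw [hO, le_bot_iff] at this
  rw [this, sup_bot_eq] at hsup
  exact hsup

/-- Hall–Higman 1.2.3. -/
theorem centralizer_pCore_le_self [Finite G] [Fact p.Prime] (hs : IsPSolvable p G)
    (hO : pPrimeCore p G = ⊥) : centralizer (pCore p G : Set G) ≤ pCore p G := by
  obtain ⟨n, S, h0, hl, hm, hn, hf⟩ := hs
  set Q := pCore p G with hQ
  set C := centralizer (Q : Set G) with hC
  haveI : Q.Normal := pCore_normal p G
  haveI : C.Normal := inferInstance
  suffices h : ∀ i, S i ⊓ C ≤ Q by simpa [hl] using h (Fin.last n)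
  refine Fin.induction ?_ ?_
  · simp [h0]
  intro i hi
  haveI := hn i.castSucc
  haveI := hn i.succ
  set D := S i.succ ⊓ C with hD
  haveI : D.Normal := inferInstance
  set E := S i.castSucc ⊓ C with hE
  have hED : E ≤ D := inf_le_inf_right _ (hm (Fin.castSucc_le_succ i))
  have hEp : IsPGroup p E := (pCore_pgroup p G).to_le hi
  have hrel : E.relIndex D ∣ (S i.castSucc).relIndex (S i.succ) := by
    have h1 : E.relIndex D = (S i.castSucc).relIndex D := by
      rw [← Subgroup.inf_relIndex_right (S i.castSucc) D]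
      congr 1
      rw [hE, hD, ← inf_assoc, inf_eq_left.mpr (hm (Fin.castSucc_le_succ i))]
    rw [h1]
    exact relIndex_dvd_relIndex_right inf_le_left
  have hcardD : Nat.card D = Nat.card E * E.relIndex D := by
    have h := Subgroup.relIndex_mul_relIndex ⊥ E D bot_le hED
    simpa [Subgroup.relIndex_bot_left] using h.symm
  rcases hf i with ⟨m, hm'⟩ | hc
  · obtain ⟨j, -, hj⟩ := (Nat.dvd_prime_pow Fact.out).mp (hm' ▸ hrel)
    obtain ⟨k, hk⟩ := IsPGroup.iff_card.mp hEp
    exact le_pCore_of inferInstance (IsPGroup.of_card (n := k + j) (by rw [hcardD, hk, hj, pow_add]))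
  · have hOD : pPrimeCore p D = ⊥ := by
      have h := CfsgLib.Solvable.map_subtype_pPrimeCore_le (p := p) D
      rw [hO, le_bot_iff, Subgroup.map_eq_bot_iff_of_injective _ D.subtype_injective] at h
      exact h
    have htop : E.subgroupOf D = ⊤ := by
      refine eq_of_central_coprime_index (hEp.comap_subtype) ?_
        (Nat.Coprime.coprime_dvd_left hrel hc) hOD
      intro x hx
      rw [Subgroup.mem_center_iff]
      intro y
      apply Subtype.ext
      exact (Subgroup.mem_centralizer_iff.mp y.2.2 (x : G) (hi hx)).symm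
    rw [Subgroup.subgroupOf_eq_top] at htop
    exact htop.trans hi

theorem commutator_ne_self_of_pgroup [Finite G] [Fact p.Prime] {R P : Subgroup G}
    (hR : IsPGroup p R) (hP : IsPGroup p P) (hn : P ≤ normalizer (R : Set G)) (hR1 : R ≠ ⊥) :
    ⁅R, P⁆ ≠ R := by
  intro heq
  have hK : IsPGroup p ↥(R ⊔ P) := IsPGroup.to_sup_of_normal_left' hR hP hn
  have h : ∀ k, R ≤ (R ⊔ P).lowerCentralSeries k := by
    intro k
    induction k with
    | zero => exact le_sup_left
    | succ k ih =>
      rw [Subgroup.lowerCentralSeries_succ]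
      calc R = ⁅R, P⁆ := heq.symm
        _ ≤ _ := Subgroup.commutator_mono ih le_sup_right
  haveI := hK.isNilpotent
  obtain ⟨k, hk⟩ := (Subgroup.isNilpotent_iff_lowerCentralSeries (S := R ⊔ P)).mp inferInstance
  exact hR1 (le_bot_iff.mp (hk ▸ h k))

/-- Thompson's `P × Q` lemma, element form. -/
theorem commute_of_pxq [Finite G] [Fact p.Prime] {P Q : Subgroup G} {x : G}
    (hP : IsPGroup p P) (hQ : IsPGroup p Q) (hPQ : P ≤ normalizer (Q : Set G))
    (hxQ : x ∈ normalizer (Q : Set G)) (hxP : x ∈ centralizer (P : Set G))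
    (hx : (orderOf x).Coprime p) (hfix : Q ⊓ centralizer (P : Set G) ≤ centralizer {x}) :
    Q ≤ centralizer {x} := by
  suffices h : ∀ m, ∀ R : Subgroup G, Nat.card R ≤ m → R ≤ Q → P ≤ normalizer (R : Set G) →
      x ∈ normalizer (R : Set G) → R ≤ centralizer {x} from
    h _ Q le_rfl le_rfl hPQ hxQ
  intro m
  induction m using Nat.strong_induction_on with
  | _ m ih =>
    intro R hRm hRQ hRP hRx
    rcases eq_or_ne R ⊥ with rfl | hR1
    · exact bot_le
    set R' := ⁅R, P⁆ with hR'
    have hR'le : R' ≤ R := by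
      rw [hR', Subgroup.commutator_le]
      intro r hr a ha
      have := ((Subgroup.mem_normalizer_iff).mp (hRP ha) r⁻¹).mp (R.inv_mem hr)
      simpa [commutatorElement_def, mul_assoc] using R.mul_mem hr this
    have hR'lt : Nat.card R' < Nat.card R :=
      (Subgroup.card_le_of_le hR'le).lt_of_ne fun he =>
        commutator_ne_self_of_pgroup (hQ.to_le hRQ) hP hRP hR1
          (Subgroup.eq_of_le_of_card_ge hR'le he.ge)
    have hRx' : x ∈ normalizer (R' : Set G) := by
      rw [Subgroup.mem_normalizer_iff_map_conj_eq, hR', Subgroup.map_commutator,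
        Subgroup.mem_normalizer_iff_map_conj_eq.mp hRx,
        Subgroup.mem_normalizer_iff_map_conj_eq.mp (centralizer_le_normalizer _ hxP)]
    have hRP' : P ≤ normalizer (R' : Set G) := normalizer_commutator_ge_right _ _
    have hfix' : R' ≤ centralizer {x} :=
      ih _ (hR'lt.trans_le hRm) R' le_rfl (hR'le.trans hRQ) hRP' hRx'
    have hb : ⁅⁅zpowers x, R⁆, P⁆ = ⊥ := by
      apply Subgroup.commutator_commutator_eq_bot_of_rotate
      · rw [Subgroup.commutator_eq_bot_iff_le_centralizer, Subgroup.zpowers_eq_closure,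
          Subgroup.centralizer_closure]
        exact hfix'
      · rw [(Subgroup.commutator_eq_bot_iff_le_centralizer (H₁ := P) (H₂ := zpowers x)).mpr, Subgroup.commutator_bot_left]
        rw [Subgroup.le_centralizer_iff, Subgroup.zpowers_le]
        exact hxP
    rw [Subgroup.commutator_eq_bot_iff_le_centralizer] at hb
    intro r hr
    rw [Subgroup.mem_centralizer_singleton_iff]
    have hc : ⁅x, r⁆ ∈ centralizer (P : Set G) :=
      hb (Subgroup.commutator_mem_commutator (Subgroup.mem_zpowers x) hr)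
    have hcR : ⁅x, r⁆ ∈ R := by
      have := ((Subgroup.mem_normalizer_iff).mp hRx r).mp hr
      simpa [commutatorElement_def] using R.mul_mem this (R.inv_mem hr)
    set c := ⁅x, r⁆ with hcdef
    have hcx : x * c * x⁻¹ = c := by
      have := Subgroup.mem_centralizer_singleton_iff.mp (hfix ⟨hRQ hcR, hc⟩)
      rw [← this, mul_inv_cancel_right]
    have hpow : ∀ k : ℕ, x ^ k * r * (x ^ k)⁻¹ = c ^ k * r := by
      intro k
      induction k with
      | zero => simp
      | succ k ihk =>
        calc x ^ (k + 1) * r * (x ^ (k + 1))⁻¹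
            = x * (x ^ k * r * (x ^ k)⁻¹) * x⁻¹ := by rw [pow_succ']; group
          _ = x * (c ^ k * r) * x⁻¹ := by rw [ihk]
          _ = (x * c ^ k * x⁻¹) * (x * r * x⁻¹) := by group
          _ = c ^ k * (c * r) := by
              rw [← conj_pow, hcx]; congr 1; rw [hcdef, commutatorElement_def]; group
          _ = c ^ (k + 1) * r := by rw [pow_succ]; group
    have hco : c ^ orderOf x = 1 := by
      have := hpow (orderOf x)
      rw [pow_orderOf_eq_one] at this
      simpa using this
    obtain ⟨j, hj⟩ := hQ ⟨c, hRQ hcR⟩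
    have hcj : c ^ p ^ j = 1 := congrArg Subtype.val hj
    have h1 : c ^ Nat.gcd (orderOf x) (p ^ j) = 1 := pow_gcd_eq_one.mpr ⟨hco, hcj⟩
    rw [Nat.Coprime.gcd_eq_one (Nat.Coprime.pow_right _ hx), pow_one] at h1
    rw [hcdef, commutatorElement_eq_one_iff_mul_comm] at h1
    exact h1.symm

theorem isPGroup_of_coprime_order_trivial [Finite G] [Fact p.Prime] {D : Subgroup G}
    (h : ∀ x ∈ D, (orderOf x).Coprime p → x = 1) : IsPGroup p D := by
  rintro ⟨x, hx⟩
  obtain ⟨k, m, hm, he⟩ := Nat.exists_eq_pow_mul_and_not_dvd (orderOf_pos x).ne' p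
    (Nat.Prime.ne_one Fact.out)
  refine ⟨k, Subtype.ext (h _ (D.pow_mem hx _) ?_)⟩
  rw [SubgroupClass.coe_pow, orderOf_pow, he, Nat.gcd_mul_right_left, Nat.mul_div_cancel_left _
    (Nat.pos_of_ne_zero (pow_ne_zero _ (Nat.Prime.ne_zero Fact.out)))]
  exact ((Nat.Prime.coprime_iff_not_dvd Fact.out).mpr hm).symm

end CfsgLib.PLoc
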