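import Cfsg.Agent.Lib.Invol.BaerSuzuki
import Cfsg.Agent.Lib.PLocal.QuadLinear
import Cfsg.Agent.Lib.Solvable.Core

/-! Baer–Suzuki reduction to two conjugate quadratic elements. -/

set_option autoImplicit false

namespace CfsgLib.PLocal

variable {G : Type*} [Group G] [Finite G] {p : ℕ} [hp : Fact p.Prime]

theorem exists_pair_not_isPGroup {H : Subgroup G} {a : G} (haH : a ∈ H)
    (hna : a ∉ (Cfsg.pCore p H).map H.subtype) :
    ∃ g ∈ H, ¬ IsPGroup p (Subgroup.closure ({a, g * a * g⁻¹} : Set G)) := by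
  by_contra hcon
  push Not at hcon
  apply hna
  obtain ⟨N, hN, hNp, haN⟩ := CfsgLib.Invol.exists_normal_pGroup_of_pairs (p := p) (⟨a, haH⟩ : H)
    (fun g => by
      refine IsPGroup.of_equiv ?_ (Subgroup.equivMapOfInjective _ _ H.subtype_injective).symm
      rw [MonoidHom.map_closure, Set.image_insert_eq, Set.image_singleton]
      exact hcon g g.2)
  exact ⟨⟨a, haH⟩, CfsgLib.Solvable.le_pCore hN hNp haN, rfl⟩

/-- A faithful action which is not `p`-stable forces non-abelian Sylow 2-subgroups. -/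
theorem not_pStable_sylow_two (hp2 : p ≠ 2) {V H : Subgroup G} (hV : Cfsg.IsElementaryAbelian p V)
    (hHV : H ≤ Subgroup.normalizer (V : Set G)) (hf : H ⊓ Subgroup.centralizer (V : Set G) = ⊥)
    {a : G} (haH : a ∈ H) (hq : QuadElt V a) (hna : a ∉ (Cfsg.pCore p H).map H.subtype)
    (T : Sylow 2 H) : ¬ IsMulCommutative T := by
  intro hT
  obtain ⟨g, hg, hnp⟩ := exists_pair_not_isPGroup haH hna
  set X := Subgroup.closure ({a, g * a * g⁻¹} : Set G) with hX
  have hXH : X ≤ H := by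
    rw [hX, Subgroup.closure_le]
    rintro x (rfl | rfl)
    exacts [haH, H.mul_mem (H.mul_mem hg haH) (H.inv_mem hg)]
  have hgen : Subgroup.closure ({⟨a, Subgroup.subset_closure (by simp)⟩,
      ⟨g * a * g⁻¹, Subgroup.subset_closure (by simp)⟩} : Set X) = ⊤ := by
    apply Subgroup.map_injective X.subtype_injective
    rw [MonoidHom.map_closure, ← MonoidHom.range_eq_map, Subgroup.range_subtype, Set.image_insert_eq,
      Set.image_singleton]
    rfl
  obtain ⟨T₀⟩ : Nonempty (Sylow 2 X) := inferInstance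
  refine two_quad_sylow_two_not_comm (p := p) hp2 hV (hXH.trans hHV)
    (le_bot_iff.mp ((inf_le_inf_right _ hXH).trans hf.le)) hgen hq
    (quadElt_conj (hHV hg) hq) hnp T₀ ?_
  obtain ⟨T₁, hT₁⟩ := (T₀.2.map (Subgroup.inclusion hXH)).exists_le_sylow
  obtain ⟨h, hh⟩ := MulAction.exists_smul_eq H T T₁
  rw [← hh, Sylow.coe_subgroup_smul, Subgroup.pointwise_smul_def] at hT₁
  refine Subgroup.le_centralizer_iff_isMulCommutative.mp fun x hx y hy => ?_
  obtain ⟨u, hu, hux⟩ := hT₁ (Subgroup.mem_map_of_mem _ hx)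
  obtain ⟨w, hw, hwy⟩ := hT₁ (Subgroup.mem_map_of_mem _ hy)
  apply Subgroup.inclusion_injective hXH
  rw [map_mul, map_mul, ← hux, ← hwy]
  exact ((commute_of_mem_comm hT hw hu).map (MulAut.conj h).toMonoidHom).eq

end CfsgLib.PLocal
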