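import Cfsg.Agent.Lib.PLocal.SL2Three
import Cfsg.Agent.Lib.PLocal.BaerQuad

/-! Quadratic elements in `p`-solvable groups, `p` odd: `p = 3` and an `SL(2,3)` section. -/

set_option autoImplicit false

open scoped commutatorElement

namespace CfsgLib.PLocal

variable {G : Type*} [Group G] [Finite G] {p : ℕ} [hp : Fact p.Prime]

/-- A `p`-solvable group generated by two quadratic elements which is not a `p`-group. -/
theorem pair_section (hp2 : p ≠ 2) {V : Subgroup G} (hV : Cfsg.IsElementaryAbelian p V) {a b : G}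
    {H : Subgroup G} (hH : H = Subgroup.closure {a, b}) (hHV : H ≤ Subgroup.normalizer (V : Set G))
    (hf : H ⊓ Subgroup.centralizer (V : Set G) = ⊥) (ha : QuadElt V a) (hb : QuadElt V b)
    (hnp : ¬ IsPGroup p H) (hs : Cfsg.IsPSolvable p H) :
    p = 3 ∧ ∃ (K L : Subgroup G) (hL : (L.subgroupOf K).Normal), K ≤ H ∧
      Nonempty ((K ⧸ L.subgroupOf K) ≃* Matrix.SpecialLinearGroup (Fin 2) (ZMod 3)) := by
  subst hH
  set H := Subgroup.closure ({a, b} : Set G)
  let a' : H := ⟨a, Subgroup.subset_closure (by simp)⟩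
  let b' : H := ⟨b, Subgroup.subset_closure (by simp)⟩
  have hgen : Subgroup.closure ({a', b'} : Set H) = ⊤ := by
    apply Subgroup.map_injective H.subtype_injective
    rw [MonoidHom.map_closure, ← MonoidHom.range_eq_map, Subgroup.range_subtype, Set.image_insert_eq,
      Set.image_singleton]
    rfl
  obtain ⟨φ, hφ, hφa, hφb⟩ := exists_hom_sl2_of_quad hV hHV hf hgen ha hb hnp
  haveI : CharP (AlgebraicClosure (ZMod p)) p :=
    charP_of_injective_algebraMap (algebraMap (ZMod p) (AlgebraicClosure (ZMod p))).injective p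
  haveI : Finite φ.range := Finite.of_surjective φ.rangeRestrict φ.rangeRestrict_surjective
  have hgen' : Subgroup.closure ({φ.rangeRestrict a', φ.rangeRestrict b'} : Set φ.range) = ⊤ := by
    rw [show ({φ.rangeRestrict a', φ.rangeRestrict b'} : Set φ.range) =
        φ.rangeRestrict '' {a', b'} by rw [Set.image_insert_eq, Set.image_singleton],
      ← MonoidHom.map_closure, hgen, Subgroup.map_top_of_surjective _ φ.rangeRestrict_surjective]
  obtain ⟨h3, X₀, hX₀, ⟨e⟩⟩ := sl2_three_of_pSolvable hp2 φ.range hgen'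
    (Subtype.ext hφa) (Subtype.ext hφb) hφ
    (CfsgLib.PLoc.isPSolvable_of_surjective φ.rangeRestrict_surjective hs)
  exact ⟨h3, section_of_hom φ X₀ hX₀ e⟩

/-- A `p`-separable group acting faithfully and non-`p`-stably. -/
theorem pSolvable_not_pStable_section (hp2 : p ≠ 2) {V H : Subgroup G}
    (hV : Cfsg.IsElementaryAbelian p V) (hHV : H ≤ Subgroup.normalizer (V : Set G))
    (hf : H ⊓ Subgroup.centralizer (V : Set G) = ⊥) (hs : Cfsg.IsPSolvable p H) {a : G} (haH : a ∈ H)
    (hq : QuadElt V a) (hna : a ∉ (Cfsg.pCore p H).map H.subtype) :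
    p = 3 ∧ ∃ (K L : Subgroup G) (hL : (L.subgroupOf K).Normal), K ≤ H ∧
      Nonempty ((K ⧸ L.subgroupOf K) ≃* Matrix.SpecialLinearGroup (Fin 2) (ZMod 3)) := by
  obtain ⟨g, hg, hnp⟩ := exists_pair_not_isPGroup haH hna
  have hXH : Subgroup.closure ({a, g * a * g⁻¹} : Set G) ≤ H := by
    rw [Subgroup.closure_le]
    rintro x (rfl | rfl)
    exacts [haH, H.mul_mem (H.mul_mem hg haH) (H.inv_mem hg)]
  obtain ⟨h3, K, L, hL, hK, he⟩ := pair_section hp2 hV rfl (hXH.trans hHV)
    (le_bot_iff.mp ((inf_le_inf_right _ hXH).trans hf.le)) hq (quadElt_conj (hHV hg) hq) hnp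
    (isPSolvable_of_injective (Subgroup.inclusion_injective hXH) hs)
  exact ⟨h3, K, L, hL, hK.trans hXH, he⟩

/-- A quadratic element acting nontrivially on a normal `p'`-subgroup. -/
theorem quad_pprime_section (hp2 : p ≠ 2) {V H : Subgroup G}
    (hV : Cfsg.IsElementaryAbelian p V) (hHV : H ≤ Subgroup.normalizer (V : Set G))
    (hf : H ⊓ Subgroup.centralizer (V : Set G) = ⊥) {a : G} (haH : a ∈ H) (hq : QuadElt V a)
    {Q : Subgroup G} (hQH : Q ≤ H) (haQ : a ∈ Subgroup.normalizer (Q : Set G))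
    (hQ : (Nat.card Q).Coprime p) (hQa : ⁅Q, Subgroup.zpowers a⁆ ≠ ⊥) :
    p = 3 ∧ ∃ (K L : Subgroup G) (hL : (L.subgroupOf K).Normal), K ≤ H ∧
      Nonempty ((K ⧸ L.subgroupOf K) ≃* Matrix.SpecialLinearGroup (Fin 2) (ZMod 3)) := by
  set J := Q ⊔ Subgroup.zpowers a with hJ
  have haJ : a ∈ J := Subgroup.mem_sup_right (Subgroup.mem_zpowers a)
  have hJH : J ≤ H := sup_le hQH ((Subgroup.zpowers_le).mpr haH)
  haveI hQn : (Q.subgroupOf J).Normal :=
    (Subgroup.normal_subgroupOf_iff_le_normalizer le_sup_left).mpr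
      (sup_le Subgroup.le_normalizer ((Subgroup.zpowers_le).mpr haQ))
  have hQc : (Nat.card (Q.subgroupOf J)).Coprime p := by
    rwa [Nat.card_congr (Subgroup.subgroupOfEquivOfLe le_sup_left).toEquiv]
  have hap : a ^ p = 1 := by
    rw [← Subgroup.mem_bot, ← hf]
    exact ⟨H.pow_mem haH p, quadratic_pow_mem_centralizer (p := p) hV
      ((Subgroup.zpowers_le).mpr (hHV haH)) (bot_of_quadElt hq) (Subgroup.mem_zpowers a)⟩
  have hquot : IsPGroup p (J ⧸ Q.subgroupOf J) := by
    intro q
    refine ⟨1, ?_⟩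
    induction q using QuotientGroup.induction_on with
    | _ x =>
      have key : ∀ y (hy : y ∈ J), ((⟨y, hy⟩ : J) : J ⧸ Q.subgroupOf J) ∈
          Subgroup.zpowers ((⟨a, haJ⟩ : J) : J ⧸ Q.subgroupOf J) := by
        intro y hy
        have hy' := hy
        rw [hJ, Subgroup.sup_eq_closure] at hy'
        revert hy
        induction hy' using Subgroup.closure_induction with
        | mem y hy =>
          intro hy'
          rcases hy with hy | hy
          · rw [(QuotientGroup.eq_one_iff (⟨y, hy'⟩ : J)).mpr (Subgroup.mem_subgroupOf.mpr hy)]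
            exact one_mem _
          · obtain ⟨n, rfl⟩ := hy
            exact ⟨n, rfl⟩
        | one => intro hy'; exact one_mem _
        | mul y z hy hz ihy ihz =>
          intro hy'
          have hy1 : y ∈ J := by rw [hJ, Subgroup.sup_eq_closure]; exact hy
          have hz1 : z ∈ J := by rw [hJ, Subgroup.sup_eq_closure]; exact hz
          exact Subgroup.mul_mem _ (ihy hy1) (ihz hz1)
        | inv y hy ihy =>
          intro hy'
          have hy1 : y ∈ J := by rw [hJ, Subgroup.sup_eq_closure]; exact hy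
          exact Subgroup.inv_mem _ (ihy hy1)
      obtain ⟨n, hn⟩ := key x x.2
      rw [pow_one, show ((x : J) : J ⧸ Q.subgroupOf J) = _ from hn.symm, ← zpow_natCast, ← zpow_mul,
        mul_comm, zpow_mul, zpow_natCast, ← QuotientGroup.mk_pow,
        show (⟨a, haJ⟩ : J) ^ p = 1 from Subtype.ext hap, QuotientGroup.mk_one, one_zpow]
  have hs : Cfsg.IsPSolvable p J := isPSolvable_of_normal_two_step _ hQc hquot
  have hna : a ∉ (Cfsg.pCore p J).map J.subtype := by
    rintro ⟨y, hxc, hy⟩
    obtain rfl : y = ⟨a, haJ⟩ := Subtype.ext hy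
    apply hQa
    rw [Subgroup.commutator_eq_bot_iff_le_centralizer, Subgroup.zpowers_eq_closure,
      Subgroup.centralizer_closure]
    intro q hq'
    rw [Subgroup.mem_centralizer_singleton_iff]
    haveI := CfsgLib.Solvable.pCore_normal p J
    have hmem : (⟨q, Subgroup.mem_sup_left hq'⟩ : J) ∈ Q.subgroupOf J := Subgroup.mem_subgroupOf.mpr hq'
    have h1 := Subgroup.commutator_le_inf (H₁ := Q.subgroupOf J) (H₂ := Cfsg.pCore p J)
      (Subgroup.commutator_mem_commutator hmem hxc)
    have h2 : Q.subgroupOf J ⊓ Cfsg.pCore p J = ⊥ := by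
      rw [inf_comm]; exact CfsgLib.PLoc.disjoint_of_pgroup_coprime (CfsgLib.Solvable.pCore_isPGroup p J) hQc
    rw [h2, Subgroup.mem_bot] at h1
    exact congrArg Subtype.val (commutatorElement_eq_one_iff_mul_comm.mp h1)
  obtain ⟨h3, K, L, hL, hK, he⟩ := pSolvable_not_pStable_section hp2 hV (hJH.trans hHV)
    (le_bot_iff.mp ((inf_le_inf_right _ hJH).trans hf.le)) hs haJ hq hna
  exact ⟨h3, K, L, hL, hK.trans hJH, he⟩

end CfsgLib.PLocal
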