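import Mathlib.GroupTheory.SemidirectProduct
import Cfsg.Agent.Lib.PLocal.QuadSection
import Cfsg.Agent.Lib.PLocal.Thompson
import Cfsg.Agent.Lib.Transfer.PGroup

/-! `p`-stability in the action sense from abelian Sylow 2-subgroups or from `p`-solvability, `p ≥ 5`. -/

set_option autoImplicit false

open scoped commutatorElement

namespace CfsgLib.PLocal

/-- The two group-theoretic conditions that force `p`-stable actions. -/
def StableCond (p : ℕ) (G : Type*) [Group G] : Prop :=
  (∀ T : Sylow 2 G, IsMulCommutative T) ∨ (5 ≤ p ∧ Cfsg.IsPSolvable p G)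

variable {p : ℕ}

theorem stableCond_of_surjective [hp : Fact p.Prime] {G H : Type*} [Group G] [Finite G] [Group H] {f : G →* H}
    (hf : Function.Surjective f) (h : StableCond p G) : StableCond p H := by
  rcases h with h | ⟨h5, hs⟩
  · refine Or.inl fun T => ?_
    obtain ⟨S, rfl⟩ := Sylow.mapSurjective_surjective hf 2 T
    refine Subgroup.le_centralizer_iff_isMulCommutative.mp ?_
    rw [Sylow.coe_mapSurjective]
    rintro _ ⟨x, hx, rfl⟩ _ ⟨y, hy, rfl⟩
    rw [← map_mul, ← map_mul, (commute_of_mem_comm (h S) hy hx).eq]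
  · exact Or.inr ⟨h5, CfsgLib.PLoc.isPSolvable_of_surjective hf hs⟩

theorem stableCond_subgroup [hp : Fact p.Prime] {G : Type*} [Group G] [Finite G] (K : Subgroup G)
    (h : StableCond p G) : StableCond p K := by
  rcases h with h | ⟨h5, hs⟩
  · refine Or.inl fun T => ?_
    obtain ⟨S, hS⟩ := T.exists_comap_subtype_eq
    refine Subgroup.le_centralizer_iff_isMulCommutative.mp fun x hx y hy => ?_
    rw [← hS] at hx hy
    exact Subtype.ext (commute_of_mem_comm (h S) hy hx).eq
  · exact Or.inr ⟨h5, isPSolvable_subgroup hs K⟩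

/-- Quadratic elements of a group with a faithful action on an abelian group of exponent `p`. -/
theorem quad_mem_pCore [hp : Fact p.Prime] (hp2 : p ≠ 2) {Q W : Type*} [Group Q] [Group W] [Finite Q]
    [Finite W] (hc : StableCond p Q) (φ : Q →* MulAut W) (hφ : Function.Injective φ)
    (hW : Cfsg.IsElementaryAbelian p (⊤ : Subgroup W)) {a : Q}
    (ha : ∀ w : W, φ a (φ a w * w⁻¹) = φ a w * w⁻¹) : a ∈ Cfsg.pCore p Q := by
  classical
  haveI : Finite (W ⋊[φ] Q) := Finite.of_equiv _ SemidirectProduct.equivProd.symm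
  set V : Subgroup (W ⋊[φ] Q) := (SemidirectProduct.inl : W →* W ⋊[φ] Q).range with hV
  set H : Subgroup (W ⋊[φ] Q) := (SemidirectProduct.inr : Q →* W ⋊[φ] Q).range with hH
  have hinl : Function.Injective (SemidirectProduct.inl : W →* W ⋊[φ] Q) := SemidirectProduct.inl_injective
  have hinr : Function.Injective (SemidirectProduct.inr : Q →* W ⋊[φ] Q) := SemidirectProduct.inr_injective
  have hVEA : Cfsg.IsElementaryAbelian p V := by
    rw [hV, MonoidHom.range_eq_map]
    exact isEA_map hW _
  have hconj : ∀ g w, (SemidirectProduct.inr g : W ⋊[φ] Q) * SemidirectProduct.inl w *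
      (SemidirectProduct.inr g)⁻¹ = SemidirectProduct.inl (φ g w) := by
    intro g w
    rw [SemidirectProduct.inl_aut, map_inv]
  have hHV : H ≤ Subgroup.normalizer (V : Set (W ⋊[φ] Q)) := by
    rw [Subgroup.le_normalizer_iff]
    rintro _ ⟨g, rfl⟩ _ ⟨w, rfl⟩
    exact ⟨φ g w, (hconj g w).symm⟩
  have hf : H ⊓ Subgroup.centralizer (V : Set (W ⋊[φ] Q)) = ⊥ := by
    rw [eq_bot_iff]
    rintro _ ⟨⟨g, rfl⟩, hg⟩
    rw [Subgroup.mem_bot]
    have h1 : φ g = 1 := by
      ext w
      apply hinl
      rw [← hconj g w, ← hg (SemidirectProduct.inl w) ⟨w, rfl⟩, mul_inv_cancel_right]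
      rfl
    rw [hφ (h1.trans (map_one φ).symm), map_one]
  let e : Q ≃* H := MonoidHom.ofInjective hinr
  have hq : QuadElt V (SemidirectProduct.inr a : W ⋊[φ] Q) := by
    rintro _ ⟨w, rfl⟩
    rw [commutatorElement_def, hconj, ← map_inv, ← map_mul, hconj, ha]
  by_contra hna
  have hna' : (SemidirectProduct.inr a : W ⋊[φ] Q) ∉ (Cfsg.pCore p H).map H.subtype := by
    rintro ⟨y, hy, hye⟩
    apply hna
    have he : y = e a := Subtype.ext hye
    rw [he, ← CfsgLib.Solvable.map_pCore_mulEquiv (p := p) e] at hy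
    exact (Subgroup.mem_map_iff_mem e.injective).mp hy
  rcases stableCond_of_surjective (f := e.toMonoidHom) e.surjective hc with hab | ⟨h5, hs⟩
  · obtain ⟨T⟩ : Nonempty (Sylow 2 H) := inferInstance
    exact not_pStable_sylow_two hp2 hVEA hHV hf ⟨a, rfl⟩ hq hna' T (hab T)
  · obtain ⟨h3, -⟩ := pSolvable_not_pStable_section hp2 hVEA hHV hf hs ⟨a, rfl⟩ hq hna'
    omega

theorem isPStableOn_of_cond [hp : Fact p.Prime] (hp2 : p ≠ 2) {G : Type*} [Group G] [Finite G]
    (hc : StableCond p G) (V : Subgroup G) [V.Normal] (hV : Cfsg.IsElementaryAbelian p V) :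
    Cfsg.IsPStableOn p V := by
  intro a ha
  set C := Subgroup.centralizer (V : Set G) with hC
  have hker : C ≤ (MulAut.conjNormal : G →* MulAut V).ker := by
    intro g hg
    rw [MonoidHom.mem_ker]
    ext v
    rw [MulAut.conjNormal_apply, ← hg (v : G) v.2, mul_inv_cancel_right]
    rfl
  let φ : G ⧸ C →* MulAut V := QuotientGroup.lift C MulAut.conjNormal hker
  have hφ : Function.Injective φ := by
    rw [← MonoidHom.ker_eq_bot_iff, eq_bot_iff]
    intro q hq
    induction q using QuotientGroup.induction_on with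
    | _ g =>
      rw [Subgroup.mem_bot, QuotientGroup.eq_one_iff]
      intro v hv
      have := congrArg (fun f : MulAut V => ((f ⟨v, hv⟩ : V) : G)) hq
      simp only [φ, QuotientGroup.lift_mk, MulAut.conjNormal_apply, MulAut.one_apply] at this
      exact (mul_inv_eq_iff_eq_mul.mp this).symm
  have hW : Cfsg.IsElementaryAbelian p (⊤ : Subgroup V) := by
    apply isEA_of_map V.subtype_injective
    rwa [← MonoidHom.range_eq_map, Subgroup.range_subtype]
  refine quad_mem_pCore hp2 (stableCond_of_surjective (QuotientGroup.mk'_surjective C) hc) φ hφ hW ?_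
  intro w
  have h := quadElt_of_bot ha _ w.2
  rw [commutatorElement_def] at h
  apply Subtype.ext
  simp only [φ, QuotientGroup.lift_mk, MulAut.conjNormal_apply, Subgroup.coe_mul, Subgroup.coe_inv]
  exact h

theorem isActionPStable_of_cond [hp : Fact p.Prime] (hp2 : p ≠ 2) {G : Type*} [Group G] [Finite G]
    (hc : StableCond p G) : Cfsg.IsActionPStable p G := by
  refine ⟨fun V _ hV => isPStableOn_of_cond hp2 hc V hV, ?_, ?_⟩
  · set O := Cfsg.pCore p G with hO
    haveI : O.Normal := CfsgLib.Solvable.pCore_normal p G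
    set N := (frattini O).map O.subtype with hN
    haveI hNn : N.Normal := inferInstance
    intro a ha
    set π := QuotientGroup.mk' N with hπ
    have hV : Cfsg.IsElementaryAbelian p (O.map π) := by
      refine ⟨Subgroup.le_centralizer_iff_isMulCommutative.mp ?_, ?_⟩
      · rintro _ ⟨x, hx, rfl⟩ _ ⟨y, hy, rfl⟩
        rw [← commutatorElement_eq_one_iff_mul_comm, ← map_commutatorElement, ← MonoidHom.mem_ker,
          hπ, QuotientGroup.ker_mk']
        haveI := (CfsgLib.Solvable.pCore_isPGroup p G).isNilpotent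
        refine ⟨⁅(⟨y, hy⟩ : O), (⟨x, hx⟩ : O)⁆, CfsgLib.Transfer.commutator_le_frattini ?_, rfl⟩
        exact Subgroup.commutator_mem_commutator (Subgroup.mem_top _) (Subgroup.mem_top _)
      · rintro _ ⟨x, hx, rfl⟩
        rw [← map_pow, ← MonoidHom.mem_ker, hπ, QuotientGroup.ker_mk']
        exact ⟨(⟨x, hx⟩ : O) ^ p, CfsgLib.Transfer.pow_mem_frattini (CfsgLib.Solvable.pCore_isPGroup p G) _, rfl⟩
    haveI hVn : (O.map π).Normal :=
      (CfsgLib.Solvable.pCore_normal p G).map π (QuotientGroup.mk'_surjective N)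
    have hq : ⁅⁅O.map π, Subgroup.zpowers (π a)⁆, Subgroup.zpowers (π a)⁆ = ⊥ := by
      rw [← MonoidHom.map_zpowers, ← Subgroup.map_commutator, ← Subgroup.map_commutator,
        Subgroup.map_eq_bot_iff, QuotientGroup.ker_mk']
      exact ha
    have h := isPStableOn_of_cond hp2 (stableCond_of_surjective (QuotientGroup.mk'_surjective N) hc)
      (O.map π) hV (π a) hq
    set C := Subgroup.centralizer (O.map π : Set (G ⧸ N)) with hC
    have hCdef : Cfsg.sectionKernel O N = C.comap π := rfl
    refine ⟨((Cfsg.pCore p ((G ⧸ N) ⧸ C)).comap (QuotientGroup.mk' C)).comap π, ?_, ?_, ?_, h⟩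
    · exact ((CfsgLib.Solvable.pCore_normal p _).comap _).comap _
    · rw [hCdef]
      refine Subgroup.comap_mono fun x hx => ?_
      rw [Subgroup.mem_comap, show QuotientGroup.mk' C x = 1 from (QuotientGroup.eq_one_iff x).mpr hx]
      exact one_mem _
    · obtain ⟨k, hk⟩ := CfsgLib.Solvable.card_pCore (p := p) (G := (G ⧸ N) ⧸ C)
      refine ⟨k, ?_⟩
      rw [hCdef, Subgroup.relIndex_comap, Subgroup.map_comap_eq_self_of_surjective
        (QuotientGroup.mk'_surjective N)]
      have h1 := Subgroup.relIndex_ker (K := (Cfsg.pCore p ((G ⧸ N) ⧸ C)).comap (QuotientGroup.mk' C))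
        (QuotientGroup.mk' C)
      rw [QuotientGroup.ker_mk', Subgroup.map_comap_eq_self_of_surjective (QuotientGroup.mk'_surjective C)] at h1
      exact h1.trans hk
  · intro S V hVn hle
    refine isPStableOn_of_cond hp2 (stableCond_subgroup _ hc) V (isEA_of_map (Subgroup.subtype_injective _) ?_)
    exact isEA_mono (isEA_map (omegaCenter_isEA _) _) hle

end CfsgLib.PLocal
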