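import Mathlib.GroupTheory.Nilpotent
import Mathlib.GroupTheory.Sylow
import Cfsg.Agent.Lib.PLocal.Replacement

/-! `p`-groups acting on `p`-groups, and nontriviality in Timmesfeld replacement. -/

set_option autoImplicit false

open scoped commutatorElement

namespace CfsgLib.PLocal

variable {G : Type*} [Group G] {p : ℕ}

theorem eq_bot_of_commutator_eq_self_pgroup [Finite G] [Fact p.Prime] {W P : Subgroup G}
    (hW : IsPGroup p W) (hP : IsPGroup p P) (hPW : P ≤ Subgroup.normalizer (W : Set G))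
    (h : ⁅W, P⁆ = W) : W = ⊥ := by
  set R := W ⊔ P with hR
  have hRp : IsPGroup p R := hW.to_sup_of_normal_left' hP hPW
  haveI : Group.IsNilpotent R := hRp.isNilpotent
  obtain ⟨n, hn⟩ := (Subgroup.isNilpotent_iff_lowerCentralSeries R).mp inferInstance
  have key : ∀ k, W ≤ R.lowerCentralSeries k := by
    intro k
    induction k with
    | zero => exact le_sup_left
    | succ k ih =>
      rw [Subgroup.lowerCentralSeries_succ, ← h]
      exact Subgroup.commutator_mono ih le_sup_right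
  have := key n
  rw [hn] at this
  exact le_bot_iff.mp this

theorem exists_pSubgroup_same_action [Finite G] [Fact p.Prime] {V A : Subgroup G}
    (hAV : A ≤ Subgroup.normalizer (V : Set G)) (hp : ∀ a ∈ A, a ^ p ∈ Subgroup.centralizer (V : Set G)) :
    ∃ P : Subgroup G, P ≤ A ∧ IsPGroup p P ∧
      (∀ a ∈ A, ∃ x ∈ P, a * x⁻¹ ∈ Subgroup.centralizer (V : Set G)) := by
  classical
  set K : Subgroup A := (Subgroup.centralizer (V : Set G)).subgroupOf A with hK
  haveI hKn : K.Normal := by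
    refine ⟨fun n hn g => ?_⟩
    rw [hK, Subgroup.mem_subgroupOf] at hn ⊢
    intro v hv
    have h1 : (g : G)⁻¹ * v * (g : G) ∈ V := by
      simpa using (Subgroup.mem_normalizer_iff.mp (hAV (A.inv_mem g.2)) v).mp hv
    have h2 := hn _ h1
    simp only [Subgroup.coe_mul, Subgroup.coe_inv]
    calc v * ((g : G) * n * (g : G)⁻¹) = (g : G) * (((g : G)⁻¹ * v * g) * n) * (g : G)⁻¹ := by group
      _ = (g : G) * (n * ((g : G)⁻¹ * v * g)) * (g : G)⁻¹ := by rw [h2]
      _ = (g : G) * n * (g : G)⁻¹ * v := by group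
  have hq : IsPGroup p (A ⧸ K) := by
    intro x
    induction x using QuotientGroup.induction_on with
    | _ a =>
      refine ⟨1, ?_⟩
      rw [pow_one, ← QuotientGroup.mk_pow, QuotientGroup.eq_one_iff, hK, Subgroup.mem_subgroupOf,
        Subgroup.coe_pow]
      exact hp a a.2
  obtain ⟨S⟩ := (inferInstance : Nonempty (Sylow p A))
  refine ⟨(S : Subgroup A).map A.subtype, Subgroup.map_subtype_le _, S.2.map _, ?_⟩
  have htop : (S : Subgroup A).map (QuotientGroup.mk' K) = ⊤ := by
    have h := (S.mapSurjective (QuotientGroup.mk'_surjective K))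
    have hS := (S.mapSurjective (QuotientGroup.mk'_surjective K)).is_maximal' (Q := ⊤)
      (hq.to_subgroup ⊤) le_top
    rw [Sylow.coe_mapSurjective] at hS
    exact hS.symm
  intro a ha
  have : (QuotientGroup.mk ⟨a, ha⟩ : A ⧸ K) ∈ (S : Subgroup A).map (QuotientGroup.mk' K) := by
    rw [htop]; trivial
  obtain ⟨s, hs, hsa⟩ := this
  refine ⟨(s : G), Subgroup.mem_map_of_mem A.subtype hs, ?_⟩
  have h1 := QuotientGroup.eq.mp hsa
  rw [hK, Subgroup.mem_subgroupOf, Subgroup.coe_mul, Subgroup.coe_inv] at h1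
  have h2 := hKn.conj_mem _ (show s⁻¹ * ⟨a, ha⟩ ∈ K by rw [hK, Subgroup.mem_subgroupOf]; simpa using h1) s
  rw [hK, Subgroup.mem_subgroupOf] at h2
  simpa [mul_assoc] using h2

theorem commutator_eq_of_same_action {V A P U : Subgroup G} (hPA : P ≤ A) (hU : U ≤ V)
    (hAV : A ≤ Subgroup.normalizer (V : Set G))
    (h : ∀ a ∈ A, ∃ x ∈ P, a * x⁻¹ ∈ Subgroup.centralizer (V : Set G)) : ⁅U, A⁆ = ⁅U, P⁆ := by
  refine le_antisymm ?_ (Subgroup.commutator_mono le_rfl hPA)
  rw [Subgroup.commutator_le]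
  intro u hu a ha
  obtain ⟨x, hx, hc⟩ := h a ha
  have hconj : x * u⁻¹ * x⁻¹ ∈ V :=
    (Subgroup.mem_normalizer_iff.mp (hAV (hPA hx)) _).mp (V.inv_mem (hU hu))
  have hc' := hc _ hconj
  have : ⁅u, a⁆ = ⁅u, x⁆ := by
    calc ⁅u, a⁆ = u * ((a * x⁻¹) * (x * u⁻¹ * x⁻¹) * (a * x⁻¹)⁻¹) := by
          rw [commutatorElement_def]; group
      _ = ⁅u, x⁆ := by rw [← hc', mul_inv_cancel_right, commutatorElement_def]; group
  rw [this]
  exact Subgroup.commutator_mem_commutator hu hx

theorem commutator_eq_bot_of_sup_fixed [Finite G] [Fact p.Prime] {V A : Subgroup G}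
    (hV : Cfsg.IsElementaryAbelian p V) (hAV : A ≤ Subgroup.normalizer (V : Set G))
    (hp : ∀ a ∈ A, a ^ p ∈ Subgroup.centralizer (V : Set G))
    (h : V ≤ ⁅V, A⁆ ⊔ (V ⊓ Subgroup.centralizer (A : Set G))) : ⁅V, A⁆ = ⊥ := by
  obtain ⟨P, hPA, hPp, hP⟩ := exists_pSubgroup_same_action hAV hp
  set W := ⁅V, A⁆ with hW
  have hWV : W ≤ V := commutator_le_of_le_normalizer hAV
  have h1 : W ≤ ⁅W, A⁆ := by
    conv_lhs => rw [hW]
    rw [Subgroup.commutator_le]
    intro v hv a ha
    have hv' := h hv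
    rw [Subgroup.sup_eq_closure] at hv'
    have : ∀ x, x ∈ Subgroup.closure ((W : Set G) ∪ ↑(V ⊓ Subgroup.centralizer (A : Set G))) →
        x ∈ V ∧ ⁅x, a⁆ ∈ ⁅W, A⁆ := by
      intro x hx
      induction hx using Subgroup.closure_induction with
      | mem x hx =>
        rcases hx with hx | hx
        · exact ⟨hWV hx, Subgroup.commutator_mem_commutator hx ha⟩
        · refine ⟨hx.1, ?_⟩
          rw [commutatorElement_eq_one_iff_mul_comm.mpr (hx.2 a ha).symm]
          exact one_mem _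
      | one => simp [one_mem]
      | mul x y hx hy ihx ihy =>
        refine ⟨V.mul_mem ihx.1 ihy.1, ?_⟩
        have hya : ⁅y, a⁆ ∈ V := hWV (Subgroup.commutator_mem_commutator ihy.1 ha)
        have : ⁅x * y, a⁆ = ⁅y, a⁆ * ⁅x, a⁆ := by
          rw [commutatorElement_mul_left_eq_conj_mul, (commute_of_mem_comm hV.1 ihx.1 hya).eq,
            mul_inv_cancel_right]
        rw [this]
        exact Subgroup.mul_mem _ ihy.2 ihx.2
      | inv x hx ihx =>
        refine ⟨V.inv_mem ihx.1, ?_⟩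
        have hxa : ⁅x, a⁆ ∈ V := hWV (Subgroup.commutator_mem_commutator ihx.1 ha)
        rw [commutatorElement_inv_left, ← commutatorElement_inv x a,
          (commute_of_mem_comm hV.1 (V.inv_mem ihx.1) (V.inv_mem hxa)).eq]
        simpa using (⁅W, A⁆).inv_mem ihx.2
    exact (this v hv').2
  have hWn : A ≤ Subgroup.normalizer (W : Set G) := Subgroup.normalizer_commutator_ge_right _ _
  have h2 : ⁅W, A⁆ = W := le_antisymm (commutator_le_of_le_normalizer hWn) h1
  rw [commutator_eq_of_same_action hPA hWV hAV hP] at h2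
  exact eq_bot_of_commutator_eq_self_pgroup (isEA_isPGroup (isEA_mono hV hWV)) hPp
    (hPA.trans hWn) h2

theorem replacement_nontrivial [Finite G] [Fact p.Prime] {V A U : Subgroup G}
    (hV : Cfsg.IsElementaryAbelian p V) (hAV : A ≤ Subgroup.normalizer (V : Set G))
    (hA : Cfsg.IsBestOffenderOn p V A) (hU : U ≤ V) (hne : ⁅V, A⁆ ≠ ⊥) :
    ⁅V, A ⊓ Subgroup.centralizer ((⁅U, A⁆ : Subgroup G) : Set G)⁆ ≠ ⊥ := by
  intro h
  obtain ⟨-, hfix, -⟩ := bestOffender_replacement hV.1 hAV hA hU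
  rw [commutator_bot_iff_inf_centralizer.mp h] at hfix
  apply hne
  refine commutator_eq_bot_of_sup_fixed hV hAV hA.2.2 ?_
  conv_lhs => rw [hfix]
  exact sup_le_sup_right (Subgroup.commutator_mono hU le_rfl) _

/-- Replacement for elementary abelian subgroups of largest order. -/
theorem maxEA_replacement [Finite G] [Fact p.Prime] (V : Subgroup G) [V.Normal]
    (hV : Cfsg.IsElementaryAbelian p V) {A : Subgroup G} (hA : A ∈ Cfsg.maxElementaryAbelianSubgroups p G) :
    (⁅V, A⁆ ⊔ (A ⊓ Subgroup.centralizer ((⁅V, A⁆ : Subgroup G) : Set G))) ∈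
      Cfsg.maxElementaryAbelianSubgroups p G ∧
    ⁅⁅V, ⁅V, A⁆ ⊔ (A ⊓ Subgroup.centralizer ((⁅V, A⁆ : Subgroup G) : Set G))⁆,
      ⁅V, A⁆ ⊔ (A ⊓ Subgroup.centralizer ((⁅V, A⁆ : Subgroup G) : Set G))⁆ = ⊥ ∧
    (⁅V, A⁆ ≠ ⊥ → ⁅V, ⁅V, A⁆ ⊔ (A ⊓ Subgroup.centralizer ((⁅V, A⁆ : Subgroup G) : Set G))⁆ ≠ ⊥) := by
  have hAV : A ≤ Subgroup.normalizer (V : Set G) := Subgroup.le_normalizer_of_normal
  have hbest := maxEA_isBestOffenderOn hV hA
  obtain ⟨-, hfix, hprod⟩ := bestOffender_replacement hV.1 hAV hbest (le_refl V)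
  set W := ⁅V, A⁆ with hW
  set As := A ⊓ Subgroup.centralizer (W : Set G) with hAs
  set C := V ⊓ Subgroup.centralizer (A : Set G)
  have hWV : W ≤ V := Subgroup.commutator_le_left _ _
  have hWEA := isEA_mono hV hWV
  have hAsEA := isEA_mono hA.1 (inf_le_left : As ≤ A)
  have hA0 : Cfsg.IsElementaryAbelian p (W ⊔ As : Subgroup G) :=
    isEA_sup hWEA hAsEA (Subgroup.le_centralizer_iff.mp inf_le_right)
  have hWc : W ≤ Subgroup.centralizer (W : Set G) :=
    Subgroup.le_centralizer_iff_isMulCommutative.mpr hWEA.1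
  have hCA : C ≤ A := fun x hx => mem_maxEA_of_centralizing hA hx.2 (hV.2 x hx.1)
  have hCAs : C ≤ As := le_inf hCA (Subgroup.le_centralizer_iff.mp
    (hWV.trans ((Subgroup.le_centralizer_iff_isMulCommutative.mpr hV.1).trans
      (Subgroup.centralizer_le inf_le_left))))
  have hWA : W ⊓ As = W ⊓ C := by
    apply le_antisymm
    · refine le_inf inf_le_left (le_inf (inf_le_left.trans hWV) ?_)
      exact (inf_le_right.trans inf_le_left).trans
        (Subgroup.le_centralizer_iff_isMulCommutative.mpr hA.1.1)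
    · exact inf_le_inf_left _ hCAs
  have hcardWC : Nat.card ↥(W ⊔ C) * Nat.card ↥(W ⊓ C) = Nat.card W * Nat.card C := by
    refine le_antisymm ?_ (card_mul_card_le_sup_inf W C)
    exact card_sup_mul_card_inf_le ((Subgroup.le_centralizer_iff.mp
      ((inf_le_left : C ≤ V).trans ((Subgroup.le_centralizer_iff_isMulCommutative.mpr hV.1).trans
        (Subgroup.centralizer_le hWV)))))
  have hcard : Nat.card A ≤ Nat.card ↥(W ⊔ As) := by
    have h1 := card_mul_card_le_sup_inf W As
    rw [hWA] at h1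
    rw [hfix] at hprod
    refine Nat.le_of_mul_le_mul_right ?_ (Nat.mul_pos (Nat.card_pos (α := ↥(W ⊓ C))) (Nat.card_pos (α := C)))
    calc Nat.card A * (Nat.card ↥(W ⊓ C) * Nat.card C)
        = (Nat.card A * Nat.card C) * Nat.card ↥(W ⊓ C) := by ring
      _ = Nat.card As * (Nat.card ↥(W ⊔ C) * Nat.card ↥(W ⊓ C)) := by rw [← hprod]; ring
      _ = (Nat.card W * Nat.card As) * Nat.card C := by rw [hcardWC]; ring
      _ ≤ (Nat.card ↥(W ⊔ As) * Nat.card ↥(W ⊓ C)) * Nat.card C := Nat.mul_le_mul_right _ h1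
      _ = Nat.card ↥(W ⊔ As) * (Nat.card ↥(W ⊓ C) * Nat.card C) := by ring
  refine ⟨⟨hA0, fun B hB => (hA.2 B hB).trans hcard⟩, ?_, ?_⟩
  · rw [Subgroup.commutator_eq_bot_iff_le_centralizer]
    have hle : ⁅V, W ⊔ As⁆ ≤ W := by
      rw [Subgroup.commutator_le]
      intro v hv x hx
      rw [Subgroup.sup_eq_closure] at hx
      induction hx using Subgroup.closure_induction with
      | mem x hx =>
        rcases hx with hx | hx
        · rw [commutatorElement_eq_one_iff_mul_comm.mpr (commute_of_mem_comm hV.1 hv (hWV hx)).eq]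
          exact one_mem _
        · exact Subgroup.commutator_mem_commutator hv hx.1
      | one => simp [one_mem]
      | mul x y hx hy ihx ihy =>
        have e : ⁅v, x * y⁆ = ⁅v, x⁆ * (x * ⁅v, y⁆ * x⁻¹) := by
          simp only [commutatorElement_def]; group
        rw [e]
        refine W.mul_mem ihx ?_
        have hxmem : x ∈ W ⊔ As := by rwa [Subgroup.sup_eq_closure]
        have hle' : W ⊔ As ≤ Subgroup.centralizer (W : Set G) := sup_le hWc inf_le_right
        rw [← hle' hxmem _ ihy, mul_inv_cancel_right]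
        exact ihy
      | inv x hx ihx =>
        have hxmem : x ∈ W ⊔ As := by rwa [Subgroup.sup_eq_closure]
        have hle' : W ⊔ As ≤ Subgroup.centralizer (W : Set G) := sup_le hWc inf_le_right
        have e : ⁅v, x⁻¹⁆ = x⁻¹ * ⁅v, x⁆⁻¹ * x := by
          simp only [commutatorElement_def]; group
        rw [e, ← hle' ((W ⊔ As).inv_mem hxmem) _ (W.inv_mem ihx), inv_mul_cancel_right]
        exact W.inv_mem ihx
    refine hle.trans (Subgroup.le_centralizer_iff.mp ?_)
    exact sup_le hWc inf_le_right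
  · intro hne h
    refine replacement_nontrivial hV hAV hbest le_rfl hne ?_
    exact le_bot_iff.mp ((Subgroup.commutator_mono le_rfl le_sup_right).trans h.le)

end CfsgLib.PLocal
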