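import Cfsg.Agent.Lib.PLocal.HallHigman

/-! `IsPSolvable`: subgroups, two-step chains, and the dual Hall–Higman 1.2.3. -/

set_option autoImplicit false

namespace CfsgLib.PLocal

variable {G : Type*} [Group G] {p : ℕ}

theorem isPSolvable_of_injective {K : Type*} [Group K] [hp : Fact p.Prime] {f : K →* G}
    (hf : Function.Injective f) (hs : Cfsg.IsPSolvable p G) : Cfsg.IsPSolvable p K := by
  obtain ⟨n, S, h0, hl, hm, hn, hfac⟩ := hs
  refine ⟨n, fun i => (S i).comap f, ?_, by simp [hl], fun i j h => Subgroup.comap_mono (hm h),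
    fun i => (hn i).comap f, fun i => ?_⟩
  · show Subgroup.comap f (S 0) = ⊥
    rw [h0, MonoidHom.comap_bot, (MonoidHom.ker_eq_bot_iff f).mpr hf]
  have hd : ((S i.castSucc).comap f).relIndex ((S i.succ).comap f) ∣
      (S i.castSucc).relIndex (S i.succ) := by
    rw [Subgroup.relIndex_comap]
    haveI := hn i.castSucc
    exact CfsgLib.PLoc.relIndex_dvd_relIndex_right (Subgroup.map_comap_le f _)
  rcases hfac i with ⟨m, hm'⟩ | hc
  · left
    obtain ⟨j, -, hj⟩ := (Nat.dvd_prime_pow hp.out).mp (hm' ▸ hd)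
    exact ⟨j, hj⟩
  · exact Or.inr (hc.coprime_dvd_left hd)

theorem isPSolvable_subgroup [Fact p.Prime] (hs : Cfsg.IsPSolvable p G) (K : Subgroup G) :
    Cfsg.IsPSolvable p K :=
  isPSolvable_of_injective K.subtype_injective hs

theorem isPSolvable_of_normal_two_step [Finite G] [Fact p.Prime] (N : Subgroup G) [N.Normal]
    (hN : (Nat.card N).Coprime p) (hq : IsPGroup p (G ⧸ N)) : Cfsg.IsPSolvable p G := by
  refine ⟨2, ![⊥, N, ⊤], rfl, rfl, ?_, ?_, ?_⟩
  · refine Fin.monotone_iff_le_succ.mpr fun i => ?_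
    fin_cases i
    · show (⊥ : Subgroup G) ≤ N
      exact bot_le
    · show N ≤ (⊤ : Subgroup G)
      exact le_top
  · intro i
    fin_cases i
    · show (⊥ : Subgroup G).Normal
      infer_instance
    · assumption
    · show (⊤ : Subgroup G).Normal
      infer_instance
  · intro i
    fin_cases i
    · right
      show ((⊥ : Subgroup G).relIndex N).Coprime p
      rwa [Subgroup.relIndex_bot_left]
    · left
      obtain ⟨m, hm⟩ := IsPGroup.iff_card.mp hq
      refine ⟨m, ?_⟩
      show N.relIndex (⊤ : Subgroup G) = p ^ m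
      rw [Subgroup.relIndex_top_right, Subgroup.index_eq_card]
      exact hm

theorem eq_top_of_central_pprime_index_pow [Finite G] [hp : Fact p.Prime] {E : Subgroup G}
    (hE : (Nat.card E).Coprime p) (hc : E ≤ Subgroup.center G) {j : ℕ} (hi : E.index = p ^ j)
    (hO : Cfsg.pCore p G = ⊥) : E = ⊤ := by
  obtain ⟨P⟩ : Nonempty (Sylow p G) := inferInstance
  obtain ⟨k, hk⟩ := IsPGroup.iff_card.mp P.2
  have hdvd : Nat.card (P : Subgroup G) ∣ E.index := by
    have h1 : Nat.card (P : Subgroup G) ∣ Nat.card E * E.index := by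
      rw [E.card_mul_index]; exact Subgroup.card_subgroup_dvd_card _
    rw [hk] at h1 ⊢
    exact (Nat.Coprime.pow_left k hE.symm).dvd_of_dvd_mul_left h1
  have hinf : E ⊓ (P : Subgroup G) = ⊥ := by
    refine Subgroup.inf_eq_bot_of_coprime ?_
    rw [hk]
    exact Nat.Coprime.pow_right k hE
  have hdvd' : E.index ∣ Nat.card (P : Subgroup G) := by
    have h1 := (P : Subgroup G).card_mul_index
    rw [← E.card_mul_index] at h1
    have hco : (p ^ j).Coprime (P : Subgroup G).index :=
      Nat.Coprime.pow_left j ((Nat.Prime.coprime_iff_not_dvd hp.out).mpr P.not_dvd_index)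
    rw [hi] at h1 ⊢
    exact hco.dvd_of_dvd_mul_right ⟨Nat.card E, by rw [h1]; ring⟩
  have htop : E ⊔ (P : Subgroup G) = ⊤ := by
    refine Subgroup.eq_of_le_of_card_ge le_top ?_
    haveI : E.Normal := ⟨fun x hx g => by
      rw [Subgroup.mem_center_iff.mp (hc hx) g, mul_inv_cancel_right]; exact hx⟩
    have h1 := Subgroup.card_mul_index (E.subgroupOf (E ⊔ (P : Subgroup G)))
    rw [Nat.card_congr (Subgroup.subgroupOfEquivOfLe (le_sup_left : E ≤ E ⊔ (P : Subgroup G))).toEquiv] at h1
    have h2 : E.relIndex (E ⊔ (P : Subgroup G)) = Nat.card (P : Subgroup G) := by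
      rw [Subgroup.relIndex_sup_left, ← Subgroup.inf_relIndex_right, hinf, Subgroup.relIndex_bot_left]
    unfold Subgroup.relIndex at h2
    rw [h2, Nat.dvd_antisymm hdvd hdvd', E.card_mul_index] at h1
    rw [Subgroup.card_top]
    exact h1.le
  have hPn : (P : Subgroup G).Normal := by
    rw [← Subgroup.normalizer_eq_top_iff, ← top_le_iff, ← htop]
    exact sup_le (hc.trans (Subgroup.center_le_normalizer _)) Subgroup.le_normalizer
  have hP1 : (P : Subgroup G) = ⊥ := le_bot_iff.mp (hO ▸ CfsgLib.Solvable.le_pCore hPn P.2)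
  rwa [hP1, sup_bot_eq] at htop

/-- The dual of Hall–Higman 1.2.3. -/
theorem centralizer_pPrimeCore_le_self [Finite G] [hp : Fact p.Prime] (hs : Cfsg.IsPSolvable p G)
    (hO : Cfsg.pCore p G = ⊥) :
    Subgroup.centralizer (Cfsg.pPrimeCore p G : Set G) ≤ Cfsg.pPrimeCore p G := by
  obtain ⟨n, S, h0, hl, hm, hn, hfac⟩ := hs
  set Q := Cfsg.pPrimeCore p G with hQ
  set C := Subgroup.centralizer (Q : Set G) with hC
  haveI : Q.Normal := CfsgLib.Solvable.pPrimeCore_normal p G
  haveI : C.Normal := inferInstance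
  suffices h : ∀ i, S i ⊓ C ≤ Q by simpa [hl] using h (Fin.last n)
  refine Fin.induction ?_ ?_
  · simp [h0]
  intro i hi
  haveI := hn i.castSucc
  haveI := hn i.succ
  set D := S i.succ ⊓ C with hD
  haveI : D.Normal := inferInstance
  set E := S i.castSucc ⊓ C with hE
  have hED : E ≤ D := inf_le_inf_right _ (hm (Fin.castSucc_le_succ i))
  have hEp : (Nat.card E).Coprime p :=
    (CfsgLib.Solvable.pPrimeCore_card_coprime p G).coprime_dvd_left (Subgroup.card_dvd_of_le hi)
  have hrel : E.relIndex D ∣ (S i.castSucc).relIndex (S i.succ) := by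
    have h1 : E.relIndex D = (S i.castSucc).relIndex D := by
      rw [← Subgroup.inf_relIndex_right (S i.castSucc) D]
      congr 1
      rw [hE, hD, ← inf_assoc, inf_eq_left.mpr (hm (Fin.castSucc_le_succ i))]
    rw [h1]
    exact CfsgLib.PLoc.relIndex_dvd_relIndex_right inf_le_left
  rcases hfac i with ⟨m, hm'⟩ | hc
  · have hOD : Cfsg.pCore p D = ⊥ := by
      have h := CfsgLib.Solvable.map_subtype_pCore_le (p := p) D
      rw [hO, le_bot_iff, Subgroup.map_eq_bot_iff_of_injective _ D.subtype_injective] at h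
      exact h
    obtain ⟨j, -, hj⟩ := (Nat.dvd_prime_pow hp.out).mp (hm' ▸ hrel)
    have hcard : (Nat.card ↥(E.subgroupOf D)).Coprime p := by
      rwa [Nat.card_congr (Subgroup.subgroupOfEquivOfLe hED).toEquiv]
    have htop : E.subgroupOf D = ⊤ := by
      refine eq_top_of_central_pprime_index_pow hcard ?_ hj hOD
      intro x hx
      rw [Subgroup.mem_center_iff]
      intro y
      apply Subtype.ext
      exact (Subgroup.mem_centralizer_iff.mp y.2.2 (x : G) (hi hx)).symm
    rw [Subgroup.subgroupOf_eq_top] at htop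
    exact htop.trans hi
  · refine CfsgLib.Solvable.le_pPrimeCore inferInstance ?_
    exact CfsgLib.PLoc.coprime_of_relIndex_tower hED hEp (hc.coprime_dvd_left hrel)

end CfsgLib.PLocal
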