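import Cfsg.Agent.Lib.PLocal.SylowAux

/-! `Ω₁(Z(S))`, fixed points of Sylow subgroups, Thompson factorization. -/

set_option autoImplicit false

open scoped commutatorElement

namespace CfsgLib.PLocal

variable {G : Type*} [Group G] {p : ℕ}

theorem map_inf_centralizer_self {H : Type*} [Group H] {f : G →* H} (hf : Function.Injective f)
    (U : Subgroup G) :
    (U ⊓ Subgroup.centralizer (U : Set G)).map f =
      U.map f ⊓ Subgroup.centralizer (U.map f : Set H) := by
  ext y
  constructor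
  · rintro ⟨x, ⟨hx, hc⟩, rfl⟩
    refine ⟨Subgroup.mem_map_of_mem f hx, ?_⟩
    rintro _ ⟨z, hz, rfl⟩
    rw [← map_mul, ← map_mul, hc z hz]
  · rintro ⟨⟨x, hx, rfl⟩, hc⟩
    refine ⟨x, ⟨hx, fun z hz => hf ?_⟩, rfl⟩
    rw [map_mul, map_mul]
    exact hc _ (Subgroup.mem_map_of_mem f hz)

theorem omegaCenter_map {H : Type*} [Group H] {f : G →* H} (hf : Function.Injective f)
    (U : Subgroup G) :
    (Cfsg.omegaOne p (U ⊓ Subgroup.centralizer (U : Set G))).map f =
      Cfsg.omegaOne p (U.map f ⊓ Subgroup.centralizer (U.map f : Set H)) := by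
  rw [omegaOne_map hf, map_inf_centralizer_self hf]

theorem centralizer_iSup_iff {ι : Sort*} (W : ι → Subgroup G) {x : G} :
    x ∈ Subgroup.centralizer ((⨆ i, W i : Subgroup G) : Set G) ↔
      ∀ i, x ∈ Subgroup.centralizer (W i : Set G) := by
  constructor
  · intro h i
    exact Subgroup.centralizer_le (le_iSup W i) h
  · intro h
    have : (⨆ i, W i) ≤ Subgroup.centralizer ({x} : Set G) := iSup_le fun i w hw =>
      Subgroup.mem_centralizer_singleton_iff.mpr (h i w hw)
    intro w hw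
    exact Subgroup.mem_centralizer_singleton_iff.mp (this hw)

variable [Finite G] [Fact p.Prime]

theorem pCore_quotient_centralizer_eq_bot (V : Subgroup G) [V.Normal]
    (hgen : V = ⨆ S : Sylow p G, V ⊓ Subgroup.centralizer ((S : Subgroup G) : Set G)) :
    Cfsg.pCore p (G ⧸ Subgroup.centralizer (V : Set G)) = ⊥ := by
  rw [eq_bot_iff]
  intro d hd
  induction d using QuotientGroup.induction_on with
  | _ d =>
    rw [Subgroup.mem_bot, QuotientGroup.eq_one_iff, hgen, centralizer_iSup_iff]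
    intro S v hv
    have h1 := CfsgLib.Solvable.pCore_le_sylow
      (S.mapSurjective (QuotientGroup.mk'_surjective (Subgroup.centralizer (V : Set G)))) hd
    rw [Sylow.coe_mapSurjective] at h1
    obtain ⟨s, hs, hsd⟩ := h1
    have h2 := QuotientGroup.eq.mp hsd v hv.1
    calc v * d = v * (s * (s⁻¹ * d)) := by group
      _ = s * (v * (s⁻¹ * d)) := by rw [← mul_assoc, ← hv.2 s hs, mul_assoc]
      _ = d * v := by rw [h2]; group

theorem omegaCenter_le_fixed (S : Subgroup G) :
    Cfsg.omegaOne p (S ⊓ Subgroup.centralizer (S : Set G)) ≤ Subgroup.centralizer (S : Set G) :=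
  (omegaOne_le _ _).trans inf_le_right

/-- The join over the Sylow subgroups of `Ω₁(Z(S))`. -/
def omegaCenterClosure (p : ℕ) (G : Type*) [Group G] : Subgroup G :=
  ⨆ S : Sylow p G, Cfsg.omegaOne p ((S : Subgroup G) ⊓ Subgroup.centralizer ((S : Subgroup G) : Set G))

theorem omegaCenterClosure_normal : (omegaCenterClosure p G).Normal := by
  refine ⟨fun n hn g => ?_⟩
  have hle : (omegaCenterClosure p G).map (MulAut.conj g).toMonoidHom ≤ omegaCenterClosure p G := by
    rw [omegaCenterClosure, Subgroup.map_iSup, iSup_le_iff]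
    intro S
    rw [omegaCenter_map (MulAut.conj g).injective]
    refine le_iSup_of_le (g • S) ?_
    rw [Sylow.coe_subgroup_smul, Subgroup.pointwise_smul_def]
    exact le_rfl
  exact hle (Subgroup.mem_map_of_mem _ hn)

theorem omegaCenterClosure_eq_fixed :
    omegaCenterClosure p G =
      ⨆ S : Sylow p G, omegaCenterClosure p G ⊓ Subgroup.centralizer ((S : Subgroup G) : Set G) :=
  le_antisymm (iSup_le fun S => le_iSup_of_le S (le_inf
      (le_iSup (fun T : Sylow p G =>
        Cfsg.omegaOne p ((T : Subgroup G) ⊓ Subgroup.centralizer ((T : Subgroup G) : Set G))) S)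
      (omegaCenter_le_fixed _)))
    (iSup_le fun _ => inf_le_left)

theorem omegaCenterClosure_isEA
    (hc : Subgroup.centralizer (Cfsg.pCore p G : Set G) ≤ Cfsg.pCore p G) :
    Cfsg.IsElementaryAbelian p (omegaCenterClosure p G) := by
  refine isEA_mono (omegaCenter_isEA (Cfsg.pCore p G)) (iSup_le fun S => ?_)
  refine (Subgroup.closure_le _).mpr fun x hx => ?_
  have h1 : x ∈ Subgroup.centralizer (Cfsg.pCore p G : Set G) :=
    Subgroup.centralizer_le (CfsgLib.Solvable.pCore_le_sylow S) hx.1.2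
  exact mem_omegaOne ⟨hc h1, h1⟩ hx.2

theorem eq_of_pCore_quotient_eq_bot (C : Subgroup G) [C.Normal] (h : Cfsg.pCore p (G ⧸ C) = ⊥)
    {D : Subgroup G} (hD : D.Normal) (hCD : C ≤ D) (hk : ∃ k : ℕ, C.relIndex D = p ^ k) : D = C := by
  obtain ⟨k, hk⟩ := hk
  refine le_antisymm ?_ hCD
  have hp : IsPGroup p (D.map (QuotientGroup.mk' C)) := by
    refine IsPGroup.of_card (n := k) ?_
    rw [← Subgroup.relIndex_ker, QuotientGroup.ker_mk', hk]
  have h1 := CfsgLib.Solvable.le_pCore (hD.map _ (QuotientGroup.mk'_surjective C)) hp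
  rw [h, le_bot_iff, Subgroup.map_eq_bot_iff, QuotientGroup.ker_mk'] at h1
  exact h1

theorem isThompsonFactorizable_iff (hO : Cfsg.pPrimeCore p G = ⊥) :
    Cfsg.IsThompsonFactorizable p G ↔
      Cfsg.thompsonSubgroup p G ≤ Subgroup.centralizer (omegaCenterClosure p G : Set G) := by
  haveI := omegaCenterClosure_normal (p := p) (G := G)
  constructor
  · intro h
    rw [thompsonSubgroup_eq_iSup_sylow, iSup_le_iff]
    intro S y hy
    rw [omegaCenterClosure, centralizer_iSup_iff]
    intro T w hw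
    obtain ⟨g, hg⟩ := sylow_eq_map_conj S T
    rw [hg, ← omegaCenter_map (MulAut.conj g).injective] at hw
    obtain ⟨z, hz, rfl⟩ := hw
    obtain ⟨x, hx, c, hc, n, hn, hgn⟩ := h S g⁻¹
    rw [hO, Subgroup.mem_bot] at hx
    rw [hx, one_mul] at hgn
    have hg' : g = n⁻¹ * c⁻¹ := by rw [← inv_inv g, hgn, mul_inv_rev]
    have hcz : c⁻¹ * z * c = z := by rw [mul_assoc, hc z hz, inv_mul_cancel_left]
    have he : (MulAut.conj g).toMonoidHom z = n⁻¹ * z * n := by
      show g * z * g⁻¹ = _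
      rw [hg']
      calc n⁻¹ * c⁻¹ * z * (n⁻¹ * c⁻¹)⁻¹ = n⁻¹ * (c⁻¹ * z * c) * n := by group
        _ = n⁻¹ * z * n := by rw [hcz]
    rw [he]
    have hny := (Subgroup.mem_normalizer_iff.mp hn y).mp hy
    have hzc := omegaCenter_le_fixed _ hz _ (thompsonSubgroupOf_le p _ hny)
    calc n⁻¹ * z * n * y = n⁻¹ * (z * (n * y * n⁻¹)) * n := by group
      _ = n⁻¹ * ((n * y * n⁻¹) * z) * n := by rw [hzc]
      _ = y * (n⁻¹ * z * n) := by group
  · intro h S g
    have hJ : Cfsg.thompsonSubgroupOf p (S : Subgroup G) ≤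
        Subgroup.centralizer (omegaCenterClosure p G : Set G) := by
      refine le_trans ?_ h
      rw [thompsonSubgroup_eq_iSup_sylow]
      exact le_iSup (fun S : Sylow p G => Cfsg.thompsonSubgroupOf p (S : Subgroup G)) S
    obtain ⟨c, hc, n, hn, hgn⟩ :=
      exists_mul_of_sup_eq_top (frattini_thompson S _ hJ) g
    refine ⟨1, one_mem _, c, ?_, n, hn, by rw [one_mul]; exact hgn⟩
    exact Subgroup.centralizer_le (le_iSup (fun T : Sylow p G =>
      Cfsg.omegaOne p ((T : Subgroup G) ⊓ Subgroup.centralizer ((T : Subgroup G) : Set G))) S) hc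

theorem exists_mul_mem_normalizer_of_le_sup (N : Subgroup G) [N.Normal]
    (hN : (Nat.card N).Coprime p) {P : Subgroup G} (hP : IsPGroup p P) {g : G}
    (hg : P.map (MulAut.conj g).toMonoidHom ≤ N ⊔ P) :
    ∃ n ∈ N, n * g ∈ Subgroup.normalizer (P : Set G) := by
  set M := N ⊔ P with hM
  obtain ⟨k, hk⟩ := IsPGroup.iff_card.mp hP
  have hdisj : N ⊓ P = ⊥ := by
    refine Subgroup.inf_eq_bot_of_coprime ?_
    rw [hk]
    exact Nat.Coprime.pow_right k hN
  have hcardM : Nat.card M = Nat.card N * Nat.card P := by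
    rw [← Subgroup.relIndex_bot_left, ← Subgroup.relIndex_mul_relIndex _ _ _ bot_le le_sup_left,
      Subgroup.relIndex_bot_left, Subgroup.relIndex_sup_left, ← Subgroup.inf_relIndex_right, hdisj,
      Subgroup.relIndex_bot_left]
  have key : ∀ R : Subgroup G, R ≤ M → Nat.card R = Nat.card P →
      IsPGroup p (R.subgroupOf M) ∧ ¬ p ∣ (R.subgroupOf M).index := by
    intro R hR hc
    have hcR : Nat.card (R.subgroupOf M) = Nat.card P := by
      rw [Nat.card_congr (Subgroup.subgroupOfEquivOfLe hR).toEquiv, hc]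
    refine ⟨IsPGroup.of_card (n := k) (hcR.trans hk), ?_⟩
    have h1 := (R.subgroupOf M).card_mul_index
    rw [hcR, hcardM, mul_comm (Nat.card N)] at h1
    rw [Nat.eq_of_mul_eq_mul_left Nat.card_pos h1]
    exact (Fact.out : p.Prime).coprime_iff_not_dvd.mp hN.symm
  obtain ⟨a1, b1⟩ := key P le_sup_right rfl
  obtain ⟨a2, b2⟩ := key _ hg (Subgroup.card_map_of_injective (MulAut.conj g).injective)
  obtain ⟨m, hm⟩ := MulAction.exists_smul_eq M (a2.toSylow b2) (a1.toSylow b1)
  have hm' : ((P.map (MulAut.conj g).toMonoidHom).map (MulAut.conj (m : G)).toMonoidHom) = P := by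
    refine Subgroup.eq_of_le_of_card_ge ?_ (by
      rw [Subgroup.card_map_of_injective (MulAut.conj (m : G)).injective,
        Subgroup.card_map_of_injective (MulAut.conj g).injective])
    rintro _ ⟨y, hy, rfl⟩
    have h2 : m * ⟨y, hg hy⟩ * m⁻¹ ∈ ((a1.toSylow b1 : Sylow p M) : Subgroup M) := by
      rw [← hm, Sylow.coe_subgroup_smul]
      exact Subgroup.smul_mem_pointwise_smul _ (MulAut.conj m) _
        (Subgroup.mem_subgroupOf.mpr hy : (⟨y, hg hy⟩ : M) ∈ _)
    exact h2
  have hnorm : (m : G) * g ∈ Subgroup.normalizer (P : Set G) := by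
    apply mem_normalizer_of_map_conj_eq
    conv_rhs => rw [← hm']
    rw [Subgroup.map_map]
    congr 1
    ext x
    simp [MulAut.conj_apply, mul_assoc]
  obtain ⟨n, hn, x, hx, hnx⟩ : ∃ n ∈ N, ∃ x ∈ P, (m : G) = x * n := by
    have hmem : (m : G) ∈ ((N ⊔ P : Subgroup G) : Set G) := m.2
    rw [sup_comm, Subgroup.mul_normal] at hmem
    obtain ⟨x, hx, n, hn, hxn⟩ := hmem
    exact ⟨n, hn, x, hx, hxn.symm⟩
  refine ⟨n, hn, ?_⟩
  have := Subgroup.mul_mem _ (Subgroup.inv_mem _ (Subgroup.le_normalizer hx)) hnorm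
  rwa [hnx, mul_assoc, inv_mul_cancel_left] at this

theorem isThompsonFactorizable_iff_quotient [(Cfsg.pPrimeCore p G).Normal] :
    Cfsg.IsThompsonFactorizable p G ↔ Cfsg.IsThompsonFactorizable p (G ⧸ Cfsg.pPrimeCore p G) := by
  set N := Cfsg.pPrimeCore p G with hNdef
  set π := QuotientGroup.mk' N with hπ
  have hπs : Function.Surjective π := QuotientGroup.mk'_surjective N
  have hN : (Nat.card N).Coprime p := CfsgLib.Solvable.pPrimeCore_card_coprime p G
  have hker : ∀ x, π x = 1 ↔ x ∈ N := fun x => QuotientGroup.eq_one_iff x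
  have hbot : Cfsg.pPrimeCore p (G ⧸ N) = ⊥ :=
    CfsgLib.Solvable.pPrimeCore_quotient_eq_bot N hNdef
  have hdisj : ∀ {P : Subgroup G}, IsPGroup p P → ∀ x ∈ P, x ∈ N → x = 1 := by
    intro P hP x hx hxN
    obtain ⟨k, hk⟩ := IsPGroup.iff_card.mp hP
    have : N ⊓ P = ⊥ := Subgroup.inf_eq_bot_of_coprime (by rw [hk]; exact Nat.Coprime.pow_right k hN)
    rw [← Subgroup.mem_bot, ← this]
    exact ⟨hxN, hx⟩
  have hinj : ∀ S : Sylow p G, Function.Injective (π.comp (S : Subgroup G).subtype) := by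
    intro S
    rw [← MonoidHom.ker_eq_bot_iff, eq_bot_iff]
    intro x hx
    exact Subgroup.mem_bot.mpr (Subtype.ext (hdisj S.2 _ x.2 ((hker _).mp hx)))
  have hJ : ∀ S : Sylow p G, (Cfsg.thompsonSubgroupOf p (S : Subgroup G)).map π =
      Cfsg.thompsonSubgroupOf p ((S : Subgroup G).map π) := by
    intro S
    rw [Cfsg.thompsonSubgroupOf, Subgroup.map_map, ← thompsonSubgroupOf_top,
      thompsonSubgroupOf_map (hinj S), ← Subgroup.map_map, ← MonoidHom.range_eq_map,
      Subgroup.range_subtype]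
  have hZ : ∀ S : Sylow p G,
      (Cfsg.omegaOne p ((S : Subgroup G) ⊓ Subgroup.centralizer ((S : Subgroup G) : Set G))).map π =
      Cfsg.omegaOne p ((S : Subgroup G).map π ⊓
        Subgroup.centralizer ((S : Subgroup G).map π : Set (G ⧸ N))) := by
    intro S
    have h1 := omegaCenter_map (p := p) (S : Subgroup G).subtype_injective ⊤
    have h2 := omegaCenter_map (p := p) (hinj S) ⊤
    rw [← Subgroup.map_map, ← Subgroup.map_map] at h2
    rw [← MonoidHom.range_eq_map, Subgroup.range_subtype] at h1 h2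
    rwa [h1] at h2
  have hZp : ∀ S : Sylow p G,
      IsPGroup p ↥(Cfsg.omegaOne p ((S : Subgroup G) ⊓ Subgroup.centralizer ((S : Subgroup G) : Set G))) :=
    fun S => isEA_isPGroup (omegaCenter_isEA _)
  have hJp : ∀ S : Sylow p G, IsPGroup p ↥(Cfsg.thompsonSubgroupOf p (S : Subgroup G)) :=
    fun S => S.2.to_le (thompsonSubgroupOf_le p _)
  have lift : ∀ {P : Subgroup G} {g : G}, IsPGroup p P →
      π g ∈ Subgroup.normalizer ((P.map π : Subgroup _) : Set (G ⧸ N)) →
      ∃ n ∈ N, n * g ∈ Subgroup.normalizer (P : Set G) := by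
    intro P g hP hg
    refine exists_mul_mem_normalizer_of_le_sup N hN hP ?_
    rintro _ ⟨x, hx, rfl⟩
    obtain ⟨y, hy, hye⟩ := (Subgroup.mem_normalizer_iff.mp hg (π x)).mp (Subgroup.mem_map_of_mem π hx)
    have h1 : g * x * g⁻¹ * y⁻¹ ∈ N := by
      rw [← hker, map_mul, map_mul, map_mul, map_inv, map_inv, ← hye, mul_inv_cancel]
    show g * x * g⁻¹ ∈ N ⊔ P
    have := Subgroup.mul_mem_sup h1 hy
    rwa [inv_mul_cancel_right] at this
  constructor
  · intro h T q
    obtain ⟨S, rfl⟩ := Sylow.mapSurjective_surjective hπs p T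
    obtain ⟨g, rfl⟩ := hπs q
    obtain ⟨x, hx, c, hc, n, hn, hg⟩ := h S g
    refine ⟨1, one_mem _, π c, ?_, π n, ?_, ?_⟩
    · rw [Sylow.coe_mapSurjective, ← hZ S]
      rintro _ ⟨z, hz, rfl⟩
      rw [← map_mul, ← map_mul, hc z hz]
    · rw [Sylow.coe_mapSurjective, ← hJ S]
      exact Subgroup.le_normalizer_map π (Subgroup.mem_map_of_mem π hn)
    · rw [hg, map_mul, map_mul, (hker x).mpr hx]
  · intro h S g
    obtain ⟨x, hx, c, hc, n, hn, hg⟩ := h (S.mapSurjective hπs) (π g)
    rw [hbot, Subgroup.mem_bot] at hx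
    rw [hx, one_mul] at hg
    rw [Sylow.coe_mapSurjective, ← hZ S] at hc
    rw [Sylow.coe_mapSurjective, ← hJ S] at hn
    obtain ⟨c₀, rfl⟩ := hπs c
    obtain ⟨n₀, rfl⟩ := hπs n
    have hc' : π c₀ ∈ Subgroup.normalizer _ := Subgroup.centralizer_le_normalizer _ hc
    obtain ⟨a, ha, hac⟩ := lift (hZp S) hc'
    obtain ⟨b, hb, hbn⟩ := lift (hJp S) hn
    have hac' : a * c₀ ∈ Subgroup.centralizer
        (Cfsg.omegaOne p ((S : Subgroup G) ⊓ Subgroup.centralizer ((S : Subgroup G) : Set G)) : Set G) := by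
      intro z hz
      have hmem : a * c₀ * z * (a * c₀)⁻¹ * z⁻¹ = 1 := by
        refine hdisj (hZp S) _ (Subgroup.mul_mem _ ((Subgroup.mem_normalizer_iff.mp hac z).mp hz)
          (Subgroup.inv_mem _ hz)) ?_
        rw [← hker]
        simp only [map_mul, map_inv, (hker a).mpr ha, one_mul]
        rw [← hc _ (Subgroup.mem_map_of_mem π hz)]
        group
      exact (mul_inv_eq_iff_eq_mul.mp (mul_inv_eq_one.mp hmem)).symm
    refine ⟨g * (a * c₀ * (b * n₀))⁻¹, ?_, a * c₀, hac', b * n₀, hbn, by group⟩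
    rw [← hker]
    simp only [map_mul, map_inv, (hker a).mpr ha, (hker b).mpr hb, one_mul, hg, mul_inv_cancel]

end CfsgLib.PLocal
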