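import Cfsg.Agent.Lib.PLocal.SL2Three
import Cfsg.Agent.Lib.PSL2Sub.Classify

/-!
A finite subgroup of `SL₂(k)`, `k` algebraically closed of odd characteristic `p`, generated by
two non-commuting elements of order `p` contains a copy of `SL(2,p)`.
-/

set_option autoImplicit false

open scoped MatrixGroups OnePoint
open CfsgLib.SchurSL2

namespace CfsgLib.PLoc

open CfsgLib.PLocal

section Mat

variable {R : Type*} [CommRing R]

/-- Upper unitriangular matrix. -/
def dsU (c : R) : SL(2, R) := ⟨!![1, c; 0, 1], by simp [Matrix.det_fin_two]⟩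

/-- Lower unitriangular matrix. -/
def dsL (c : R) : SL(2, R) := ⟨!![1, 0; c, 1], by simp [Matrix.det_fin_two]⟩

theorem coe_dsU (c : R) : (dsU c : Matrix (Fin 2) (Fin 2) R) = !![1, c; 0, 1] := rfl

theorem coe_dsL (c : R) : (dsL c : Matrix (Fin 2) (Fin 2) R) = !![1, 0; c, 1] := rfl

theorem dsU_zero : dsU (0 : R) = 1 := by
  ext i j; fin_cases i <;> fin_cases j <;> simp [coe_dsU]

theorem dsL_zero : dsL (0 : R) = 1 := by
  ext i j; fin_cases i <;> fin_cases j <;> simp [coe_dsL]

theorem dsU_mul (c d : R) : dsU c * dsU d = dsU (c + d) := by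
  ext i j; fin_cases i <;> fin_cases j <;> simp [coe_dsU, Matrix.mul_apply, Fin.sum_univ_two] <;> ring

theorem dsL_mul (c d : R) : dsL c * dsL d = dsL (c + d) := by
  ext i j; fin_cases i <;> fin_cases j <;> simp [coe_dsL, Matrix.mul_apply, Fin.sum_univ_two] <;> ring

theorem dsU_pow (c : R) (n : ℕ) : dsU c ^ n = dsU ((n : R) * c) := by
  induction n with
  | zero => simp [dsU_zero]
  | succ n ih => rw [pow_succ, ih, dsU_mul]; push_cast; ring_nf

theorem dsL_pow (c : R) (n : ℕ) : dsL c ^ n = dsL ((n : R) * c) := by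
  induction n with
  | zero => simp [dsL_zero]
  | succ n ih => rw [pow_succ, ih, dsL_mul]; push_cast; ring_nf

theorem dsU_map {S : Type*} [CommRing S] (f : R →+* S) (c : R) :
    Matrix.SpecialLinearGroup.map f (dsU c) = dsU (f c) := by
  ext i j; fin_cases i <;> fin_cases j <;> simp [coe_dsU]

theorem dsL_map {S : Type*} [CommRing S] (f : R →+* S) (c : R) :
    Matrix.SpecialLinearGroup.map f (dsL c) = dsL (f c) := by
  ext i j; fin_cases i <;> fin_cases j <;> simp [coe_dsL]

end Mat

variable {p : ℕ} [hp : Fact p.Prime]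

/-- `SL(2,p)` is generated by a non-trivial upper and the standard lower transvection. -/
theorem sl2_prime_eq_top {S : Subgroup SL(2, ZMod p)} {c : ZMod p} (hc : c ≠ 0) (hU : dsU c ∈ S)
    (hL : dsL (1 : ZMod p) ∈ S) : S = ⊤ := by
  refine CfsgLib.Linear.SL_eq_top_of_transvection_mem S fun i j hij d => ?_
  fin_cases i <;> fin_cases j <;> first | exact absurd rfl hij | skip
  · have he : Matrix.SpecialLinearGroup.transvection hij d = dsU c ^ (d * c⁻¹).val := by
      rw [dsU_pow, ZMod.natCast_zmod_val, inv_mul_cancel_right₀ hc]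
      ext i j
      fin_cases i <;> fin_cases j <;>
        simp [coe_dsU, Matrix.SpecialLinearGroup.transvection_coe, Matrix.one_apply, Matrix.single_apply]
    rw [he]
    exact S.pow_mem hU _
  · have he : Matrix.SpecialLinearGroup.transvection hij d = dsL (1 : ZMod p) ^ d.val := by
      rw [dsL_pow, ZMod.natCast_zmod_val, mul_one]
      ext i j
      fin_cases i <;> fin_cases j <;>
        simp [coe_dsL, Matrix.SpecialLinearGroup.transvection_coe, Matrix.one_apply, Matrix.single_apply]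
    rw [he]
    exact S.pow_mem hL _

variable {k : Type*} [Field k]

local notation "M2" => Matrix (Fin 2) (Fin 2) k

theorem eq_one_or_neg_of_toPGL {x : SL(2, k)} (h : Matrix.SpecialLinearGroup.toPGL x = 1) :
    x = 1 ∨ x = -1 := by
  have hc : x ∈ Subgroup.center SL(2, k) := by
    rw [← Matrix.SpecialLinearGroup.toPGL_ker]
    exact h
  obtain ⟨r, hr, he⟩ := Matrix.SpecialLinearGroup.mem_center_iff.mp hc
  apply sl2_scalar_eq_one_or_neg
  rw [← he]
  refine ⟨?_, ?_, ?_⟩ <;> simp

theorem toPGL_neg_one : Matrix.SpecialLinearGroup.toPGL (-1 : SL(2, k)) = 1 := by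
  show (-1 : SL(2, k)) ∈ MonoidHom.ker Matrix.SpecialLinearGroup.toPGL
  rw [Matrix.SpecialLinearGroup.toPGL_ker, Matrix.SpecialLinearGroup.mem_center_iff]
  refine ⟨-1, by simp, ?_⟩
  ext i j
  fin_cases i <;> fin_cases j <;> simp

theorem toPGL_neg (x : SL(2, k)) :
    Matrix.SpecialLinearGroup.toPGL (-x) = Matrix.SpecialLinearGroup.toPGL x := by
  rw [← neg_one_mul, map_mul, toPGL_neg_one, one_mul]

theorem isScalar_toPGL {x : SL(2, k)} (h : IsScalarMat (x : M2)) :
    Matrix.SpecialLinearGroup.toPGL x = 1 := by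
  rcases sl2_scalar_eq_one_or_neg h with rfl | rfl
  exacts [map_one _, toPGL_neg_one]

theorem trace_two_of_pow [CharP k p] {g : SL(2, k)} (hg : g ^ p = 1) :
    (g : M2) 0 0 + (g : M2) 1 1 = 2 := by
  have h1 := sl2_sq_zero_of_pow hg
  set t := (g : M2) 0 0 + (g : M2) 1 1 with ht
  have h2 : ((g : M2) - 1) * ((g : M2) - 1) = (t - 2) • (g : M2) := by
    rw [mul_sub, sub_mul, sub_mul, cayley g, one_mul, mul_one, mul_one, sub_smul, two_smul, ← ht]
    abel
  rw [h1] at h2
  rcases smul_eq_zero.mp h2.symm with h | h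
  · exact sub_eq_zero.mp h
  · have hdet : (g : M2).det = 1 := g.2
    rw [h] at hdet
    simp at hdet

theorem natCast_two_ne_zero [CharP k p] (hp2 : p ≠ 2) : (2 : k) ≠ 0 := by
  intro h
  have : ((2 : ℕ) : k) = 0 := by exact_mod_cast h
  rw [CharP.cast_eq_zero_iff k p] at this
  exact hp2 ((Nat.prime_dvd_prime_iff_eq hp.out Nat.prime_two).mp this)

/-- The trace of an element of projective order dividing `2`, `3` or `p`. -/
theorem trace_mem_prime_field [CharP k p] (hp2 : p ≠ 2) {w : SL(2, k)}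
    (hns : Matrix.SpecialLinearGroup.toPGL w ≠ 1)
    (h : Matrix.SpecialLinearGroup.toPGL w ^ 2 = 1 ∨ Matrix.SpecialLinearGroup.toPGL w ^ 3 = 1 ∨
      Matrix.SpecialLinearGroup.toPGL w ^ p = 1) :
    ∃ t : ZMod p, ZMod.castHom (dvd_refl p) k t = (w : M2) 0 0 + (w : M2) 1 1 := by
  set t := (w : M2) 0 0 + (w : M2) 1 1 with ht
  have hc : (w : M2) * (w : M2) = t • (w : M2) - 1 := cayley w
  have key : ∀ (a b : k), a • (w : M2) = b • (1 : M2) → a = 0 := by
    intro a b hab
    by_contra ha
    apply hns (isScalar_toPGL ?_)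
    have e : (w : M2) = (a⁻¹ * b) • (1 : M2) := by
      rw [← smul_smul, ← hab, smul_smul, inv_mul_cancel₀ ha, one_smul]
    rw [e]
    refine ⟨?_, ?_, ?_⟩ <;> simp
  have w3 : (w : M2) * (w : M2) * (w : M2) = (t * t - 1) • (w : M2) - t • (1 : M2) := by
    rw [hc, sub_mul, smul_mul_assoc, hc, smul_sub, smul_smul, sub_smul, one_smul, one_mul]
    abel
  rcases h with h | h | h <;> rw [← map_pow] at h <;>
    rcases eq_one_or_neg_of_toPGL h with h | h
  · exfalso
    rw [pow_two] at h
    exact hns (isScalar_toPGL (isScalarMat_of_sq_eq_one (natCast_two_ne_zero hp2) h))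
  · refine ⟨0, ?_⟩
    rw [map_zero]
    have h' : t • (w : M2) - 1 = -1 := by
      rw [← hc, ← Matrix.SpecialLinearGroup.coe_mul, ← pow_two, h]
      simp
    refine (key t 0 ?_).symm
    rw [zero_smul, show t • (w : M2) = (t • (w : M2) - 1) + 1 by rw [sub_add_cancel], h',
      neg_add_cancel]
  · have h' : (t * t - 1) • (w : M2) - t • (1 : M2) = 1 := by
      rw [← w3, ← Matrix.SpecialLinearGroup.coe_mul, ← Matrix.SpecialLinearGroup.coe_mul,
        ← pow_two, ← pow_succ, h]
      simp
    have h0 := key (t * t - 1) (t + 1) (by rw [eq_add_of_sub_eq h', add_smul t, one_smul, add_comm])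
    rcases mul_self_eq_one_iff.mp (sub_eq_zero.mp h0) with e | e
    · exact ⟨1, by rw [map_one, e]⟩
    · exact ⟨-1, by rw [map_neg, map_one, e]⟩
  · have h' : (t * t - 1) • (w : M2) - t • (1 : M2) = -1 := by
      rw [← w3, ← Matrix.SpecialLinearGroup.coe_mul, ← Matrix.SpecialLinearGroup.coe_mul,
        ← pow_two, ← pow_succ, h]
      simp
    have h0 := key (t * t - 1) (t - 1) (by rw [eq_add_of_sub_eq h', sub_smul t, one_smul, neg_add_eq_sub])
    rcases mul_self_eq_one_iff.mp (sub_eq_zero.mp h0) with e | e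
    · exact ⟨1, by rw [map_one, e]⟩
    · exact ⟨-1, by rw [map_neg, map_one, e]⟩
  · exact ⟨2, by rw [map_ofNat]; exact (trace_two_of_pow h).symm⟩
  · refine ⟨-2, ?_⟩
    have hw : (-w) ^ p = 1 := by
      rw [(hp.out.odd_of_ne_two hp2).neg_pow, h, neg_neg]
    have := trace_two_of_pow hw
    simp only [Matrix.SpecialLinearGroup.coe_neg, Matrix.neg_apply] at this
    rw [map_neg, map_ofNat, ht]
    linear_combination this

/-- A pair of transvections. -/
theorem sl2_pair_normal_form [CharP k p] [IsAlgClosed k] {u v : SL(2, k)} (hu : u ^ p = 1)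
    (hv : v ^ p = 1) (hnc : ¬ Commute u v) :
    ((u * v : SL(2, k)) : M2) 0 0 + ((u * v : SL(2, k)) : M2) 1 1 - 2 ≠ 0 ∧
    ∃ g : SL(2, k), u * g =
        g * dsU (((u * v : SL(2, k)) : M2) 0 0 + ((u * v : SL(2, k)) : M2) 1 1 - 2) ∧
      v * g = g * dsL 1 := by
  set m := (u : M2) 0 0 - 1 with hm
  set a := (u : M2) 0 1 with ha
  set b := (u : M2) 1 0 with hb
  set n := (v : M2) 0 0 - 1 with hn
  set d := (v : M2) 0 1 with hd
  set e := (v : M2) 1 0 with he
  have u11 : (u : M2) 1 1 = 1 - m := by linear_combination trace_two_of_pow hu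
  have v11 : (v : M2) 1 1 = 1 - n := by linear_combination trace_two_of_pow hv
  have hdu : m * m + a * b = 0 := by
    have := u.2
    rw [Matrix.det_fin_two, u11] at this
    linear_combination -this
  have hdv : n * n + d * e = 0 := by
    have := v.2
    rw [Matrix.det_fin_two, v11] at this
    linear_combination -this
  have u00 : (u : M2) 0 0 = 1 + m := by rw [hm]; ring
  have v00 : (v : M2) 0 0 = 1 + n := by rw [hn]; ring
  set c := ((u * v : SL(2, k)) : M2) 0 0 + ((u * v : SL(2, k)) : M2) 1 1 - 2 with hc0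
  have hc : c = 2 * m * n + a * e + b * d := by
    rw [hc0]
    simp only [Matrix.SpecialLinearGroup.coe_mul, Matrix.mul_apply, Fin.sum_univ_two, u00, u11, v00, v11,
      ← ha, ← hb, ← hd, ← he]
    ring
  have hne : c ≠ 0 := by
    intro h0
    rw [hc] at h0
    have h1 : a * e = b * d := by
      apply sub_eq_zero.mp
      apply mul_self_eq_zero.mp
      linear_combination (a * e + b * d - 2 * m * n) * h0 + 4 * m * m * hdv - 4 * d * e * hdu
    have h2 : m * d = a * n := by
      apply sub_eq_zero.mp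
      apply mul_self_eq_zero.mp
      linear_combination d * d * hdu + a * a * hdv - a * d * h0
    have h3 : b * n = m * e := by
      apply sub_eq_zero.mp
      apply mul_self_eq_zero.mp
      linear_combination e * e * hdu + b * b * hdv - b * e * h0
    apply hnc
    show u * v = v * u
    ext i j
    fin_cases i <;> fin_cases j <;>
      simp only [Matrix.SpecialLinearGroup.coe_mul, Matrix.mul_apply, Fin.sum_univ_two,
        Fin.zero_eta, Fin.mk_one, u00, u11, v00, v11, ← ha, ← hb, ← hd, ← he]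
    · linear_combination h1
    · linear_combination 2 * h2
    · linear_combination 2 * h3
    · linear_combination -h1
  refine ⟨hne, ?_⟩
  obtain ⟨e₁, e₂, h0, hk1, hk2⟩ : ∃ e₁ e₂ : k,
      e₁ * (e * e₁ - n * e₂) - e₂ * (n * e₁ + d * e₂) ≠ 0 ∧
      m * e₁ + a * e₂ = 0 ∧ b * e₁ - m * e₂ = 0 := by
    by_cases h : a = 0
    · have hm0 : m = 0 := mul_self_eq_zero.mp (by linear_combination hdu - b * h)
      have hb0 : b ≠ 0 := by
        intro hb0
        apply hnc
        have hu1 : u = 1 := by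
          ext i j
          fin_cases i <;> fin_cases j <;> simp [u00, u11, ← ha, ← hb, h, hb0, hm0]
        rw [hu1]
        exact Commute.one_left v
      refine ⟨0, 1, ?_, by rw [h]; ring, by rw [hm0]; ring⟩
      intro hd0
      have hd0' : d = 0 := by linear_combination -hd0
      exact hne (by rw [hc, h, hm0, hd0']; ring)
    · refine ⟨a, -m, ?_, by ring, by linear_combination hdu⟩
      intro h0
      exact mul_ne_zero h hne (by rw [hc]; linear_combination h0 + d * hdu)
  set f₁ := n * e₁ + d * e₂ with hf₁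
  set f₂ := e * e₁ - n * e₂ with hf₂
  obtain ⟨s, hs⟩ := IsAlgClosed.exists_eq_mul_self (e₁ * f₂ - e₂ * f₁)⁻¹
  have hdet : (!![s * e₁, s * f₁; s * e₂, s * f₂] : M2).det = 1 := by
    have h1 : (e₁ * f₂ - e₂ * f₁) * (e₁ * f₂ - e₂ * f₁)⁻¹ = 1 := mul_inv_cancel₀ h0
    rw [Matrix.det_fin_two]
    simp
    linear_combination h1 - (e₁ * f₂ - e₂ * f₁) * hs
  have hNf1 : n * f₁ + d * f₂ = 0 := by rw [hf₁, hf₂]; linear_combination e₁ * hdv
  have hNf2 : e * f₁ - n * f₂ = 0 := by rw [hf₁, hf₂]; linear_combination e₂ * hdv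
  have hMf1 : m * f₁ + a * f₂ = c * e₁ := by
    rw [hc, hf₁, hf₂]
    linear_combination -d * hk2 - n * hk1
  have hMf2 : b * f₁ - m * f₂ = c * e₂ := by
    rw [hc, hf₁, hf₂]
    linear_combination -e * hk1 + n * hk2
  obtain ⟨g, hg⟩ : ∃ g : SL(2, k), (g : M2) = !![s * e₁, s * f₁; s * e₂, s * f₂] :=
    ⟨⟨_, hdet⟩, rfl⟩
  refine ⟨g, ?_, ?_⟩ <;> ext i j <;>
    fin_cases i <;> fin_cases j <;>
    simp [hg, coe_dsU, coe_dsL, Matrix.mul_apply, Fin.sum_univ_two, u00, u11, v00, v11, ← ha, ← hb, ← hd,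
      ← he]
  · linear_combination s * hk1
  · linear_combination s * hMf1
  · linear_combination s * hk2
  · linear_combination s * hMf2
  · rw [hf₁]; ring
  · linear_combination s * hNf1
  · rw [hf₂]; ring
  · linear_combination s * hNf2

/-- Two non-commuting elements of order `p` whose product has trace in the prime field. -/
theorem sl2_embedding_of_pair [CharP k p] [IsAlgClosed k] {X : Subgroup SL(2, k)} {u v : SL(2, k)}
    (huX : u ∈ X) (hvX : v ∈ X) (hu : u ^ p = 1) (hv : v ^ p = 1) (hnc : ¬ Commute u v)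
    (ht : ∃ t : ZMod p, ZMod.castHom (dvd_refl p) k t =
      ((u * v : SL(2, k)) : M2) 0 0 + ((u * v : SL(2, k)) : M2) 1 1) :
    ∃ f : SL(2, ZMod p) →* SL(2, k), Function.Injective f ∧ f.range ≤ X := by
  obtain ⟨t, ht⟩ := ht
  obtain ⟨hne, g, hgu, hgv⟩ := sl2_pair_normal_form hu hv hnc
  let ι := ZMod.castHom (dvd_refl p) k
  have hιi : Function.Injective ι := ι.injective
  let f : SL(2, ZMod p) →* SL(2, k) :=
    (MulAut.conj g).toMonoidHom.comp (Matrix.SpecialLinearGroup.map ι)
  have hfi : Function.Injective f := by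
    apply (MulAut.conj g).injective.comp
    intro x y hxy
    ext i j
    exact hιi (congrFun (congrFun (congrArg Subtype.val hxy) i) j)
  refine ⟨f, hfi, ?_⟩
  have hc : ι (t - 2) ≠ 0 := by
    rw [map_sub, map_ofNat, show ι t = _ from ht]
    exact hne
  have htop : X.comap f = ⊤ := by
    refine sl2_prime_eq_top (c := t - 2) (fun h => hc (by rw [h, map_zero])) ?_ ?_
    · show g * Matrix.SpecialLinearGroup.map ι (dsU (t - 2)) * g⁻¹ ∈ X
      rw [dsU_map, map_sub, map_ofNat, show ι t = _ from ht, ← hgu, mul_inv_cancel_right]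
      exact huX
    · show g * Matrix.SpecialLinearGroup.map ι (dsL 1) * g⁻¹ ∈ X
      rw [dsL_map, map_one, ← hgv, mul_inv_cancel_right]
      exact hvX
  rintro _ ⟨x, rfl⟩
  show x ∈ X.comap f
  rw [htop]
  exact Subgroup.mem_top x

/-- A pair in the projective image. -/
theorem sl2_embedding_of_pgl_pair [DecidableEq k] [CharP k p] [IsAlgClosed k] (hp2 : p ≠ 2)
    {X : Subgroup SL(2, k)} {a b : PSL2Sub.PG k} (ha : a ∈ X.map Matrix.SpecialLinearGroup.toPGL)
    (hb : b ∈ X.map Matrix.SpecialLinearGroup.toPGL) (hap : a ^ p = 1) (hbp : b ^ p = 1)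
    (hab : ¬ Commute a b) (hord : (a * b) ^ 2 = 1 ∨ (a * b) ^ 3 = 1 ∨ (a * b) ^ p = 1) :
    ∃ f : SL(2, ZMod p) →* SL(2, k), Function.Injective f ∧ f.range ≤ X := by
  have hlift : ∀ c ∈ X.map Matrix.SpecialLinearGroup.toPGL, c ^ p = 1 →
      ∃ x ∈ X, x ^ p = 1 ∧ Matrix.SpecialLinearGroup.toPGL x = c := by
    rintro _ ⟨x, hx, rfl⟩ hc
    refine ⟨x ^ (p + 1), X.pow_mem hx _, ?_, by rw [map_pow, pow_succ, hc, one_mul]⟩
    rw [← pow_mul, mul_comm, pow_mul]
    rcases eq_one_or_neg_of_toPGL (x := x ^ p) (by rw [map_pow, hc]) with h | h <;> rw [h]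
    · exact one_pow _
    · exact (hp.out.odd_of_ne_two hp2).add_one.neg_one_pow
  obtain ⟨u, huX, hup, rfl⟩ := hlift a ha hap
  obtain ⟨v, hvX, hvp, rfl⟩ := hlift b hb hbp
  rw [← map_mul] at hord
  refine sl2_embedding_of_pair huX hvX hup hvp (fun h => hab (h.map _)) ?_
  refine trace_mem_prime_field hp2 (fun h => hab ?_) hord
  rw [map_mul] at h
  rw [inv_eq_of_mul_eq_one_right h |>.symm]
  exact (Commute.refl _).inv_right

theorem alt_four_pair : ∃ a b : alternatingGroup (Fin 4), a ^ 3 = 1 ∧ b ^ 3 = 1 ∧ a * b ≠ b * a ∧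
    ((a * b) ^ 2 = 1 ∨ (a * b) ^ 3 = 1) :=
  ⟨⟨Equiv.swap 0 1 * Equiv.swap 1 2, Equiv.Perm.mem_alternatingGroup.mpr (by decide)⟩,
    ⟨Equiv.swap 1 2 * Equiv.swap 2 3, Equiv.Perm.mem_alternatingGroup.mpr (by decide)⟩,
    Subtype.ext (by decide), Subtype.ext (by decide),
    fun h => absurd (congrArg Subtype.val h) (by decide), Or.inl (Subtype.ext (by decide))⟩

theorem alt_five_pair_three : ∃ a b : alternatingGroup (Fin 5), a ^ 3 = 1 ∧ b ^ 3 = 1 ∧
    a * b ≠ b * a ∧ ((a * b) ^ 2 = 1 ∨ (a * b) ^ 3 = 1) :=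
  ⟨⟨Equiv.swap 0 1 * Equiv.swap 1 2, Equiv.Perm.mem_alternatingGroup.mpr (by decide)⟩,
    ⟨Equiv.swap 1 2 * Equiv.swap 2 3, Equiv.Perm.mem_alternatingGroup.mpr (by decide)⟩,
    Subtype.ext (by decide), Subtype.ext (by decide),
    fun h => absurd (congrArg Subtype.val h) (by decide), Or.inl (Subtype.ext (by decide))⟩

set_option maxRecDepth 8000 in
theorem alt_five_pair_five : ∃ a b : alternatingGroup (Fin 5), a ^ 5 = 1 ∧ b ^ 5 = 1 ∧
    a * b ≠ b * a ∧ (a * b) ^ 2 = 1 :=
  ⟨⟨Equiv.swap 0 1 * Equiv.swap 1 2 * Equiv.swap 2 3 * Equiv.swap 3 4, Equiv.Perm.mem_alternatingGroup.mpr (by decide)⟩,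
    ⟨Equiv.swap 3 4 * Equiv.swap 2 3 * Equiv.swap 1 2 * Equiv.swap 0 1 * (Equiv.swap 0 2 * Equiv.swap 1 3), Equiv.Perm.mem_alternatingGroup.mpr (by decide)⟩,
    Subtype.ext (by decide), Subtype.ext (by decide),
    fun h => absurd (congrArg Subtype.val h) (by decide), Subtype.ext (by decide)⟩

/-- The Dickson step: a finite subgroup of `SL₂` generated by two elements of order `p`, which do
not commute, contains `SL(2,p)`. -/
theorem sl2_embedding_of_noncommute [CharP k p] [IsAlgClosed k] (hp2 : p ≠ 2)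
    (X : Subgroup SL(2, k)) [Finite X] {u v : SL(2, k)} (hgen : X = Subgroup.closure {u, v})
    (hu : u ^ p = 1) (hv : v ^ p = 1) (hnc : ¬ Commute u v) :
    ∃ f : SL(2, ZMod p) →* SL(2, k), Function.Injective f ∧ f.range ≤ X := by
  classical
  haveI hH : Finite (X.map Matrix.SpecialLinearGroup.toPGL : Subgroup (PSL2Sub.PG k)) :=
    Finite.of_surjective _ (Matrix.SpecialLinearGroup.toPGL.subgroupMap_surjective X)
  set H : Subgroup (PSL2Sub.PG k) := X.map Matrix.SpecialLinearGroup.toPGL with hHdef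
  set a := Matrix.SpecialLinearGroup.toPGL u with hadef
  set b := Matrix.SpecialLinearGroup.toPGL v with hbdef
  have hHgen : H = Subgroup.closure {a, b} := by
    rw [hHdef, hgen, MonoidHom.map_closure, Set.image_insert_eq, Set.image_singleton]
  have haH : a ∈ H := by rw [hHgen]; exact Subgroup.subset_closure (by simp)
  have hbH : b ∈ H := by rw [hHgen]; exact Subgroup.subset_closure (by simp)
  have hap : a ^ p = 1 := by rw [hadef, ← map_pow, hu, map_one]
  have hbp : b ^ p = 1 := by rw [hbdef, ← map_pow, hv, map_one]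
  have hodd := hp.out.odd_of_ne_two hp2
  -- images do not commute
  have hab : ¬ Commute a b := by
    intro h
    have h1 : Matrix.SpecialLinearGroup.toPGL (u * v * u⁻¹ * v⁻¹) = 1 := by
      rw [map_mul, map_mul, map_mul, map_inv, map_inv, ← hadef, ← hbdef, h.eq]
      group
    rcases eq_one_or_neg_of_toPGL h1 with h2 | h2
    · exact hnc (by
        show u * v = v * u
        calc u * v = (u * v * u⁻¹ * v⁻¹) * (v * u) := by group
          _ = v * u := by rw [h2, one_mul])
    · have h3 : u * v * u⁻¹ = -v := by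
        calc u * v * u⁻¹ = (u * v * u⁻¹ * v⁻¹) * v := by group
          _ = -v := by rw [h2, neg_mul, one_mul]
      have h4 : (u * v * u⁻¹) ^ p = (-v) ^ p := by rw [h3]
      rw [conj_pow, hv, mul_one, mul_inv_cancel, hodd.neg_pow, hv] at h4
      have h5 := congrFun (congrFun (congrArg (fun x : SL(2, k) => (x : M2)) h4) 0) 0
      simp at h5
      exact natCast_two_ne_zero (k := k) hp2 (by linear_combination h5)
  have ha1 : a ≠ 1 := fun h => hab (by rw [h]; exact Commute.one_left _)
  have hdvd : p ∣ Nat.card H := by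
    rw [← orderOf_eq_prime hap ha1,
      show orderOf a = orderOf (⟨a, haH⟩ : H) from Subgroup.orderOf_mk a haH |>.symm]
    exact orderOf_dvd_natCard _
  have key : ∀ {A : Type} [Group A] (_ : H ≃* A) (x y : A), x ^ p = 1 → y ^ p = 1 →
      x * y ≠ y * x → ((x * y) ^ 2 = 1 ∨ (x * y) ^ 3 = 1 ∨ (x * y) ^ p = 1) →
      ∃ f : SL(2, ZMod p) →* SL(2, k), Function.Injective f ∧ f.range ≤ X := by
    intro A _ e x y hx hy hxy hord
    let j : A →* PSL2Sub.PG k := H.subtype.comp e.symm.toMonoidHom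
    have hj : Function.Injective j := H.subtype_injective.comp e.symm.injective
    refine sl2_embedding_of_pgl_pair hp2 (a := j x) (b := j y) (e.symm x).2 (e.symm y).2
      (by rw [← map_pow, hx, map_one]) (by rw [← map_pow, hy, map_one])
      (fun h => hxy (hj (by rw [map_mul, map_mul]; exact h.eq))) ?_
    rcases hord with h | h | h
    · exact Or.inl (by rw [← map_mul, ← map_pow, h, map_one])
    · exact Or.inr (Or.inl (by rw [← map_mul, ← map_pow, h, map_one]))
    · exact Or.inr (Or.inr (by rw [← map_mul, ← map_pow, h, map_one]))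
  rcases PSL2Sub.classify p H with h | h | h | h | h | h | h
  · exact absurd hdvd h.2.1
  · obtain ⟨A, hA, -, hpA, -, -⟩ := h
    rw [← A.card_mul_index, hA] at hdvd
    rcases hp.out.dvd_mul.mp hdvd with h' | h'
    · exact absurd h' hpA
    · exact absurd ((Nat.prime_dvd_prime_iff_eq hp.out Nat.prime_two).mp h') hp2
  · obtain ⟨-, x, hx⟩ := h
    obtain ⟨g, hg⟩ := PSL2Sub.exists_smul_infty x
    exfalso
    have hs : ∀ c ∈ H, c ^ p = 1 → ∃ d : k, g⁻¹ * c * g = PSL2Sub.aff 1 d := by
      intro c hc hcp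
      obtain ⟨q, d, hqd⟩ := PSL2Sub.exists_aff_of_fix_infty (g := g⁻¹ * c * g)
        (by rw [mul_smul, mul_smul, hg, show c • x = x from hx ⟨c, hc⟩, ← hg, inv_smul_smul])
      obtain ⟨ν, hν⟩ := PSL2Sub.exists_multiplier g
      have hmem : c ∈ MulAction.stabilizer (PSL2Sub.PG k) (g • (∞ : OnePoint k)) := by
        rw [hg]; exact hx ⟨c, hc⟩
      have h1 := (PSL2Sub.multiplier_eq_one_iff p hν ⟨c, hmem⟩).mpr hcp
      obtain ⟨d', hd'⟩ := hν ⟨c, hmem⟩
      rw [h1] at hd'
      exact ⟨d', hd'⟩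
    obtain ⟨d, hd⟩ := hs a haH hap
    obtain ⟨d', hd'⟩ := hs b hbH hbp
    apply hab
    have h1 : Commute (g⁻¹ * a * g) (g⁻¹ * b * g) := by
      show _ * _ = _ * _
      rw [hd, hd', PSL2Sub.aff_mul, PSL2Sub.aff_mul]
      simp [add_comm]
    have h2 := h1.map (MulAut.conj g).toMonoidHom
    simpa [mul_assoc] using h2
  · obtain ⟨e⟩ := h.2
    have h3 : p = 3 := by
      rw [Nat.card_congr e.toEquiv, show Nat.card (alternatingGroup (Fin 4)) = 2 * 2 * 3 by
        rw [Nat.card_eq_fintype_card]; decide] at hdvd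
      rcases hp.out.dvd_mul.mp hdvd with h' | h'
      · rcases hp.out.dvd_mul.mp h' with h' | h' <;>
          exact absurd ((Nat.prime_dvd_prime_iff_eq hp.out Nat.prime_two).mp h') hp2
      · exact (Nat.prime_dvd_prime_iff_eq hp.out Nat.prime_three).mp h'
    subst h3
    obtain ⟨x, y, hx, hy, hxy, ho⟩ := alt_four_pair
    exact key e x y hx hy hxy (ho.imp_right Or.inl)
  · obtain ⟨e⟩ := h.2
    exfalso
    let f : H →* ℤˣ := Equiv.Perm.sign.comp e.toMonoidHom
    have hf : ∀ c : H, c ^ p = 1 → f c = 1 := by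
      intro c hc
      rcases Int.units_eq_one_or (f c) with h' | h'
      · exact h'
      · have := congrArg f hc
        rw [map_pow, h', hodd.neg_one_pow, map_one] at this
        exact absurd this (by decide)
    have hker : ∀ z (hz : z ∈ H), f ⟨z, hz⟩ = 1 := by
      intro z hz
      have hz' : z ∈ Subgroup.closure ({a, b} : Set (PSL2Sub.PG k)) := hHgen ▸ hz
      revert hz
      induction hz' using Subgroup.closure_induction with
      | mem z hz0 =>
        intro hz
        rcases hz0 with rfl | rfl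
        · exact hf _ (Subtype.ext hap)
        · exact hf _ (Subtype.ext hbp)
      | one => intro hz; exact map_one f
      | mul y z hy hz0 ihy ihz =>
        intro hz
        have hy1 : y ∈ H := hHgen ▸ hy
        have hz1 : z ∈ H := hHgen ▸ hz0
        rw [show (⟨y * z, hz⟩ : H) = ⟨y, hy1⟩ * ⟨z, hz1⟩ from rfl, map_mul, ihy, ihz, one_mul]
      | inv y hy ihy =>
        intro hz
        have hy1 : y ∈ H := hHgen ▸ hy
        rw [show (⟨y⁻¹, hz⟩ : H) = ⟨y, hy1⟩⁻¹ from rfl, map_inv, ihy, inv_one]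
    obtain ⟨c, hc⟩ := (Equiv.Perm.sign_surjective (Fin 4)) (-1)
    have := hker _ (e.symm c).2
    simp [f, hc] at this
  · obtain ⟨e⟩ := h.2
    have h35 : p = 3 ∨ p = 5 := by
      rw [Nat.card_congr e.toEquiv, show Nat.card (alternatingGroup (Fin 5)) = 2 * 2 * 3 * 5 by
        rw [nat_card_alternatingGroup, Nat.card_fin]; decide] at hdvd
      rcases hp.out.dvd_mul.mp hdvd with h' | h'
      · rcases hp.out.dvd_mul.mp h' with h' | h'
        · rcases hp.out.dvd_mul.mp h' with h' | h' <;>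
            exact absurd ((Nat.prime_dvd_prime_iff_eq hp.out Nat.prime_two).mp h') hp2
        · exact Or.inl ((Nat.prime_dvd_prime_iff_eq hp.out Nat.prime_three).mp h')
      · exact Or.inr ((Nat.prime_dvd_prime_iff_eq hp.out Nat.prime_five).mp h')
    rcases h35 with rfl | rfl
    · obtain ⟨x, y, hx, hy, hxy, ho⟩ := alt_five_pair_three
      exact key e x y hx hy hxy (ho.imp_right Or.inl)
    · obtain ⟨x, y, hx, hy, hxy, ho⟩ := alt_five_pair_five
      exact key e x y hx hy hxy (Or.inl ho)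
  · obtain ⟨g₀, E, hE, -, hcase⟩ := h
    let j : SL(2, E) →* PSL2Sub.PG k := (MulAut.conj g₀).toMonoidHom.comp
      ((Matrix.ProjGenLinGroup.map (n := Fin 2) E.subtype).comp Matrix.SpecialLinearGroup.toPGL)
    have hjH : ∀ x : SL(2, E), j x ∈ H := by
      intro x
      have hmem : Matrix.ProjGenLinGroup.map (n := Fin 2) E.subtype (Matrix.SpecialLinearGroup.toPGL x) ∈
          H.map (MulAut.conj g₀⁻¹).toMonoidHom := by
        rcases hcase with h' | ⟨-, h'⟩ <;> rw [h'] <;> exact ⟨_, rfl⟩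
      obtain ⟨z, hz, hze⟩ := hmem
      have : j x = z := by
        show g₀ * Matrix.ProjGenLinGroup.map (n := Fin 2) E.subtype (Matrix.SpecialLinearGroup.toPGL x) * g₀⁻¹ = z
        rw [← hze]
        simp [mul_assoc]
      rw [this]
      exact hz
    have hjker : ∀ x, j x = 1 → x = 1 ∨ x = -1 := by
      intro x hx
      apply eq_one_or_neg_of_toPGL
      apply PSL2Sub.map_injective_pgl E.subtype
      rw [map_one]
      exact (MulAut.conj g₀).injective (hx.trans (map_one _).symm)
    have h2E : (2 : E) ≠ 0 := by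
      intro h
      have := congrArg E.subtype h
      rw [map_ofNat, map_zero] at this
      exact natCast_two_ne_zero (k := k) hp2 this
    have hpE : (p : E) = 0 := Subtype.ext (by push_cast; exact CharP.cast_eq_zero k p)
    refine sl2_embedding_of_pgl_pair hp2 (a := j (dsU 1)) (b := j (dsL (-2))) (hjH _) (hjH _)
      (by rw [← map_pow, dsU_pow, hpE, zero_mul, dsU_zero, map_one])
      (by rw [← map_pow, dsL_pow, hpE, zero_mul, dsL_zero, map_one]) ?_ (Or.inl ?_)
    · intro h
      have h' : j (dsU 1 * dsL (-2) * (dsL (-2) * dsU (1 : E))⁻¹) = 1 := by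
        rw [map_mul, map_inv, map_mul, map_mul, h.eq, mul_inv_cancel]
      rcases hjker _ h' with h'' | h''
      · have e := congrFun (congrFun (congrArg (fun x : SL(2, E) => (x : Matrix (Fin 2) (Fin 2) E))
          (mul_inv_eq_one.mp h'')) 0) 0
        simp [coe_dsU, coe_dsL, Matrix.mul_apply, Fin.sum_univ_two] at e
        exact h2E e
      · rw [mul_inv_eq_iff_eq_mul, neg_mul, one_mul] at h''
        have e := congrFun (congrFun (congrArg (fun x : SL(2, E) => (x : Matrix (Fin 2) (Fin 2) E)) h'') 0) 1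
        simp [coe_dsU, coe_dsL, Matrix.mul_apply, Fin.sum_univ_two] at e
        exact h2E (by linear_combination e)
    · have hsq : (dsU (1 : E) * dsL (-2)) ^ 2 = -1 := by
        apply Matrix.SpecialLinearGroup.ext
        intro i j
        fin_cases i <;> fin_cases j <;>
          simp [pow_two, coe_dsU, coe_dsL, Matrix.mul_apply, Fin.sum_univ_two] <;> norm_num
      rw [← map_mul, ← map_pow, hsq]
      show g₀ * Matrix.ProjGenLinGroup.map (n := Fin 2) E.subtype (Matrix.SpecialLinearGroup.toPGL (-1)) * g₀⁻¹ = 1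
      rw [toPGL_neg_one, map_one, mul_one, mul_inv_cancel]

end CfsgLib.PLoc
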