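import Cfsg.Agent.Lib.PLocal.Families
import Cfsg.Agent.Lib.PLocal.HallHigman
import Cfsg.Agent.Lib.PGroup.Basic

/-!
Glauberman's ZJ theorem, for the families of abelian subgroups of largest order with exponent
dividing `e` (`e = 0`: abelian, `e = p`: elementary abelian), both for `interMaxAb` and for the
full centre of the join.
-/

set_option linter.style.haveILetI false
open Cfsg Subgroup
open scoped commutatorElement Pointwise

namespace CfsgLib.PLoc

variable {G : Type*} [Group G] {p : ℕ}

/-- The centre of the Thompson-type subgroup. -/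
def centerJ (e : ℕ) (D : Subgroup G) : Subgroup G :=
  joinMaxAb e D ⊓ centralizer (joinMaxAb e D : Set G)

theorem interMaxAb_le_centerJ [Finite G] (e : ℕ) (D : Subgroup G) : interMaxAb e D ≤ centerJ e D :=
  fun _ hx => ⟨(mem_interMaxAb_iff.mp hx).1, (mem_interMaxAb_iff.mp hx).2.1⟩

theorem centerJ_zero_eq [Finite G] (D : Subgroup G) : centerJ 0 D = interMaxAb 0 D := by
  refine le_antisymm (fun x hx => mem_interMaxAb_iff.mpr ⟨hx.1, hx.2, pow_zero x⟩) (interMaxAb_le_centerJ 0 D)

theorem centerThompsonOf_eq (q : ℕ) (P : Subgroup G) : centerThompsonOf q P = centerJ q P := by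
  rw [centerThompsonOf, joinMaxAb_prime]; rfl

section map

variable {H : Type*} [Group H] (f : G →* H) (hf : Function.Injective f)

include hf in
theorem isMaxAb_map_iff (e : ℕ) (D A : Subgroup G) :
    IsMaxAb e (D.map f) (A.map f) ↔ IsMaxAb e D A := by
  constructor
  · intro h
    haveI := h.comm
    refine ⟨(map_le_map_iff_of_injective hf).mp h.le, IsMulCommutative.of_setLike_mul_comm fun a ha b hb => hf ?_,
      fun a ha => hf ?_, fun B hB hc he => ?_⟩
    · rw [map_mul, map_mul]; exact setLike_mul_comm (mem_map_of_mem f ha) (mem_map_of_mem f hb)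
    · rw [map_pow, map_one]; exact h.exp _ (mem_map_of_mem f ha)
    · haveI := hc
      have := h.max (B.map f) (Subgroup.map_mono hB) (map_isMulCommutative B (f := f))
        (by rintro _ ⟨b, hb, rfl⟩; rw [← map_pow, he b hb, map_one])
      rwa [card_map_of_injective hf, card_map_of_injective hf] at this
  · intro h
    haveI := h.comm
    refine ⟨Subgroup.map_mono h.le, map_isMulCommutative A (f := f),
      by rintro _ ⟨b, hb, rfl⟩; rw [← map_pow, h.exp b hb, map_one], fun B hB hc he => ?_⟩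
    haveI := hc
    have hBe : (B.comap f).map f = B := Subgroup.map_comap_eq_self (hB.trans (map_le_range f D))
    have := h.max (B.comap f)
      ((Subgroup.comap_mono hB).trans (comap_map_eq_self_of_injective hf D).le)
      (Subgroup.comap_injective_isMulCommutative B hf) (fun a ha => hf (by rw [map_pow, map_one]; exact he _ ha))
    rw [← card_map_of_injective (K := B.comap f) hf, hBe] at this
    rwa [card_map_of_injective hf]

include hf in
theorem setOf_isMaxAb_map (e : ℕ) (D : Subgroup G) :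
    {A | IsMaxAb e (D.map f) A} = (fun A => A.map f) '' {A | IsMaxAb e D A} := by
  ext A
  constructor
  · intro h
    have hA : (A.comap f).map f = A := Subgroup.map_comap_eq_self (h.le.trans (map_le_range f D))
    exact ⟨_, (isMaxAb_map_iff f hf e D _).mp (hA.symm ▸ h), hA⟩
  · rintro ⟨B, hB, rfl⟩
    exact (isMaxAb_map_iff f hf e D B).mpr hB

include hf in
theorem joinMaxAb_map (e : ℕ) (D : Subgroup G) : joinMaxAb e (D.map f) = (joinMaxAb e D).map f := by
  rw [joinMaxAb, joinMaxAb, setOf_isMaxAb_map f hf, sSup_image, (Subgroup.gc_map_comap f).l_sSup]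

include hf in
theorem centerJ_map (e : ℕ) (D : Subgroup G) : centerJ e (D.map f) = (centerJ e D).map f := by
  rw [centerJ, centerJ, joinMaxAb_map f hf]
  ext y
  constructor
  · rintro ⟨⟨x, hx, rfl⟩, h2⟩
    exact ⟨x, ⟨hx, fun a ha => hf (by rw [map_mul, map_mul]; exact h2 _ (mem_map_of_mem f ha))⟩, rfl⟩
  · rintro ⟨x, ⟨h1, h2⟩, rfl⟩
    refine ⟨mem_map_of_mem f h1, ?_⟩
    rintro _ ⟨a, ha, rfl⟩
    rw [← map_mul, ← map_mul, h2 a ha]

include hf in
theorem interMaxAb_map [Finite G] [Finite H] (e : ℕ) (D : Subgroup G) :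
    interMaxAb e (D.map f) = (interMaxAb e D).map f := by
  ext y
  rw [mem_interMaxAb_iff, joinMaxAb_map f hf]
  constructor
  · rintro ⟨⟨x, hx, rfl⟩, h2, h3⟩
    refine ⟨x, mem_interMaxAb_iff.mpr ⟨hx, fun a ha => hf (by rw [map_mul, map_mul]; exact h2 _ (mem_map_of_mem f ha)), hf ?_⟩, rfl⟩
    rw [map_pow, h3, map_one]
  · rintro ⟨x, hx, rfl⟩
    obtain ⟨h1, h2, h3⟩ := mem_interMaxAb_iff.mp hx
    refine ⟨mem_map_of_mem f h1, ?_, by rw [← map_pow, h3, map_one]⟩
    rintro _ ⟨a, ha, rfl⟩
    rw [← map_mul, ← map_mul, h2 a ha]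

end map

theorem normalizer_le_normalizer_joinMaxAb (e : ℕ) (D : Subgroup G) :
    normalizer (D : Set G) ≤ normalizer (joinMaxAb e D : Set G) := by
  intro g hg
  rw [mem_normalizer_iff_map_conj_eq] at hg ⊢
  rw [← joinMaxAb_map _ (MulAut.conj g).injective, hg]

theorem normalizer_le_normalizer_centralizer [Finite G] (K : Subgroup G) :
    normalizer (K : Set G) ≤ normalizer ((centralizer (K : Set G) : Subgroup G) : Set G) := by
  intro g hg
  refine mem_normalizer_fintype fun c hc k hk => ?_
  have h := hc _ (((mem_normalizer_iff).mp (inv_mem hg) k).mp hk)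
  calc k * (g * c * g⁻¹) = g * ((g⁻¹ * k * g⁻¹⁻¹) * c) * g⁻¹ := by group
    _ = g * (c * (g⁻¹ * k * g⁻¹⁻¹)) * g⁻¹ := by rw [h]
    _ = g * c * g⁻¹ * k := by group

theorem normalizer_join_le_normalizer_centerJ [Finite G] (e : ℕ) (D : Subgroup G) :
    normalizer (joinMaxAb e D : Set G) ≤ normalizer (centerJ e D : Set G) := fun g hg =>
  mem_normalizer_fintype fun _ hx =>
    ⟨((mem_normalizer_iff).mp hg _).mp hx.1,
      ((mem_normalizer_iff).mp (normalizer_le_normalizer_centralizer _ hg) _).mp hx.2⟩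

theorem normalizer_join_le_normalizer_interMaxAb [Finite G] (e : ℕ) (D : Subgroup G) :
    normalizer (joinMaxAb e D : Set G) ≤ normalizer (interMaxAb e D : Set G) := fun g hg =>
  mem_normalizer_fintype fun x hx => by
    obtain ⟨h1, h2, h3⟩ := mem_interMaxAb_iff.mp hx
    refine mem_interMaxAb_iff.mpr ⟨((mem_normalizer_iff).mp hg _).mp h1,
      ((mem_normalizer_iff).mp (normalizer_le_normalizer_centralizer _ hg) _).mp h2, ?_⟩
    rw [conj_pow, h3, mul_one, mul_inv_cancel]

theorem isMaxAb_of_le [Finite G] {e : ℕ} {D P A : Subgroup G} (hPD : P ≤ D) (hA : IsMaxAb e D A)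
    (hAP : A ≤ P) : IsMaxAb e P A :=
  ⟨hAP, hA.comm, hA.exp, fun B hB hc he => hA.max B (hB.trans hPD) hc he⟩

theorem isMaxAb_sup_of_le [Finite G] {e : ℕ} {D P A B : Subgroup G} (hPD : P ≤ D)
    (hA : IsMaxAb e D A) (hAP : A ≤ P) (hB : IsMaxAb e P B) : IsMaxAb e D B :=
  ⟨hB.le.trans hPD, hB.comm, hB.exp, fun C hC hc he =>
    (hA.max C hC hc he).trans (hB.max A hAP hA.comm hA.exp)⟩

theorem joinMaxAb_eq_of_le [Finite G] {e : ℕ} {D P : Subgroup G} (hPD : P ≤ D)
    (hJ : joinMaxAb e D ≤ P) : joinMaxAb e P = joinMaxAb e D := by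
  obtain ⟨A, hA⟩ := exists_isMaxAb e D
  exact le_antisymm
    (sSup_le fun B hB => le_joinMaxAb (isMaxAb_sup_of_le hPD hA ((le_joinMaxAb hA).trans hJ) hB))
    (sSup_le fun B hB => le_joinMaxAb (isMaxAb_of_le hPD hB ((le_joinMaxAb hB).trans hJ)))

/-- `p`-stable action on all normal `p`-subgroups. -/
def PStableNormal (p : ℕ) (G : Type*) [Group G] : Prop :=
  ∀ (P : Subgroup G) [P.Normal], IsPGroup p P → IsPStableOn p P

/-- The preimage of `O_p(G / C(U))`. -/
def stableKernel (p : ℕ) (U : Subgroup G) [U.Normal] : Subgroup G :=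
  (pCore p (G ⧸ centralizer (U : Set G))).comap (QuotientGroup.mk' (centralizer (U : Set G)))

theorem stableKernel_normal (U : Subgroup G) [U.Normal] : (stableKernel p U).Normal :=
  Subgroup.Normal.comap inferInstance _

theorem le_stableKernel_of_quadratic (hst : PStableNormal p G) {U A : Subgroup G} [U.Normal]
    (hU : IsPGroup p U) (h : ⁅⁅U, A⁆, A⁆ = ⊥) : A ≤ stableKernel p U := by
  intro a ha
  refine hst U hU a (le_bot_iff.mp ?_)
  rw [← h]
  exact commutator_mono (commutator_mono le_rfl (zpowers_le.mpr ha)) (zpowers_le.mpr ha)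

theorem stableKernel_le_sup [Finite G] [Fact p.Prime] (S : Sylow p G) (U : Subgroup G) [U.Normal] :
    stableKernel p U ≤ (S : Subgroup G) ⊔ centralizer (U : Set G) := by
  set π := QuotientGroup.mk' (centralizer (U : Set G))
  have h := CfsgLib.Solvable.pCore_le_sylow
    (S.mapSurjective (QuotientGroup.mk'_surjective (centralizer (U : Set G))))
  rw [Sylow.coe_mapSurjective] at h
  refine (Subgroup.comap_mono h).trans ?_
  rw [Subgroup.comap_map_eq, QuotientGroup.ker_mk']

theorem le_stableKernel_of_coprime_centralizes [Finite G] [Fact p.Prime] {E B : Subgroup G} [E.Normal]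
    [B.Normal] (h : ∀ x ∈ E, (orderOf x).Coprime p → x ∈ centralizer (B : Set G)) :
    E ≤ stableKernel p B := by
  rw [stableKernel, ← Subgroup.map_le_iff_le_comap]
  refine le_pCore_of (Subgroup.Normal.map inferInstance _ (QuotientGroup.mk'_surjective _)) ?_
  rintro ⟨_, x, hx, rfl⟩
  obtain ⟨k, m, hm, he⟩ := Nat.exists_eq_pow_mul_and_not_dvd (orderOf_pos x).ne' p (Nat.Prime.ne_one Fact.out)
  refine ⟨k, Subtype.ext ?_⟩
  rw [SubgroupClass.coe_pow, ← map_pow, OneMemClass.coe_one]
  refine (QuotientGroup.eq_one_iff _).mpr (h _ (E.pow_mem hx _) ?_)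
  rw [orderOf_pow, he, Nat.gcd_mul_right_left, Nat.mul_div_cancel_left _
    (Nat.pos_of_ne_zero (pow_ne_zero _ (Nat.Prime.ne_zero Fact.out)))]
  exact ((Nat.Prime.coprime_iff_not_dvd Fact.out).mpr hm).symm

/-- A coprime element stabilising a series `1 ≤ U ≤ B` centralizes. -/
theorem commute_of_stabilizes [Finite G] [Fact p.Prime] {U : Subgroup G} (hU : IsPGroup p U)
    {x y : G} (hx : (orderOf x).Coprime p) (hxU : ∀ u ∈ U, x * u * x⁻¹ = u)
    (hxy : ⁅x, y⁆ ∈ U) : x * y = y * x := by
  set c := ⁅x, y⁆ with hc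
  have hpow : ∀ k : ℕ, x ^ k * y * (x ^ k)⁻¹ = c ^ k * y := by
    intro k
    induction k with
    | zero => simp
    | succ k ihk =>
      calc x ^ (k + 1) * y * (x ^ (k + 1))⁻¹
          = x * (x ^ k * y * (x ^ k)⁻¹) * x⁻¹ := by rw [pow_succ']; group
        _ = x * (c ^ k * y) * x⁻¹ := by rw [ihk]
        _ = (x * c * x⁻¹) ^ k * (x * y * x⁻¹) := by rw [conj_pow]; group
        _ = c ^ k * (c * y) := by
            rw [hxU c hxy]; congr 1; rw [hc, commutatorElement_def]; group
        _ = c ^ (k + 1) * y := by rw [pow_succ]; group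
  have hco : c ^ orderOf x = 1 := by
    have := hpow (orderOf x)
    rw [pow_orderOf_eq_one] at this
    simpa using this
  obtain ⟨j, hj⟩ := hU ⟨c, hxy⟩
  have hcj : c ^ p ^ j = 1 := congrArg Subtype.val hj
  have h1 : c ^ Nat.gcd (orderOf x) (p ^ j) = 1 := pow_gcd_eq_one.mpr ⟨hco, hcj⟩
  rw [Nat.Coprime.gcd_eq_one (Nat.Coprime.pow_right _ hx), pow_one] at h1
  exact commutatorElement_eq_one_iff_mul_comm.mp h1

variable [Finite G] [Fact p.Prime]

theorem exists_quadratic_or_replace (hp : p ≠ 2) {e : ℕ} {S B L : Subgroup G} (hS : IsPGroup p S)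
    [B.Normal] (hBS : B ≤ S) (hB' : ⁅B, B⁆ ≤ interMaxAb e S) (h : ¬ joinMaxAb e S ≤ L) :
    ∃ A, IsMaxAb e S A ∧ ¬ A ≤ L ∧ (⁅⁅B, A⁆, A⁆ = ⊥ ∨
      ∃ A', IsMaxAb e S A' ∧ A' ≤ L ∧ ¬ B ≤ A' ∧ A' ≤ normalizer (A : Set G)) := by
  let F : Set (Subgroup G) := {A | IsMaxAb e S A ∧ ¬ A ≤ L}
  have hF : F.Nonempty := by
    by_contra hne
    exact h (sSup_le fun A hA => by_contra fun hAL => hne ⟨A, hA, hAL⟩)
  obtain ⟨A, ⟨hA, hAL⟩, hmax⟩ := Set.exists_max_image F (fun A => Nat.card ↥(A ⊓ B)) (Set.toFinite F) hF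
  refine ⟨A, hA, hAL, ?_⟩
  haveI := hA.comm
  by_cases hn : B ≤ normalizer (A : Set G)
  · left
    exact le_bot_iff.mp ((commutator_mono (le_normalizer_iff_commutator_le_right.mp hn) le_rfl).trans
      (Subgroup.commutator_self_eq_bot_iff.mpr hA.comm).le)
  right
  have hinj := S.subtype_injective
  have eA : (A.subgroupOf S).map S.subtype = A := by rw [subgroupOf_map_subtype, inf_of_le_left hA.le]
  have eB : (B.subgroupOf S).map S.subtype = B := by rw [subgroupOf_map_subtype, inf_of_le_left hBS]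
  have hA₀ : IsMaxAb e (⊤ : Subgroup S) (A.subgroupOf S) := by
    rw [← isMaxAb_map_iff S.subtype hinj, eA, ← MonoidHom.range_eq_map, range_subtype]
    exact hA
  have hnot : ¬ B.subgroupOf S ≤ normalizer (A.subgroupOf S : Set S) := fun hle => hn fun b hb => by
    refine mem_normalizer_fintype fun x hx => ?_
    exact ((mem_normalizer_iff).mp (hle (x := ⟨b, hBS hb⟩) hb) ⟨x, hA.le hx⟩).mp hx
  have hBA : ⁅B.subgroupOf S, B.subgroupOf S⁆ ≤ A.subgroupOf S := by
    rw [← map_le_map_iff_of_injective hinj, map_commutator, eA, eB]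
    exact hB'.trans (interMaxAb_le hA)
  obtain ⟨b, hb, hbN, hbA⟩ := exists_mem_normalizer_normalizer hS hnot
  obtain ⟨h1, h2, h3, h4, h5, -, h7, -, -, h10⟩ :=
    replacement hS (fun h => absurd h hp) hA₀.comm hBA hb hbN hbA
  set A₁ := starSub (A.subgroupOf S) b
  have hA₁ : IsMaxAb e S (A₁.map S.subtype) := by
    have h' : IsMaxAb e ((⊤ : Subgroup S).map S.subtype) (A₁.map S.subtype) :=
      (isMaxAb_map_iff S.subtype hinj e ⊤ A₁).mpr
        ⟨le_top, h2, h10 hp e hA₀.exp, fun C hC hc hce => h1 ▸ hA₀.max C hC hc hce⟩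
    rwa [← MonoidHom.range_eq_map, range_subtype] at h'
  have hlt : A ⊓ B < A₁.map S.subtype ⊓ B := by
    have := (map_lt_map_iff_of_injective hinj).mpr h4
    rwa [map_inf _ _ _ hinj, map_inf _ _ _ hinj, eA, eB] at this
  refine ⟨A₁.map S.subtype, hA₁, ?_, fun hle => h5.ne (inf_eq_right.mpr ?_), ?_⟩
  · by_contra hc
    exact absurd (hmax _ ⟨hA₁, hc⟩) (not_le.mpr ((card_le_of_le hlt.le).lt_of_ne fun he =>
      hlt.ne (eq_of_le_of_card_ge hlt.le he.ge)))
  · rw [← map_le_map_iff_of_injective hinj, eB]; exact hle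
  · refine (Subgroup.map_mono h7).trans ((le_normalizer_map _).trans ?_)
    rw [eA]

omit [Fact p.Prime] in
theorem relIndex_dvd_index_sylow_inf (S : Subgroup G) (L : Subgroup G) [L.Normal] :
    S.relIndex L ∣ S.index := by
  have h := card_sup_mul_card_inf (H := S) (N := L) le_normalizer_of_normal
  have h1 := relIndex_mul_relIndex ⊥ (S ⊓ L) L bot_le inf_le_right
  have h2 := relIndex_mul_relIndex ⊥ S (S ⊔ L) bot_le le_sup_left
  rw [relIndex_bot_left, relIndex_bot_left, inf_relIndex_right] at h1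
  rw [relIndex_bot_left, relIndex_bot_left] at h2
  have e : S.relIndex (S ⊔ L) = S.relIndex L := by
    rw [← h1, ← h2] at h
    exact Nat.eq_of_mul_eq_mul_left (Nat.mul_pos Nat.card_pos Nat.card_pos : 0 < Nat.card S * Nat.card ↥(S ⊓ L))
      (by rw [mul_right_comm, h]; ring)
  rw [← e]
  exact relIndex_dvd_index_of_le le_sup_left

theorem frattini_inf (S : Sylow p G) (L : Subgroup G) [L.Normal] :
    normalizer (((S : Subgroup G) ⊓ L : Subgroup G) : Set G) ⊔ L = ⊤ := by
  have hindex : ¬ p ∣ ((S : Subgroup G).subgroupOf L).index := fun h =>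
    S.not_dvd_index (h.trans (relIndex_dvd_index_sylow_inf (S : Subgroup G) L))
  have h := Sylow.normalizer_sup_eq_top ((S.isPGroup'.comap_subtype (K := L)).toSylow hindex)
  rwa [show ((S.isPGroup'.comap_subtype (K := L)).toSylow hindex).map L.subtype = (S : Subgroup G) ⊓ L from
    subgroupOf_map_subtype _ _] at h

/-- The normal closure step: conjugates of `T` lie in any `N(P)`-invariant overgroup. -/
theorem conj_le_of_invariant (S : Sylow p G) {T K : Subgroup G} (hTK : T ≤ K)
    (hP : normalizer (((S : Subgroup G) ⊓ normalCore (normalizer (T : Set G)) : Subgroup G) : Set G)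
      ≤ normalizer (K : Set G)) : normalClosure (T : Set G) ≤ K := by
  refine (closure_le _).mpr ?_
  intro y hy
  obtain ⟨t, ht, hty⟩ := Group.mem_conjugatesOfSet_iff.mp hy
  obtain ⟨c, hc⟩ := isConj_iff.mp hty
  subst hc
  haveI : (normalCore (normalizer (T : Set G))).Normal := normalCore_normal _
  have hmem : c ∈ normalizer (((S : Subgroup G) ⊓ normalCore (normalizer (T : Set G)) : Subgroup G) : Set G)
      ⊔ normalCore (normalizer (T : Set G)) := by rw [frattini_inf]; exact mem_top c
  obtain ⟨n, hn, l, hl, rfl⟩ := mem_sup_of_normal_right.mp hmem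
  have h1 : l * t * l⁻¹ ∈ T := ((mem_normalizer_iff).mp (normalCore_le _ hl) t).mp ht
  have h2 := ((mem_normalizer_iff).mp (hP hn) _).mp (hTK h1)
  simpa [mul_assoc] using h2

theorem normal_of_join_le {e : ℕ} (S : Sylow p G) {T : Subgroup G}
    (hJT : normalizer (joinMaxAb e (S : Subgroup G) : Set G) ≤ normalizer (T : Set G))
    (hJ : joinMaxAb e (S : Subgroup G) ≤ normalCore (normalizer (T : Set G))) : T.Normal := by
  haveI : (normalCore (normalizer (T : Set G))).Normal := normalCore_normal _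
  rw [← normalizer_eq_top_iff, ← top_le_iff,
    ← frattini_inf S (normalCore (normalizer (T : Set G)))]
  refine sup_le ?_ (normalCore_le _)
  refine ((normalizer_le_normalizer_joinMaxAb e _).trans ?_).trans hJT
  rw [joinMaxAb_eq_of_le inf_le_left (le_inf (joinMaxAb_le e _) hJ)]

theorem derived_ne_self_of_pgroup {B : Subgroup G} (hB : IsPGroup p B) (hB0 : B ≠ ⊥) : ⁅B, B⁆ < B :=
  (Subgroup.commutator_le_self B).lt_of_ne (commutator_ne_self_of_pgroup hB hB le_normalizer hB0)

/-- `Z(J(S)) ∩ B` (intersection form) is normal for every normal `p`-subgroup `B`. -/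
theorem interMaxAb_inf_normal (hp : p ≠ 2) (hst : PStableNormal p G) (e : ℕ) (S : Sylow p G)
    {B : Subgroup G} (hBn : B.Normal) (hB : IsPGroup p B) :
    (interMaxAb e (S : Subgroup G) ⊓ B).Normal := by
  generalize hn : Nat.card B = n
  induction n using Nat.strong_induction_on generalizing B with
  | _ n ih =>
    subst hn
    haveI := hBn
    rcases eq_or_ne B ⊥ with rfl | hB0
    · rw [inf_bot_eq]; infer_instance
    set X := interMaxAb e (S : Subgroup G) with hX
    set T := X ⊓ B with hT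
    set B₀ := normalClosure (T : Set G) with hB₀def
    have hB₀B : B₀ ≤ B := normalClosure_le_normal fun x hx => hx.2
    rcases hB₀B.lt_or_eq with hlt | heq
    · have h := ih _ ((card_le_of_le hlt.le).lt_of_ne fun he => hlt.ne (eq_of_le_of_card_ge hlt.le he.ge))
        normalClosure_normal (hB.to_le hlt.le) rfl
      rwa [show X ⊓ B₀ = T from le_antisymm (inf_le_inf_left _ hB₀B) (le_inf inf_le_left le_normalClosure)] at h
    by_contra hTn
    have hBS : B ≤ (S : Subgroup G) := hB.le_sylow_of_normal S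
    have hder := derived_ne_self_of_pgroup hB hB0
    haveI hWn : (X ⊓ ⁅B, B⁆).Normal :=
      ih _ ((card_le_of_le hder.le).lt_of_ne fun he => hder.ne (eq_of_le_of_card_ge hder.le he.ge))
        inferInstance (hB.to_le hder.le) rfl
    have hJX : normalizer (joinMaxAb e (S : Subgroup G) : Set G) ≤ normalizer (T : Set G) := fun g hg =>
      mem_normalizer_fintype fun x hx =>
        ⟨((mem_normalizer_iff).mp (normalizer_join_le_normalizer_interMaxAb e _ hg) x).mp hx.1, hBn.conj_mem x hx.2 g⟩
    have hST : (S : Subgroup G) ≤ normalizer (T : Set G) :=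
      (le_normalizer.trans (normalizer_le_normalizer_joinMaxAb e _)).trans hJX
    have hB' : ⁅B, B⁆ ≤ X ⊓ ⁅B, B⁆ := by
      set W := X ⊓ ⁅B, B⁆
      haveI : (centralizer (B.map (QuotientGroup.mk' W) : Set (G ⧸ W))).Normal := by
        haveI := hBn.map _ (QuotientGroup.mk'_surjective W)
        infer_instance
      have hTK : B ≤ (centralizer (B.map (QuotientGroup.mk' W) : Set (G ⧸ W))).comap (QuotientGroup.mk' W) := by
        rw [← heq]
        refine normalClosure_le_normal fun t ht => ?_
        rw [SetLike.mem_coe, mem_comap]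
        rintro _ ⟨y, hy, rfl⟩
        have h1 : ⁅y, t⁆ ∈ T := le_normalizer_iff_commutator_le_right.mp hST
          (commutator_mem_commutator (hBS (heq ▸ hy)) ht)
        have h2 : ⁅y, t⁆ ∈ W := ⟨h1.1, commutator_mem_commutator (heq ▸ hy) ht.2⟩
        have h3 := (QuotientGroup.eq_one_iff _).mpr h2
        rw [← QuotientGroup.mk'_apply, map_commutatorElement] at h3
        exact commutatorElement_eq_one_iff_mul_comm.mp h3
      refine commutator_le.mpr fun x hx y hy => (QuotientGroup.eq_one_iff _).mp ?_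
      rw [← QuotientGroup.mk'_apply, map_commutatorElement]
      exact commutatorElement_eq_one_iff_mul_comm.mpr (hTK hy _ ⟨x, hx, rfl⟩)
    set L := normalCore (normalizer (T : Set G)) with hL
    haveI : L.Normal := normalCore_normal _
    obtain ⟨A, hA, hAL, hcase⟩ := exists_quadratic_or_replace hp S.isPGroup' hBS
      (L := L) (hB'.trans inf_le_left) (fun hle => hTn (normal_of_join_le S hJX hle))
    rcases hcase with hquad | ⟨A', hA', hA'L, hBA', -⟩
    · apply hAL
      refine (le_stableKernel_of_quadratic hst hB hquad).trans ?_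
      haveI := stableKernel_normal (p := p) B
      refine normal_le_normalCore.mpr ((stableKernel_le_sup S B).trans (sup_le hST ?_))
      exact (Subgroup.centralizer_le inf_le_right).trans (centralizer_le_normalizer _)
    · apply hBA'
      have hA'P : IsMaxAb e ((S : Subgroup G) ⊓ L) A' := isMaxAb_of_le inf_le_left hA' (le_inf hA'.le hA'L)
      rw [← heq]
      refine (conj_le_of_invariant S (K := interMaxAb e ((S : Subgroup G) ⊓ L)) ?_ ?_).trans (interMaxAb_le hA'P)
      · exact le_sInf fun C hC => inf_le_left.trans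
          (interMaxAb_le (isMaxAb_sup_of_le inf_le_left hA' (le_inf hA'.le hA'L) hC))
      · exact (normalizer_le_normalizer_joinMaxAb e _).trans (normalizer_join_le_normalizer_interMaxAb e _)

set_option maxHeartbeats 1000000 in
/-- `Z(J(S)) ∩ B` (full centre form) is normal for every normal `p`-subgroup `B`. -/
theorem centerJ_inf_normal (hp : p ≠ 2) (hst : PStableNormal p G) {e : ℕ} (he : e = 0 ∨ e = p)
    (S : Sylow p G) {B : Subgroup G} (hBn : B.Normal) (hB : IsPGroup p B) :
    (centerJ e (S : Subgroup G) ⊓ B).Normal := by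
  rcases he with rfl | rfl
  · rw [centerJ_zero_eq]; exact interMaxAb_inf_normal hp hst 0 S hBn hB
  generalize hn : Nat.card B = n
  induction n using Nat.strong_induction_on generalizing B with
  | _ n ih =>
    subst hn
    haveI := hBn
    rcases eq_or_ne B ⊥ with rfl | hB0
    · rw [inf_bot_eq]; infer_instance
    set Z := centerJ e (S : Subgroup G) with hZ
    set T := Z ⊓ B with hT
    set B₀ := normalClosure (T : Set G) with hB₀def
    have hB₀B : B₀ ≤ B := normalClosure_le_normal fun x hx => hx.2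
    rcases hB₀B.lt_or_eq with hlt | heq
    · have h := ih _ ((card_le_of_le hlt.le).lt_of_ne fun he => hlt.ne (eq_of_le_of_card_ge hlt.le he.ge))
        normalClosure_normal (hB.to_le hlt.le) rfl
      rwa [show Z ⊓ B₀ = T from le_antisymm (inf_le_inf_left _ hB₀B) (le_inf inf_le_left le_normalClosure)] at h
    by_contra hTn
    have hBS : B ≤ (S : Subgroup G) := hB.le_sylow_of_normal S
    have hJT : normalizer (joinMaxAb e (S : Subgroup G) : Set G) ≤ normalizer (T : Set G) := fun g hg =>
      mem_normalizer_fintype fun x hx =>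
        ⟨((mem_normalizer_iff).mp (normalizer_join_le_normalizer_centerJ e _ hg) x).mp hx.1, hBn.conj_mem x hx.2 g⟩
    have hST : (S : Subgroup G) ≤ normalizer (T : Set G) :=
      (le_normalizer.trans (normalizer_le_normalizer_joinMaxAb e _)).trans hJT
    -- the Frattini subgroup of `B`
    haveI : Nontrivial B := (Subgroup.nontrivial_iff_ne_bot B).mpr hB0
    haveI : (frattini ↥B).Characteristic := inferInstance
    set F := (frattini ↥B).map B.subtype with hF
    haveI : F.Normal := ConjAct.normal_of_characteristic_of_normal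
    have hFB : F < B := by
      refine (map_subtype_le _).lt_of_ne fun h => CfsgLib.PGroup.frattini_ne_top (G := B) ?_
      apply map_injective B.subtype_injective
      exact h.trans (by rw [← MonoidHom.range_eq_map, range_subtype])
    haveI hWn : (Z ⊓ F).Normal :=
      ih _ ((card_le_of_le hFB.le).lt_of_ne fun he => hFB.ne (eq_of_le_of_card_ge hFB.le he.ge))
        inferInstance (hB.to_le hFB.le) rfl
    set W := Z ⊓ F with hW
    have hpF : ∀ x ∈ B, x ^ e ∈ F := fun x hx =>
      ⟨_, CfsgLib.PGroup.pow_mem_frattini hB ⟨x, hx⟩, rfl⟩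
    have hcF : ∀ x ∈ B, ∀ y ∈ B, ⁅x, y⁆ ∈ F := fun x hx y hy =>
      ⟨⁅(⟨x, hx⟩ : B), ⟨y, hy⟩⁆, CfsgLib.PGroup.commutator_le_frattini hB
        (commutator_mem_commutator (mem_top _) (mem_top _)), map_commutatorElement B.subtype (g₁ := ⟨x, hx⟩) (g₂ := ⟨y, hy⟩)⟩
    have hB' : ∀ x ∈ B, ∀ y ∈ B, ⁅x, y⁆ ∈ W := by
      haveI : (centralizer (B.map (QuotientGroup.mk' W) : Set (G ⧸ W))).Normal := by
        haveI := hBn.map _ (QuotientGroup.mk'_surjective W)
        infer_instance
      have hTK : B ≤ (centralizer (B.map (QuotientGroup.mk' W) : Set (G ⧸ W))).comap (QuotientGroup.mk' W) := by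
        rw [← heq]
        refine normalClosure_le_normal fun t ht => ?_
        rw [SetLike.mem_coe, mem_comap]
        rintro _ ⟨y, hy, rfl⟩
        have h1 : ⁅y, t⁆ ∈ T := le_normalizer_iff_commutator_le_right.mp hST
          (commutator_mem_commutator (hBS (heq ▸ hy)) ht)
        have h2 : ⁅y, t⁆ ∈ W := ⟨h1.1, hcF y (heq ▸ hy) t ht.2⟩
        have h3 := (QuotientGroup.eq_one_iff _).mpr h2
        rw [← QuotientGroup.mk'_apply, map_commutatorElement] at h3
        exact commutatorElement_eq_one_iff_mul_comm.mp h3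
      intro x hx y hy
      refine (QuotientGroup.eq_one_iff _).mp ?_
      rw [← QuotientGroup.mk'_apply, map_commutatorElement]
      exact commutatorElement_eq_one_iff_mul_comm.mpr (hTK hy _ ⟨x, hx, rfl⟩)
    have hZab : ∀ u ∈ Z, ∀ v ∈ Z, u * v = v * u := fun u hu v hv => hv.2 u hu.1
    have hWc : ∀ w ∈ W, ∀ y ∈ B, y * w = w * y := by
      have : B ≤ centralizer (W : Set G) := by
        rw [← heq]
        exact normalClosure_le_normal fun t ht w hw => hZab w hw.1 t ht.1
      exact fun w hw y hy => (this hy w hw).symm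
    have hconjW : ∀ w ∈ W, ∀ y ∈ B, y * w * y⁻¹ = w := fun w hw y hy => by
      rw [hWc w hw y hy, mul_inv_cancel_right]
    have hmulL : ∀ u ∈ B, ∀ v ∈ B, ∀ y ∈ B, ⁅v * u, y⁆ = ⁅u, y⁆ * ⁅v, y⁆ := fun u hu v hv y hy => by
      rw [show ⁅v * u, y⁆ = (v * ⁅u, y⁆ * v⁻¹) * ⁅v, y⁆ by simp only [commutatorElement_def]; group,
        hconjW _ (hB' u hu y hy) v hv]
    have hpowL : ∀ u ∈ B, ∀ y ∈ B, ∀ k : ℕ, ⁅u ^ k, y⁆ = ⁅u, y⁆ ^ k := by
      intro u hu y hy k
      induction k with
      | zero => simp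
      | succ k ihk => rw [pow_succ, hmulL u hu _ (B.pow_mem hu k) y hy, ihk, pow_succ']
    have hTW : ∀ t ∈ T, t ^ e ∈ W := fun t ht => ⟨Z.pow_mem ht.1 e, hpF t ht.2⟩
    have hexp : ∀ x ∈ B, ∀ y ∈ B, ⁅x, y⁆ ^ e = 1 := by
      intro x hx y hy
      rw [← heq, hB₀def, normalClosure] at hx
      have key : x ∈ B ∧ ⁅x, y⁆ ^ e = 1 := by
        induction hx using closure_induction with
        | mem g hg =>
          obtain ⟨t, ht, htg⟩ := Group.mem_conjugatesOfSet_iff.mp hg
          obtain ⟨c, rfl⟩ := isConj_iff.mp htg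
          have hg' : c * t * c⁻¹ ∈ B := hBn.conj_mem t ht.2 c
          refine ⟨hg', ?_⟩
          rw [← hpowL _ hg' y hy, conj_pow, commutatorElement_eq_one_iff_mul_comm]
          exact (hWc _ (hWn.conj_mem _ (hTW t ht) c) y hy).symm
        | one => exact ⟨one_mem _, by rw [commutatorElement_one_left, one_pow]⟩
        | mul u v _ _ ihu ihv =>
          refine ⟨mul_mem ihu.1 ihv.1, ?_⟩
          have hc : Commute ⁅v, y⁆ ⁅u, y⁆ := hWc _ (hB' u ihu.1 y hy) _
            (Subgroup.commutator_le_self B (commutator_mem_commutator ihv.1 hy))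
          rw [hmulL v ihv.1 u ihu.1 y hy, hc.mul_pow, ihu.2, ihv.2, one_mul]
        | inv u _ ihu =>
          refine ⟨inv_mem ihu.1, ?_⟩
          have h := hmulL u⁻¹ (inv_mem ihu.1) u ihu.1 y hy
          rw [mul_inv_cancel, commutatorElement_one_left] at h
          rw [eq_inv_of_mul_eq_one_left h.symm, inv_pow, ihu.2, inv_one]
      exact key.2
    have hchoose : e ∣ e.choose 2 := Nat.Prime.dvd_choose_self Fact.out (by norm_num)
      ((Nat.Prime.two_le Fact.out).lt_of_ne (Ne.symm hp))
    have hpm : ∀ u ∈ B, ∀ v ∈ B, (u * v) ^ e = u ^ e * v ^ e := by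
      intro u hu v hv
      have hw : v * u = u * v * ⁅v⁻¹, u⁻¹⁆ := by rw [commutatorElement_def]; group
      rw [mul_pow_of_central_comm hw (hWc _ (hB' _ (B.inv_mem hv) _ (B.inv_mem hu)) u hu).symm
        (hWc _ (hB' _ (B.inv_mem hv) _ (B.inv_mem hu)) v hv).symm e]
      obtain ⟨c, hc⟩ := hchoose
      rw [hc, pow_mul, hexp _ (B.inv_mem hv) _ (B.inv_mem hu), one_pow, mul_one]
    have hBW : ∀ x ∈ B, x ^ e ∈ W := by
      intro x hx
      rw [← heq, hB₀def, normalClosure] at hx
      have key : x ∈ B ∧ x ^ e ∈ W := by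
        induction hx using closure_induction with
        | mem g hg =>
          obtain ⟨t, ht, htg⟩ := Group.mem_conjugatesOfSet_iff.mp hg
          obtain ⟨c, rfl⟩ := isConj_iff.mp htg
          refine ⟨hBn.conj_mem t ht.2 c, ?_⟩
          rw [conj_pow]
          exact hWn.conj_mem _ (hTW t ht) c
        | one => exact ⟨one_mem _, by rw [one_pow]; exact one_mem _⟩
        | mul u v _ _ ihu ihv =>
          refine ⟨mul_mem ihu.1 ihv.1, ?_⟩
          rw [hpm u ihu.1 v ihv.1]
          exact mul_mem ihu.2 ihv.2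
        | inv u _ ihu => exact ⟨inv_mem ihu.1, by rw [inv_pow]; exact inv_mem ihu.2⟩
      exact key.2
    have hB'X : ⁅B, B⁆ ≤ interMaxAb e (S : Subgroup G) := commutator_le.mpr fun x hx y hy =>
      mem_interMaxAb_iff.mpr ⟨(hB' x hx y hy).1.1, (hB' x hx y hy).1.2, hexp x hx y hy⟩
    -- elements of order dividing `e`
    let U : Subgroup G :=
      { carrier := {x | x ∈ B ∧ x ^ e = 1}
        one_mem' := ⟨one_mem _, one_pow e⟩
        mul_mem' := fun {u v} hu hv => ⟨mul_mem hu.1 hv.1, by rw [hpm u hu.1 v hv.1, hu.2, hv.2, one_mul]⟩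
        inv_mem' := fun {u} hu => ⟨inv_mem hu.1, by rw [inv_pow, hu.2, inv_one]⟩ }
    haveI hUn : U.Normal := ⟨fun x hx g => ⟨hBn.conj_mem x hx.1 g, by
      rw [conj_pow, hx.2, mul_one, mul_inv_cancel]⟩⟩
    set L := normalCore (normalizer (T : Set G)) with hL
    haveI : L.Normal := normalCore_normal _
    obtain ⟨A, hA, hAL, hcase⟩ := exists_quadratic_or_replace hp S.isPGroup' hBS
      (L := L) hB'X (fun hle => hTn (normal_of_join_le S hJT hle))
    haveI := hA.comm
    have hK : stableKernel e B ≤ L := by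
      haveI := stableKernel_normal (p := e) B
      refine normal_le_normalCore.mpr ((stableKernel_le_sup S B).trans (sup_le hST ?_))
      exact (Subgroup.centralizer_le inf_le_right).trans (centralizer_le_normalizer _)
    rcases hcase with hquad | ⟨A', hA', hA'L, -, hA'N⟩
    · exact hAL ((le_stableKernel_of_quadratic hst hB hquad).trans hK)
    have hA'P : IsMaxAb e ((S : Subgroup G) ⊓ L) A' := isMaxAb_of_le inf_le_left hA' (le_inf hA'.le hA'L)
    have hBC : B ≤ centralizer (joinMaxAb e ((S : Subgroup G) ⊓ L) : Set G) := by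
      rw [← heq]
      refine conj_le_of_invariant S ?_ ((normalizer_le_normalizer_joinMaxAb e _).trans
        (normalizer_le_normalizer_centralizer _))
      intro t ht
      have hle : joinMaxAb e ((S : Subgroup G) ⊓ L) ≤ joinMaxAb e (S : Subgroup G) := sSup_le fun C hC =>
        le_joinMaxAb (isMaxAb_sup_of_le inf_le_left hA' (le_inf hA'.le hA'L) hC)
      exact Subgroup.centralizer_le hle ht.1.2
    have hUA' : U ≤ A' := fun x hx => mem_of_commute hA' (hBS hx.1) hx.2
      fun a ha => hBC hx.1 a (le_joinMaxAb hA'P ha)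
    have hUquad : ⁅⁅U, A⁆, A⁆ = ⊥ := le_bot_iff.mp ((commutator_mono
      ((commutator_mono hUA' le_rfl).trans (le_normalizer_iff_commutator_le_right.mp hA'N)) le_rfl).trans
      (Subgroup.commutator_self_eq_bot_iff.mpr hA.comm).le)
    have hAU : A ≤ stableKernel e U := le_stableKernel_of_quadratic hst (hB.to_le fun x hx => hx.1) hUquad
    -- the kernel of the action on `B / U`
    haveI : (centralizer (B.map (QuotientGroup.mk' U) : Set (G ⧸ U))).Normal := by
      haveI := hBn.map _ (QuotientGroup.mk'_surjective U)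
      infer_instance
    set K₁ := (centralizer (B.map (QuotientGroup.mk' U) : Set (G ⧸ U))).comap (QuotientGroup.mk' U)
    have hAK₁ : A ≤ K₁ := by
      intro a ha
      rw [mem_comap]
      rintro _ ⟨y, hy, rfl⟩
      have h1 : a * y * a⁻¹ ∈ B := hBn.conj_mem y hy a
      have h2 : ⁅a, y⁆ ∈ U := by
        refine ⟨mul_mem h1 (inv_mem hy), ?_⟩
        rw [commutatorElement_def, hpm _ h1 _ (inv_mem hy), conj_pow, inv_pow]
        have hZa : a * y ^ e = y ^ e * a := (hBW y hy).1.2 a (le_joinMaxAb hA ha)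
        rw [hZa, mul_inv_cancel_right, mul_inv_cancel]
      have h3 := (QuotientGroup.eq_one_iff _).mpr h2
      rw [← QuotientGroup.mk'_apply, map_commutatorElement] at h3
      exact (commutatorElement_eq_one_iff_mul_comm.mp h3).symm
    haveI := stableKernel_normal (p := e) U
    haveI : K₁.Normal := Subgroup.Normal.comap inferInstance _
    refine hAL (((le_inf hAU hAK₁).trans (le_stableKernel_of_coprime_centralizes ?_)).trans hK)
    intro x hx hxo y hy
    refine (commute_of_stabilizes (hB.to_le (fun _ h => h.1 : U ≤ B)) hxo ?_ ?_).symm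
    · intro u hu
      have hxC : x ∈ centralizer (U : Set G) := by
        have hx1 : QuotientGroup.mk' (centralizer (U : Set G)) x ∈ pCore e (G ⧸ centralizer (U : Set G)) := hx.1
        obtain ⟨k, hk⟩ := (IsPGroup.iff_orderOf.mp (pCore_pgroup e (G ⧸ centralizer (U : Set G)))) ⟨_, hx1⟩
        rw [Subgroup.orderOf_mk] at hk
        have hd : orderOf (QuotientGroup.mk' (centralizer (U : Set G)) x) = 1 :=
          Nat.eq_one_of_dvd_coprimes (hxo.pow_right k) (orderOf_map_dvd _ x) (dvd_of_eq hk)
        exact (QuotientGroup.eq_one_iff x).mp (orderOf_eq_one_iff.mp hd)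
      rw [← hxC u hu, mul_inv_cancel_right]
    · have h := hx.2 _ ⟨y, hy, rfl⟩
      refine (QuotientGroup.eq_one_iff _).mp ?_
      rw [← QuotientGroup.mk'_apply, map_commutatorElement]
      exact commutatorElement_eq_one_iff_mul_comm.mpr h.symm

end CfsgLib.PLoc
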