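import Mathlib.GroupTheory.SemidirectProduct
import Cfsg.Agent.Lib.PLocal.DicksonSection
import Cfsg.Agent.Lib.PLocal.QuadSection
import Cfsg.Agent.Lib.PLocal.Thompson
import Cfsg.Agent.Lib.PLocal.ZJ
import Cfsg.Agent.Lib.Transfer.PGroup

/-!
A group that is not `p`-stable, `p` odd, has a section isomorphic to `SL(2,p)`.
-/

set_option autoImplicit false

open scoped commutatorElement MatrixGroups
open CfsgLib.PLocal

namespace CfsgLib.PLoc

/-- `G` has a section isomorphic to `SL(2,p)`. -/
def HasSL2Section (p : ℕ) (G : Type*) [Group G] : Prop :=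
  ∃ (K L : Subgroup G) (_ : (L.subgroupOf K).Normal),
    Nonempty ((K ⧸ L.subgroupOf K) ≃* Matrix.SpecialLinearGroup (Fin 2) (ZMod p))

variable {p : ℕ}

/-- A section of a subgroup of the range of `f` lifts. -/
theorem section_lift {G H : Type*} [Group G] [Group H] (f : G →* H) {K L : Subgroup H}
    [(L.subgroupOf K).Normal] (hK : K ≤ f.range) {S : Type*} [Group S]
    (e : (K ⧸ L.subgroupOf K) ≃* S) :
    ∃ (K' L' : Subgroup G) (_ : (L'.subgroupOf K').Normal), K' ≤ K.comap f ∧
      Nonempty ((K' ⧸ L'.subgroupOf K') ≃* S) := by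
  let g : K.comap f →* K ⧸ L.subgroupOf K := (QuotientGroup.mk' _).comp (f.subgroupComap K)
  have hg : Function.Surjective g := by
    intro y
    obtain ⟨y, rfl⟩ := QuotientGroup.mk'_surjective _ y
    obtain ⟨x, hx⟩ := hK y.2
    exact ⟨⟨x, show f x ∈ K by rw [hx]; exact y.2⟩,
      congrArg (QuotientGroup.mk' _) (Subtype.ext hx)⟩
  exact section_of_hom g ⊤ (by rw [MonoidHom.range_eq_top.mpr hg])
    (Subgroup.topEquiv.trans e)

/-- A section of a subgroup is a section. -/
theorem section_map_subtype {G : Type*} [Group G] (M : Subgroup G) {K L : Subgroup M}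
    [(L.subgroupOf K).Normal] {S : Type*} [Group S] (e : (K ⧸ L.subgroupOf K) ≃* S) :
    ∃ (K' L' : Subgroup G) (_ : (L'.subgroupOf K').Normal), K' ≤ K.map M.subtype ∧
      Nonempty ((K' ⧸ L'.subgroupOf K') ≃* S) := by
  let eK : K ≃* K.map M.subtype := Subgroup.equivMapOfInjective K _ M.subtype_injective
  let g : K.map M.subtype →* K ⧸ L.subgroupOf K := (QuotientGroup.mk' _).comp eK.symm.toMonoidHom
  have hg : Function.Surjective g := (QuotientGroup.mk'_surjective _).comp eK.symm.surjective
  exact section_of_hom g ⊤ (by rw [MonoidHom.range_eq_top.mpr hg])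
    (Subgroup.topEquiv.trans e)

theorem hasSL2Section_of_surjective {G H : Type*} [Group G] [Group H] {f : G →* H}
    (hf : Function.Surjective f) (h : HasSL2Section p H) : HasSL2Section p G := by
  obtain ⟨K, L, hL, ⟨e⟩⟩ := h
  obtain ⟨K', L', hL', -, he⟩ := section_lift f
    (by rw [MonoidHom.range_eq_top.mpr hf]; exact le_top) e
  exact ⟨K', L', hL', he⟩

theorem hasSL2Section_of_subgroup {G : Type*} [Group G] (M : Subgroup G)
    (h : HasSL2Section p M) : HasSL2Section p G := by
  obtain ⟨K, L, hL, ⟨e⟩⟩ := h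
  obtain ⟨K', L', hL', -, he⟩ := section_map_subtype M e
  exact ⟨K', L', hL', he⟩

variable [hp : Fact p.Prime]

/-- A group generated by two quadratic elements which is not a `p`-group. -/
theorem quad_pair_section {G : Type*} [Group G] [Finite G] (hp2 : p ≠ 2) {V : Subgroup G}
    (hV : Cfsg.IsElementaryAbelian p V) {a b : G} {H : Subgroup G}
    (hH : H = Subgroup.closure {a, b}) (hHV : H ≤ Subgroup.normalizer (V : Set G))
    (hf : H ⊓ Subgroup.centralizer (V : Set G) = ⊥) (ha : QuadElt V a) (hb : QuadElt V b)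
    (hnp : ¬ IsPGroup p H) :
    ∃ (K L : Subgroup G) (_ : (L.subgroupOf K).Normal), K ≤ H ∧
      Nonempty ((K ⧸ L.subgroupOf K) ≃* Matrix.SpecialLinearGroup (Fin 2) (ZMod p)) := by
  subst hH
  set H := Subgroup.closure ({a, b} : Set G)
  let a' : H := ⟨a, Subgroup.subset_closure (by simp)⟩
  let b' : H := ⟨b, Subgroup.subset_closure (by simp)⟩
  have hgen : Subgroup.closure ({a', b'} : Set H) = ⊤ := by
    apply Subgroup.map_injective H.subtype_injective
    rw [MonoidHom.map_closure, ← MonoidHom.range_eq_map, Subgroup.range_subtype,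
      Set.image_insert_eq, Set.image_singleton]
    rfl
  obtain ⟨φ, hφ, hφa, hφb⟩ := exists_hom_sl2_of_quad hV hHV hf hgen ha hb hnp
  haveI : CharP (AlgebraicClosure (ZMod p)) p :=
    charP_of_injective_algebraMap (algebraMap (ZMod p) (AlgebraicClosure (ZMod p))).injective p
  haveI : Finite φ.range := Finite.of_surjective φ.rangeRestrict φ.rangeRestrict_surjective
  have hgen' : φ.range = Subgroup.closure {φ a', φ b'} := by
    rw [MonoidHom.range_eq_map, ← hgen, MonoidHom.map_closure, Set.image_insert_eq,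
      Set.image_singleton]
  have hnc : ¬ Commute (φ a') (φ b') := by
    intro hc
    apply hφ
    haveI : IsMulCommutative φ.range := by
      rw [hgen']
      refine Subgroup.isMulCommutative_closure fun x hx y hy => ?_
      rcases hx with rfl | rfl <;> rcases hy with rfl | rfl
      exacts [rfl, hc.eq, hc.eq.symm, rfl]
    rintro ⟨z, hz⟩
    refine ⟨1, Subtype.ext ?_⟩
    rw [SubgroupClass.coe_pow, OneMemClass.coe_one, pow_one]
    have hz' := hz
    rw [hgen'] at hz'
    induction hz' using Subgroup.closure_induction with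
    | mem z h => rcases h with rfl | rfl <;> assumption
    | one => exact one_pow p
    | mul x y hx hy ihx ihy =>
      have hx' : x ∈ φ.range := hgen'.symm ▸ hx
      have hy' : y ∈ φ.range := hgen'.symm ▸ hy
      have hxy : Commute x y :=
        commute_of_mem_comm (inferInstance : IsMulCommutative φ.range) hx' hy'
      rw [hxy.mul_pow, ihx hx', ihy hy', one_mul]
    | inv x hx ih => rw [inv_pow, ih (hgen'.symm ▸ hx), inv_one]
  obtain ⟨f, hf, hfX⟩ := sl2_embedding_of_noncommute hp2 φ.range hgen' hφa hφb hnc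
  exact section_of_hom φ f.range hfX (MonoidHom.ofInjective hf).symm

/-- A faithful action on an elementary abelian group with a quadratic element outside `O_p`. -/
theorem quad_not_pCore_section {G : Type*} [Group G] [Finite G] (hp2 : p ≠ 2) {V H : Subgroup G}
    (hV : Cfsg.IsElementaryAbelian p V) (hHV : H ≤ Subgroup.normalizer (V : Set G))
    (hf : H ⊓ Subgroup.centralizer (V : Set G) = ⊥) {a : G} (haH : a ∈ H) (hq : QuadElt V a)
    (hna : a ∉ (Cfsg.pCore p H).map H.subtype) :
    ∃ (K L : Subgroup G) (_ : (L.subgroupOf K).Normal), K ≤ H ∧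
      Nonempty ((K ⧸ L.subgroupOf K) ≃* Matrix.SpecialLinearGroup (Fin 2) (ZMod p)) := by
  obtain ⟨g, hg, hnp⟩ := exists_pair_not_isPGroup haH hna
  have hXH : Subgroup.closure ({a, g * a * g⁻¹} : Set G) ≤ H := by
    rw [Subgroup.closure_le]
    rintro x (rfl | rfl)
    exacts [haH, H.mul_mem (H.mul_mem hg haH) (H.inv_mem hg)]
  obtain ⟨K, L, hL, hK, he⟩ := quad_pair_section hp2 hV rfl (hXH.trans hHV)
    (le_bot_iff.mp ((inf_le_inf_right _ hXH).trans hf.le)) hq (quadElt_conj (hHV hg) hq) hnp
  exact ⟨K, L, hL, hK.trans hXH, he⟩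

/-- Quadratic elements of a group acting faithfully on an elementary abelian group. -/
theorem quad_mem_pCore_or_section (hp2 : p ≠ 2) {Q W : Type*} [Group Q] [Group W] [Finite Q]
    [Finite W] (φ : Q →* MulAut W) (hφ : Function.Injective φ)
    (hW : Cfsg.IsElementaryAbelian p (⊤ : Subgroup W)) {a : Q}
    (ha : ∀ w : W, φ a (φ a w * w⁻¹) = φ a w * w⁻¹) :
    a ∈ Cfsg.pCore p Q ∨ HasSL2Section p Q := by
  classical
  by_cases hna : a ∈ Cfsg.pCore p Q
  · exact Or.inl hna
  refine Or.inr ?_
  haveI : Finite (W ⋊[φ] Q) := Finite.of_equiv _ SemidirectProduct.equivProd.symm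
  set V : Subgroup (W ⋊[φ] Q) := (SemidirectProduct.inl : W →* W ⋊[φ] Q).range with hV
  set H : Subgroup (W ⋊[φ] Q) := (SemidirectProduct.inr : Q →* W ⋊[φ] Q).range with hH
  have hinl : Function.Injective (SemidirectProduct.inl : W →* W ⋊[φ] Q) :=
    SemidirectProduct.inl_injective
  have hinr : Function.Injective (SemidirectProduct.inr : Q →* W ⋊[φ] Q) :=
    SemidirectProduct.inr_injective
  have hVEA : Cfsg.IsElementaryAbelian p V := by
    rw [hV, MonoidHom.range_eq_map]
    exact isEA_map hW _
  have hconj : ∀ g w, (SemidirectProduct.inr g : W ⋊[φ] Q) * SemidirectProduct.inl w *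
      (SemidirectProduct.inr g)⁻¹ = SemidirectProduct.inl (φ g w) := by
    intro g w
    rw [SemidirectProduct.inl_aut, map_inv]
  have hHV : H ≤ Subgroup.normalizer (V : Set (W ⋊[φ] Q)) := by
    rw [Subgroup.le_normalizer_iff]
    rintro _ ⟨g, rfl⟩ _ ⟨w, rfl⟩
    exact ⟨φ g w, (hconj g w).symm⟩
  have hf : H ⊓ Subgroup.centralizer (V : Set (W ⋊[φ] Q)) = ⊥ := by
    rw [eq_bot_iff]
    rintro _ ⟨⟨g, rfl⟩, hg⟩
    rw [Subgroup.mem_bot]
    have h1 : φ g = 1 := by
      ext w
      apply hinl
      rw [← hconj g w, ← hg (SemidirectProduct.inl w) ⟨w, rfl⟩, mul_inv_cancel_right]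
      rfl
    rw [hφ (h1.trans (map_one φ).symm), map_one]
  let e : Q ≃* H := MonoidHom.ofInjective hinr
  have hq : QuadElt V (SemidirectProduct.inr a : W ⋊[φ] Q) := by
    rintro _ ⟨w, rfl⟩
    rw [commutatorElement_def, hconj, ← map_inv, ← map_mul, hconj, ha]
  have hna' : (SemidirectProduct.inr a : W ⋊[φ] Q) ∉ (Cfsg.pCore p H).map H.subtype := by
    rintro ⟨y, hy, hye⟩
    apply hna
    have he : y = e a := Subtype.ext hye
    rw [he, ← CfsgLib.Solvable.map_pCore_mulEquiv (p := p) e] at hy
    exact (Subgroup.mem_map_iff_mem e.injective).mp hy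
  obtain ⟨K, L, hL, hK, ⟨eK⟩⟩ := quad_not_pCore_section hp2 hVEA hHV hf ⟨a, rfl⟩ hq hna'
  obtain ⟨K', L', hL', -, he'⟩ := section_lift SemidirectProduct.inr hK eK
  exact ⟨K', L', hL', he'⟩

/-- Action on a normal elementary abelian subgroup. -/
theorem isPStableOn_ea_or_section (hp2 : p ≠ 2) {G : Type*} [Group G] [Finite G] (V : Subgroup G)
    [V.Normal] (hV : Cfsg.IsElementaryAbelian p V) :
    Cfsg.IsPStableOn p V ∨ HasSL2Section p G := by
  by_cases hs : HasSL2Section p G
  · exact Or.inr hs
  refine Or.inl fun a ha => ?_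
  set C := Subgroup.centralizer (V : Set G) with hC
  have hker : C ≤ (MulAut.conjNormal : G →* MulAut V).ker := by
    intro g hg
    rw [MonoidHom.mem_ker]
    ext v
    rw [MulAut.conjNormal_apply, ← hg (v : G) v.2, mul_inv_cancel_right]
    rfl
  let φ : G ⧸ C →* MulAut V := QuotientGroup.lift C MulAut.conjNormal hker
  have hφ : Function.Injective φ := by
    rw [← MonoidHom.ker_eq_bot_iff, eq_bot_iff]
    intro q hq
    induction q using QuotientGroup.induction_on with
    | _ g =>
      rw [Subgroup.mem_bot, QuotientGroup.eq_one_iff]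
      intro v hv
      have := congrArg (fun f : MulAut V => ((f ⟨v, hv⟩ : V) : G)) hq
      simp only [φ, QuotientGroup.lift_mk, MulAut.conjNormal_apply, MulAut.one_apply] at this
      exact (mul_inv_eq_iff_eq_mul.mp this).symm
  have hW : Cfsg.IsElementaryAbelian p (⊤ : Subgroup V) := by
    apply isEA_of_map V.subtype_injective
    rwa [← MonoidHom.range_eq_map, Subgroup.range_subtype]
  refine (quad_mem_pCore_or_section hp2 φ hφ hW (a := (a : G ⧸ C)) ?_).resolve_right
    fun h => hs (hasSL2Section_of_surjective (QuotientGroup.mk'_surjective C) h)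
  intro w
  have h := quadElt_of_bot ha _ w.2
  rw [commutatorElement_def] at h
  apply Subtype.ext
  simp only [φ, QuotientGroup.lift_mk, MulAut.conjNormal_apply, Subgroup.coe_mul, Subgroup.coe_inv]
  exact h

/-- Action on an arbitrary normal `p`-subgroup: reduction to the Frattini quotient. -/
theorem isPStableOn_or_section (hp2 : p ≠ 2) {G : Type*} [Group G] [Finite G] (P : Subgroup G)
    [P.Normal] (hP : IsPGroup p P) : Cfsg.IsPStableOn p P ∨ HasSL2Section p G := by
  by_cases hs : HasSL2Section p G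
  · exact Or.inr hs
  refine Or.inl fun a ha => ?_
  haveI := hP.isNilpotent
  set N := (frattini P).map P.subtype with hN
  haveI hNn : N.Normal := inferInstance
  set π := QuotientGroup.mk' N with hπ
  have hV : Cfsg.IsElementaryAbelian p (P.map π) := by
    refine ⟨Subgroup.le_centralizer_iff_isMulCommutative.mp ?_, ?_⟩
    · rintro _ ⟨x, hx, rfl⟩ _ ⟨y, hy, rfl⟩
      rw [← commutatorElement_eq_one_iff_mul_comm, ← map_commutatorElement, ← MonoidHom.mem_ker,
        hπ, QuotientGroup.ker_mk']
      exact ⟨⁅(⟨y, hy⟩ : P), (⟨x, hx⟩ : P)⁆, CfsgLib.Transfer.commutator_le_frattini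
        (Subgroup.commutator_mem_commutator (Subgroup.mem_top _) (Subgroup.mem_top _)), rfl⟩
    · rintro _ ⟨x, hx, rfl⟩
      rw [← map_pow, ← MonoidHom.mem_ker, hπ, QuotientGroup.ker_mk']
      exact ⟨(⟨x, hx⟩ : P) ^ p, CfsgLib.Transfer.pow_mem_frattini hP _, rfl⟩
  haveI : (P.map π).Normal := Subgroup.Normal.map inferInstance _ (QuotientGroup.mk'_surjective N)
  have hq := (isPStableOn_ea_or_section hp2 (P.map π) hV).resolve_right
    (fun h => hs (hasSL2Section_of_surjective (QuotientGroup.mk'_surjective N) h))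
  set W := stableKernel p (P.map π) with hW
  have haW : π a ∈ W := by
    refine hq (π a) ?_
    rw [← MonoidHom.map_zpowers, ← Subgroup.map_commutator, ← Subgroup.map_commutator, ha,
      Subgroup.map_bot]
  haveI : W.Normal := stableKernel_normal _
  set D := W.comap π with hD
  haveI : D.Normal := Subgroup.Normal.comap inferInstance _
  suffices h : D ≤ stableKernel p P from h haW
  rw [stableKernel, ← Subgroup.map_le_iff_le_comap]
  refine le_pCore_of (Subgroup.Normal.map inferInstance _ (QuotientGroup.mk'_surjective _)) ?_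
  rintro ⟨_, x, hx, rfl⟩
  obtain ⟨j, hj⟩ := CfsgLib.Solvable.pCore_isPGroup p _ ⟨_, Subgroup.mem_comap.mp hx⟩
  have hy : π (x ^ p ^ j) ∈ Subgroup.centralizer (P.map π : Set (G ⧸ N)) := by
    rw [← QuotientGroup.eq_one_iff, map_pow, QuotientGroup.mk_pow]
    exact congrArg Subtype.val hj
  set y := x ^ p ^ j with hy0
  obtain ⟨i, m, hm, he⟩ := Nat.exists_eq_pow_mul_and_not_dvd (orderOf_pos y).ne' p hp.out.ne_one
  have hz : y ^ p ^ i ∈ Subgroup.centralizer (P : Set G) := by
    set z := y ^ p ^ i with hz0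
    have hzo : (orderOf z).Coprime p := by
      rw [hz0, orderOf_pow, he, Nat.gcd_mul_right_left, Nat.mul_div_cancel_left _
        (Nat.pos_of_ne_zero (pow_ne_zero _ hp.out.ne_zero))]
      exact ((Nat.Prime.coprime_iff_not_dvd hp.out).mpr hm).symm
    refine (CfsgLib.Solvable.le_centralizer_of_trivial_on_frattini_quotient
      (A := Subgroup.zpowers z) (K := P) ?_ ?_) (Subgroup.mem_zpowers z)
    · obtain ⟨n, hn⟩ := (IsPGroup.iff_card).mp (hP.to_subgroup (frattini P))
      rw [Nat.card_zpowers, hn]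
      exact hzo.pow_right n
    · intro b hb k hk
      have hbc : π b ∈ Subgroup.centralizer (P.map π : Set (G ⧸ N)) := by
        have hle : Subgroup.zpowers (π z) ≤ Subgroup.centralizer (P.map π : Set (G ⧸ N)) :=
          Subgroup.zpowers_le.mpr (by rw [hz0, map_pow]; exact Subgroup.pow_mem _ hy _)
        apply hle
        rw [← MonoidHom.map_zpowers]
        exact Subgroup.mem_map_of_mem π hb
      have h1 : π (b * k * b⁻¹ * k⁻¹) = 1 := by
        simp only [map_mul, map_inv]
        rw [← hbc (π k) (Subgroup.mem_map_of_mem π hk)]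
        group
      rwa [← MonoidHom.mem_ker, hπ, QuotientGroup.ker_mk'] at h1
  refine ⟨j + i, Subtype.ext ?_⟩
  rw [SubgroupClass.coe_pow, ← map_pow, OneMemClass.coe_one, pow_add, pow_mul]
  exact (QuotientGroup.eq_one_iff _).mpr hz

theorem pStableNormal_or_section (hp2 : p ≠ 2) (G : Type*) [Group G] [Finite G] :
    PStableNormal p G ∨ HasSL2Section p G := by
  by_cases hs : HasSL2Section p G
  · exact Or.inr hs
  · exact Or.inl fun P _ hP => (isPStableOn_or_section hp2 P hP).resolve_right hs

/-- The automizer form. -/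
theorem automizer_quad_or_section (hp2 : p ≠ 2) {G : Type*} [Group G] [Finite G]
    {A P : Subgroup G} (hP : IsPGroup p P) (hA : A ≤ Subgroup.normalizer (P : Set G))
    (hq : ⁅⁅P, A⁆, A⁆ = ⊥) :
    (A.subgroupOf (Subgroup.normalizer (P : Set G))).map
        (QuotientGroup.mk' ((Subgroup.centralizer (P : Set G)).subgroupOf
          (Subgroup.normalizer (P : Set G)))) ≤ Cfsg.pCore p _ ∨ HasSL2Section p G := by
  by_cases hs : HasSL2Section p G
  · exact Or.inr hs
  left
  set N := Subgroup.normalizer (P : Set G) with hN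
  have hPN : P ≤ N := Subgroup.le_normalizer
  haveI : (P.subgroupOf N).Normal := Subgroup.normal_in_normalizer
  have hst := (isPStableOn_or_section hp2 (P.subgroupOf N) hP.comap_subtype).resolve_right
    (fun h => hs (hasSL2Section_of_subgroup N h))
  have hC : Subgroup.centralizer (P.subgroupOf N : Set N) =
      (Subgroup.centralizer (P : Set G)).subgroupOf N := by
    ext x
    constructor
    · intro hx v hv
      exact congrArg Subtype.val (hx ⟨v, hPN hv⟩ (Subgroup.mem_subgroupOf.mpr hv))
    · intro hx v hv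
      exact Subtype.ext (hx (v : G) (Subgroup.mem_subgroupOf.mp hv))
  rw [Subgroup.map_le_iff_le_comap, comap_pCore_congr (p := p)
    (g := QuotientGroup.mk' (Subgroup.centralizer (P.subgroupOf N : Set N)))
    (QuotientGroup.mk'_surjective _) (QuotientGroup.mk'_surjective _)
    (by rw [QuotientGroup.ker_mk', QuotientGroup.ker_mk', hC])]
  intro a ha
  refine hst a (bot_of_quadElt ?_)
  intro v hv
  apply Subtype.ext
  have h := quadratic_elt_fixed hq (Subgroup.mem_subgroupOf.mp hv)
    (Subgroup.mem_subgroupOf.mp ha) (Subgroup.mem_subgroupOf.mp ha)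
  simpa [commutatorElement_def] using h

/-- A group which is not `p`-stable modulo `O_{p'}`. -/
theorem hasSL2Section_of_not_isPStable (hp2 : p ≠ 2) {G : Type*} [Group G] [Finite G]
    (hO : Cfsg.pPrimeCore p G < Cfsg.pPrimePCore p G)
    (hns : ¬ Cfsg.IsPStable p (G ⧸ Cfsg.pPrimeCore p G)) : HasSL2Section p G := by
  by_contra hs
  have hs' : ¬ HasSL2Section p (G ⧸ Cfsg.pPrimeCore p G) := fun h =>
    hs (hasSL2Section_of_surjective (QuotientGroup.mk'_surjective _) h)
  refine hns ⟨hp.out.odd_of_ne_two hp2, ?_, fun A P hA hP hn _ _ hq => ?_⟩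
  · intro h
    apply hO.ne'
    rw [Cfsg.pPrimePCore, h, MonoidHom.comap_bot, QuotientGroup.ker_mk']
  · exact (automizer_quad_or_section hp2 hP
      (Subgroup.le_normalizer_iff.mpr hn) hq).resolve_right hs'

end CfsgLib.PLoc
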