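import Mathlib.GroupTheory.SemidirectProduct
import Mathlib.GroupTheory.Sylow
import Cfsg.Agent.Lib.Qd.Basic
import Cfsg.Agent.Lib.PLocal.SL2Section

/-!
A subgroup acting on an elementary abelian group of order `p²` as `SL(2,p)`, `p` odd, gives a
section isomorphic to `Qd(p)`.
-/

set_option autoImplicit false

open scoped MatrixGroups
open CfsgLib.PLocal

namespace CfsgLib.PLoc

/-- `G` has a section isomorphic to `Qd(p)`. -/
def HasQdSection (p : ℕ) (G : Type*) [Group G] : Prop :=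
  ∃ (K R : Subgroup G) (_ : (R.subgroupOf K).Normal),
    Nonempty ((K ⧸ R.subgroupOf K) ≃* ↥(Cfsg.qd p))

variable {p : ℕ}

theorem hasQdSection_of_surjective {G H : Type*} [Group G] [Group H] {f : G →* H}
    (hf : Function.Surjective f) (h : HasQdSection p H) : HasQdSection p G := by
  obtain ⟨K, L, hL, ⟨e⟩⟩ := h
  obtain ⟨K', L', hL', -, he⟩ := section_lift f
    (by rw [MonoidHom.range_eq_top.mpr hf]; exact le_top) e
  exact ⟨K', L', hL', he⟩

theorem hasQdSection_of_subgroup {G : Type*} [Group G] (M : Subgroup G)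
    (h : HasQdSection p M) : HasQdSection p G := by
  obtain ⟨K, L, hL, ⟨e⟩⟩ := h
  obtain ⟨K', L', hL', -, he⟩ := section_map_subtype M e
  exact ⟨K', L', hL', he⟩

/-- The natural action of a `2 × 2` matrix on pairs. -/
def sl2Act {R : Type*} [CommRing R] (A : SL(2, R)) (v : R × R) : R × R :=
  ((A : Matrix (Fin 2) (Fin 2) R) 0 0 * v.1 + (A : Matrix (Fin 2) (Fin 2) R) 0 1 * v.2,
    (A : Matrix (Fin 2) (Fin 2) R) 1 0 * v.1 + (A : Matrix (Fin 2) (Fin 2) R) 1 1 * v.2)

theorem sl2Act_mul {R : Type*} [CommRing R] (A B : SL(2, R)) (v : R × R) :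
    sl2Act (A * B) v = sl2Act A (sl2Act B v) := by
  simp only [sl2Act, Matrix.SpecialLinearGroup.coe_mul, Matrix.mul_apply, Fin.sum_univ_two,
    Prod.mk.injEq]
  constructor <;> ring

theorem sl2Act_one {R : Type*} [CommRing R] (v : R × R) : sl2Act (1 : SL(2, R)) v = v := by
  simp [sl2Act]

theorem sl2Act_add {R : Type*} [CommRing R] (A : SL(2, R)) (v w : R × R) :
    sl2Act A (v + w) = sl2Act A v + sl2Act A w := by
  simp only [sl2Act, Prod.fst_add, Prod.snd_add, Prod.mk_add_mk, Prod.mk.injEq]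
  constructor <;> ring

theorem sl2Act_neg_one {R : Type*} [CommRing R] (v : R × R) : sl2Act (-1 : SL(2, R)) v = -v := by
  simp [sl2Act, Prod.ext_iff]

/-- The linear part as a subgroup of `Qd(p)`. -/
def qdLinear (p : ℕ) : SL(2, ZMod p) →* ↥(Cfsg.qd p) where
  toFun A := CfsgLib.Qd.mk ((A : Matrix (Fin 2) (Fin 2) (ZMod p)) 0 0)
    ((A : Matrix (Fin 2) (Fin 2) (ZMod p)) 0 1) ((A : Matrix (Fin 2) (Fin 2) (ZMod p)) 1 0)
    ((A : Matrix (Fin 2) (Fin 2) (ZMod p)) 1 1) 0 0 (by rw [← Matrix.det_fin_two]; exact A.2)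
  map_one' := by
    rw [← CfsgLib.Qd.mk_one]
    exact CfsgLib.Qd.mk_eq (by simp) (by simp) (by simp) (by simp) rfl rfl
  map_mul' A B := by
    rw [CfsgLib.Qd.mk_mul]
    refine CfsgLib.Qd.mk_eq ?_ ?_ ?_ ?_ (by ring) (by ring) <;>
      simp [Matrix.mul_apply, Fin.sum_univ_two]

/-- The translations of `Qd(p)`. -/
def qdTrans (p : ℕ) : Multiplicative (ZMod p × ZMod p) →* ↥(Cfsg.qd p) where
  toFun v := CfsgLib.Qd.tra v.toAdd.1 v.toAdd.2
  map_one' := CfsgLib.Qd.tra_zero
  map_mul' v w := (CfsgLib.Qd.tra_mul _ _ _ _).symm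

theorem qdLinear_conj_qdTrans (A : SL(2, ZMod p)) (v : ZMod p × ZMod p) :
    qdLinear p A * qdTrans p (Multiplicative.ofAdd v) * (qdLinear p A)⁻¹ =
      qdTrans p (Multiplicative.ofAdd (sl2Act A v)) := by
  exact CfsgLib.Qd.conj_tra (h := by rw [← Matrix.det_fin_two]; exact A.2) v.1 v.2

/-- The action as automorphisms. -/
def sl2ActAut (p : ℕ) : SL(2, ZMod p) →* MulAut (Multiplicative (ZMod p × ZMod p)) where
  toFun A :=
    { toFun := fun v => Multiplicative.ofAdd (sl2Act A v.toAdd)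
      invFun := fun v => Multiplicative.ofAdd (sl2Act A⁻¹ v.toAdd)
      left_inv := fun v => by
        show Multiplicative.ofAdd (sl2Act A⁻¹ (sl2Act A v.toAdd)) = v
        rw [← sl2Act_mul, inv_mul_cancel, sl2Act_one]
        rfl
      right_inv := fun v => by
        show Multiplicative.ofAdd (sl2Act A (sl2Act A⁻¹ v.toAdd)) = v
        rw [← sl2Act_mul, mul_inv_cancel, sl2Act_one]
        rfl
      map_mul' := fun v w => congrArg Multiplicative.ofAdd (sl2Act_add A v.toAdd w.toAdd) }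
  map_one' := by
    ext1 v
    exact congrArg Multiplicative.ofAdd (sl2Act_one _)
  map_mul' A B := by
    ext1 v
    exact congrArg Multiplicative.ofAdd (sl2Act_mul A B _)

variable [hp : Fact p.Prime]

/-- Splitting off a complement: a group acting on `j(𝔽_p²)` through a surjection to `SL(2,p)`. -/
theorem hasQdSection_of_natural {G : Type*} [Group G] [Finite G] (hp2 : p ≠ 2)
    (j : Multiplicative (ZMod p × ZMod p) →* G) (hj : Function.Injective j) {K : Subgroup G}
    (π : K →* SL(2, ZMod p)) (hπ : Function.Surjective π)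
    (hact : ∀ (k : K) (v : ZMod p × ZMod p), (k : G) * j (Multiplicative.ofAdd v) * (k : G)⁻¹ =
      j (Multiplicative.ofAdd (sl2Act (π k) v))) :
    HasQdSection p G := by
  classical
  let S₂ : Subgroup SL(2, ZMod p) := Subgroup.zpowers (-1)
  have h2 : IsPGroup 2 S₂ := by
    rintro ⟨x, n, rfl⟩
    refine ⟨1, Subtype.ext ?_⟩
    show ((-1 : SL(2, ZMod p)) ^ n) ^ (2 ^ 1) = 1
    rw [pow_one, ← zpow_natCast, zpow_comm, zpow_natCast]
    simp
  haveI hS₂ : S₂.Normal := by
    refine ⟨fun x hx g => ?_⟩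
    obtain ⟨n, rfl⟩ := hx
    refine ⟨n, ?_⟩
    have h : Commute g (-1 : SL(2, ZMod p)) := Commute.neg_one_right g
    show (-1 : SL(2, ZMod p)) ^ n = g * (-1 : SL(2, ZMod p)) ^ n * g⁻¹
    rw [(h.zpow_right n).eq, mul_inv_cancel_right]
  set L := S₂.comap π with hL
  haveI hLn : L.Normal := Subgroup.Normal.comap hS₂ π
  obtain ⟨T⟩ : Nonempty (Sylow 2 L) := inferInstance
  let π₂ : L →* S₂ := π.subgroupComap S₂
  have hπ₂ : Function.Surjective π₂ := π.subgroupComap_surjective_of_surjective S₂ hπ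
  have hT : (T : Subgroup L).map π₂ = ⊤ := by
    rw [← Sylow.coe_mapSurjective hπ₂]
    exact ((T.mapSurjective hπ₂).3 (IsPGroup.of_equiv h2 Subgroup.topEquiv.symm) le_top).symm
  obtain ⟨t, htT, ht⟩ : ∃ t ∈ (T : Subgroup L), π₂ t = ⟨-1, Subgroup.mem_zpowers _⟩ := by
    have : (⟨-1, Subgroup.mem_zpowers _⟩ : S₂) ∈ (T : Subgroup L).map π₂ := hT ▸ Subgroup.mem_top _
    exact this
  set N := Subgroup.normalizer (((T : Subgroup L).map L.subtype) : Set K) with hN
  have htop : N ⊔ L = ⊤ := Sylow.normalizer_sup_eq_top T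
  have hπN : Function.Surjective (π.comp N.subtype) := by
    intro A
    obtain ⟨k, rfl⟩ := hπ A
    have hk : k ∈ N ⊔ L := htop ▸ Subgroup.mem_top k
    rw [Subgroup.mem_sup_of_normal_right] at hk
    obtain ⟨n, hn, l, hl, rfl⟩ := hk
    obtain ⟨l', hl', hle⟩ : ∃ l' ∈ (T : Subgroup L), π₂ l' = π₂ ⟨l, hl⟩ := by
      have : π₂ ⟨l, hl⟩ ∈ (T : Subgroup L).map π₂ := hT ▸ Subgroup.mem_top _
      exact this
    have hl'N : (l' : K) ∈ N := Subgroup.le_normalizer (Subgroup.mem_map_of_mem L.subtype hl')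
    refine ⟨⟨n * (l' : K), N.mul_mem hn hl'N⟩, ?_⟩
    show π (n * (l' : K)) = π (n * l)
    rw [map_mul, map_mul, show π (l' : K) = π l from congrArg Subtype.val hle]
  -- the complement meets the translations trivially
  have hdisj : ∀ (n : N) (v : Multiplicative (ZMod p × ZMod p)), ((n : K) : G) = j v → v = 1 := by
    intro n v hnv
    set tK : K := (t : K) with htK
    have htN : tK ∈ (T : Subgroup L).map L.subtype := Subgroup.mem_map_of_mem _ htT
    have hc : (n : K) * tK * (n : K)⁻¹ ∈ (T : Subgroup L).map L.subtype :=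
      (Subgroup.mem_normalizer_iff.mp n.2 tK).mp htN
    have hc2 : (n : K) * tK * (n : K)⁻¹ * tK⁻¹ ∈ (T : Subgroup L).map L.subtype :=
      Subgroup.mul_mem _ hc (Subgroup.inv_mem _ htN)
    have hval : (((n : K) * tK * (n : K)⁻¹ * tK⁻¹ : K) : G) = j (v * v) := by
      have h1 := hact tK (-v.toAdd)
      rw [show π tK = -1 from congrArg Subtype.val ht, sl2Act_neg_one, neg_neg, ofAdd_neg,
        map_inv, ofAdd_toAdd] at h1
      push_cast
      rw [hnv, map_mul]
      rw [mul_assoc (j v) _ (j v)⁻¹, mul_assoc (j v), h1]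
    obtain ⟨m, hm⟩ := (T.2.map L.subtype) ⟨_, hc2⟩
    have hm' : j ((v * v) ^ 2 ^ m) = 1 := by
      rw [map_pow, ← hval]
      have h' := congrArg Subtype.val hm
      rw [SubgroupClass.coe_pow, OneMemClass.coe_one] at h'
      rw [← SubgroupClass.coe_pow, h']
      rfl
    rw [← map_one j] at hm'
    have h3 := hj hm'
    rw [← pow_two, ← pow_mul, ← pow_succ'] at h3
    have hvp : v ^ p = 1 := by
      apply Multiplicative.toAdd.injective
      rw [toAdd_pow, toAdd_one]
      ext <;> simp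
    exact orderOf_eq_one_iff.mp (Nat.eq_one_of_dvd_coprimes
      (Nat.Coprime.pow_right (m + 1) (Nat.coprime_primes hp.out Nat.prime_two |>.mpr hp2))
      (orderOf_dvd_of_pow_eq_one hvp) (orderOf_dvd_of_pow_eq_one h3))
  let π' : N →* SL(2, ZMod p) := π.comp N.subtype
  let θ : N →* MulAut (Multiplicative (ZMod p × ZMod p)) := (sl2ActAut p).comp π'
  let iN : N →* G := K.subtype.comp N.subtype
  have hcompat : ∀ n : N, j.comp (θ n).toMonoidHom = (MulAut.conj (iN n)).toMonoidHom.comp j := by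
    intro n
    refine MonoidHom.ext fun v => ?_
    exact (hact (n : K) v.toAdd).symm
  let ψ : Multiplicative (ZMod p × ZMod p) ⋊[θ] N →* G := SemidirectProduct.lift j iN hcompat
  have hψ : Function.Injective ψ := by
    rw [injective_iff_map_eq_one]
    intro x hx
    have hx' : j x.left * iN x.right = 1 := hx
    have hr : ((x.right : K) : G) = j x.left⁻¹ := by
      rw [map_inv]; exact eq_inv_of_mul_eq_one_right hx'
    have hl : x.left = 1 := inv_eq_one.mp (hdisj _ _ hr)
    rw [hl, inv_one, map_one] at hr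
    refine SemidirectProduct.ext hl ?_
    exact Subtype.ext (Subtype.ext hr)
  have hcompat' : ∀ n : N, (qdTrans p).comp (θ n).toMonoidHom =
      (MulAut.conj (((qdLinear p).comp π') n)).toMonoidHom.comp (qdTrans p) := by
    intro n
    refine MonoidHom.ext fun v => ?_
    exact (qdLinear_conj_qdTrans (π' n) v.toAdd).symm
  let Φ : Multiplicative (ZMod p × ZMod p) ⋊[θ] N →* ↥(Cfsg.qd p) :=
    SemidirectProduct.lift (qdTrans p) ((qdLinear p).comp π') hcompat'
  have hΦ : Function.Surjective Φ := by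
    intro q
    obtain ⟨a, b, c, d, x, y, h, rfl⟩ := CfsgLib.Qd.exists_eq_mk q
    obtain ⟨n, hn⟩ := hπN ⟨!![a, b; c, d], by rw [Matrix.det_fin_two]; simpa using h⟩
    refine ⟨⟨Multiplicative.ofAdd (x, y), n⟩, ?_⟩
    show CfsgLib.Qd.tra x y * qdLinear p (π' n) = _
    rw [show π' n = _ from hn]
    simp only [CfsgLib.Qd.tra, qdLinear, MonoidHom.coe_mk, OneHom.coe_mk, CfsgLib.Qd.mk_mul]
    refine CfsgLib.Qd.mk_eq ?_ ?_ ?_ ?_ ?_ ?_ <;> simp
  let f : ψ.range →* ↥(Cfsg.qd p) := Φ.comp (MonoidHom.ofInjective hψ).symm.toMonoidHom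
  have hf : Function.Surjective f := hΦ.comp (MonoidHom.ofInjective hψ).symm.surjective
  obtain ⟨K', R, hR, -, he⟩ := section_of_hom f ⊤ (by rw [MonoidHom.range_eq_top.mpr hf])
    Subgroup.topEquiv
  exact ⟨K', R, hR, he⟩

end CfsgLib.PLoc
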