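import Mathlib.LinearAlgebra.Matrix.SpecialLinearGroup
import Mathlib.LinearAlgebra.Matrix.Notation
import Mathlib.Algebra.Field.ZMod
import Mathlib.GroupTheory.Commutator.Basic
import Mathlib.Tactic.LinearCombination
import Mathlib.Tactic.FieldSimp
import Mathlib.Tactic.Ring
import Cfsg.Agent.Lib.Linear.Card

/-! `SL(2, p)`: generation, commutators, and elements of order prime to `p` for `p = 2, 3`. -/

set_option autoImplicit false

open scoped MatrixGroups commutatorElement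

namespace CfsgLib.PLocal

variable {p : ℕ}

/-- The upper transvection. -/
def slU (t : ZMod p) : SL(2, ZMod p) := ⟨!![1, t; 0, 1], by simp [Matrix.det_fin_two]⟩

/-- The lower transvection. -/
def slL (t : ZMod p) : SL(2, ZMod p) := ⟨!![1, 0; t, 1], by simp [Matrix.det_fin_two]⟩

theorem slU_mul (s t : ZMod p) : slU s * slU t = slU (s + t) := by
  apply Subtype.ext
  rw [Matrix.SpecialLinearGroup.coe_mul]
  show !![1, s; 0, 1] * !![1, t; 0, 1] = !![1, s + t; 0, 1]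
  rw [Matrix.mul_fin_two]
  ext i j
  fin_cases i <;> fin_cases j <;> simp [add_comm]

theorem slL_mul (s t : ZMod p) : slL s * slL t = slL (s + t) := by
  apply Subtype.ext
  rw [Matrix.SpecialLinearGroup.coe_mul]
  show !![1, 0; s, 1] * !![1, 0; t, 1] = !![1, 0; s + t, 1]
  rw [Matrix.mul_fin_two]
  ext i j
  fin_cases i <;> fin_cases j <;> simp

theorem slU_zero : slU (0 : ZMod p) = 1 := by
  apply Subtype.ext
  show !![1, (0 : ZMod p); 0, 1] = 1
  rw [Matrix.one_fin_two]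

theorem slL_zero : slL (0 : ZMod p) = 1 := by
  apply Subtype.ext
  show !![1, 0; (0 : ZMod p), 1] = 1
  rw [Matrix.one_fin_two]

theorem slU_one_pow (n : ℕ) : (slU (1 : ZMod p)) ^ n = slU (n : ZMod p) := by
  induction n with
  | zero => rw [pow_zero, Nat.cast_zero, slU_zero]
  | succ n ih => rw [pow_succ, ih, slU_mul, Nat.cast_succ]

theorem slL_one_pow (n : ℕ) : (slL (1 : ZMod p)) ^ n = slL (n : ZMod p) := by
  induction n with
  | zero => rw [pow_zero, Nat.cast_zero, slL_zero]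
  | succ n ih => rw [pow_succ, ih, slL_mul, Nat.cast_succ]

variable [hp : Fact p.Prime]

theorem sl2_eq_top_of_transvections (S : Subgroup SL(2, ZMod p)) (hu : slU 1 ∈ S) (hl : slL 1 ∈ S) :
    S = ⊤ := by
  have hU : ∀ t, slU t ∈ S := fun t => by
    have h := S.pow_mem hu t.val
    rwa [slU_one_pow, ZMod.natCast_zmod_val] at h
  have hL : ∀ t, slL t ∈ S := fun t => by
    have h := S.pow_mem hl t.val
    rwa [slL_one_pow, ZMod.natCast_zmod_val] at h
  have hc0 : ∀ g : SL(2, ZMod p), (g : Matrix (Fin 2) (Fin 2) (ZMod p)) 1 0 ≠ 0 → g ∈ S := by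
    intro g hg
    have hdet : (g : Matrix (Fin 2) (Fin 2) (ZMod p)) 0 0 * (g : Matrix (Fin 2) (Fin 2) (ZMod p)) 1 1 -
        (g : Matrix (Fin 2) (Fin 2) (ZMod p)) 0 1 * (g : Matrix (Fin 2) (Fin 2) (ZMod p)) 1 0 = 1 := by
      rw [← Matrix.det_fin_two]; exact g.2
    have h : g =
        slU (((g : Matrix (Fin 2) (Fin 2) (ZMod p)) 0 0 - 1) / (g : Matrix (Fin 2) (Fin 2) (ZMod p)) 1 0) *
        slL ((g : Matrix (Fin 2) (Fin 2) (ZMod p)) 1 0) *
        slU (((g : Matrix (Fin 2) (Fin 2) (ZMod p)) 1 1 - 1) / (g : Matrix (Fin 2) (Fin 2) (ZMod p)) 1 0) := by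
      apply Subtype.ext
      rw [Matrix.SpecialLinearGroup.coe_mul, Matrix.SpecialLinearGroup.coe_mul]
      show (g : Matrix (Fin 2) (Fin 2) (ZMod p)) = !![1, _; 0, 1] * !![1, 0; _, 1] * !![1, _; 0, 1]
      rw [Matrix.mul_fin_two, Matrix.mul_fin_two]
      ext i' j'
      fin_cases i' <;> fin_cases j' <;> simp <;> field_simp
      · ring
      · linear_combination -hdet
      · ring
    rw [h]
    exact S.mul_mem (S.mul_mem (hU _) (hL _)) (hU _)
  rw [eq_top_iff]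
  intro g _
  by_cases hg : (g : Matrix (Fin 2) (Fin 2) (ZMod p)) 1 0 = 0
  · have h1 : (g * slL 1 : SL(2, ZMod p)) ∈ S := by
      apply hc0
      rw [Matrix.SpecialLinearGroup.coe_mul]
      show ((g : Matrix (Fin 2) (Fin 2) (ZMod p)) *
        (!![1, 0; 1, 1] : Matrix (Fin 2) (Fin 2) (ZMod p))) 1 0 ≠ 0
      intro h
      have hd : (g : Matrix (Fin 2) (Fin 2) (ZMod p)).det = 1 := g.2
      simp [Matrix.mul_apply, Fin.sum_univ_two, hg] at h
      rw [Matrix.det_fin_two, hg, h] at hd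
      simp at hd
    have := S.mul_mem h1 (S.inv_mem (hL 1))
    rwa [mul_inv_cancel_right] at this
  · exact hc0 g hg

theorem slU_one_mem_commutator (h5 : 5 ≤ p) : slU (1 : ZMod p) ∈ _root_.commutator SL(2, ZMod p) := by
  have hne : ∀ k : ℕ, 0 < k → k < p → (k : ZMod p) ≠ 0 := by
    intro k hk hkp h
    exact absurd (Nat.le_of_dvd hk ((ZMod.natCast_eq_zero_iff k p).mp h)) (not_le.mpr hkp)
  have h2 : (2 : ZMod p) ≠ 0 := by exact_mod_cast hne 2 (by omega) (by omega)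
  have h3 : (3 : ZMod p) ≠ 0 := by exact_mod_cast hne 3 (by omega) (by omega)
  let d : SL(2, ZMod p) := ⟨!![2, 0; 0, 2⁻¹], by simp [Matrix.det_fin_two, h2]⟩
  have he : slU (1 : ZMod p) = ⁅d, slU (3⁻¹ : ZMod p)⁆ := by
    rw [commutatorElement_def, eq_mul_inv_iff_mul_eq, eq_mul_inv_iff_mul_eq, slU_mul]
    apply Subtype.ext
    rw [Matrix.SpecialLinearGroup.coe_mul, Matrix.SpecialLinearGroup.coe_mul]
    show !![1, 1 + 3⁻¹; 0, 1] * !![2, 0; 0, 2⁻¹] = !![2, 0; 0, 2⁻¹] * !![1, 3⁻¹; 0, 1]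
    rw [Matrix.mul_fin_two, Matrix.mul_fin_two]
    ext i j
    fin_cases i <;> fin_cases j <;> simp <;> field_simp
    ring
  rw [he]
  exact Subgroup.commutator_mem_commutator (Subgroup.mem_top _) (Subgroup.mem_top _)

omit hp in
theorem exists_noline_two : ∃ g : SL(2, ZMod 2), g ^ 3 = 1 ∧
    ∀ v : Fin 2 → ZMod 2, ∀ c : ZMod 2, v ≠ 0 → (g : Matrix (Fin 2) (Fin 2) (ZMod 2)).mulVec v ≠ c • v :=
  ⟨⟨!![0, 1; 1, 1], by decide⟩, by decide, by decide⟩

omit hp in
theorem exists_noline_three : ∃ g h : SL(2, ZMod 3), g ^ 4 = 1 ∧ h ^ 4 = 1 ∧ g * h ≠ h * g ∧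
    ∀ v : Fin 2 → ZMod 3, ∀ c : ZMod 3, v ≠ 0 → (g : Matrix (Fin 2) (Fin 2) (ZMod 3)).mulVec v ≠ c • v :=
  ⟨⟨!![0, 2; 1, 0], by decide⟩, ⟨!![1, 1; 1, 2], by decide⟩, by decide, by decide, by decide, by decide⟩

theorem card_sl2_prime : Nat.card SL(2, ZMod p) = p * (p ^ 2 - 1) := by
  rw [CfsgLib.Linear.card_SL_two, ZMod.card]

end CfsgLib.PLocal
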