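import Mathlib.Algebra.Module.ZMod
import Mathlib.LinearAlgebra.Matrix.ToLin
import Cfsg.Agent.Lib.PLocal.SL2Prime
import Cfsg.Agent.Lib.PLocal.Thompson

/-! A group generated by two opposite transvections on a plane is `SL(2, p)`. -/

set_option autoImplicit false

open scoped commutatorElement MatrixGroups

namespace CfsgLib.PLocal

variable {G : Type*} [Group G] [Finite G] {p : ℕ} [hp : Fact p.Prime]

/-- Coordinates for a group acting faithfully on a plane, generated by two opposite transvections. -/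
theorem exists_sl2_coordinates {W E : Subgroup G} (hW : Cfsg.IsElementaryAbelian p W)
    (hcard : Nat.card W = p ^ 2) (hEW : E ≤ Subgroup.normalizer (W : Set G))
    (hf : E ⊓ Subgroup.centralizer (W : Set G) = ⊥) {u u' a b : G} (hu : u ∈ W) (hu' : u' ∈ W)
    (hgenW : W ≤ Subgroup.zpowers u ⊔ Subgroup.zpowers u')
    (hgenE : E = Subgroup.closure {a, b})
    (hau : a * u * a⁻¹ = u) (hau' : a * u' * a⁻¹ = u * u')
    (hbu : b * u * b⁻¹ = u * u') (hbu' : b * u' * b⁻¹ = u') :
    ∃ φ : ↥E ≃* SL(2, ZMod p), (∀ e : ↥E, (e : G) = a → φ e = slU 1) ∧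
      ∀ e : ↥E, ∀ w ∈ W, w ≠ 1 → ∀ n : ℕ, (e : G) * w * (e : G)⁻¹ = w ^ n →
        ∃ v : Fin 2 → ZMod p, v ≠ 0 ∧
          (φ e : Matrix (Fin 2) (Fin 2) (ZMod p)).mulVec v = (n : ZMod p) • v := by
  classical
  letI : CommGroup W := { (inferInstance : Group W) with
    mul_comm := fun x y => Subtype.ext (commute_of_mem_comm hW.1 x.2 y.2).eq }
  have hsmul : ∀ x : Additive W, p • x = 0 := by
    intro x
    apply Additive.toMul.injective
    exact Subtype.ext (hW.2 _ (Additive.toMul x).2)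
  let xu : Additive W := Additive.ofMul ⟨u, hu⟩
  let xu' : Additive W := Additive.ofMul ⟨u', hu'⟩
  let lu : ZMod p →+ Additive W := ZMod.lift p ⟨zmultiplesHom _ xu, by
    rw [zmultiplesHom_apply, natCast_zsmul]; exact hsmul xu⟩
  let lu' : ZMod p →+ Additive W := ZMod.lift p ⟨zmultiplesHom _ xu', by
    rw [zmultiplesHom_apply, natCast_zsmul]; exact hsmul xu'⟩
  let θ₀ : (Fin 2 → ZMod p) →+ Additive W :=
    lu.comp (Pi.evalAddMonoidHom (fun _ : Fin 2 => ZMod p) 0) +
      lu'.comp (Pi.evalAddMonoidHom (fun _ : Fin 2 => ZMod p) 1)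
  have hl1 : lu 1 = xu := by
    rw [show (1 : ZMod p) = ((1 : ℤ) : ZMod p) from Int.cast_one.symm, ZMod.lift_coe]
    exact one_zsmul xu
  have hl1' : lu' 1 = xu' := by
    rw [show (1 : ZMod p) = ((1 : ℤ) : ZMod p) from Int.cast_one.symm, ZMod.lift_coe]
    exact one_zsmul xu'
  have he0 : θ₀ ![1, 0] = xu := by
    show lu 1 + lu' 0 = xu
    rw [map_zero, add_zero, hl1]
  have he1 : θ₀ ![0, 1] = xu' := by
    show lu 0 + lu' 1 = xu'
    rw [map_zero, zero_add, hl1']
  let R : Subgroup G :=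
    { carrier := {g : G | ∃ v, ((Additive.toMul (θ₀ v) : W) : G) = g}
      one_mem' := ⟨0, by simp⟩
      mul_mem' := by
        rintro _ _ ⟨v, rfl⟩ ⟨w, rfl⟩
        exact ⟨v + w, by simp⟩
      inv_mem' := by
        rintro _ ⟨v, rfl⟩
        exact ⟨-v, by simp⟩ }
  have hWR : W ≤ R := hgenW.trans (sup_le (Subgroup.zpowers_le.mpr ⟨_, by rw [he0]; rfl⟩)
    (Subgroup.zpowers_le.mpr ⟨_, by rw [he1]; rfl⟩))
  have hsurj : Function.Surjective θ₀ := by
    intro x
    obtain ⟨v, hv⟩ := hWR (Additive.toMul x).2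
    exact ⟨v, Additive.toMul.injective (Subtype.ext hv)⟩
  have hbij : Function.Bijective θ₀ := by
    refine (Nat.bijective_iff_surjective_and_card θ₀).mpr ⟨hsurj, ?_⟩
    rw [Nat.card_fun, Nat.card_zmod, Nat.card_fin, show Nat.card (Additive W) = Nat.card W from rfl, hcard]
  let θ : (Fin 2 → ZMod p) ≃+ Additive W := AddEquiv.ofBijective θ₀ hbij
  let act : ↥E → (Additive W →+ Additive W) := fun e =>
    { toFun := fun x => Additive.ofMul ⟨(e : G) * (Additive.toMul x : W) * (e : G)⁻¹,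
        (Subgroup.mem_normalizer_iff.mp (hEW e.2) _).mp (Additive.toMul x).2⟩
      map_zero' := by apply Additive.toMul.injective; ext; simp
      map_add' := fun x y => by apply Additive.toMul.injective; ext; simp [mul_assoc] }
  let T : ↥E → ((Fin 2 → ZMod p) →ₗ[ZMod p] (Fin 2 → ZMod p)) := fun e =>
    AddMonoidHom.toZModLinearMap p ((θ.symm.toAddMonoidHom.comp (act e)).comp θ.toAddMonoidHom)
  have hTθ : ∀ e v, θ (T e v) = act e (θ v) := fun e v => θ.apply_symm_apply _
  have hTmul : ∀ e f, T (e * f) = (T e).comp (T f) := by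
    intro e f
    refine LinearMap.ext fun v => θ.injective ?_
    rw [LinearMap.comp_apply, hTθ, hTθ, hTθ]
    apply Additive.toMul.injective
    ext
    show ((e * f : E) : G) * (Additive.toMul (θ v) : W) * ((e * f : E) : G)⁻¹ =
      (e : G) * ((f : G) * (Additive.toMul (θ v) : W) * (f : G)⁻¹) * (e : G)⁻¹
    simp [mul_assoc]
  have hTone : T 1 = LinearMap.id := by
    refine LinearMap.ext fun v => θ.injective ?_
    rw [hTθ]
    apply Additive.toMul.injective
    ext
    show ((1 : E) : G) * (Additive.toMul (θ v) : W) * ((1 : E) : G)⁻¹ = (Additive.toMul (θ v) : W)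
    simp
  let M : ↥E →* Matrix (Fin 2) (Fin 2) (ZMod p) :=
    { toFun := fun e => LinearMap.toMatrix' (T e)
      map_one' := by rw [hTone, LinearMap.toMatrix'_id]
      map_mul' := fun e f => by rw [hTmul, LinearMap.toMatrix'_comp] }
  have hMT : ∀ e v, (M e).mulVec v = T e v := fun e v => by
    show (LinearMap.toMatrix' (T e)).mulVec v = T e v
    exact LinearMap.toMatrix'_mulVec (T e) v
  have hcoord : ∀ (e : ↥E) (v w : Fin 2 → ZMod p),
      (e : G) * (Additive.toMul (θ v) : W) * (e : G)⁻¹ = (Additive.toMul (θ w) : W) → T e v = w := by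
    intro e v w h
    apply θ.injective
    rw [hTθ]
    exact Additive.toMul.injective (Subtype.ext h)
  have hv0 : ((Additive.toMul (θ ![1, 0]) : W) : G) = u := by
    rw [show θ ![1, 0] = xu from he0]; rfl
  have hv1 : ((Additive.toMul (θ ![0, 1]) : W) : G) = u' := by
    rw [show θ ![0, 1] = xu' from he1]; rfl
  have hv01 : ((Additive.toMul (θ ![1, 1]) : W) : G) = u * u' := by
    rw [show (![1, 1] : Fin 2 → ZMod p) = ![1, 0] + ![0, 1] by ext i; fin_cases i <;> simp, map_add]
    show ((Additive.toMul (θ ![1, 0]) : W) : G) * (Additive.toMul (θ ![0, 1]) : W) = u * u'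
    rw [hv0, hv1]
  have hmat : ∀ (e : ↥E) (A : Matrix (Fin 2) (Fin 2) (ZMod p)), T e ![1, 0] = A.mulVec ![1, 0] →
      T e ![0, 1] = A.mulVec ![0, 1] → M e = A := by
    intro e A h0 h1
    rw [← hMT] at h0 h1
    ext i j
    fin_cases j
    · simpa [Matrix.mulVec, dotProduct, Fin.sum_univ_two] using congrFun h0 i
    · simpa [Matrix.mulVec, dotProduct, Fin.sum_univ_two] using congrFun h1 i
  have hMa : ∀ e : ↥E, (e : G) = a → M e = !![1, 1; 0, 1] := by
    intro e he
    apply hmat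
    · rw [hcoord e ![1, 0] ![1, 0] (by rw [hv0, he, hau])]
      ext i; fin_cases i <;> simp [Matrix.mulVec, dotProduct, Fin.sum_univ_two]
    · rw [hcoord e ![0, 1] ![1, 1] (by rw [hv1, hv01, he, hau'])]
      ext i; fin_cases i <;> simp [Matrix.mulVec, dotProduct, Fin.sum_univ_two]
  have hMb : ∀ e : ↥E, (e : G) = b → M e = !![1, 0; 1, 1] := by
    intro e he
    apply hmat
    · rw [hcoord e ![1, 0] ![1, 1] (by rw [hv0, hv01, he, hbu])]
      ext i; fin_cases i <;> simp [Matrix.mulVec, dotProduct, Fin.sum_univ_two]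
    · rw [hcoord e ![0, 1] ![0, 1] (by rw [hv1, he, hbu'])]
      ext i; fin_cases i <;> simp [Matrix.mulVec, dotProduct, Fin.sum_univ_two]
  have hdet : ∀ e : ↥E, (M e).det = 1 := by
    rintro ⟨e, he⟩
    have he' := he
    rw [hgenE] at he'
    induction he' using Subgroup.closure_induction with
    | mem x hx =>
      rcases hx with rfl | hx
      · rw [hMa _ rfl]; simp [Matrix.det_fin_two]
      · rw [hMb _ (Set.mem_singleton_iff.mp hx)]; simp [Matrix.det_fin_two]
    | one =>
      rw [show (⟨1, he⟩ : ↥E) = 1 from rfl, map_one, Matrix.det_one]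
    | mul x y hx hy ihx ihy =>
      rw [← hgenE] at hx hy
      rw [show (⟨x * y, he⟩ : ↥E) = ⟨x, hx⟩ * ⟨y, hy⟩ from rfl, map_mul, Matrix.det_mul, ihx hx, ihy hy,
        one_mul]
    | inv x hx ih =>
      rw [← hgenE] at hx
      have h : M (⟨x⁻¹, he⟩ : ↥E) * M ⟨x, hx⟩ = 1 := by
        rw [← map_mul, show (⟨x⁻¹, he⟩ : ↥E) * ⟨x, hx⟩ = 1 from Subtype.ext (inv_mul_cancel x), map_one]
      have h2 := congrArg Matrix.det h
      rwa [Matrix.det_mul, ih hx, mul_one, Matrix.det_one] at h2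
  let φ₀ : ↥E →* SL(2, ZMod p) :=
    { toFun := fun e => ⟨M e, hdet e⟩
      map_one' := Subtype.ext (map_one M)
      map_mul' := fun e f => Subtype.ext (map_mul M e f) }
  have hφinj : Function.Injective φ₀ := by
    rw [injective_iff_map_eq_one]
    intro e he
    have hMe : M e = 1 := congrArg Subtype.val he
    ext
    rw [Subgroup.coe_one, ← Subgroup.mem_bot, ← hf]
    refine ⟨e.2, fun w hw => ?_⟩
    obtain ⟨v, hv⟩ := θ.surjective (Additive.ofMul ⟨w, hw⟩)
    have h := hTθ e v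
    rw [← hMT, hMe, Matrix.one_mulVec, hv] at h
    have h' : w = (e : G) * w * (e : G)⁻¹ :=
      congrArg (fun x : Additive W => ((Additive.toMul x : W) : G)) h
    exact (mul_inv_eq_iff_eq_mul.mp h'.symm).symm
  have haE : a ∈ E := hgenE ▸ Subgroup.subset_closure (by simp)
  have hbE : b ∈ E := hgenE ▸ Subgroup.subset_closure (by simp)
  have hφsurj : Function.Surjective φ₀ := by
    rw [← MonoidHom.range_eq_top]
    refine sl2_eq_top_of_transvections _ ⟨⟨a, haE⟩, ?_⟩ ⟨⟨b, hbE⟩, ?_⟩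
    · exact Subtype.ext (hMa _ rfl)
    · exact Subtype.ext (hMb _ rfl)
  refine ⟨MulEquiv.ofBijective φ₀ ⟨hφinj, hφsurj⟩, fun e he => Subtype.ext (hMa e he), ?_⟩
  intro e w hw hw1 n hn
  obtain ⟨v, hv⟩ := θ.surjective (Additive.ofMul ⟨w, hw⟩)
  refine ⟨v, fun h0 => hw1 ?_, ?_⟩
  · rw [h0, map_zero] at hv
    exact (congrArg (fun x : Additive W => ((Additive.toMul x : W) : G)) hv).symm
  · show (M e).mulVec v = (n : ZMod p) • v
    rw [hMT, Nat.cast_smul_eq_nsmul]
    apply θ.injective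
    rw [hTθ, map_nsmul, hv]
    refine Additive.toMul.injective (Subtype.ext ?_)
    show (e : G) * w * (e : G)⁻¹ = ((n • Additive.ofMul (⟨w, hw⟩ : W)).toMul : W)
    rw [hn]
    rfl

end CfsgLib.PLocal
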