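import Cfsg.Agent.Lib.PLocal.ZJTheorem

/-!
For odd `p`: a quadratic element centralizes the images of an abelian `p'`-section `K / Q`, hence the
action is `p`-stable when `G / Q` has an abelian normal `p`-complement.
-/

set_option linter.style.haveILetI false
open Cfsg Subgroup
open scoped commutatorElement

namespace CfsgLib.PLoc

/-- The ring identity behind the statement: `x` unipotent of square zero, `k` with commuting
conjugates and of order `m`, the additive group without `m`- or `2`-torsion: `k` commutes with `x`. -/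
theorem quadratic_unit_commute {R : Type*} [Ring R] (m : ℕ) (h2 : ∀ r : R, r + r = 0 → r = 0)
    (hm : ∀ r : R, (m : R) * r = 0 → r = 0) (x k : Rˣ)
    (hx : ((x : R) - 1) * ((x : R) - 1) = 0) (hk : k ^ m = 1)
    (h01 : Commute k (x * k * x⁻¹)) (h02 : Commute k (x * (x * k * x⁻¹) * x⁻¹)) :
    x * k * x⁻¹ = k := by
  set k1 := x * k * x⁻¹ with hk1
  set k2 := x * k1 * x⁻¹ with hk2
  have hxk : (x : R) * k = k1 * x := by rw [← Units.val_mul, ← Units.val_mul]; congr 1; rw [hk1]; group
  have hxk1 : (x : R) * k1 = k2 * x := by rw [← Units.val_mul, ← Units.val_mul]; congr 1; rw [hk2]; group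
  have hc01 : (k : R) * k1 = k1 * k := by rw [← Units.val_mul, ← Units.val_mul, h01.eq]
  have hc02 : (k : R) * k2 = k2 * k := by rw [← Units.val_mul, ← Units.val_mul, h02.eq]
  set n : R := (x : R) - 1 with hn
  have hxn : (x : R) = 1 + n := by rw [hn]; abel
  set b : R := (k1 : R) - k with hb
  set c : R := (k2 : R) - k1 with hc
  have hnk : n * k = k1 * n + b := by
    rw [hn, hb, sub_mul, mul_sub, hxk]; noncomm_ring
  have hnk1 : n * k1 = k2 * n + c := by
    rw [hn, hc, sub_mul, mul_sub, hxk1]; noncomm_ring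
  -- `x ^ 2 k = k2 x ^ 2`
  have hd : b - c = c * n + c * n := by
    have h1 : n * (n * k) = 0 := by rw [← mul_assoc, hx, zero_mul]
    have h3 : n * b = c * n + c - b + 0 := by
      rw [hb, mul_sub, hnk, hnk1, hb, hc]; noncomm_ring
    rw [hnk, mul_add, ← mul_assoc, hnk1, h3, add_mul, mul_assoc, hx, mul_zero, zero_add, add_zero] at h1
    have h4 : c * n + c * n = (c * n + (c * n + c - b)) + (b - c) := by abel
    rw [h4, h1, zero_add]
  have hbn : b * n = c * n := by
    have h : (b - c) * n = 0 := by rw [hd, add_mul, mul_assoc, hx, mul_zero, add_zero]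
    rw [sub_mul, sub_eq_zero] at h
    exact h
  have hd' : b - c = b * n + b * n := by rw [hbn]; exact hd
  have hdk : (b - c) * k = k * (b - c) := by
    rw [hb, hc]; simp only [sub_mul, mul_sub, hc01, hc02]
  have hbk : b * k = k * b := by rw [hb, sub_mul, mul_sub, hc01]
  have h5 : b * (n * k) = b * (k * n) := by
    apply eq_of_sub_eq_zero
    apply h2
    have : (b * n + b * n) * k - k * (b * n + b * n) = 0 := by rw [← hd', hdk, sub_self]
    rw [← this, ← mul_assoc b k n, hbk]
    noncomm_ring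
  have hb2 : b * b = 0 := by
    have h6 : b * b * (x : R) = b * (n * k) - b * (k * n) := by
      rw [hnk, hxn, hb]; noncomm_ring
    rw [h5, sub_self] at h6
    exact (Units.mul_left_eq_zero x).mp h6
  -- `k1 / k = 1 + b k⁻¹` has order dividing `m`
  set b' : R := b * ((k⁻¹ : Rˣ) : R) with hb'
  have hbk' : ((k⁻¹ : Rˣ) : R) * b = b * ((k⁻¹ : Rˣ) : R) := by
    rw [← Units.eq_mul_inv_iff_mul_eq (c := k), mul_assoc] at hbk
    conv_lhs => rw [hbk]
    rw [← mul_assoc, ← mul_assoc, Units.inv_mul, one_mul]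
  have hb'2 : b' * b' = 0 := by
    rw [hb', mul_assoc, ← mul_assoc _ b, hbk', ← mul_assoc, ← mul_assoc, hb2, zero_mul, zero_mul]
  have hu : ((k1 * k⁻¹ : Rˣ) : R) = 1 + b' := by
    rw [Units.val_mul, hb', hb, sub_mul, Units.mul_inv]; abel
  have hpow : ∀ i : ℕ, ((k1 * k⁻¹ : Rˣ) : R) ^ i = 1 + (i : R) * b' := by
    intro i
    induction i with
    | zero => simp
    | succ i ih =>
      rw [pow_succ, ih, hu, add_mul, mul_add, mul_add, one_mul, one_mul, mul_one, mul_assoc, hb'2, mul_zero,
        add_zero, Nat.cast_succ, add_mul, one_mul]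
      abel
  have hum : ((k1 * k⁻¹ : Rˣ)) ^ m = 1 := by
    rw [h01.symm.inv_right.mul_pow, inv_pow, hk, inv_one, mul_one, hk1, conj_pow, hk, mul_one, mul_inv_cancel]
  have h7 := hpow m
  rw [← Units.val_pow_eq_pow_val, hum, Units.val_one] at h7
  have h8 : b' = 0 := hm _ (by simpa using h7)
  rw [h8, add_zero] at hu
  exact mul_inv_eq_one.mp (Units.ext hu)

variable {G : Type*} [Group G] {p : ℕ}

/-- The same for conjugation on an abelian normal `p`-subgroup. -/
theorem commutator_mem_centralizer_of_quadratic [Finite G] [Fact p.Prime] (hp : p ≠ 2) {V : Subgroup G}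
    [V.Normal] (hVab : IsMulCommutative V) (hV : IsPGroup p V) {a k : G} {m : ℕ} (hm : m.Coprime p)
    (ha : ⁅⁅V, zpowers a⁆, zpowers a⁆ = ⊥) (hk : k ^ m ∈ centralizer (V : Set G))
    (h1 : ⁅k, a * k * a⁻¹⁆ ∈ centralizer (V : Set G))
    (h2 : ⁅k, a * (a * k * a⁻¹) * a⁻¹⁆ ∈ centralizer (V : Set G)) :
    ⁅a, k⁆ ∈ centralizer (V : Set G) := by
  letI : CommGroup V := { (inferInstance : Group V) with mul_comm := fun u v => Subtype.ext (setLike_mul_comm u.2 v.2) }
  let φ : G →* AddMonoid.End (Additive V) :=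
    { toFun := fun g => MonoidHom.toAdditive (MulAut.conjNormal (H := V) g).toMonoidHom
      map_one' := AddMonoidHom.ext fun v => Additive.toMul.injective (Subtype.ext
        (show 1 * (v.toMul : G) * 1⁻¹ = (v.toMul : G) by group))
      map_mul' := fun g h => AddMonoidHom.ext fun v => Additive.toMul.injective (Subtype.ext
        (show g * h * (v.toMul : G) * (g * h)⁻¹ = g * (h * (v.toMul : G) * h⁻¹) * g⁻¹ by group)) }
  let ψ : G →* (AddMonoid.End (Additive V))ˣ := φ.toHomUnits
  have hψ : ∀ (g : G) (v : Additive V), (((ψ g : AddMonoid.End (Additive V)) v).toMul : G) = g * (v.toMul : G) * g⁻¹ :=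
    fun g v => rfl
  have hker : ∀ g : G, ψ g = 1 ↔ g ∈ centralizer (V : Set G) := by
    intro g
    constructor
    · intro h v hv
      have h' := hψ g (Additive.ofMul ⟨v, hv⟩)
      rw [h, Units.val_one] at h'
      have h'' : v = g * v * g⁻¹ := h'
      calc v * g = g * v * g⁻¹ * g := by rw [← h'']
        _ = g * v := inv_mul_cancel_right _ _
    · intro h
      refine Units.ext (AddMonoidHom.ext fun v => Additive.toMul.injective (Subtype.ext ?_))
      show g * (v.toMul : G) * g⁻¹ = (v.toMul : G)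
      rw [← h _ v.toMul.2, mul_inv_cancel_right]
  have hcomm : ∀ g : G, ⁅k, g⁆ ∈ centralizer (V : Set G) → Commute (ψ k) (ψ g) := fun g hg => by
    rw [← commutatorElement_eq_one_iff_commute, ← map_commutatorElement, hker]; exact hg
  have hxq : ((ψ a : AddMonoid.End (Additive V)) - 1) * ((ψ a : AddMonoid.End (Additive V)) - 1) = 0 := by
    refine AddMonoidHom.ext fun v => Additive.toMul.injective (Subtype.ext ?_)
    have h0 : ⁅⁅(v.toMul : G), a⁆, a⁆ ∈ (⊥ : Subgroup G) := ha ▸ commutator_mem_commutator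
      (commutator_mem_commutator v.toMul.2 (mem_zpowers a)) (mem_zpowers a)
    rw [mem_bot] at h0
    show ((((ψ a : AddMonoid.End (Additive V)) ((ψ a : AddMonoid.End (Additive V)) v - v)) -
      ((ψ a : AddMonoid.End (Additive V)) v - v)).toMul : G) = ((0 : Additive V).toMul : G)
    simp only [toMul_sub, div_eq_mul_inv, Subgroup.coe_mul, Subgroup.coe_inv, hψ, toMul_zero, OneMemClass.coe_one]
    have h1 := commutatorElement_eq_one_iff_commute.mp h0
    rw [show a * (v.toMul : G) * a⁻¹ * (v.toMul : G)⁻¹ = ⁅(v.toMul : G), a⁆⁻¹ by rw [commutatorElement_def]; group,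
      ← h1.inv_left.eq, mul_inv_cancel_right, mul_inv_cancel]
  obtain ⟨j, hj⟩ := isPGroup_iff_exists_pow_pow_eq_one.mp hV
  have hkill : ∀ (n : ℕ), n.Coprime p → ∀ r : AddMonoid.End (Additive V), (n : AddMonoid.End (Additive V)) * r = 0 → r = 0 := by
    intro n hn r hr
    refine AddMonoidHom.ext fun v => ?_
    have h3 : n • r v = 0 := DFunLike.congr_fun hr v
    have h4 : (p ^ j) • r v = 0 := Additive.toMul.injective (hj (r v).toMul)
    have h5 : Nat.gcd n (p ^ j) • r v = 0 := by
      rw [← Nat.cast_smul_eq_nsmul ℤ, Nat.gcd_eq_gcd_ab, add_smul, mul_comm (n : ℤ), mul_comm ((p ^ j : ℕ) : ℤ),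
        mul_smul, mul_smul, Nat.cast_smul_eq_nsmul, Nat.cast_smul_eq_nsmul, h3, h4, smul_zero, smul_zero, add_zero]
    rwa [(hn.pow_right j).gcd_eq_one, one_smul] at h5
  have h := quadratic_unit_commute m
    (fun r hr => hkill 2 ((Nat.coprime_primes Nat.prime_two Fact.out).mpr (Ne.symm hp)) r
      (by rw [Nat.cast_ofNat, two_mul]; exact hr))
    (hkill m hm) (ψ a) (ψ k) hxq (by rw [← map_pow, hker]; exact hk)
    (by rw [← map_inv, ← map_mul, ← map_mul]; exact hcomm _ h1)
    (by simp only [← map_inv, ← map_mul]; exact hcomm _ h2)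
  rw [← hker, map_commutatorElement, commutatorElement_def, h, mul_inv_cancel]

/-- A `p'`-part of an element in the same coset of a normal `p`-subgroup. -/
theorem exists_coprime_rep [Finite G] [Fact p.Prime] {Q : Subgroup G} [Q.Normal] {g : G} {m : ℕ}
    (hm : m.Coprime p) (hg : g ^ m ∈ Q) : ∃ w : G, (orderOf w).Coprime p ∧ g⁻¹ * w ∈ Q := by
  obtain ⟨k, n, hn, he⟩ := Nat.exists_eq_pow_mul_and_not_dvd (orderOf_pos g).ne' p (Nat.Prime.ne_one Fact.out)
  have hnp : n.Coprime p := ((Nat.Prime.coprime_iff_not_dvd Fact.out).mpr hn).symm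
  obtain ⟨t, ht⟩ := exists_pow_eq_self_of_coprime (x := QuotientGroup.mk' Q g) (n := p ^ k)
    ((Nat.Coprime.pow_right k hm).symm.coprime_dvd_right
      (orderOf_dvd_of_pow_eq_one (by rw [← map_pow]; exact (QuotientGroup.eq_one_iff _).mpr hg)))
  refine ⟨(g ^ p ^ k) ^ t, ?_, ?_⟩
  · have h1 : orderOf (g ^ p ^ k) = n := by
      rw [orderOf_pow, he, Nat.gcd_mul_right_left, Nat.mul_div_cancel_left _ (Nat.pos_of_ne_zero (pow_ne_zero _ (Nat.Prime.ne_zero Fact.out)))]
    exact hnp.coprime_dvd_left (h1 ▸ orderOf_pow_dvd t)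
  · rw [← QuotientGroup.eq]
    rw [← map_pow, ← map_pow] at ht
    exact ht.symm

variable [Finite G] [Fact p.Prime]

theorem coprime_mem_centralizer_of_quadratic (hp : p ≠ 2) {Q : Subgroup G} [Q.Normal] (hQ : IsPGroup p Q)
    {K : Subgroup G} [K.Normal] (hQK : Q ≤ K) (hKQ : (Q.relIndex K).Coprime p) (hKab : ⁅K, K⁆ ≤ Q) :
    ∀ {U : Subgroup G}, U.Normal → U ≤ Q → ∀ {a k w : G}, ⁅⁅U, zpowers a⁆, zpowers a⁆ = ⊥ → k ∈ K →
      (orderOf w).Coprime p → ⁅a, k⁆⁻¹ * w ∈ Q → w ∈ centralizer (U : Set G) := by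
  intro U
  generalize hn : Nat.card U = n
  induction n using Nat.strong_induction_on generalizing U with
  | _ n ih =>
    intro hUn hUQ a k w ha hk hw hwQ
    subst hn
    haveI := hUn
    rcases eq_or_ne U ⊥ with rfl | hU0
    · intro y hy; rw [SetLike.mem_coe, mem_bot] at hy; rw [hy, one_mul, mul_one]
    set U₁ := ⁅U, Q⁆ with hU₁
    haveI : U₁.Normal := inferInstance
    have hlt : U₁ < U := (commutator_le_left U Q).lt_of_ne
      (commutator_ne_self_of_pgroup (hQ.to_le hUQ) hQ le_normalizer_of_normal hU0)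
    have hwU₁ : w ∈ centralizer (U₁ : Set G) := ih _
      ((card_le_of_le hlt.le).lt_of_ne fun he => hlt.ne (eq_of_le_of_card_ge hlt.le he.ge)) rfl
      inferInstance (hlt.le.trans hUQ) (le_bot_iff.mp (by rw [← ha]; exact commutator_mono (commutator_mono hlt.le le_rfl) le_rfl))
      hk hw hwQ
    set f := QuotientGroup.mk' U₁
    set V := U.map f with hV
    haveI : V.Normal := hUn.map f (QuotientGroup.mk'_surjective _)
    have hQV : Q.map f ≤ centralizer (V : Set (G ⧸ U₁)) := by
      rw [Subgroup.le_centralizer_iff, ← commutator_eq_bot_iff_le_centralizer, hV, ← map_commutator,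
        Subgroup.map_eq_bot_iff, QuotientGroup.ker_mk']
    have hVab : IsMulCommutative V :=
      le_centralizer_iff_isMulCommutative.mp ((Subgroup.map_mono hUQ).trans hQV)
    have hKc : ∀ g ∈ K, ∀ g' ∈ K, f ⁅g, g'⁆ ∈ centralizer (V : Set (G ⧸ U₁)) := fun g hg g' hg' =>
      hQV (mem_map_of_mem f (hKab (commutator_mem_commutator hg hg')))
    have hkm : k ^ Q.relIndex K ∈ Q := by
      have := Subgroup.pow_index_mem (Q.subgroupOf K) ⟨k, hk⟩
      exact this
    have hkey : ⁅f a, f k⁆ ∈ centralizer (V : Set (G ⧸ U₁)) := by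
      have hk' : a * k * a⁻¹ ∈ K := (inferInstance : K.Normal).conj_mem k hk a
      refine commutator_mem_centralizer_of_quadratic hp hVab ((hQ.to_le hUQ).map f) hKQ ?_ ?_ ?_ ?_
      · rw [← MonoidHom.map_zpowers, hV, ← map_commutator, ← map_commutator, ha, Subgroup.map_bot]
      · rw [← map_pow]; exact hQV (mem_map_of_mem f hkm)
      · simp only [← map_inv, ← map_mul, ← map_commutatorElement]; exact hKc k hk _ hk'
      · simp only [← map_inv, ← map_mul, ← map_commutatorElement]
        exact hKc k hk _ ((inferInstance : K.Normal).conj_mem _ hk' a)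
    have hwV : f w ∈ centralizer (V : Set (G ⧸ U₁)) := by
      have e : f w = ⁅f a, f k⁆ * f (⁅a, k⁆⁻¹ * w) := by
        rw [map_mul, map_inv, map_commutatorElement, mul_inv_cancel_left]
      rw [e]
      exact mul_mem hkey (hQV (mem_map_of_mem f hwQ))
    intro y hy
    refine (commute_of_stabilizes (hQ.to_le (hlt.le.trans hUQ)) hw ?_ ?_).symm
    · intro u hu
      rw [← hwU₁ u hu, mul_inv_cancel_right]
    · refine (QuotientGroup.eq_one_iff _).mp ?_
      rw [← QuotientGroup.mk'_apply, map_commutatorElement]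
      exact commutatorElement_eq_one_iff_mul_comm.mpr (hwV _ (mem_map_of_mem f hy)).symm

omit [Fact p.Prime] in
theorem eq_of_central_prime_power_index {H : Type*} [Group H] [Finite H] {K : Subgroup H}
    (hK : (Nat.card K).Coprime p) (hc : K ≤ center H) {n : ℕ} (hi : K.index = p ^ n)
    (hO : pCore p H = ⊥) : K = ⊤ := by
  haveI : K.Normal := ⟨fun x hx g => by rw [mem_center_iff.mp (hc hx) g, mul_inv_cancel_right]; exact hx⟩
  obtain ⟨P, hP⟩ := exists_right_complement'_of_coprime (N := K) (by rw [hi]; exact Nat.Coprime.pow_right _ hK)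
  have hsup := hP.sup_eq_top
  haveI : P.Normal := by
    rw [← normalizer_eq_top_iff, ← top_le_iff, ← hsup]
    exact sup_le (hc.trans (center_le_normalizer _)) le_normalizer
  have hcard : Nat.card P = p ^ n := by
    have h1 := hP.card_mul_card
    rw [← K.card_mul_index, hi] at h1
    exact Nat.eq_of_mul_eq_mul_left Nat.card_pos h1
  have : P ≤ pCore p H := le_pCore_of inferInstance (IsPGroup.of_card hcard)
  rw [hO, le_bot_iff] at this
  rwa [this, sup_bot_eq] at hsup

/-- If `G / O_p(G)` has an abelian normal `p`-complement, the action on normal `p`-subgroups is `p`-stable. -/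
theorem pStableNormal_of_abelian_complement (hp : p ≠ 2) {K : Subgroup G} [K.Normal]
    (hQK : pCore p G ≤ K) (hKQ : ((pCore p G).relIndex K).Coprime p) (hKab : ⁅K, K⁆ ≤ pCore p G)
    {n : ℕ} (hKi : K.index = p ^ n) : PStableNormal p G := by
  intro U _ hU a ha
  haveI := pCore_normal p G
  have hUQ : U ≤ pCore p G := le_pCore_of inferInstance hU
  set C := centralizer (U : Set G)
  set D := stableKernel p U
  haveI : D.Normal := stableKernel_normal U
  show a ∈ D
  have hCD : C ≤ D := fun x hx => by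
    show QuotientGroup.mk' C x ∈ pCore p (G ⧸ C)
    rw [show QuotientGroup.mk' C x = 1 from (QuotientGroup.eq_one_iff x).mpr hx]; exact one_mem _
  have hQD : pCore p G ≤ D := by
    refine le_stableKernel_of_coprime_centralizes fun x hx hxo => ?_
    obtain ⟨j, hj⟩ := IsPGroup.iff_orderOf.mp (pCore_pgroup p G) ⟨x, hx⟩
    rw [Subgroup.orderOf_mk] at hj
    rw [orderOf_eq_one_iff.mp (Nat.eq_one_of_dvd_coprimes (hxo.pow_right j) dvd_rfl (dvd_of_eq hj))]
    exact one_mem _
  set f := QuotientGroup.mk' D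
  have hcomm : ∀ k ∈ K, f ⁅a, k⁆ = 1 := by
    intro k hk
    have hmem : ⁅a, k⁆ ∈ K := K.mul_mem ((inferInstance : K.Normal).conj_mem k hk a) (K.inv_mem hk)
    obtain ⟨w, hw, hwQ⟩ := exists_coprime_rep (Q := pCore p G) hKQ
      (Subgroup.pow_index_mem ((pCore p G).subgroupOf K) ⟨⁅a, k⁆, hmem⟩ : ⁅a, k⁆ ^ (pCore p G).relIndex K ∈ pCore p G)
    refine (QuotientGroup.eq_one_iff _).mpr ?_
    have h := D.mul_mem (hCD (coprime_mem_centralizer_of_quadratic hp (pCore_pgroup p G) hQK hKQ hKab
      inferInstance hUQ ha hk hw hwQ)) (D.inv_mem (hQD hwQ))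
    simpa using h
  have hO : pCore p (G ⧸ D) = ⊥ := by
    have hker : ∀ x, x ∈ (pCore p (G ⧸ D)).comap f → (orderOf x).Coprime p → x ∈ D := fun x hx hxo => by
      have hx1 : f x ∈ pCore p (G ⧸ D) := hx
      obtain ⟨j, hj⟩ := IsPGroup.iff_orderOf.mp (pCore_pgroup p (G ⧸ D)) ⟨f x, hx1⟩
      rw [Subgroup.orderOf_mk] at hj
      refine (QuotientGroup.eq_one_iff x).mp (orderOf_eq_one_iff.mp ?_)
      exact Nat.eq_one_of_dvd_coprimes (hxo.pow_right j) (orderOf_map_dvd f x) (dvd_of_eq hj)
    haveI : ((pCore p (G ⧸ D)).comap f).Normal := Subgroup.Normal.comap inferInstance _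
    have hE : (pCore p (G ⧸ D)).comap f ≤ D := le_stableKernel_of_coprime_centralizes fun x hx hxo => by
      have hxD : QuotientGroup.mk' C x ∈ pCore p (G ⧸ C) := hker x hx hxo
      obtain ⟨j, hj⟩ := IsPGroup.iff_orderOf.mp (pCore_pgroup p (G ⧸ C)) ⟨_, hxD⟩
      rw [Subgroup.orderOf_mk] at hj
      exact (QuotientGroup.eq_one_iff x).mp (orderOf_eq_one_iff.mp
        (Nat.eq_one_of_dvd_coprimes (hxo.pow_right j) (orderOf_map_dvd (QuotientGroup.mk' C) x) (dvd_of_eq hj)))
    rw [eq_bot_iff]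
    intro y hy
    obtain ⟨x, rfl⟩ := QuotientGroup.mk'_surjective D y
    exact mem_bot.mpr ((QuotientGroup.eq_one_iff x).mpr (hE hy))
  have hK1 : f a ∈ centralizer ((K.map f : Subgroup (G ⧸ D)) : Set (G ⧸ D)) := by
    rintro _ ⟨k, hk, rfl⟩
    exact (commutatorElement_eq_one_iff_mul_comm.mp (map_commutatorElement f (g₁ := a) (g₂ := k) ▸ hcomm k hk)).symm
  set Cc := centralizer ((K.map f : Subgroup (G ⧸ D)) : Set (G ⧸ D))
  haveI hKn : (K.map f).Normal := (inferInstance : K.Normal).map f (QuotientGroup.mk'_surjective _)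
  haveI : Cc.Normal := inferInstance
  have hKC : K.map f ≤ Cc := by
    rw [← commutator_eq_bot_iff_le_centralizer, ← map_commutator, Subgroup.map_eq_bot_iff, QuotientGroup.ker_mk']
    exact hKab.trans hQD
  have hKcard : (Nat.card ↥(K.map f)).Coprime p := by
    refine hKQ.coprime_dvd_left ?_
    have h1 : Nat.card ↥(K.map f) = D.relIndex K := by
      rw [← relIndex_bot_left, ← Subgroup.map_bot f, Subgroup.relIndex_map_map, bot_sup_eq, QuotientGroup.ker_mk',
        Subgroup.relIndex_sup_right]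
    rw [h1]
    exact Subgroup.relIndex_dvd_of_le_left K hQD
  have hOC : pCore p Cc = ⊥ := by
    have h := CfsgLib.Solvable.map_subtype_pCore_le (p := p) Cc
    rwa [hO, le_bot_iff, map_eq_bot_iff_of_injective _ Cc.subtype_injective] at h
  obtain ⟨i, -, hi⟩ := (Nat.dvd_prime_pow Fact.out).mp ((dvd_trans (Subgroup.relIndex_dvd_index_of_le hKC)
    (K.index_map_dvd (QuotientGroup.mk'_surjective D))).trans (dvd_of_eq hKi))
  have htop := eq_of_central_prime_power_index (H := Cc) (K := (K.map f).subgroupOf Cc)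
    (by rw [Nat.card_congr (subgroupOfEquivOfLe hKC).toEquiv]; exact hKcard)
    (fun x hx => mem_center_iff.mpr fun y => Subtype.ext (y.2 _ hx).symm) hi hOC
  have hfa : f a ∈ K.map f := by
    have := htop.ge (mem_top (⟨f a, hK1⟩ : Cc))
    exact mem_subgroupOf.mp this
  -- `f a` has `p`-power order
  obtain ⟨j, hj⟩ := pow_mem_centralizer_of_quadratic hU ha
  have h1 : (f a) ^ p ^ j = 1 := by rw [← map_pow]; exact (QuotientGroup.eq_one_iff _).mpr (hCD hj)
  have h2 : (f a) ^ Nat.card ↥(K.map f) = 1 := by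
    simpa using congrArg Subtype.val (pow_card_eq_one' (x := (⟨f a, hfa⟩ : K.map f)))
  have h3 := pow_gcd_eq_one.mpr ⟨h2, h1⟩
  rw [(Nat.Coprime.pow_right j hKcard).gcd_eq_one, pow_one] at h3
  exact (QuotientGroup.eq_one_iff a).mp h3

end CfsgLib.PLoc
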