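import Cfsg.Prelude.Def_PLocal
import Cfsg.Agent.Lib.PLocal.HallHigman
import Cfsg.Agent.Lib.PGroup.MaximalClass

/-!
Uniserial actions of `p`-groups and normal subgroups of `p`-groups of maximal class.
-/

set_option autoImplicit false

open Cfsg
open scoped commutatorElement

namespace CfsgLib.PLoc.Uniserial

variable {p : ℕ} [hp : Fact p.Prime]

theorem card_lt_of_lt {G : Type*} [Group G] [Finite G] {A B : Subgroup G} (h : A < B) :
    Nat.card A < Nat.card B := by
  by_contra hle
  exact h.ne (Subgroup.eq_of_le_of_card_ge h.le (not_lt.1 hle))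

/-- A strict step between `p`-subgroups. -/
theorem card_step {G : Type*} [Group G] [Finite G] {A B : Subgroup G} (hB : IsPGroup p B)
    (h : A < B) {e : ℕ} (he : Nat.card B ≤ p ^ (e + 1)) : Nat.card A ≤ p ^ e := by
  obtain ⟨i, hi⟩ := IsPGroup.iff_card.1 (hB.to_le h.le)
  obtain ⟨j, hj⟩ := IsPGroup.iff_card.1 hB
  have h1 := card_lt_of_lt h
  rw [hi, hj] at h1
  rw [hj] at he
  have h2 := (Nat.pow_lt_pow_iff_right hp.out.one_lt).1 h1
  have h3 := (Nat.pow_le_pow_iff_right hp.out.one_lt).1 he
  rw [hi]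
  exact Nat.pow_le_pow_right hp.out.pos (by omega)

/-- A strict step, from below. -/
theorem card_step_up {G : Type*} [Group G] [Finite G] {A B : Subgroup G} (hB : IsPGroup p B)
    (h : A < B) {e : ℕ} (he : p ^ e ≤ Nat.card A) : p ^ (e + 1) ≤ Nat.card B := by
  obtain ⟨i, hi⟩ := IsPGroup.iff_card.1 (hB.to_le h.le)
  obtain ⟨j, hj⟩ := IsPGroup.iff_card.1 hB
  have h1 := card_lt_of_lt h
  rw [hi, hj] at h1
  rw [hi] at he
  have h2 := (Nat.pow_lt_pow_iff_right hp.out.one_lt).1 h1
  have h3 := (Nat.pow_le_pow_iff_right hp.out.one_lt).1 he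
  rw [hj]
  exact Nat.pow_le_pow_right hp.out.pos (by omega)

variable {L : Type*} [Group L] [Finite L] {N G : Subgroup L}

theorem iter_le_normalizer (hGN : G ≤ Subgroup.normalizer (N : Set L)) (i : ℕ) :
    iterCommutator N G i ≤ N ∧ G ≤ Subgroup.normalizer (iterCommutator N G i : Set L) := by
  induction i with
  | zero => exact ⟨le_rfl, hGN⟩
  | succ i ih =>
    refine ⟨(Subgroup.le_normalizer_iff_commutator_le_left.mp ih.2).trans ih.1, ?_⟩
    show G ≤ Subgroup.normalizer ((⁅iterCommutator N G i, G⁆ : Subgroup L) : Set L)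
    intro g hg
    rw [Subgroup.mem_normalizer_iff_map_conj_eq, Subgroup.map_commutator,
      Subgroup.mem_normalizer_iff_map_conj_eq.mp (ih.2 hg),
      Subgroup.mem_normalizer_iff_map_conj_eq.mp (Subgroup.le_normalizer hg)]

theorem iter_lt (hN : IsPGroup p N) (hG : IsPGroup p G) (hGN : G ≤ Subgroup.normalizer (N : Set L))
    {i : ℕ} (hi : iterCommutator N G i ≠ ⊥) :
    iterCommutator N G (i + 1) < iterCommutator N G i :=
  lt_of_le_of_ne (Subgroup.le_normalizer_iff_commutator_le_left.mp (iter_le_normalizer hGN i).2)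
    (CfsgLib.PLoc.commutator_ne_self_of_pgroup (hN.to_le (iter_le_normalizer hGN i).1) hG
      (iter_le_normalizer hGN i).2 hi)

theorem iter_succ_eq_bot {i : ℕ} (h : iterCommutator N G i = ⊥) :
    iterCommutator N G (i + 1) = ⊥ := by
  show ⁅iterCommutator N G i, G⁆ = ⊥
  rw [h, Subgroup.commutator_bot_left]

theorem iter_ne_bot_of_le {n i : ℕ} (h : iterCommutator N G n ≠ ⊥) (hi : i ≤ n) :
    iterCommutator N G i ≠ ⊥ := by
  induction hi with
  | refl => exact h
  | step _ ih => exact ih fun h' => h (iter_succ_eq_bot h')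

theorem card_iter_le (hN : IsPGroup p N) (hG : IsPGroup p G)
    (hGN : G ≤ Subgroup.normalizer (N : Set L)) {n : ℕ} (hn : Nat.card N = p ^ n) (i : ℕ) :
    Nat.card (iterCommutator N G i) ≤ p ^ (n - i) := by
  induction i with
  | zero => rw [Nat.sub_zero, ← hn]; rfl
  | succ i ih =>
    by_cases hb : iterCommutator N G i = ⊥
    · rw [iter_succ_eq_bot hb, Subgroup.card_bot]
      exact Nat.one_le_pow _ _ hp.out.pos
    · rcases Nat.lt_or_ge i n with hlt | hge
      · refine card_step (hN.to_le (iter_le_normalizer hGN i).1) (iter_lt hN hG hGN hb) ?_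
        rwa [show n - (i + 1) + 1 = n - i by omega]
      · exfalso
        apply hb
        rw [Nat.sub_eq_zero_of_le hge, pow_zero] at ih
        exact Subgroup.eq_bot_of_card_le _ ih

theorem le_card_iter (hN : IsPGroup p N) (hG : IsPGroup p G)
    (hGN : G ≤ Subgroup.normalizer (N : Set L)) {n : ℕ}
    (hc : iterCommutator N G (n - 1) ≠ ⊥ ∨ n = 0) : ∀ j i : ℕ, i + j = n →
      p ^ j ≤ Nat.card (iterCommutator N G i) := by
  intro j
  induction j with
  | zero => intro i _; rw [pow_zero]; exact Nat.card_pos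
  | succ j ih =>
    intro i hij
    have hb : iterCommutator N G i ≠ ⊥ := by
      rcases hc with hc | hc
      · exact iter_ne_bot_of_le hc (by omega)
      · omega
    exact card_step_up (hN.to_le (iter_le_normalizer hGN i).1) (iter_lt hN hG hGN hb)
      (ih (i + 1) (by omega))

theorem card_iter_eq (hN : IsPGroup p N) (hG : IsPGroup p G)
    (hGN : G ≤ Subgroup.normalizer (N : Set L)) {n : ℕ} (hn : Nat.card N = p ^ n)
    (hc : iterCommutator N G (n - 1) ≠ ⊥ ∨ n = 0) {i : ℕ} (hi : i ≤ n) :
    Nat.card (iterCommutator N G i) = p ^ (n - i) :=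
  le_antisymm (card_iter_le hN hG hGN hn i) (le_card_iter hN hG hGN hc (n - i) i (by omega))

/-- The members of a full chain are normalized by the whole group. -/
theorem le_normalizer_iter (hN : IsPGroup p N) (hG : IsPGroup p G)
    (hGN : G ≤ Subgroup.normalizer (N : Set L)) {n : ℕ} (hn : Nat.card N = p ^ n)
    (hc : iterCommutator N G (n - 1) ≠ ⊥ ∨ n = 0) {i : ℕ} (hi : i ≤ n) :
    N ≤ Subgroup.normalizer (iterCommutator N G i : Set L) := by
  have hS : IsPGroup p ↥(N ⊔ G) := IsPGroup.to_sup_of_normal_left' hN hG hGN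
  have hSN : N ⊔ G ≤ Subgroup.normalizer (N : Set L) := sup_le Subgroup.le_normalizer hGN
  have hle : ∀ j, iterCommutator N G j ≤ iterCommutator N (N ⊔ G) j := by
    intro j
    induction j with
    | zero => exact le_rfl
    | succ j ih => exact Subgroup.commutator_mono ih le_sup_right
  have heq : iterCommutator N G i = iterCommutator N (N ⊔ G) i :=
    Subgroup.eq_of_le_of_card_ge (hle i)
      (by rw [card_iter_eq hN hG hGN hn hc hi]; exact card_iter_le hN hS hSN hn i)
  rw [heq]
  exact le_sup_left.trans (iter_le_normalizer hSN i).2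

theorem eq_iter_of_invariant (hN : IsPGroup p N) (hG : IsPGroup p G)
    (hGN : G ≤ Subgroup.normalizer (N : Set L)) {n : ℕ} (hn : Nat.card N = p ^ n)
    (hc : iterCommutator N G (n - 1) ≠ ⊥ ∨ n = 0) {H : Subgroup L} (hH : H ≤ N)
    (hGH : G ≤ Subgroup.normalizer (H : Set L)) : ∃ i ≤ n, H = iterCommutator N G i := by
  classical
  set i := Nat.findGreatest (fun j => H ≤ iterCommutator N G j) n with hi
  have hin : i ≤ n := Nat.findGreatest_le n
  have hle : H ≤ iterCommutator N G i :=
    Nat.findGreatest_spec (P := fun j => H ≤ iterCommutator N G j) (Nat.zero_le n) hH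
  refine ⟨i, hin, le_antisymm hle ?_⟩
  have hbot : iterCommutator N G n = ⊥ := Subgroup.eq_bot_of_card_le _ (by
    rw [card_iter_eq hN hG hGN hn hc le_rfl, Nat.sub_self, pow_zero])
  rcases eq_or_lt_of_le hin with he | hlt
  · rw [he, hbot]; exact bot_le
  have hnle : ¬ H ≤ iterCommutator N G (i + 1) :=
    Nat.findGreatest_is_greatest (P := fun j => H ≤ iterCommutator N G j)
      (show i < i + 1 by omega) hlt
  have hnorm : ∀ j, j ≤ n → H ≤ Subgroup.normalizer (iterCommutator N G j : Set L) :=
    fun j hj => hH.trans (le_normalizer_iter hN hG hGN hn hc hj)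
  have hstep : ∀ k, i + k + 1 ≤ n →
      iterCommutator N G (i + k) ≤ H ⊔ iterCommutator N G (i + k + 1) := by
    intro k
    induction k with
    | zero =>
      intro _
      have h1 : iterCommutator N G (i + 1) < H ⊔ iterCommutator N G (i + 1) :=
        lt_of_le_of_ne le_sup_right fun h => hnle (h ▸ le_sup_left)
      have h2 : H ⊔ iterCommutator N G (i + 1) ≤ iterCommutator N G i :=
        sup_le hle (Subgroup.le_normalizer_iff_commutator_le_left.mp (iter_le_normalizer hGN i).2)
      refine (Subgroup.eq_of_le_of_card_ge h2 ?_).ge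
      have h3 := card_step_up (p := p) (hN.to_le (h2.trans (iter_le_normalizer hGN i).1)) h1
        (le_of_eq (card_iter_eq hN hG hGN hn hc (show i + 1 ≤ n by omega)).symm)
      rwa [card_iter_eq hN hG hGN hn hc hin, show n - i = n - (i + 1) + 1 by omega]
    | succ k ih =>
      intro hk
      have ih' := ih (by omega)
      show ⁅iterCommutator N G (i + k), G⁆ ≤ _
      refine (Subgroup.commutator_mono ih' le_rfl).trans ?_
      rw [Subgroup.commutator_le]
      intro x hx g hg
      have hHn : H ≤ Subgroup.normalizer (iterCommutator N G (i + k + 1) : Set L) :=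
        hnorm _ (by omega)
      obtain ⟨h, hh, c, hc', rfl⟩ : ∃ h ∈ H, ∃ c ∈ iterCommutator N G (i + k + 1), h * c = x := by
        have hmem : x ∈ ((H ⊔ iterCommutator N G (i + k + 1) : Subgroup L) : Set L) := hx
        rw [Subgroup.coe_mul_of_left_le_normalizer_right _ _ hHn] at hmem
        obtain ⟨h, hh, c, hc', e⟩ := hmem
        exact ⟨h, hh, c, hc', e⟩
      rw [show ⁅h * c, g⁆ = h * ⁅c, g⁆ * h⁻¹ * ⁅h, g⁆ by
        simp only [commutatorElement_def]; group]
      refine mul_mem (mul_mem (mul_mem (Subgroup.mem_sup_left hh) ?_)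
        (Subgroup.mem_sup_left (inv_mem hh))) ?_
      · exact Subgroup.mem_sup_right (Subgroup.commutator_mem_commutator hc' hg)
      · exact Subgroup.mem_sup_left (Subgroup.le_normalizer_iff_commutator_le_left.mp hGH
          (Subgroup.commutator_mem_commutator hh hg))
  have hdown : ∀ k, i + k ≤ n → iterCommutator N G i ≤ H ⊔ iterCommutator N G (i + k) := by
    intro k
    induction k with
    | zero => intro _; exact le_sup_right
    | succ k ih =>
      intro hk
      exact (ih (by omega)).trans (sup_le le_sup_left (hstep k hk))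
  have h := hdown (n - i) (by omega)
  rwa [Nat.add_sub_cancel' hin, hbot, sup_bot_eq] at h

/-! ### Maximal class -/

variable {Q : Type*} [Group Q] [Finite Q]

omit L in
theorem lcs_succ_lt (hQ : IsPGroup p Q) {k : ℕ} (hk : (⊤ : Subgroup Q).lowerCentralSeries k ≠ ⊥) :
    (⊤ : Subgroup Q).lowerCentralSeries (k + 1) < (⊤ : Subgroup Q).lowerCentralSeries k := by
  refine lt_of_le_of_ne (Subgroup.lowerCentralSeries_antitone _ (Nat.le_succ k)) ?_
  rw [Subgroup.lowerCentralSeries_succ]
  exact CfsgLib.PLoc.commutator_ne_self_of_pgroup (hQ.to_subgroup _) (hQ.to_subgroup _)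
    (by rw [Subgroup.normalizer_eq_top]) hk

omit L in
/-- The lower central series of a `p`-group of order `p ^ r`. -/
theorem card_lcs_le (hQ : IsPGroup p Q) {r : ℕ} (hr : Nat.card Q = p ^ r) :
    ∀ k, 1 ≤ k → (⊤ : Subgroup Q).lowerCentralSeries k ≠ ⊥ →
      k + 2 ≤ r ∧ Nat.card ((⊤ : Subgroup Q).lowerCentralSeries k) ≤ p ^ (r - 1 - k) := by
  intro k hk
  induction k, hk using Nat.le_induction with
  | base =>
    intro hne
    rw [Subgroup.top_lowerCentralSeries_one] at hne ⊢
    haveI := hQ.isNilpotent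
    obtain ⟨j, hj⟩ := IsPGroup.iff_card.1 (hQ.to_subgroup (commutator Q))
    have hj0 : j ≠ 0 := fun h => hne (Subgroup.eq_bot_of_card_le _ (by rw [hj, h, pow_zero]))
    have hj2 : j + 2 ≤ r := by
      by_contra hlt
      apply hne
      -- index at most `p`: the group is cyclic
      obtain ⟨y, hy⟩ : ∃ y : Q, Subgroup.zpowers y ⊔ commutator Q = ⊤ := by
        by_cases htop : commutator Q = ⊤
        · exact ⟨1, by rw [htop, sup_top_eq]⟩
        obtain ⟨y, -, hy⟩ := SetLike.exists_of_lt (lt_top_iff_ne_top.mpr htop)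
        refine ⟨y, Subgroup.eq_top_of_le_card _ ?_⟩
        have h1 := card_step_up (p := p) (hQ.to_subgroup _)
          (show commutator Q < Subgroup.zpowers y ⊔ commutator Q from
            lt_of_le_of_ne le_sup_right fun h =>
              hy (h ▸ Subgroup.mem_sup_left (Subgroup.mem_zpowers y))) hj.ge
        rw [hr]
        exact (Nat.pow_le_pow_right hp.out.pos (by omega)).trans h1
      have := PGroup.MaxClass.eq_or_isCyclic_of_sup_commutator hQ y hy
      have h1 := PGroup.MaxClass.class_le_one_of_zpowers_top y this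
      rw [← Subgroup.lowerCentralSeries_eq_bot_iff_nilpotencyClass_le,
        Subgroup.top_lowerCentralSeries_one] at h1
      exact h1
    refine ⟨by omega, ?_⟩
    rw [hj]
    exact Nat.pow_le_pow_right hp.out.pos (by omega)
  | succ k hk ih =>
    intro hne
    have hne' : (⊤ : Subgroup Q).lowerCentralSeries k ≠ ⊥ := fun h => hne (le_bot_iff.mp
      ((Subgroup.lowerCentralSeries_antitone _ (Nat.le_succ k)).trans h.le))
    obtain ⟨h1, h2⟩ := ih hne'
    have h3 := card_step (p := p) (hQ.to_subgroup _) (lcs_succ_lt hQ hne')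
      (e := r - 1 - (k + 1)) (by rwa [show r - 1 - (k + 1) + 1 = r - 1 - k by omega])
    refine ⟨?_, h3⟩
    by_contra hlt
    apply hne
    rw [show r - 1 - (k + 1) = 0 by omega, pow_zero] at h3
    exact Subgroup.eq_bot_of_card_le _ h3

omit L in
theorem lcs_eq_bot_of_card (hQ : IsPGroup p Q) {r : ℕ} (hr : Nat.card Q = p ^ r) (h2 : 2 ≤ r) :
    (⊤ : Subgroup Q).lowerCentralSeries (r - 1) = ⊥ := by
  by_contra hne
  have := (card_lcs_le hQ hr (r - 1) (by omega) hne).1
  omega

omit L in
/-- In a group of maximal class the lower central series has indices `p ^ (k + 1)`. -/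
theorem card_lcs_eq {n : ℕ} (hQ : Nat.card Q = p ^ n) (hcl : Group.nilpotencyClass Q = n - 1)
    (hn : 3 ≤ n) {k : ℕ} (hk : 1 ≤ k) (hkn : k ≤ n - 1) :
    Nat.card ((⊤ : Subgroup Q).lowerCentralSeries k) = p ^ (n - 1 - k) := by
  have hP : IsPGroup p Q := IsPGroup.of_card hQ
  haveI := hP.isNilpotent
  have hlast : ∀ j, j < n - 1 → (⊤ : Subgroup Q).lowerCentralSeries j ≠ ⊥ := by
    intro j hj h
    rw [Subgroup.lowerCentralSeries_eq_bot_iff_nilpotencyClass_le] at h
    omega
  refine le_antisymm ?_ ?_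
  · by_cases hne : (⊤ : Subgroup Q).lowerCentralSeries k = ⊥
    · rw [hne, Subgroup.card_bot]; exact Nat.one_le_pow _ _ hp.out.pos
    · exact (card_lcs_le hP hQ k hk hne).2
  · have : ∀ j i, i + j = n - 1 → p ^ j ≤ Nat.card ((⊤ : Subgroup Q).lowerCentralSeries i) := by
      intro j
      induction j with
      | zero => intro i _; rw [pow_zero]; exact Nat.card_pos
      | succ j ih =>
        intro i hij
        exact card_step_up (hP.to_subgroup _) (lcs_succ_lt hP (hlast i (by omega)))
          (ih (i + 1) (by omega))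
    exact this _ k (by omega)

omit L in
theorem normal_eq_lcs {n : ℕ} (hQ : Nat.card Q = p ^ n) (hcl : Group.nilpotencyClass Q = n - 1)
    (hn : 3 ≤ n) (N : Subgroup Q) [N.Normal] {r : ℕ} (hr2 : 2 ≤ r) (hr : N.index = p ^ r) :
    N = (⊤ : Subgroup Q).lowerCentralSeries (r - 1) := by
  have hP : IsPGroup p Q := IsPGroup.of_card hQ
  have hle : (⊤ : Subgroup Q).lowerCentralSeries (r - 1) ≤ N := by
    intro x hx
    rw [← QuotientGroup.eq_one_iff, ← Subgroup.mem_bot,
      ← lcs_eq_bot_of_card (hP.to_quotient N) (by rw [← Subgroup.index_eq_card, hr]) hr2]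
    have := Subgroup.mem_map_of_mem (QuotientGroup.mk' N) hx
    rwa [Subgroup.map_lowerCentralSeries, Subgroup.map_top_of_surjective _
      (QuotientGroup.mk'_surjective N)] at this
  have hcard : Nat.card N * p ^ r = p ^ n := by rw [← hr, Subgroup.card_mul_index, hQ]
  have hrn : r ≤ n := (Nat.pow_dvd_pow_iff_le_right hp.out.one_lt).1 ⟨_, by rw [← hcard, mul_comm]⟩
  refine (Subgroup.eq_of_le_of_card_ge hle ?_).symm
  rw [card_lcs_eq hQ hcl hn (by omega) (by omega), show n - 1 - (r - 1) = n - r by omega]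
  refine le_of_eq (Nat.eq_of_mul_eq_mul_right (Nat.pow_pos (n := r) hp.out.pos) ?_)
  rw [hcard, ← pow_add, Nat.sub_add_cancel hrn]

omit L in
/-- A non-cyclic group of order `p ^ 2` has `p + 1` subgroups of order `p`. -/
theorem card_subgroups_prime {A : Type*} [Group A] [Finite A] (hA : Nat.card A = p ^ 2)
    (hexp : ∀ a : A, a ^ p = 1) : Nat.card {S : Subgroup A // Nat.card S = p} = p + 1 := by
  classical
  have hord : ∀ a : A, a ≠ 1 → orderOf a = p := fun a ha => orderOf_eq_prime (hexp a) ha
  let f : {a : A // a ≠ 1} → {S : Subgroup A // Nat.card S = p} := fun a =>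
    ⟨Subgroup.zpowers a.1, by rw [Nat.card_zpowers, hord _ a.2]⟩
  have hfib : ∀ S, Nat.card {a // f a = S} = p - 1 := by
    intro S
    haveI := Fintype.ofFinite S.1
    have e : {a // f a = S} ≃ {s : S.1 // s ≠ 1} :=
      { toFun := fun a => ⟨⟨a.1.1, by
            rw [← congrArg Subtype.val a.2]; exact Subgroup.mem_zpowers _⟩,
          fun h => a.1.2 (congrArg Subtype.val h)⟩
        invFun := fun s => ⟨⟨s.1.1, fun h => s.2 (Subtype.ext h)⟩, Subtype.ext
          (Subgroup.eq_of_le_of_card_ge (Subgroup.zpowers_le.2 s.1.2) (by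
            rw [S.2, Nat.card_zpowers, hord _ fun h => s.2 (Subtype.ext h)]))⟩
        left_inv := fun a => rfl
        right_inv := fun s => rfl }
    rw [Nat.card_congr e, Nat.card_eq_fintype_card, Fintype.card_subtype_compl,
      Fintype.card_subtype_eq, ← Nat.card_eq_fintype_card, S.2]
  haveI := Fintype.ofFinite {S : Subgroup A // Nat.card S = p}
  haveI := Fintype.ofFinite A
  have h := Nat.card_congr (Equiv.sigmaFiberEquiv f)
  rw [Nat.card_sigma, Finset.sum_congr rfl (fun S _ => hfib S), Finset.sum_const, Finset.card_univ,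
    smul_eq_mul, Nat.card_eq_fintype_card (α := {a : A // a ≠ 1}), Fintype.card_subtype_compl,
    Fintype.card_subtype_eq, ← Nat.card_eq_fintype_card, ← Nat.card_eq_fintype_card (α := A), hA] at h
  have h2 : p ^ 2 - 1 = (p + 1) * (p - 1) := by rw [← Nat.sq_sub_sq, one_pow]
  rw [h2] at h
  exact Nat.eq_of_mul_eq_mul_right (m := p - 1) (by have := hp.out.two_le; omega) h

omit L in
theorem card_normal_index_prime {n : ℕ} (hQ : Nat.card Q = p ^ n)
    (hcl : Group.nilpotencyClass Q = n - 1) (hn : 3 ≤ n) :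
    Nat.card {N : Subgroup Q // N.Normal ∧ N.index = p} = p + 1 := by
  have hP : IsPGroup p Q := IsPGroup.of_card hQ
  haveI := hP.isNilpotent
  have hD : Nat.card (commutator Q) * p ^ 2 = p ^ n := by
    rw [← Subgroup.top_lowerCentralSeries_one, card_lcs_eq hQ hcl hn le_rfl (by omega), ← pow_add]
    congr 1
    omega
  have hA : Nat.card (Q ⧸ commutator Q) = p ^ 2 := by
    rw [← Subgroup.index_eq_card]
    refine Nat.eq_of_mul_eq_mul_left Nat.card_pos (?_ : Nat.card (commutator Q) * _ = _)
    rw [Subgroup.card_mul_index, hQ, hD]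
  have hexp : ∀ a : Q ⧸ commutator Q, a ^ p = 1 := by
    intro a
    by_contra ha
    obtain ⟨x, rfl⟩ := QuotientGroup.mk'_surjective (commutator Q) a
    have hdvd : orderOf (QuotientGroup.mk' (commutator Q) x) ∣ p ^ 2 := hA ▸ orderOf_dvd_natCard _
    obtain ⟨i, hi2, hi⟩ := (Nat.dvd_prime_pow hp.out).1 hdvd
    have hi' : i = 2 := by
      by_contra h
      apply ha
      rw [← orderOf_dvd_iff_pow_eq_one, hi]
      exact (pow_dvd_pow p (show i ≤ 1 by omega)).trans (by rw [pow_one])
    have hgen : Subgroup.zpowers x ⊔ commutator Q = ⊤ := by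
      refine Subgroup.eq_top_of_le_card _ ?_
      have h1 : (Subgroup.zpowers x ⊔ commutator Q).map (QuotientGroup.mk' (commutator Q)) = ⊤ := by
        rw [eq_top_iff]
        refine le_trans ?_ (Subgroup.map_mono le_sup_left)
        rw [MonoidHom.map_zpowers]
        exact (Subgroup.eq_top_of_le_card _ (by rw [Nat.card_zpowers, hi, hi', hA])).ge
      have h2 := congrArg (Subgroup.comap (QuotientGroup.mk' (commutator Q))) h1
      rw [Subgroup.comap_map_eq, QuotientGroup.ker_mk', sup_assoc, sup_idem, Subgroup.comap_top] at h2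
      rw [h2, Subgroup.card_top]
    have h1 := PGroup.MaxClass.class_le_one_of_zpowers_top x
      (PGroup.MaxClass.eq_or_isCyclic_of_sup_commutator hP x hgen)
    omega
  rw [← card_subgroups_prime hA hexp]
  let π := QuotientGroup.mk' (commutator Q)
  have hπ : Function.Surjective π := QuotientGroup.mk'_surjective _
  have hge : ∀ N : Subgroup Q, N.Normal → N.index = p → π.ker ≤ N := by
    intro N _ hi
    rw [QuotientGroup.ker_mk', ← Subgroup.Normal.quotient_commutative_iff_commutator_le]
    haveI : IsCyclic (Q ⧸ N) := isCyclic_of_prime_card (p := p) (by rw [← Subgroup.index_eq_card, hi])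
    exact ⟨⟨fun a b => IsCyclic.commGroup.mul_comm a b⟩⟩
  haveI : IsMulCommutative (Q ⧸ commutator Q) :=
    (Subgroup.Normal.quotient_commutative_iff_commutator_le).2 le_rfl
  refine Nat.card_congr
    { toFun := fun N => ⟨N.1.map π, ?_⟩
      invFun := fun S => ⟨S.1.comap π, inferInstance, ?_⟩
      left_inv := fun N => Subtype.ext (Subgroup.comap_map_eq_self (hge _ N.2.1 N.2.2))
      right_inv := fun S => Subtype.ext (Subgroup.map_comap_eq_self_of_surjective hπ _) }
  · have h := Subgroup.index_map_eq N.1 hπ (hge _ N.2.1 N.2.2)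
    rw [N.2.2] at h
    refine Nat.eq_of_mul_eq_mul_right hp.out.pos ?_
    have h2 := Subgroup.card_mul_index (N.1.map π)
    rwa [h, hA, sq] at h2
  · rw [Subgroup.index_comap_of_surjective _ hπ]
    refine Nat.eq_of_mul_eq_mul_left hp.out.pos ?_
    have h2 := Subgroup.card_mul_index S.1
    rwa [S.2, hA, sq] at h2

end CfsgLib.PLoc.Uniserial
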