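import Mathlib.RingTheory.LittleWedderburn
import Cfsg.Agent.Lib.PLocal.QdLift
import Cfsg.Agent.Lib.Invol.BaerSuzuki

/-!
Glauberman: a group which is not `p`-stable, `p` odd, has a section isomorphic to `Qd(p)`.
-/

set_option autoImplicit false

open scoped commutatorElement MatrixGroups
open CfsgLib.PLocal

namespace CfsgLib.PLoc

variable {p : ℕ} [hp : Fact p.Prime]

theorem sl2_neg_one_ne_one {R : Type*} [CommRing R] [Nontrivial R] (h2 : (2 : R) ≠ 0) :
    (-1 : SL(2, R)) ≠ 1 := by
  intro h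
  have := congrFun (congrFun (congrArg Subtype.val h) 0) 0
  simp at this
  exact h2 (by linear_combination -this)

theorem sl2Act_dsU {R : Type*} [CommRing R] (c x y : R) :
    sl2Act (dsU c) (x, y) = (c * y, 0) + (x, y) := by
  simp [sl2Act, coe_dsU, add_comm]

theorem sl2Act_dsL {R : Type*} [CommRing R] (x y : R) :
    sl2Act (dsL (1 : R)) (x, y) = (0, x) + (x, y) := by
  simp [sl2Act, coe_dsL]

set_option maxHeartbeats 1000000 in
/-- Two square-zero endomorphisms generating an irreducible non-trivial algebra. -/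
theorem exists_natural_of_irreducible (hp2 : p ≠ 2) {A : Type*} [AddCommGroup A] [Finite A]
    (hpA : ∀ x : A, p • x = 0) {H : Type*} [Group H] (σ : H →* AddMonoid.End A) {a b : H}
    (ha : (σ a - 1) * (σ a - 1) = 0) (hb : (σ b - 1) * (σ b - 1) = 0)
    (hirr : ∀ S : AddSubgroup A, (∀ x ∈ S, σ a x ∈ S) → (∀ x ∈ S, σ b x ∈ S) → S = ⊥ ∨ S = ⊤)
    (hnt : σ a ≠ 1 ∨ σ b ≠ 1) :
    ∃ j : ZMod p × ZMod p →+ A, Function.Injective j ∧
      ∀ g : SL(2, ZMod p), ∃ h ∈ Subgroup.closure ({a, b} : Set H),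
        ∀ v, σ h (j v) = j (sl2Act g v) := by
  classical
  set M : AddMonoid.End A := σ a - 1 with hM
  set N : AddMonoid.End A := σ b - 1 with hN
  have hM2 : ∀ x, M (M x) = 0 := fun x => DFunLike.congr_fun ha x
  have hN2 : ∀ x, N (N x) = 0 := fun x => DFunLike.congr_fun hb x
  have hirr' : ∀ S : AddSubgroup A, (∀ x ∈ S, M x ∈ S) → (∀ x ∈ S, N x ∈ S) →
      S = ⊥ ∨ S = ⊤ := by
    intro S h1 h2
    refine hirr S (fun x hx => ?_) fun x hx => ?_
    · rw [show σ a x = M x + x from (sub_add_cancel _ _).symm]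
      exact S.add_mem (h1 x hx) hx
    · rw [show σ b x = N x + x from (sub_add_cancel _ _).symm]
      exact S.add_mem (h2 x hx) hx
  have hAnt : Nontrivial A := by
    rcases subsingleton_or_nontrivial A with h | h
    · exfalso
      rcases hnt with h' | h' <;> exact h' (AddMonoidHom.ext fun x => Subsingleton.elim _ _)
    · exact h
  have hfix : ∀ x : A, M x = 0 → N x = 0 → x = 0 := by
    intro x hx1 hx2
    rcases hirr' (AddMonoidHom.ker M ⊓ AddMonoidHom.ker N)
      (fun y hy => by
        rw [show M y = 0 from hy.1]; exact zero_mem _)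
      (fun y hy => by
        rw [show N y = 0 from hy.2]; exact zero_mem _) with h | h
    · have : x ∈ AddMonoidHom.ker M ⊓ AddMonoidHom.ker N := ⟨hx1, hx2⟩
      rw [h] at this
      exact this
    · exfalso
      have hMN : ∀ y, M y = 0 ∧ N y = 0 := fun y => by
        have : y ∈ AddMonoidHom.ker M ⊓ AddMonoidHom.ker N := h ▸ AddSubgroup.mem_top y
        exact this
      rcases hnt with h' | h'
      · exact h' (sub_eq_zero.mp (AddMonoidHom.ext fun y => (hMN y).1))
      · exact h' (sub_eq_zero.mp (AddMonoidHom.ext fun y => (hMN y).2))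
  obtain ⟨e, he0, hMe⟩ : ∃ e : A, e ≠ 0 ∧ M e = 0 := by
    obtain ⟨y, hy⟩ := exists_ne (0 : A)
    by_cases h : M y = 0
    · exact ⟨y, hy, h⟩
    · exact ⟨M y, h, hM2 y⟩
  set C : AddMonoid.End A := M * N + N * M with hC
  have hC0 : C ≠ 0 := by
    intro h0
    have hCe : M (N e) + N (M e) = 0 := DFunLike.congr_fun h0 e
    rw [hMe, map_zero, add_zero] at hCe
    exact he0 (hfix e hMe (hfix _ hCe (hN2 e)))
  have hMM : M * M = 0 := ha
  have hNN : N * N = 0 := hb
  have hCM : Commute C M := by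
    show C * M = M * C
    rw [hC, add_mul, mul_add, mul_assoc N M M, hMM, mul_zero, add_zero, ← mul_assoc M M N, hMM,
      zero_mul, zero_add, mul_assoc]
  have hCN : Commute C N := by
    show C * N = N * C
    rw [hC, add_mul, mul_add, mul_assoc M N N, hNN, mul_zero, zero_add, ← mul_assoc N N M, hNN,
      zero_mul, add_zero, mul_assoc]
  set E := Subring.closure ({C} : Set (AddMonoid.End A)) with hE
  letI : CommRing E := Subring.closureCommRingOfComm fun x hx y hy => by
    rw [Set.mem_singleton_iff.mp hx, Set.mem_singleton_iff.mp hy]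
  have hEcomm : ∀ x : E, ∀ z, (x : AddMonoid.End A) (M z) = M ((x : AddMonoid.End A) z) ∧
      (x : AddMonoid.End A) (N z) = N ((x : AddMonoid.End A) z) := by
    intro x z
    have hle : E ≤ Subring.centralizer {M, N} := Subring.closure_le.mpr (by
      intro y hy
      rw [Set.mem_singleton_iff.mp hy]
      intro m hm
      rcases hm with rfl | rfl
      exacts [hCM.eq.symm, hCN.eq.symm])
    exact ⟨(DFunLike.congr_fun (Subring.mem_centralizer_iff.mp (hle x.2) M (by simp)) z).symm,
      (DFunLike.congr_fun (Subring.mem_centralizer_iff.mp (hle x.2) N (by simp)) z).symm⟩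
  have hEinj : ∀ x : E, x ≠ 0 → ∀ z, (x : AddMonoid.End A) z = 0 → z = 0 := by
    intro x hx z hz
    rcases hirr' (AddMonoidHom.ker (x : AddMonoid.End A))
      (fun y hy => by
        show (x : AddMonoid.End A) (M y) = 0
        rw [(hEcomm x y).1, show (x : AddMonoid.End A) y = 0 from hy, map_zero])
      (fun y hy => by
        show (x : AddMonoid.End A) (N y) = 0
        rw [(hEcomm x y).2, show (x : AddMonoid.End A) y = 0 from hy, map_zero]) with h | h
    · have : z ∈ AddMonoidHom.ker (x : AddMonoid.End A) := hz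
      rw [h] at this
      exact this
    · exfalso
      apply hx
      apply Subtype.ext
      refine AddMonoidHom.ext fun y => ?_
      have : y ∈ AddMonoidHom.ker (x : AddMonoid.End A) := h ▸ AddSubgroup.mem_top y
      exact this
  haveI : Finite (AddMonoid.End A) := Finite.of_injective _ DFunLike.coe_injective
  haveI : Nontrivial E := ⟨⟨⟨C, Subring.subset_closure rfl⟩, 0, fun h => hC0 (congrArg Subtype.val h)⟩⟩
  haveI : NoZeroDivisors E := ⟨fun {x y} hxy => by
    by_cases hx : x = 0
    · exact Or.inl hx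
    · refine Or.inr (Subtype.ext (AddMonoidHom.ext fun z => hEinj x hx _ ?_))
      exact DFunLike.congr_fun (congrArg Subtype.val hxy) z⟩
  haveI : IsDomain E := NoZeroDivisors.to_isDomain E
  letI : Field E := (Finite.isDomain_to_isField E).toField
  have hpE : (p : E) = 0 := by
    apply Subtype.ext
    rw [SubringClass.coe_natCast, ← nsmul_one]
    exact AddMonoidHom.ext fun z => hpA z
  haveI : CharP E p := (CharP.charP_iff_prime_eq_zero hp.out).mpr hpE
  let c : E := ⟨C, Subring.subset_closure rfl⟩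
  set f := N e with hf
  have hMf : M f = C e := by
    show M (N e) = M (N e) + N (M e)
    rw [hMe, map_zero, add_zero]
  let ι : E × E →+ A :=
    { toFun := fun v => (v.1 : AddMonoid.End A) e + (v.2 : AddMonoid.End A) f
      map_zero' := by simp
      map_add' := fun v w => by
        show ((v.1 + w.1 : E) : AddMonoid.End A) e + ((v.2 + w.2 : E) : AddMonoid.End A) f =
          (v.1 : AddMonoid.End A) e + (v.2 : AddMonoid.End A) f +
            ((w.1 : AddMonoid.End A) e + (w.2 : AddMonoid.End A) f)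
        show ((v.1 : AddMonoid.End A) e + (w.1 : AddMonoid.End A) e) +
          ((v.2 : AddMonoid.End A) f + (w.2 : AddMonoid.End A) f) = _
        abel }
  have hMι : ∀ x y : E, M (ι (x, y)) = ι (c * y, 0) := by
    intro x y
    show M ((x : AddMonoid.End A) e + (y : AddMonoid.End A) f) =
      ((c * y : E) : AddMonoid.End A) e + ((0 : E) : AddMonoid.End A) f
    rw [map_add, ← (hEcomm x e).1, ← (hEcomm y f).1, hMe, map_zero, zero_add, hMf, mul_comm c y,
      Subring.coe_mul, Subring.coe_zero]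
    exact (add_zero _).symm
  have hNι : ∀ x y : E, N (ι (x, y)) = ι (0, x) := by
    intro x y
    show N ((x : AddMonoid.End A) e + (y : AddMonoid.End A) f) =
      ((0 : E) : AddMonoid.End A) e + (x : AddMonoid.End A) f
    rw [map_add, ← (hEcomm x e).2, ← (hEcomm y f).2, show N f = 0 from hN2 e, map_zero, add_zero]
    exact (zero_add _).symm
  have hιi : Function.Injective ι := by
    rw [injective_iff_map_eq_zero]
    rintro ⟨x, y⟩ h
    have h1 : M (ι (x, y)) = 0 := by rw [h, map_zero]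
    rw [hMι] at h1
    have hy : y = 0 := by
      by_contra hy
      have hc : c ≠ 0 := fun h' => hC0 (congrArg Subtype.val h')
      apply he0
      apply hEinj (c * y) (mul_ne_zero hc hy)
      simpa [ι] using h1
    subst hy
    have hx : x = 0 := by
      by_contra hx
      exact he0 (hEinj x hx e (by simpa [ι] using h))
    rw [hx]
    rfl
  have hιs : Function.Surjective ι := by
    rcases hirr' ι.range
      (by rintro _ ⟨⟨x, y⟩, rfl⟩; exact ⟨_, (hMι x y).symm⟩)
      (by rintro _ ⟨⟨x, y⟩, rfl⟩; exact ⟨_, (hNι x y).symm⟩) with h | h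
    · exfalso
      apply he0
      have : e ∈ ι.range := ⟨(1, 0), by simp [ι]⟩
      rw [h] at this
      exact this
    · exact AddMonoidHom.range_eq_top.mp h
  let e₀ : E × E ≃+ A := AddEquiv.ofBijective ι ⟨hιi, hιs⟩
  let J : SL(2, E) →* AddMonoid.End A :=
    { toFun := fun g =>
        AddMonoidHom.mk' (fun z => ι (sl2Act g (e₀.symm z))) fun z w => by
          rw [map_add, sl2Act_add, map_add]
      map_one' := AddMonoidHom.ext fun z => by
        show ι (sl2Act 1 (e₀.symm z)) = z
        rw [sl2Act_one]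
        exact e₀.apply_symm_apply z
      map_mul' := fun g g' => AddMonoidHom.ext fun z => by
        show ι (sl2Act (g * g') (e₀.symm z)) = ι (sl2Act g (e₀.symm (ι (sl2Act g' (e₀.symm z)))))
        rw [sl2Act_mul]
        congr 2
        exact (e₀.symm_apply_apply _).symm }
  have hJ : ∀ g v, J g (ι v) = ι (sl2Act g v) := fun g v => by
    show ι (sl2Act g (e₀.symm (e₀ v))) = _
    rw [e₀.symm_apply_apply]
  have hJU : J (dsU c) = σ a := AddMonoidHom.ext fun z => by
    obtain ⟨⟨x, y⟩, rfl⟩ := hιs z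
    refine ((hJ _ _).trans ?_).trans
      (show M (ι (x, y)) + ι (x, y) = σ a (ι (x, y)) from sub_add_cancel _ _)
    rw [hMι, ← map_add]
    exact congrArg ι (sl2Act_dsU c x y)
  have hJL : J (dsL 1) = σ b := AddMonoidHom.ext fun z => by
    obtain ⟨⟨x, y⟩, rfl⟩ := hιs z
    refine ((hJ _ _).trans ?_).trans
      (show N (ι (x, y)) + ι (x, y) = σ b (ι (x, y)) from sub_add_cancel _ _)
    rw [hNι, ← map_add]
    exact congrArg ι (sl2Act_dsL x y)
  set X₀ : Subgroup SL(2, E) := Subgroup.closure {dsU c, dsL 1} with hX₀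
  have hcov : ∀ g ∈ X₀, ∃ h ∈ Subgroup.closure ({a, b} : Set H), σ h = J g := by
    intro g hg
    induction hg using Subgroup.closure_induction with
    | mem g hg =>
      rcases hg with rfl | rfl
      · exact ⟨a, Subgroup.subset_closure (by simp), hJU.symm⟩
      · exact ⟨b, Subgroup.subset_closure (by simp), hJL.symm⟩
    | one => exact ⟨1, one_mem _, by rw [map_one, map_one]⟩
    | mul g g' _ _ ih ih' =>
      obtain ⟨h, hh, e1⟩ := ih
      obtain ⟨h', hh', e2⟩ := ih'
      exact ⟨h * h', mul_mem hh hh', by rw [map_mul, map_mul, e1, e2]⟩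
    | inv g _ ih =>
      obtain ⟨h, hh, e1⟩ := ih
      refine ⟨h⁻¹, inv_mem hh, ?_⟩
      exact left_inv_eq_right_inv (a := σ h) (by rw [← map_mul, inv_mul_cancel, map_one])
        (by rw [e1, ← map_mul, mul_inv_cancel, map_one])
  -- Dickson over the algebraic closure of `E`
  let k := AlgebraicClosure E
  haveI : CharP k p := charP_of_injective_algebraMap (algebraMap E k).injective p
  let κ : SL(2, E) →* SL(2, k) := Matrix.SpecialLinearGroup.map (algebraMap E k)
  have hκ : Function.Injective κ := by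
    intro x y hxy
    apply Matrix.SpecialLinearGroup.ext
    intro i i'
    exact (algebraMap E k).injective (congrFun (congrFun (congrArg Subtype.val hxy) i) i')
  haveI : Finite (X₀.map κ) := Finite.of_surjective _ (κ.subgroupMap_surjective X₀)
  have hnc : ¬ Commute (dsU (algebraMap E k c)) (dsL (1 : k)) := by
    intro h
    have e := congrFun (congrFun (congrArg Subtype.val h.eq) 0) 0
    simp [coe_dsU, coe_dsL, Matrix.mul_apply, Fin.sum_univ_two] at e
    exact hC0 (congrArg Subtype.val e)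
  obtain ⟨f₁, hf₁, hf₁X⟩ := sl2_embedding_of_noncommute (p := p) hp2 (X₀.map κ)
    (u := dsU (algebraMap E k c)) (v := dsL (1 : k))
    (by rw [hX₀, MonoidHom.map_closure, Set.image_insert_eq, Set.image_singleton, dsU_map,
      dsL_map, map_one])
    (by rw [dsU_pow, CharP.cast_eq_zero, zero_mul, dsU_zero])
    (by rw [dsL_pow, CharP.cast_eq_zero, zero_mul, dsL_zero]) hnc
  let eκ : SL(2, E) ≃* κ.range := MonoidHom.ofInjective hκ
  let f₀ : SL(2, ZMod p) →* SL(2, E) := eκ.symm.toMonoidHom.comp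
    (f₁.codRestrict κ.range fun g => Subgroup.map_le_range κ X₀ (hf₁X ⟨g, rfl⟩))
  have hκf₀ : ∀ g, κ (f₀ g) = f₁ g := fun g =>
    congrArg Subtype.val (eκ.apply_symm_apply _)
  have hf₀X : ∀ g, f₀ g ∈ X₀ := fun g => by
    rw [← Subgroup.mem_map_iff_mem hκ, hκf₀]
    exact hf₁X ⟨g, rfl⟩
  have hf₀i : Function.Injective f₀ := fun x y h => hf₁ (by rw [← hκf₀, ← hκf₀, h])
  have h2F : (2 : ZMod p) ≠ 0 := natCast_two_ne_zero hp2
  have h2E : (2 : E) ≠ 0 := natCast_two_ne_zero hp2
  have hf₀neg : f₀ (-1) = -1 := by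
    have h1 : f₀ (-1) * f₀ (-1) = 1 := by rw [← map_mul, neg_one_mul, neg_neg, map_one]
    rcases sl2_scalar_eq_one_or_neg (CfsgLib.SchurSL2.isScalarMat_of_sq_eq_one h2E h1) with h | h
    · exact absurd (hf₀i (h.trans (map_one f₀).symm)) (sl2_neg_one_ne_one h2F)
    · exact h
  let τ : SL(2, ZMod p) →* AddMonoid.End A := J.comp f₀
  have hquad : ∀ g : SL(2, ZMod p), g ^ p = 1 → ∀ z, τ g (τ g z) + z = τ g z + τ g z := by
    intro g hg z
    obtain ⟨v, rfl⟩ := hιs z
    have hg' : f₀ g ^ p = 1 := by rw [← map_pow, hg, map_one]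
    show J (f₀ g) (J (f₀ g) (ι v)) + ι v = J (f₀ g) (ι v) + J (f₀ g) (ι v)
    rw [hJ, hJ, ← map_add, ← map_add]
    congr 1
    have ht := trace_two_of_pow hg'
    have hd : ((f₀ g : SL(2, E)) : Matrix (Fin 2) (Fin 2) E).det = 1 := (f₀ g).2
    rw [Matrix.det_fin_two] at hd
    simp only [sl2Act, Prod.ext_iff, Prod.fst_add, Prod.snd_add]
    constructor
    · linear_combination -v.1 * hd +
        ((f₀ g : Matrix (Fin 2) (Fin 2) E) 0 0 * v.1 +
          (f₀ g : Matrix (Fin 2) (Fin 2) E) 0 1 * v.2) * ht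
    · linear_combination -v.2 * hd +
        ((f₀ g : Matrix (Fin 2) (Fin 2) E) 1 0 * v.1 +
          (f₀ g : Matrix (Fin 2) (Fin 2) E) 1 1 * v.2) * ht
  set U : SL(2, ZMod p) := dsU 1 with hU
  set L : SL(2, ZMod p) := dsL 1 with hL
  have hUp : U ^ p = 1 := by rw [hU, dsU_pow, ZMod.natCast_self, zero_mul, dsU_zero]
  have hLp : L ^ p = 1 := by rw [hL, dsL_pow, ZMod.natCast_self, zero_mul, dsL_zero]
  let M₁ : AddMonoid.End A := τ U - 1
  let N₁ : AddMonoid.End A := τ L - 1
  have hM₁a : ∀ z, τ U z = M₁ z + z := fun z => (sub_add_cancel _ _).symm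
  have hN₁a : ∀ z, τ L z = N₁ z + z := fun z => (sub_add_cancel _ _).symm
  have hM₁2 : ∀ z, M₁ (M₁ z) = 0 := by
    intro z
    show τ U (τ U z - z) - (τ U z - z) = 0
    rw [map_sub, sub_eq_zero, sub_eq_sub_iff_add_eq_add]
    exact hquad U hUp z
  have hN₁2 : ∀ z, N₁ (N₁ z) = 0 := by
    intro z
    show τ L (τ L z - z) - (τ L z - z) = 0
    rw [map_sub, sub_eq_zero, sub_eq_sub_iff_add_eq_add]
    exact hquad L hLp z
  obtain ⟨e₁, he₁0, hMe₁⟩ : ∃ x : A, x ≠ 0 ∧ M₁ x = 0 := by
    obtain ⟨y, hy⟩ := exists_ne (0 : A)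
    by_cases h : M₁ y = 0
    · exact ⟨y, hy, h⟩
    · exact ⟨M₁ y, h, hM₁2 y⟩
  have hLinv : ∀ z, τ L⁻¹ z = z - N₁ z := by
    intro z
    have h1 : τ L⁻¹ (τ L (z - N₁ z)) = z - N₁ z := by
      show (τ L⁻¹ * τ L) _ = _
      rw [← map_mul, inv_mul_cancel, map_one]
      rfl
    rwa [hN₁a, map_sub, hN₁2, sub_zero, add_sub_cancel] at h1
  have hτmul : ∀ g g' z, τ (g * g') z = τ g (τ g' z) := fun g g' z => by rw [map_mul]; rfl
  set w : SL(2, ZMod p) := U * L⁻¹ * U with hw
  have hrel : w * U = L⁻¹ * w := by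
    have hLi : L⁻¹ = dsL (-1) := by
      refine inv_eq_of_mul_eq_one_right ?_
      rw [hL, dsL_mul, add_neg_cancel, dsL_zero]
    rw [hw, hLi, hU]
    ext i i'
    fin_cases i <;> fin_cases i' <;>
      simp [coe_dsU, coe_dsL, Matrix.mul_apply, Fin.sum_univ_two]
  have hMNe : M₁ (N₁ e₁) = e₁ := by
    have hwe : τ w e₁ = e₁ - N₁ e₁ - M₁ (N₁ e₁) := by
      rw [hw, hτmul, hτmul, hM₁a e₁, hMe₁, zero_add, hLinv, hM₁a, map_sub, hMe₁]
      abel
    have h1 := congrArg (fun g => τ g e₁) hrel
    simp only [hτmul w U, hτmul L⁻¹ w, hM₁a e₁, hMe₁, zero_add] at h1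
    rw [hLinv] at h1
    have h2 : N₁ (τ w e₁) = 0 := sub_eq_self.mp h1.symm
    rw [hwe, map_sub, map_sub, hN₁2, sub_zero] at h2
    set z := M₁ (N₁ e₁) - e₁ with hz
    have hMz : M₁ z = 0 := by rw [hz, map_sub, hM₁2, hMe₁, sub_zero]
    have hNz : N₁ z = 0 := by rw [hz, map_sub, ← neg_sub, h2, neg_zero]
    have hall : ∀ g : SL(2, ZMod p), τ g z = z := by
      let S : Subgroup SL(2, ZMod p) :=
        { carrier := {g | τ g z = z}
          one_mem' := by show τ 1 z = z; rw [map_one]; rfl
          mul_mem' := fun {g g'} (h : τ g z = z) (h' : τ g' z = z) => by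
            show τ (g * g') z = z
            rw [hτmul, h', h]
          inv_mem' := fun {g} (h : τ g z = z) => by
            show τ g⁻¹ z = z
            conv_lhs => rw [← h]
            rw [← hτmul, inv_mul_cancel, map_one]
            rfl }
      intro g
      have : S = ⊤ := sl2_prime_eq_top (c := (1 : ZMod p)) one_ne_zero
        (show τ U z = z by rw [hM₁a, hMz, zero_add]) (show τ L z = z by rw [hN₁a, hNz, zero_add])
      show g ∈ S
      rw [this]
      exact Subgroup.mem_top g
    have h3 := hall (-1)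
    obtain ⟨v, hv⟩ := hιs z
    rw [show τ (-1) = J (-1) by rw [← hf₀neg]; rfl, ← hv, hJ, sl2Act_neg_one, map_neg, hv] at h3
    have hz0 : z = 0 := by
      have h4 : (2 : ℕ) • z = 0 := by rw [two_nsmul]; nth_rewrite 1 [← h3]; exact neg_add_cancel z
      rw [← AddMonoid.addOrderOf_eq_one_iff]
      exact Nat.eq_one_of_dvd_coprimes ((Nat.coprime_primes Nat.prime_two hp.out).mpr (Ne.symm hp2))
        (addOrderOf_dvd_of_nsmul_eq_zero h4) (addOrderOf_dvd_of_nsmul_eq_zero (hpA z))
    exact sub_eq_zero.mp hz0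
  letI : Module (ZMod p) A := AddCommGroup.zmodModule hpA
  have hNf₁ : N₁ (N₁ e₁) = 0 := hN₁2 e₁
  set f₁' := N₁ e₁ with hf₁'
  let jA : ZMod p × ZMod p →+ A :=
    { toFun := fun v => v.1 • e₁ + v.2 • f₁'
      map_zero' := by simp
      map_add' := fun v v' => by simp only [Prod.fst_add, Prod.snd_add, add_smul]; abel }
  have hMj : ∀ x y : ZMod p, M₁ (jA (x, y)) = jA (y, 0) := by
    intro x y
    show M₁ (x • e₁ + y • f₁') = y • e₁ + (0 : ZMod p) • f₁'
    rw [map_add, ZMod.map_smul, ZMod.map_smul, hMe₁, smul_zero, zero_add, hMNe, zero_smul, add_zero]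
  have hNj : ∀ x y : ZMod p, N₁ (jA (x, y)) = jA (0, x) := by
    intro x y
    show N₁ (x • e₁ + y • f₁') = (0 : ZMod p) • e₁ + x • f₁'
    rw [map_add, ZMod.map_smul, ZMod.map_smul, hNf₁, smul_zero, add_zero, zero_smul, zero_add]
  have hsm : ∀ y : ZMod p, y • e₁ = 0 → y = 0 := by
    intro y h
    by_contra hy
    apply he₁0
    rw [← inv_smul_smul₀ hy e₁, h, smul_zero]
  refine ⟨jA, ?_, fun g => ?_⟩
  · rw [injective_iff_map_eq_zero]
    rintro ⟨x, y⟩ h
    have h1 : M₁ (jA (x, y)) = 0 := by rw [h, map_zero]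
    rw [hMj] at h1
    have hy : y = 0 := hsm y (by simpa [jA] using h1)
    subst hy
    have hx : x = 0 := hsm x (by simpa [jA] using h)
    rw [hx]
    rfl
  · obtain ⟨h, hh, hhe⟩ := hcov _ (hf₀X g)
    refine ⟨h, hh, fun v => ?_⟩
    rw [hhe]
    show τ g (jA v) = jA (sl2Act g v)
    let S : Subgroup SL(2, ZMod p) :=
      { carrier := {g | ∀ v, τ g (jA v) = jA (sl2Act g v)}
        one_mem' := fun v => by rw [map_one, sl2Act_one]; rfl
        mul_mem' := fun {g g'} (h1 : ∀ v, _) (h2 : ∀ v, _) v => by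
          rw [hτmul, h2, h1, sl2Act_mul]
        inv_mem' := fun {g} (h1 : ∀ v, _) v => by
          have h3 := h1 (sl2Act g⁻¹ v)
          rw [← sl2Act_mul, mul_inv_cancel, sl2Act_one] at h3
          rw [← h3, ← hτmul, inv_mul_cancel, map_one]
          rfl }
    have hS : S = ⊤ := by
      refine sl2_prime_eq_top (c := (1 : ZMod p)) one_ne_zero ?_ ?_
      · rintro ⟨x, y⟩
        rw [hM₁a, hMj, ← map_add]
        congr 1
        simp [sl2Act, coe_dsU, add_comm]
      · rintro ⟨x, y⟩
        rw [hN₁a, hNj, ← map_add]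
        congr 1
        simp [sl2Act, coe_dsL]
    exact (hS ▸ Subgroup.mem_top g : g ∈ S) v

/-- An irreducible quadratic pair inside a group gives `Qd(p)`. -/
theorem hasQdSection_of_irreducible_pair {G : Type*} [Group G] [Finite G] (hp2 : p ≠ 2)
    {V : Subgroup G} (hV : Cfsg.IsElementaryAbelian p V) {a b : G}
    (haV : a ∈ Subgroup.normalizer (V : Set G)) (hbV : b ∈ Subgroup.normalizer (V : Set G))
    (ha : QuadElt V a) (hb : QuadElt V b)
    (hirr : ∀ U : Subgroup G, U ≤ V → a ∈ Subgroup.normalizer (U : Set G) →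
      b ∈ Subgroup.normalizer (U : Set G) → U = ⊥ ∨ U = V)
    (hnt : ¬ ∀ h ∈ Subgroup.closure ({a, b} : Set G),
      ∃ k : ℕ, h ^ p ^ k ∈ Subgroup.centralizer (V : Set G)) :
    HasQdSection p G := by
  classical
  letI : CommGroup V := { (inferInstance : Group V) with
    mul_comm := fun x y => Subtype.ext (commute_of_mem_comm hV.1 x.2 y.2).eq }
  have hsmul : ∀ x : Additive V, p • x = 0 := by
    intro x
    apply Additive.toMul.injective
    exact Subtype.ext (hV.2 _ (Additive.toMul x).2)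
  set Nz := Subgroup.normalizer (V : Set G) with hNz
  let val : Additive V → G := fun x => ((Additive.toMul x : V) : G)
  let σ : Nz →* AddMonoid.End (Additive V) :=
    { toFun := fun h =>
        { toFun := fun x => Additive.ofMul ⟨(h : G) * val x * (h : G)⁻¹,
            (Subgroup.mem_normalizer_iff.mp h.2 _).mp (Additive.toMul x).2⟩
          map_zero' := by apply Additive.toMul.injective; ext; simp [val]
          map_add' := fun x y => by apply Additive.toMul.injective; ext; simp [val, mul_assoc] }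
      map_one' := AddMonoidHom.ext fun x => by
        apply Additive.toMul.injective
        ext
        show ((1 : Nz) : G) * val x * ((1 : Nz) : G)⁻¹ = val x
        simp
      map_mul' := fun g h => AddMonoidHom.ext fun x => by
        apply Additive.toMul.injective
        ext
        show ((g * h : Nz) : G) * val x * ((g * h : Nz) : G)⁻¹ =
          (g : G) * ((h : G) * val x * (h : G)⁻¹) * (g : G)⁻¹
        simp [mul_assoc] }
  have hval : ∀ h x, val (σ h x) = (h : G) * val x * (h : G)⁻¹ := fun _ _ => rfl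
  have hσ : ∀ c : Nz, QuadElt V (c : G) → (σ c - 1) * (σ c - 1) = 0 := by
    intro c hc
    refine AddMonoidHom.ext fun x => ?_
    have h1 : σ c (σ c x - x) = σ c x - x := by
      apply Additive.toMul.injective
      ext
      have := hc _ (Additive.toMul x).2
      rw [commutatorElement_def] at this
      show (c : G) * val (σ c x - x) * (c : G)⁻¹ = val (σ c x - x)
      simp only [val, toMul_sub, Subgroup.coe_div, div_eq_mul_inv]
      exact this
    show σ c (σ c x - x) - (σ c x - x) = 0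
    rw [h1, sub_self]
  have hirr' : ∀ S : AddSubgroup (Additive V), (∀ x ∈ S, σ ⟨a, haV⟩ x ∈ S) →
      (∀ x ∈ S, σ ⟨b, hbV⟩ x ∈ S) → S = ⊥ ∨ S = ⊤ := by
    intro S hSa hSb
    set U := (AddSubgroup.toSubgroup' S).map V.subtype with hU
    have hmem : ∀ x : Additive V, val x ∈ U ↔ x ∈ S := fun x =>
      Subgroup.mem_map_iff_mem V.subtype_injective
    have hnorm : ∀ (c : G) (hc : c ∈ Nz), (∀ x ∈ S, σ ⟨c, hc⟩ x ∈ S) →
        c ∈ Subgroup.normalizer (U : Set G) := by
      intro c hc hS
      have hle : U.map (MulAut.conj c).toMonoidHom ≤ U := by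
        rintro _ ⟨_, ⟨u, hu, rfl⟩, rfl⟩
        exact (hmem (σ ⟨c, hc⟩ (Additive.ofMul u))).mpr (hS _ hu)
      have heq : U.map (MulAut.conj c).toMonoidHom = U :=
        Subgroup.eq_of_le_of_card_ge hle
          (Nat.card_congr (U.equivMapOfInjective (MulAut.conj c).toMonoidHom
            (MulAut.conj c).injective).toEquiv).le
      rw [Subgroup.mem_normalizer_iff]
      intro y
      constructor
      · intro hy
        rw [← heq]
        exact Subgroup.mem_map_of_mem (MulAut.conj c).toMonoidHom hy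
      · intro hy
        rw [← heq] at hy
        exact (Subgroup.mem_map_iff_mem (MulAut.conj c).injective).mp hy
    rcases hirr U (Subgroup.map_subtype_le _) (hnorm a haV hSa) (hnorm b hbV hSb) with h | h
    · left
      refine (AddSubgroup.eq_bot_iff_forall S).mpr fun x hx => ?_
      have h1 := (hmem x).mpr hx
      rw [h, Subgroup.mem_bot] at h1
      exact Additive.toMul.injective (Subtype.ext h1)
    · right
      refine (AddSubgroup.eq_top_iff' S).mpr fun x => (hmem x).mp ?_
      rw [h]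
      exact (Additive.toMul x).2
  have hnt' : σ ⟨a, haV⟩ ≠ 1 ∨ σ ⟨b, hbV⟩ ≠ 1 := by
    by_contra h
    push Not at h
    apply hnt
    intro x hx
    refine ⟨0, ?_⟩
    rw [pow_zero, pow_one]
    have key : ∀ c ∈ ({a, b} : Set G), c ∈ Subgroup.centralizer (V : Set G) := by
      intro c hc v hv
      have hfix : c * v * c⁻¹ = v := by
        rcases hc with rfl | rfl
        · exact congrArg val (DFunLike.congr_fun h.1 (Additive.ofMul ⟨v, hv⟩))
        · exact congrArg val (DFunLike.congr_fun h.2 (Additive.ofMul ⟨v, hv⟩))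
      exact (mul_inv_eq_iff_eq_mul.mp hfix).symm
    exact (Subgroup.closure_le _).mpr key hx
  obtain ⟨j, hj, hcov⟩ := exists_natural_of_irreducible hp2 hsmul σ (a := ⟨a, haV⟩) (b := ⟨b, hbV⟩)
    (hσ _ ha) (hσ _ hb) hirr' hnt'
  let jG : Multiplicative (ZMod p × ZMod p) →* G :=
    V.subtype.comp (AddMonoidHom.toMultiplicativeLeft j)
  have hjGi : Function.Injective jG := by
    intro x y h
    exact Multiplicative.toAdd.injective (hj (Additive.toMul.injective (V.subtype_injective h)))
  let K₁ : Subgroup Nz :=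
    { carrier := {h | ∃ g : SL(2, ZMod p), ∀ v, σ h (j v) = j (sl2Act g v)}
      one_mem' := ⟨1, fun v => by rw [map_one, sl2Act_one]; rfl⟩
      mul_mem' := fun {h h'} ⟨g, hg⟩ ⟨g', hg'⟩ => ⟨g * g', fun v => by
        rw [map_mul, sl2Act_mul]
        show σ h (σ h' (j v)) = _
        rw [hg', hg]⟩
      inv_mem' := fun {h} ⟨g, hg⟩ => ⟨g⁻¹, fun v => by
        have h3 := hg (sl2Act g⁻¹ v)
        rw [← sl2Act_mul, mul_inv_cancel, sl2Act_one] at h3
        rw [← h3]
        show (σ h⁻¹ * σ h) _ = _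
        rw [← map_mul, inv_mul_cancel, map_one]
        rfl⟩ }
  have huniq : ∀ g g' : SL(2, ZMod p), (∀ v, j (sl2Act g v) = j (sl2Act g' v)) → g = g' := by
    intro g g' h
    have h0 := hj (h (1, 0))
    have h1 := hj (h (0, 1))
    simp [sl2Act] at h0 h1
    ext i i'
    fin_cases i <;> fin_cases i' <;> simp [h0, h1]
  choose π₀ hπ₀ using fun h : K₁ => h.2
  let π₁ : K₁ →* SL(2, ZMod p) := MonoidHom.mk' π₀ fun h h' => huniq _ _ fun v => by
    rw [← hπ₀ (h * h') v, Subgroup.coe_mul, map_mul, sl2Act_mul]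
    show σ h (σ h' (j v)) = _
    rw [hπ₀ h' v, hπ₀ h]
  have hπ₁ : Function.Surjective π₁ := by
    intro g
    obtain ⟨h, -, hh⟩ := hcov g
    refine ⟨⟨h, g, hh⟩, huniq _ _ fun v => ?_⟩
    rw [← hh v]
    exact (hπ₀ ⟨h, g, hh⟩ v).symm
  let eK : K₁ ≃* K₁.map Nz.subtype := Subgroup.equivMapOfInjective K₁ _ Nz.subtype_injective
  refine hasQdSection_of_natural hp2 jG hjGi (K := K₁.map Nz.subtype)
    (π₁.comp eK.symm.toMonoidHom) (hπ₁.comp eK.symm.surjective) fun k v => ?_
  obtain ⟨h, rfl⟩ := eK.surjective k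
  show ((h : Nz) : G) * val (j v) * ((h : Nz) : G)⁻¹ =
    val (j (sl2Act (π₁ (eK.symm (eK h))) v))
  rw [eK.symm_apply_apply, ← hval, hπ₀ h v]
  rfl

universe u

/-- Two quadratic elements generating a non-`p`-group of automorphisms give `Qd(p)`. -/
theorem hasQdSection_of_pair (hp2 : p ≠ 2) (n : ℕ) : ∀ {G : Type u} [Group G] [Finite G]
    {V : Subgroup G}, Nat.card V = n → Cfsg.IsElementaryAbelian p V → ∀ {a b : G},
    a ∈ Subgroup.normalizer (V : Set G) → b ∈ Subgroup.normalizer (V : Set G) →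
    QuadElt V a → QuadElt V b →
    (¬ ∀ h ∈ Subgroup.closure ({a, b} : Set G),
      ∃ k : ℕ, h ^ p ^ k ∈ Subgroup.centralizer (V : Set G)) →
    HasQdSection p G := by
  induction n using Nat.strong_induction_on with
  | _ n ih =>
    intro G _ _ V hn hV a b haV hbV ha hb hnt
    by_cases hirr : ∀ U : Subgroup G, U ≤ V → a ∈ Subgroup.normalizer (U : Set G) →
        b ∈ Subgroup.normalizer (U : Set G) → U = ⊥ ∨ U = V
    · exact hasQdSection_of_irreducible_pair hp2 hV haV hbV ha hb hirr hnt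
    push Not at hirr
    obtain ⟨U, hUV, haU, hbU, hU0, hUne⟩ := hirr
    have hUlt : Nat.card U < n := by
      rw [← hn]
      by_contra hle
      exact hUne (Subgroup.eq_of_le_of_card_ge hUV (not_lt.mp hle))
    by_cases h1 : ∀ h ∈ Subgroup.closure ({a, b} : Set G),
        ∃ k : ℕ, h ^ p ^ k ∈ Subgroup.centralizer (U : Set G)
    swap
    · exact ih _ hUlt rfl (isEA_mono hV hUV) haU hbU (fun v hv => ha v (hUV hv))
        (fun v hv => hb v (hUV hv)) h1
    set G₁ := Subgroup.normalizer (V : Set G) ⊓ Subgroup.normalizer (U : Set G) with hG₁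
    have hVG₁ : V ≤ G₁ := le_inf Subgroup.le_normalizer (fun v hv => by
      apply Subgroup.centralizer_le_normalizer
      intro u hu
      exact (commute_of_mem_comm hV.1 (hUV hu) hv).eq)
    haveI : (U.subgroupOf G₁).Normal :=
      (Subgroup.normal_subgroupOf_iff_le_normalizer (hUV.trans hVG₁)).mpr inf_le_right
    set π := QuotientGroup.mk' (U.subgroupOf G₁) with hπ
    set V₁ := V.subgroupOf G₁ with hV₁
    set Vq := V₁.map π with hVq
    have hVqEA : Cfsg.IsElementaryAbelian p Vq := by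
      refine isEA_map ?_ π
      apply isEA_of_map G₁.subtype_injective
      rwa [Subgroup.map_subgroupOf_eq_of_le hVG₁]
    let a' : G₁ := ⟨a, haV, haU⟩
    let b' : G₁ := ⟨b, hbV, hbU⟩
    have hquad : ∀ (c : G₁), QuadElt V (c : G) → QuadElt Vq (π c) := by
      intro c hc
      refine quadElt_map π ?_
      apply quadElt_of_map G₁.subtype_injective
      rwa [Subgroup.map_subgroupOf_eq_of_le hVG₁]
    have hnorm : ∀ c : G₁, π c ∈ Subgroup.normalizer (Vq : Set (G₁ ⧸ U.subgroupOf G₁)) := by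
      intro c
      haveI : V₁.Normal :=
        (Subgroup.normal_subgroupOf_iff_le_normalizer hVG₁).mpr inf_le_left
      haveI : Vq.Normal := Subgroup.Normal.map inferInstance _ (QuotientGroup.mk'_surjective _)
      rw [Subgroup.normalizer_eq_top]
      exact Subgroup.mem_top _
    have hcard : Nat.card Vq < n := by
      rw [← hn]
      have h2 := Subgroup.card_mul_index ((U.subgroupOf G₁).subgroupOf V₁)
      have hcard1 : Nat.card Vq * Nat.card U = Nat.card V := by
        have h3 : Nat.card ((π.comp V₁.subtype).range) * Nat.card (π.comp V₁.subtype).ker =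
            Nat.card V₁ := by
          rw [← Subgroup.index_ker, Subgroup.index_mul_card]
        rw [MonoidHom.range_comp, Subgroup.range_subtype, ← MonoidHom.comap_ker, hπ,
          QuotientGroup.ker_mk', ← hπ, ← hVq] at h3
        rwa [show Nat.card ↥((U.subgroupOf G₁).comap V₁.subtype) = Nat.card U by
            exact (Nat.card_congr
              (Subgroup.subgroupOfEquivOfLe (show U.subgroupOf G₁ ≤ V₁ from Subgroup.comap_mono hUV)).toEquiv).trans
              (Nat.card_congr (Subgroup.subgroupOfEquivOfLe (hUV.trans hVG₁)).toEquiv),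
          show Nat.card V₁ = Nat.card V from
            Nat.card_congr (Subgroup.subgroupOfEquivOfLe hVG₁).toEquiv] at h3
      have hU1 : 1 < Nat.card U := (Subgroup.one_lt_card_iff_ne_bot U).mpr hU0
      rw [← hcard1]
      exact lt_mul_of_one_lt_right Nat.card_pos hU1
    refine hasQdSection_of_subgroup G₁ (hasQdSection_of_surjective
      (QuotientGroup.mk'_surjective (U.subgroupOf G₁)) ?_)
    refine ih _ hcard rfl hVqEA (hnorm a') (hnorm b') (hquad a' ha) (hquad b' hb) fun h2 => hnt ?_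
    intro h hh
    have hhG₁ : h ∈ G₁ := (Subgroup.closure_le G₁).mpr
      (by rintro c (rfl | rfl); exacts [a'.2, b'.2]) hh
    have hh' : π ⟨h, hhG₁⟩ ∈ Subgroup.closure ({π a', π b'} : Set (G₁ ⧸ U.subgroupOf G₁)) := by
      rw [show ({π a', π b'} : Set (G₁ ⧸ U.subgroupOf G₁)) = π '' {a', b'} by
        rw [Set.image_insert_eq, Set.image_singleton], ← MonoidHom.map_closure]
      apply Subgroup.mem_map_of_mem
      rw [← Subgroup.mem_map_iff_mem G₁.subtype_injective, MonoidHom.map_closure,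
        Set.image_insert_eq, Set.image_singleton]
      exact hh
    obtain ⟨k₁, hk₁⟩ := h1 h hh
    obtain ⟨k₂, hk₂⟩ := h2 _ hh'
    refine ⟨k₁ + k₂ + 1, ?_⟩
    set y := h ^ p ^ (k₁ + k₂) with hy
    have hyU : ∀ u ∈ U, y * u * y⁻¹ = u := by
      intro u hu
      have : y ∈ Subgroup.centralizer (U : Set G) := by
        rw [hy, pow_add, pow_mul]; exact Subgroup.pow_mem _ hk₁ _
      rw [← this u hu, mul_inv_cancel_right]
    intro v hv
    have hyG₁ : y ∈ G₁ := G₁.pow_mem hhG₁ _
    have hc : y * v * y⁻¹ * v⁻¹ ∈ U := by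
      have h3 : π ⟨y, hyG₁⟩ ∈ Subgroup.centralizer (Vq : Set (G₁ ⧸ U.subgroupOf G₁)) := by
        rw [show (⟨y, hyG₁⟩ : G₁) = ⟨h, hhG₁⟩ ^ (p ^ k₂ * p ^ k₁) from
          Subtype.ext (show h ^ p ^ (k₁ + k₂) = h ^ (p ^ k₂ * p ^ k₁) by rw [pow_add, mul_comm]), map_pow, pow_mul]
        exact Subgroup.pow_mem _ hk₂ _
      have h4 := h3 (π ⟨v, hVG₁ hv⟩) (Subgroup.mem_map_of_mem π (Subgroup.mem_subgroupOf.mpr hv))
      have h5 : π (⟨y, hyG₁⟩ * ⟨v, hVG₁ hv⟩ * (⟨y, hyG₁⟩)⁻¹ * (⟨v, hVG₁ hv⟩)⁻¹) = 1 := by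
        simp only [map_mul, map_inv]
        rw [← h4]
        group
      rw [hπ, QuotientGroup.mk'_apply, QuotientGroup.eq_one_iff] at h5
      exact h5
    set c := y * v * y⁻¹ * v⁻¹ with hc0
    have hpow : ∀ m : ℕ, y ^ m * v * (y ^ m)⁻¹ = c ^ m * v := by
      intro m
      induction m with
      | zero => simp
      | succ m ihm =>
        calc y ^ (m + 1) * v * (y ^ (m + 1))⁻¹ = y * (y ^ m * v * (y ^ m)⁻¹) * y⁻¹ := by
              rw [pow_succ']; group
          _ = (y * c ^ m * y⁻¹) * (y * v * y⁻¹) := by rw [ihm]; group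
          _ = c ^ m * (c * v) := by rw [hyU _ (U.pow_mem hc m), hc0]; group
          _ = c ^ (m + 1) * v := by rw [← mul_assoc, ← pow_succ]
    have h6 := hpow p
    rw [hV.2 _ (hUV hc), one_mul, mul_inv_eq_iff_eq_mul] at h6
    rw [pow_succ, pow_mul, ← hy]
    exact h6.symm

end CfsgLib.PLoc
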