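import Cfsg.Agent.Lib.PLocal.ZJ
import Cfsg.Prelude.Def_Local

/-!
Glauberman's ZJ theorem and its `p`-constrained, `p`-stable form.
-/

set_option linter.style.haveILetI false
open Cfsg Subgroup
open scoped commutatorElement

namespace CfsgLib.PLoc

variable {G : Type*} [Group G] [Finite G] {p : ℕ} [Fact p.Prime]

/-- An abelian subgroup normalized by a Sylow subgroup containing it lies in `O_p`. -/
theorem abelian_normal_in_sylow_le_pCore (hc : centralizer (pCore p G : Set G) ≤ pCore p G)
    (hst : PStableNormal p G) (S : Sylow p G) {A : Subgroup G} (hA : IsMulCommutative A)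
    (hAS : A ≤ (S : Subgroup G)) (hn : (S : Subgroup G) ≤ normalizer (A : Set G)) : A ≤ pCore p G := by
  haveI := pCore_normal p G
  set Q := pCore p G
  have hQS : Q ≤ (S : Subgroup G) := CfsgLib.Solvable.pCore_le_sylow S
  have hquad : ⁅⁅Q, A⁆, A⁆ = ⊥ := le_bot_iff.mp
    ((commutator_mono (le_normalizer_iff_commutator_le_right.mp (hQS.trans hn)) le_rfl).trans
      (Subgroup.commutator_self_eq_bot_iff.mpr hA).le)
  refine (le_stableKernel_of_quadratic hst (pCore_pgroup p G) hquad).trans ?_
  refine le_pCore_of (stableKernel_normal Q) ?_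
  refine (pCore_pgroup p (G ⧸ centralizer (Q : Set G))).comap_of_ker_isPGroup _ ?_
  rw [QuotientGroup.ker_mk']
  exact (pCore_pgroup p G).to_le hc

theorem centerJ_normal (hp : p ≠ 2) (hc : centralizer (pCore p G : Set G) ≤ pCore p G)
    (hst : PStableNormal p G) {e : ℕ} (he : e = 0 ∨ e = p) (S : Sylow p G) :
    (centerJ e (S : Subgroup G)).Normal := by
  haveI := pCore_normal p G
  have hle : centerJ e (S : Subgroup G) ≤ pCore p G :=
    abelian_normal_in_sylow_le_pCore hc hst S
      (IsMulCommutative.of_setLike_mul_comm fun u hu v hv => hv.2 u hu.1)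
      (inf_le_left.trans (joinMaxAb_le e _))
      ((le_normalizer.trans (normalizer_le_normalizer_joinMaxAb e _)).trans
        (normalizer_join_le_normalizer_centerJ e _))
  have h := centerJ_inf_normal hp hst he S inferInstance (pCore_pgroup p G)
  rwa [inf_eq_left.mpr hle] at h

theorem interMaxAb_normal (hp : p ≠ 2) (hc : centralizer (pCore p G : Set G) ≤ pCore p G)
    (hst : PStableNormal p G) (e : ℕ) (S : Sylow p G) :
    (interMaxAb e (S : Subgroup G)).Normal := by
  haveI := pCore_normal p G
  obtain ⟨A, hA⟩ := exists_isMaxAb e (S : Subgroup G)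
  haveI := hA.comm
  have hle : interMaxAb e (S : Subgroup G) ≤ pCore p G :=
    abelian_normal_in_sylow_le_pCore hc hst S
      (IsMulCommutative.of_setLike_mul_comm fun u hu v hv =>
        setLike_mul_comm (interMaxAb_le hA hu) (interMaxAb_le hA hv))
      ((interMaxAb_le hA).trans hA.le)
      ((le_normalizer.trans (normalizer_le_normalizer_joinMaxAb e _)).trans
        (normalizer_join_le_normalizer_interMaxAb e _))
  have h := interMaxAb_inf_normal hp hst e S inferInstance (pCore_pgroup p G)
  rwa [inf_eq_left.mpr hle] at h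

/-- A normal subgroup functorial in the Sylow subgroup is characteristic. -/
theorem characteristic_of_natural (W : Subgroup G → Subgroup G)
    (hW : ∀ (φ : G ≃* G) (D : Subgroup G), W (D.map φ.toMonoidHom) = (W D).map φ.toMonoidHom)
    (S : Sylow p G) (hn : (W (S : Subgroup G)).Normal) : (W (S : Subgroup G)).Characteristic := by
  refine Subgroup.characteristic_iff_map_eq.mpr fun φ => ?_
  haveI := hn
  obtain ⟨g, hg⟩ := MulAction.exists_smul_eq G S (S.mapSurjective (f := φ.toMonoidHom) φ.surjective)
  have he : (S : Subgroup G).map φ.toMonoidHom = (S : Subgroup G).map (MulAut.conj g).toMonoidHom := by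
    rw [← Sylow.coe_mapSurjective (hf := φ.surjective), ← hg, Sylow.coe_subgroup_smul]
    rfl
  rw [← hW, he, hW]
  exact mem_normalizer_iff_map_conj_eq.mp (by rw [normalizer_eq_top]; exact mem_top g)

theorem interMaxAb_characteristic (hp : p ≠ 2) (hc : centralizer (pCore p G : Set G) ≤ pCore p G)
    (hst : PStableNormal p G) (e : ℕ) (S : Sylow p G) :
    (interMaxAb e (S : Subgroup G)).Characteristic :=
  characteristic_of_natural (interMaxAb e) (fun φ D => interMaxAb_map φ.toMonoidHom φ.injective e D) S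
    (interMaxAb_normal hp hc hst e S)

theorem centerJ_characteristic (hp : p ≠ 2) (hc : centralizer (pCore p G : Set G) ≤ pCore p G)
    (hst : PStableNormal p G) {e : ℕ} (he : e = 0 ∨ e = p) (S : Sylow p G) :
    (centerJ e (S : Subgroup G)).Characteristic :=
  characteristic_of_natural (centerJ e) (fun φ D => centerJ_map φ.toMonoidHom φ.injective e D) S
    (centerJ_normal hp hc hst he S)

/-- A quadratic element has a `p`-power in the centralizer. -/
theorem pow_mem_centralizer_of_quadratic {P : Subgroup G} [P.Normal] (hP : IsPGroup p P) {a : G}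
    (ha : ⁅⁅P, zpowers a⁆, zpowers a⁆ = ⊥) : ∃ j : ℕ, a ^ p ^ j ∈ centralizer (P : Set G) := by
  have hfix : ∀ x ∈ P, ∀ n : ℕ, ⁅x, a ^ n⁆ = ⁅x, a⁆ ^ n := by
    intro x hx n
    have hc : Commute a ⁅x, a⁆ := by
      have h1 : ⁅⁅x, a⁆, a⁆ ∈ (⊥ : Subgroup G) := ha ▸ commutator_mem_commutator
        (commutator_mem_commutator hx (mem_zpowers a)) (mem_zpowers a)
      exact (commutatorElement_eq_one_iff_commute.mp (mem_bot.mp h1)).symm
    induction n with
    | zero => simp
    | succ n ih =>
      have e : ⁅x, a ^ (n + 1)⁆ = ⁅x, a⁆ * (a * ⁅x, a ^ n⁆ * a⁻¹) := by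
        rw [commutatorElement_def, commutatorElement_def, commutatorElement_def, pow_succ']; group
      rw [e, ih, (hc.pow_right n).eq, mul_inv_cancel_right, ← pow_succ']
  obtain ⟨j, hj⟩ := (isPGroup_iff_exists_pow_pow_eq_one).mp hP
  refine ⟨j, fun x hx => ?_⟩
  have hm : ⁅x, a⁆ ∈ P := by
    rw [commutatorElement_def, mul_assoc x a, mul_assoc x]
    exact P.mul_mem hx ((inferInstance : P.Normal).conj_mem _ (P.inv_mem hx) a)
  have h := congrArg Subtype.val (hj ⟨_, hm⟩)
  exact commutatorElement_eq_one_iff_mul_comm.mp ((hfix x hx _).trans (by simpa using h))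

/-- With trivial `p'`-core, `IsPStable` gives `p`-stable action on normal `p`-subgroups. -/
theorem pStableNormal_of_isPStable (hs : IsPStable p G) (hO : pPrimeCore p G = ⊥) : PStableNormal p G := by
  intro P _ hP a ha
  obtain ⟨k, m, hm, he⟩ := Nat.exists_eq_pow_mul_and_not_dvd (orderOf_pos a).ne' p (Nat.Prime.ne_one Fact.out)
  set C := centralizer (P : Set G)
  obtain ⟨j, haj⟩ := pow_mem_centralizer_of_quadratic hP ha
  -- the `p`-part
  obtain ⟨hodd, -, h⟩ := hs
  have hPN : normalizer (P : Set G) = ⊤ := normalizer_eq_top _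
  have hA : IsPGroup p (zpowers (a ^ m)) := by
    refine IsPGroup.of_card (n := k) ?_
    rw [Nat.card_zpowers, orderOf_pow, he, Nat.gcd_mul_left_left, Nat.mul_div_cancel _ (Nat.pos_of_ne_zero fun h0 : m = 0 => hm (h0 ▸ dvd_zero p))]
  have hres := h (zpowers (a ^ m)) P hA hP (fun b _ x hx => (inferInstance : P.Normal).conj_mem x hx b)
    (by
      refine le_trans ?_ (pPrimePCore_eq_comap (f := MonoidHom.id G) Function.surjective_id (by rw [hO, MonoidHom.ker_id])).ge
      rw [comap_id]; exact le_pCore_of inferInstance hP)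
    (by rw [hO, bot_sup_eq]; infer_instance)
    (le_bot_iff.mp ((commutator_mono (commutator_mono le_rfl (zpowers_le.mpr (pow_mem (mem_zpowers a) m)))
      (zpowers_le.mpr (pow_mem (mem_zpowers a) m))).trans ha.le))
  have hk : (QuotientGroup.mk' C (a ^ m)) ∈ pCore p (G ⧸ C) := by
    rw [map_le_iff_le_comap] at hres
    have hx := hres (x := ⟨a ^ m, hPN ▸ mem_top _⟩) (mem_subgroupOf.mpr (mem_zpowers _))
    rw [comap_pCore_congr (QuotientGroup.mk'_surjective _)
      (g := (QuotientGroup.mk' C).comp (normalizer (P : Set G)).subtype)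
      (fun y => by
        obtain ⟨b, rfl⟩ := QuotientGroup.mk'_surjective C y
        exact ⟨⟨b, hPN ▸ mem_top b⟩, rfl⟩)
      (by rw [← MonoidHom.comap_ker, QuotientGroup.ker_mk', QuotientGroup.ker_mk']; rfl)] at hx
    exact hx
  -- `a` is in the subgroup generated by `a ^ m` and `a ^ p ^ j`
  have hg : Nat.gcd m (p ^ j) = 1 :=
    Nat.Coprime.pow_right j ((Nat.Prime.coprime_iff_not_dvd Fact.out).mpr hm).symm
  have hmem : (QuotientGroup.mk' C a) ^ Nat.gcd m (p ^ j) ∈ pCore p (G ⧸ C) := by
    rw [← zpow_natCast, Nat.gcd_eq_gcd_ab, zpow_add, zpow_mul, zpow_mul, zpow_natCast, zpow_natCast,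
      ← map_pow, ← map_pow]
    refine mul_mem (zpow_mem hk _) (zpow_mem ?_ _)
    rw [show QuotientGroup.mk' C (a ^ p ^ j) = 1 from (QuotientGroup.eq_one_iff _).mpr haj]
    exact one_mem _
  rw [hg, pow_one] at hmem
  exact hmem

theorem centralizer_pCore_le_of_isPConstrained (hc : IsPConstrained p G) (hO : pPrimeCore p G = ⊥) :
    centralizer (pCore p G : Set G) ≤ pCore p G :=
  (isPConstrained_iff_of_surjective (f := MonoidHom.id G) Function.surjective_id
    (by rw [hO, MonoidHom.ker_id])).mp hc

theorem centerJ_normal_of_stable (hp : p ≠ 2) (hc : IsPConstrained p G) (hs : IsPStable p G)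
    (hO : pPrimeCore p G = ⊥) {e : ℕ} (he : e = 0 ∨ e = p) (S : Sylow p G) :
    (centerJ e (S : Subgroup G)).Normal :=
  centerJ_normal hp (centralizer_pCore_le_of_isPConstrained hc hO) (pStableNormal_of_isPStable hs hO) he S

end CfsgLib.PLoc
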