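import Cfsg.Prelude.Def_LocalEven
import Cfsg.Agent.Lib.PLocal.QdSection

/-!
Glauberman: failure of `p`-stability, `p` odd, forces a section isomorphic to `Qd(p)`.
-/

set_option autoImplicit false

open scoped commutatorElement MatrixGroups
open CfsgLib.PLocal

namespace CfsgLib.PLoc

variable {p : ℕ} [hp : Fact p.Prime]

/-- Action on a normal elementary abelian subgroup. -/
theorem isPStableOn_ea_or_qd (hp2 : p ≠ 2) {G : Type*} [Group G] [Finite G] (V : Subgroup G)
    [V.Normal] (hV : Cfsg.IsElementaryAbelian p V) :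
    Cfsg.IsPStableOn p V ∨ HasQdSection p G := by
  by_cases hs : HasQdSection p G
  · exact Or.inr hs
  refine Or.inl fun a ha => ?_
  by_contra hna
  apply hs
  set C := Subgroup.centralizer (V : Set G) with hC
  set π := QuotientGroup.mk' C with hπ
  have hn : ∀ g : G, g ∈ Subgroup.normalizer (V : Set G) := fun g => by
    rw [Subgroup.normalizer_eq_top]; exact Subgroup.mem_top g
  obtain ⟨g, hg⟩ : ∃ g : G, ¬ IsPGroup p
      (Subgroup.closure ({π a, π g * π a * (π g)⁻¹} : Set (G ⧸ C))) := by
    by_contra hcon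
    push Not at hcon
    apply hna
    obtain ⟨N, hN, hNp, haN⟩ := CfsgLib.Invol.exists_normal_pGroup_of_pairs (p := p) (π a)
      (fun q => by
        obtain ⟨g, rfl⟩ := QuotientGroup.mk'_surjective C q
        exact hcon g)
    exact CfsgLib.Solvable.le_pCore hN hNp haN
  refine hasQdSection_of_pair hp2 (Nat.card V) rfl hV (hn a) (hn (g * a * g⁻¹))
    (quadElt_of_bot ha) (quadElt_conj (hn g) (quadElt_of_bot ha)) fun hall => hg ?_
  rw [← map_inv, ← map_mul, ← map_mul, show ({π a, π (g * a * g⁻¹)} : Set (G ⧸ C)) =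
    π '' {a, g * a * g⁻¹} by rw [Set.image_insert_eq, Set.image_singleton], ← MonoidHom.map_closure]
  rintro ⟨_, x, hx, rfl⟩
  obtain ⟨k, hk⟩ := hall x hx
  refine ⟨k, Subtype.ext ?_⟩
  rw [SubgroupClass.coe_pow, OneMemClass.coe_one, ← map_pow]
  exact (QuotientGroup.eq_one_iff _).mpr hk

/-- Action on an arbitrary normal `p`-subgroup: reduction to the Frattini quotient. -/
theorem isPStableOn_or_qd (hp2 : p ≠ 2) {G : Type*} [Group G] [Finite G] (P : Subgroup G)
    [P.Normal] (hP : IsPGroup p P) : Cfsg.IsPStableOn p P ∨ HasQdSection p G := by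
  by_cases hs : HasQdSection p G
  · exact Or.inr hs
  refine Or.inl fun a ha => ?_
  haveI := hP.isNilpotent
  set N := (frattini P).map P.subtype with hN
  haveI hNn : N.Normal := inferInstance
  set π := QuotientGroup.mk' N with hπ
  have hV : Cfsg.IsElementaryAbelian p (P.map π) := by
    refine ⟨Subgroup.le_centralizer_iff_isMulCommutative.mp ?_, ?_⟩
    · rintro _ ⟨x, hx, rfl⟩ _ ⟨y, hy, rfl⟩
      rw [← commutatorElement_eq_one_iff_mul_comm, ← map_commutatorElement, ← MonoidHom.mem_ker,
        hπ, QuotientGroup.ker_mk']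
      exact ⟨⁅(⟨y, hy⟩ : P), (⟨x, hx⟩ : P)⁆, CfsgLib.Transfer.commutator_le_frattini
        (Subgroup.commutator_mem_commutator (Subgroup.mem_top _) (Subgroup.mem_top _)), rfl⟩
    · rintro _ ⟨x, hx, rfl⟩
      rw [← map_pow, ← MonoidHom.mem_ker, hπ, QuotientGroup.ker_mk']
      exact ⟨(⟨x, hx⟩ : P) ^ p, CfsgLib.Transfer.pow_mem_frattini hP _, rfl⟩
  haveI : (P.map π).Normal := Subgroup.Normal.map inferInstance _ (QuotientGroup.mk'_surjective N)
  have hq := (isPStableOn_ea_or_qd hp2 (P.map π) hV).resolve_right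
    (fun h => hs (hasQdSection_of_surjective (QuotientGroup.mk'_surjective N) h))
  set W := stableKernel p (P.map π) with hW
  have haW : π a ∈ W := by
    refine hq (π a) ?_
    rw [← MonoidHom.map_zpowers, ← Subgroup.map_commutator, ← Subgroup.map_commutator, ha,
      Subgroup.map_bot]
  haveI : W.Normal := stableKernel_normal _
  set D := W.comap π with hD
  haveI : D.Normal := Subgroup.Normal.comap inferInstance _
  suffices h : D ≤ stableKernel p P from h haW
  rw [stableKernel, ← Subgroup.map_le_iff_le_comap]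
  refine le_pCore_of (Subgroup.Normal.map inferInstance _ (QuotientGroup.mk'_surjective _)) ?_
  rintro ⟨_, x, hx, rfl⟩
  obtain ⟨j, hj⟩ := CfsgLib.Solvable.pCore_isPGroup p _ ⟨_, Subgroup.mem_comap.mp hx⟩
  have hy : π (x ^ p ^ j) ∈ Subgroup.centralizer (P.map π : Set (G ⧸ N)) := by
    rw [← QuotientGroup.eq_one_iff, map_pow, QuotientGroup.mk_pow]
    exact congrArg Subtype.val hj
  set y := x ^ p ^ j with hy0
  obtain ⟨i, m, hm, he⟩ := Nat.exists_eq_pow_mul_and_not_dvd (orderOf_pos y).ne' p hp.out.ne_one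
  have hz : y ^ p ^ i ∈ Subgroup.centralizer (P : Set G) := by
    set z := y ^ p ^ i with hz0
    have hzo : (orderOf z).Coprime p := by
      rw [hz0, orderOf_pow, he, Nat.gcd_mul_right_left, Nat.mul_div_cancel_left _
        (Nat.pos_of_ne_zero (pow_ne_zero _ hp.out.ne_zero))]
      exact ((Nat.Prime.coprime_iff_not_dvd hp.out).mpr hm).symm
    refine (CfsgLib.Solvable.le_centralizer_of_trivial_on_frattini_quotient
      (A := Subgroup.zpowers z) (K := P) ?_ ?_) (Subgroup.mem_zpowers z)
    · obtain ⟨n, hn⟩ := (IsPGroup.iff_card).mp (hP.to_subgroup (frattini P))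
      rw [Nat.card_zpowers, hn]
      exact hzo.pow_right n
    · intro b hb k hk
      have hbc : π b ∈ Subgroup.centralizer (P.map π : Set (G ⧸ N)) := by
        have hle : Subgroup.zpowers (π z) ≤ Subgroup.centralizer (P.map π : Set (G ⧸ N)) :=
          Subgroup.zpowers_le.mpr (by rw [hz0, map_pow]; exact Subgroup.pow_mem _ hy _)
        apply hle
        rw [← MonoidHom.map_zpowers]
        exact Subgroup.mem_map_of_mem π hb
      have h1 : π (b * k * b⁻¹ * k⁻¹) = 1 := by
        simp only [map_mul, map_inv]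
        rw [← hbc (π k) (Subgroup.mem_map_of_mem π hk)]
        group
      rwa [← MonoidHom.mem_ker, hπ, QuotientGroup.ker_mk'] at h1
  refine ⟨j + i, Subtype.ext ?_⟩
  rw [SubgroupClass.coe_pow, ← map_pow, OneMemClass.coe_one, pow_add, pow_mul]
  exact (QuotientGroup.eq_one_iff _).mpr hz

theorem pStableNormal_or_qd (hp2 : p ≠ 2) (G : Type*) [Group G] [Finite G] :
    PStableNormal p G ∨ HasQdSection p G := by
  by_cases hs : HasQdSection p G
  · exact Or.inr hs
  · exact Or.inl fun P _ hP => (isPStableOn_or_qd hp2 P hP).resolve_right hs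

/-- The automizer form. -/
theorem automizer_quad_or_qd (hp2 : p ≠ 2) {G : Type*} [Group G] [Finite G]
    {A P : Subgroup G} (hP : IsPGroup p P) (hA : A ≤ Subgroup.normalizer (P : Set G))
    (hq : ⁅⁅P, A⁆, A⁆ = ⊥) :
    (A.subgroupOf (Subgroup.normalizer (P : Set G))).map
        (QuotientGroup.mk' ((Subgroup.centralizer (P : Set G)).subgroupOf
          (Subgroup.normalizer (P : Set G)))) ≤ Cfsg.pCore p _ ∨ HasQdSection p G := by
  by_cases hs : HasQdSection p G
  · exact Or.inr hs
  left
  set N := Subgroup.normalizer (P : Set G) with hN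
  have hPN : P ≤ N := Subgroup.le_normalizer
  haveI : (P.subgroupOf N).Normal := Subgroup.normal_in_normalizer
  have hst := (isPStableOn_or_qd hp2 (P.subgroupOf N) hP.comap_subtype).resolve_right
    (fun h => hs (hasQdSection_of_subgroup N h))
  have hC : Subgroup.centralizer (P.subgroupOf N : Set N) =
      (Subgroup.centralizer (P : Set G)).subgroupOf N := by
    ext x
    constructor
    · intro hx v hv
      exact congrArg Subtype.val (hx ⟨v, hPN hv⟩ (Subgroup.mem_subgroupOf.mpr hv))
    · intro hx v hv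
      exact Subtype.ext (hx (v : G) (Subgroup.mem_subgroupOf.mp hv))
  rw [Subgroup.map_le_iff_le_comap, comap_pCore_congr (p := p)
    (g := QuotientGroup.mk' (Subgroup.centralizer (P.subgroupOf N : Set N)))
    (QuotientGroup.mk'_surjective _) (QuotientGroup.mk'_surjective _)
    (by rw [QuotientGroup.ker_mk', QuotientGroup.ker_mk', hC])]
  intro a ha
  refine hst a (bot_of_quadElt ?_)
  intro v hv
  apply Subtype.ext
  have h := quadratic_elt_fixed hq (Subgroup.mem_subgroupOf.mp hv)
    (Subgroup.mem_subgroupOf.mp ha) (Subgroup.mem_subgroupOf.mp ha)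
  simpa [commutatorElement_def] using h

/-- Glauberman's normalizer form of `p`-stability. -/
theorem isNormalizerPStable_or_qd (hp2 : p ≠ 2) (G : Type*) [Group G] [Finite G] :
    Cfsg.IsNormalizerPStable p G ∨ HasQdSection p G := by
  by_cases hs : HasQdSection p G
  · exact Or.inr hs
  refine Or.inl fun P hP g hg hq => ?_
  have h := (automizer_quad_or_qd hp2 hP (Subgroup.zpowers_le.mpr hg) hq).resolve_right hs
  exact h ⟨⟨g, hg⟩, Subgroup.mem_subgroupOf.mpr (Subgroup.mem_zpowers g), rfl⟩

end CfsgLib.PLoc
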