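import Cfsg.Agent.Lib.PLocal.QdStable

/-!
`Qd(p)` is not `p`-stable; sections of groups free of `Qd(p)`, or with `SL(2,p)`-free locals.
-/

set_option autoImplicit false

open scoped MatrixGroups commutatorElement
open CfsgLib.PLocal

namespace CfsgLib.PLoc

variable {p : ℕ}

/-- The projection of `Qd(p)` to its linear part. -/
def qdToSL2 (p : ℕ) : ↥(Cfsg.qd p) →* SL(2, ZMod p) :=
  MonoidHom.mk'
    (fun g => ⟨!![(g.1 : Matrix (Fin 3) (Fin 3) (ZMod p)) 0 0, (g.1 : Matrix (Fin 3) (Fin 3) (ZMod p)) 0 1;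
        (g.1 : Matrix (Fin 3) (Fin 3) (ZMod p)) 1 0, (g.1 : Matrix (Fin 3) (Fin 3) (ZMod p)) 1 1], by
      obtain ⟨a, b, c, d, x, y, h, rfl⟩ := CfsgLib.Qd.exists_eq_mk g
      simpa [CfsgLib.Qd.mk, Matrix.det_fin_two] using h⟩)
    fun g g' => by
      obtain ⟨a, b, c, d, x, y, h, rfl⟩ := CfsgLib.Qd.exists_eq_mk g
      obtain ⟨a', b', c', d', x', y', h', rfl⟩ := CfsgLib.Qd.exists_eq_mk g'
      rw [CfsgLib.Qd.mk_mul]
      refine Subtype.ext (Eq.trans ?_ (Matrix.SpecialLinearGroup.coe_mul _ _).symm)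
      ext i j
      fin_cases i <;> fin_cases j <;> simp [CfsgLib.Qd.mk, Matrix.mul_apply, Fin.sum_univ_two]

theorem coe_qdToSL2 (g : ↥(Cfsg.qd p)) : (qdToSL2 p g : Matrix (Fin 2) (Fin 2) (ZMod p)) =
    !![(g.1 : Matrix (Fin 3) (Fin 3) (ZMod p)) 0 0, (g.1 : Matrix (Fin 3) (Fin 3) (ZMod p)) 0 1;
      (g.1 : Matrix (Fin 3) (Fin 3) (ZMod p)) 1 0, (g.1 : Matrix (Fin 3) (Fin 3) (ZMod p)) 1 1] := rfl

theorem qdToSL2_qdLinear (A : SL(2, ZMod p)) : qdToSL2 p (qdLinear p A) = A := by
  apply Matrix.SpecialLinearGroup.ext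
  intro i j
  fin_cases i <;> fin_cases j <;> simp [coe_qdToSL2, qdLinear, CfsgLib.Qd.mk]

theorem qdToSL2_tra (x y : ZMod p) : qdToSL2 p (CfsgLib.Qd.tra x y) = 1 := by
  apply Matrix.SpecialLinearGroup.ext
  intro i j
  fin_cases i <;> fin_cases j <;> simp [coe_qdToSL2, CfsgLib.Qd.tra, CfsgLib.Qd.mk]

/-- `p`-stability passes to groups embedded in a `p`-stable group. -/
theorem isNormalizerPStable_of_injective {X Y : Type*} [Group X] [Finite X] [Group Y] {f : Y →* X}
    (hf : Function.Injective f) (hst : Cfsg.IsNormalizerPStable p X) :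
    Cfsg.IsNormalizerPStable p Y := by
  intro P hP g hg hcomm
  set N := Subgroup.normalizer (P : Set Y) with hNdef
  set C := (Subgroup.centralizer (P : Set Y)).subgroupOf N with hCdef
  let P' : Subgroup X := P.map f
  have hnorm : ∀ n : Y, n ∈ N → f n ∈ Subgroup.normalizer (P' : Set X) := fun n hn =>
    Subgroup.le_normalizer_map f ⟨n, hn, rfl⟩
  set N' := Subgroup.normalizer (P' : Set X) with hN'def
  set C' := (Subgroup.centralizer (P' : Set X)).subgroupOf N' with hC'def
  have hcomm' : ⁅⁅P', Subgroup.zpowers (f g)⁆, Subgroup.zpowers (f g)⁆ = ⊥ := by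
    rw [← MonoidHom.map_zpowers, ← Subgroup.map_commutator, ← Subgroup.map_commutator, hcomm,
      Subgroup.map_bot]
  have hmain := hst P' (hP.map f) (f g) (hnorm g hg) hcomm'
  let f' : N →* N' := (f.comp N.subtype).codRestrict N' fun n => hnorm n n.2
  have hker : C = ((QuotientGroup.mk' C').comp f').ker := by
    ext n
    rw [MonoidHom.mem_ker, MonoidHom.comp_apply, QuotientGroup.mk'_apply, QuotientGroup.eq_one_iff,
      hCdef, hC'def, Subgroup.mem_subgroupOf, Subgroup.mem_subgroupOf,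
      Subgroup.mem_centralizer_iff, Subgroup.mem_centralizer_iff]
    constructor
    · rintro h _ ⟨y, hy, rfl⟩
      show f y * f n = f n * f y
      rw [← map_mul, ← map_mul, h y hy]
    · intro h y hy
      apply hf
      rw [map_mul, map_mul]
      exact h (f y) ⟨y, hy, rfl⟩
  let ψ : N ⧸ C →* N' ⧸ C' := QuotientGroup.lift C ((QuotientGroup.mk' C').comp f') hker.le
  have hψ : Function.Injective ψ := by
    rw [← MonoidHom.ker_eq_bot_iff, QuotientGroup.ker_lift, ← hker, Subgroup.map_eq_bot_iff,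
      QuotientGroup.ker_mk']
  haveI := CfsgLib.Solvable.pCore_normal p (N' ⧸ C')
  exact CfsgLib.Solvable.le_pCore (Subgroup.Normal.comap inferInstance ψ)
    ((CfsgLib.Solvable.pCore_isPGroup p (N' ⧸ C')).comap_of_injective ψ hψ) hmain

theorem isNormalizerPStable_congr {X Y : Type*} [Group X] [Finite X] [Group Y] (e : X ≃* Y)
    (h : Cfsg.IsNormalizerPStable p X) : Cfsg.IsNormalizerPStable p Y :=
  isNormalizerPStable_of_injective (f := e.symm.toMonoidHom) e.symm.injective h

variable [hp : Fact p.Prime]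

/-- `Qd(p)` is not `p`-stable. -/
theorem qd_not_isNormalizerPStable (hp2 : p ≠ 2) :
    ¬ Cfsg.IsNormalizerPStable p ↥(Cfsg.qd p) := by
  intro hst
  set T := CfsgLib.Qd.translations p with hT
  haveI : T.Normal := CfsgLib.Qd.translations_normal
  set N := Subgroup.normalizer (T : Set ↥(Cfsg.qd p)) with hN
  have hNtop : ∀ g, g ∈ N := fun g => by rw [hN, Subgroup.normalizer_eq_top]; exact Subgroup.mem_top g
  have hTp : IsPGroup p T := fun g => ⟨1, Subtype.ext (by
    rw [pow_one, SubgroupClass.coe_pow, OneMemClass.coe_one]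
    exact CfsgLib.Qd.translations_pow g.2)⟩
  have hq : ⁅⁅T, Subgroup.zpowers (CfsgLib.Qd.up (1 : ZMod p))⁆,
      Subgroup.zpowers (CfsgLib.Qd.up (1 : ZMod p))⁆ = ⊥ := by
    refine bot_of_quadElt ?_
    rintro _ ⟨u, v, rfl⟩
    rw [commutatorElement_def, CfsgLib.Qd.up_conj_tra, CfsgLib.Qd.tra_inv, CfsgLib.Qd.tra_mul,
      CfsgLib.Qd.up_conj_tra]
    congr 1
    ring
  set C := (Subgroup.centralizer (T : Set ↥(Cfsg.qd p))).subgroupOf N
  set S := (Cfsg.pCore p (N ⧸ C)).comap (QuotientGroup.mk' C) with hS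
  haveI := CfsgLib.Solvable.pCore_normal p (N ⧸ C)
  haveI : S.Normal := Subgroup.Normal.comap inferInstance _
  have hup : (⟨_, hNtop (CfsgLib.Qd.up (1 : ZMod p))⟩ : N) ∈ S :=
    hst T hTp _ (hNtop _) hq
  let ι : SL(2, ZMod p) →* N := (qdLinear p).codRestrict N fun A => hNtop _
  have hU : dsU (1 : ZMod p) ∈ S.comap ι := by
    show ι (dsU 1) ∈ S
    convert hup using 1
    refine Subtype.ext ?_
    show qdLinear p (dsU 1) = CfsgLib.Qd.up 1
    simp only [qdLinear, CfsgLib.Qd.up, MonoidHom.coe_mk, OneHom.coe_mk]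
    apply CfsgLib.Qd.mk_eq <;> simp [coe_dsU]
  have htop : S.comap ι = ⊤ := by
    refine sl2_prime_eq_top (c := (1 : ZMod p)) one_ne_zero hU ?_
    set w : SL(2, ZMod p) := dsU 1 * dsL (-1) * dsU 1
    have hL : dsL (1 : ZMod p) = w * (dsU 1)⁻¹ * w⁻¹ := by
      rw [eq_mul_inv_iff_mul_eq, eq_mul_inv_iff_mul_eq]
      apply Matrix.SpecialLinearGroup.ext
      intro i j
      fin_cases i <;> fin_cases j <;>
        simp [w, coe_dsU, coe_dsL, Matrix.mul_apply, Fin.sum_univ_two]
    rw [hL]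
    exact (inferInstance : (S.comap ι).Normal).conj_mem _ (inv_mem hU) w
  have hneg : ι (-1) ∈ S := by
    have : (-1 : SL(2, ZMod p)) ∈ S.comap ι := htop ▸ Subgroup.mem_top _
    exact this
  obtain ⟨k, hk⟩ := CfsgLib.Solvable.pCore_isPGroup p (N ⧸ C) ⟨_, Subgroup.mem_comap.mp hneg⟩
  have hk' : ι ((-1) ^ p ^ k) ∈ C := by
    rw [← QuotientGroup.eq_one_iff, map_pow, QuotientGroup.mk_pow]
    exact congrArg Subtype.val hk
  rw [(hp.out.odd_of_ne_two hp2).pow.neg_one_pow] at hk'
  have hc := Subgroup.mem_subgroupOf.mp hk' (qdTrans p (Multiplicative.ofAdd (1, 0)))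
    (CfsgLib.Qd.tra_mem 1 0)
  change qdTrans p (Multiplicative.ofAdd (1, 0)) * qdLinear p (-1) =
    qdLinear p (-1) * qdTrans p (Multiplicative.ofAdd (1, 0)) at hc
  have h1 := qdLinear_conj_qdTrans (-1 : SL(2, ZMod p)) (1, 0)
  rw [← hc, mul_inv_cancel_right, sl2Act_neg_one] at h1
  have h2 := congrArg (fun g : ↥(Cfsg.qd p) => (g.1 : Matrix (Fin 3) (Fin 3) (ZMod p)) 0 2) h1
  simp [qdTrans, CfsgLib.Qd.tra, CfsgLib.Qd.mk] at h2
  exact natCast_two_ne_zero (k := ZMod p) hp2 (by linear_combination h2)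

/-- A group with a section which is not `p`-stable has a section isomorphic to `Qd(p)`. -/
theorem hasQdSection_of_section_not_stable (hp2 : p ≠ 2) {G : Type*} [Group G] [Finite G]
    (K R : Subgroup G) [(R.subgroupOf K).Normal]
    (h : ¬ Cfsg.IsNormalizerPStable p (↥K ⧸ R.subgroupOf K)) : HasQdSection p G :=
  hasQdSection_of_subgroup K (hasQdSection_of_surjective (QuotientGroup.mk'_surjective _)
    ((isNormalizerPStable_or_qd hp2 _).resolve_left h))

/-- A `Qd(p)` section gives a `p`-local subgroup with a section isomorphic to `SL(2,p)`. -/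
theorem exists_local_sl2_of_qd {G : Type*} [Group G] [Finite G] (h : HasQdSection p G) :
    ∃ P : Subgroup G, IsPGroup p P ∧ P ≠ ⊥ ∧
      HasSL2Section p ↥(Subgroup.normalizer (P : Set G)) := by
  obtain ⟨K, R, hR, ⟨e⟩⟩ := h
  let f : K →* ↥(Cfsg.qd p) := e.toMonoidHom.comp (QuotientGroup.mk' _)
  have hf : Function.Surjective f := e.surjective.comp (QuotientGroup.mk'_surjective _)
  set T := (CfsgLib.Qd.translations p).comap f with hT
  haveI : (CfsgLib.Qd.translations p).Normal := CfsgLib.Qd.translations_normal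
  haveI : T.Normal := Subgroup.Normal.comap inferInstance f
  obtain ⟨P⟩ : Nonempty (Sylow p T) := inferInstance
  have htop : Subgroup.normalizer (((P : Subgroup T).map T.subtype) : Set K) ⊔ T = ⊤ :=
    Sylow.normalizer_sup_eq_top P
  set P' := ((P : Subgroup T).map T.subtype).map K.subtype with hP'
  refine ⟨P', (P.2.map _).map _, ?_, ?_⟩
  · intro h0
    have hP0 : (P : Subgroup T) = ⊥ := by
      rw [hP', Subgroup.map_eq_bot_iff_of_injective _ K.subtype_injective,
        Subgroup.map_eq_bot_iff_of_injective _ T.subtype_injective] at h0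
      exact h0
    have hnd : ¬ p ∣ Nat.card T := by
      intro hd
      have h1 := P.dvd_card_of_dvd_card hd
      rw [hP0, Subgroup.card_bot, Nat.dvd_one] at h1
      exact hp.out.ne_one h1
    apply hnd
    haveI : NeZero p := ⟨hp.out.ne_zero⟩
    have h2 : Nat.card (CfsgLib.Qd.translations p) ∣ Nat.card T := by
      have h3 := Subgroup.card_dvd_of_surjective (f.subgroupComap (CfsgLib.Qd.translations p))
        (f.subgroupComap_surjective_of_surjective _ hf)
      exact h3
    rw [CfsgLib.Qd.card_translations] at h2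
    exact (dvd_mul_right p p).trans h2
  · set M := Subgroup.normalizer (((P : Subgroup T).map T.subtype) : Set K) with hM
    have hle : M.map K.subtype ≤ Subgroup.normalizer (P' : Set G) := by
      rw [hP']
      exact Subgroup.le_normalizer_map _
    let g : M →* SL(2, ZMod p) := (qdToSL2 p).comp (f.comp M.subtype)
    have hg : Function.Surjective g := by
      intro A
      obtain ⟨k, hk⟩ := hf (qdLinear p A)
      have hk' : k ∈ M ⊔ T := htop ▸ Subgroup.mem_top k
      rw [Subgroup.mem_sup_of_normal_right] at hk'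
      obtain ⟨m, hm, t, ht, rfl⟩ := hk'
      refine ⟨⟨m, hm⟩, ?_⟩
      obtain ⟨x, y, hxy⟩ := CfsgLib.Qd.mem_translations.mp (Subgroup.mem_comap.mp ht)
      have h1 := congrArg (qdToSL2 p) hk
      rw [map_mul, map_mul, hxy, qdToSL2_tra, mul_one, qdToSL2_qdLinear] at h1
      exact h1
    let Nz := Subgroup.normalizer (P' : Set G)
    let M' : Subgroup Nz := (M.map K.subtype).subgroupOf Nz
    let eM : M ≃* M' := (M.equivMapOfInjective K.subtype K.subtype_injective).trans
      (Subgroup.subgroupOfEquivOfLe hle).symm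
    refine hasSL2Section_of_subgroup M'
      (hasSL2Section_of_surjective (f := g.comp eM.symm.toMonoidHom) (hg.comp eM.symm.surjective) ?_)
    exact ⟨⊤, ⊥, inferInstance,
      ⟨((QuotientGroup.quotientMulEquivOfEq (Subgroup.bot_subgroupOf ⊤)).trans
        QuotientGroup.quotientBot).trans Subgroup.topEquiv⟩⟩

end CfsgLib.PLoc
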