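import Cfsg.Agent.Lib.PLocal.GlaubermanReplacement
import Cfsg.Prelude.Def_PLocal

/-!
One step of abelian replacement against a subgroup of class two: orders and ranks.
-/

set_option autoImplicit false

namespace CfsgLib.PLoc

open Subgroup
open scoped commutatorElement

variable {G : Type*} [Group G] {p : ℕ}

/-- Basic commutators of elements of order dividing `p` have order dividing `p`. -/
theorem replacement_gen_pow_eq_one [Fact p.Prime] (hp : p ≠ 2) {A : Subgroup G}
    (hA : IsMulCommutative A) {b : G} (hbN : b ∈ normalizer ((normalizer (A : Set G)) : Set G))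
    {a : G} (ha : a ∈ A) (hap : a ^ p = 1) : (b⁻¹ * a * b * a⁻¹) ^ p = 1 := by
  set u := b⁻¹ * a * b with hu
  have haN : a ∈ normalizer (A : Set G) := le_normalizer ha
  have huN : u ∈ normalizer (A : Set G) := by
    refine (mem_normalizer_iff.mp hbN u).mpr ?_
    simpa [hu, mul_assoc] using haN
  set w := ⁅a⁻¹, u⁻¹⁆ with hw
  have hwA : w ∈ A := by
    have := mul_mem (inv_mem ha) ((mem_normalizer_iff.mp (inv_mem huN) a).mp ha)
    simpa [hw, commutatorElement_def, mul_assoc] using this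
  have hwA' : b * w * b⁻¹ ∈ A := by
    have h1 : b * a * b⁻¹ ∈ normalizer (A : Set G) := (mem_normalizer_iff.mp hbN a).mp haN
    have h2 := mul_mem ((mem_normalizer_iff.mp (inv_mem h1) a⁻¹).mp (inv_mem ha)) ha
    convert h2 using 1
    simp only [hw, hu, commutatorElement_def]
    group
  have hcm : ∀ x ∈ A, ∀ y ∈ A, Commute x y := fun x hx y hy =>
    Subgroup.mul_comm_of_mem_isMulCommutative A hx hy
  have hwu : Commute w u := by
    have := congrArg (fun t => b⁻¹ * t * b) (hcm _ hwA' a ha).eq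
    simp only [hu, Commute, SemiconjBy]
    simpa [mul_assoc] using this
  have hwp : w ^ p = 1 := by
    have hup : u ^ p = 1 := by
      have := conj_pow (a := b⁻¹) (b := a) (i := p)
      rw [inv_inv] at this
      rw [hu, this, hap]; group
    have h1 : a⁻¹ * u⁻¹ * a⁻¹⁻¹ = w * u⁻¹ := by
      rw [hw, commutatorElement_def]; group
    have h2 := congrArg (· ^ p) h1
    simp only [conj_pow, hwu.inv_right.mul_pow, inv_pow, hup] at h2
    simpa using h2.symm
  have hswap : a⁻¹ * u = u * a⁻¹ * ⁅a, u⁻¹⁆ := by rw [commutatorElement_def]; group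
  set w' := ⁅a, u⁻¹⁆ with hw'
  have hw'w : w' = w⁻¹ := by
    have h := hcm a ha w hwA
    have h' : w' = a * w⁻¹ * a⁻¹ := by
      simp only [hw', hw, commutatorElement_def]; group
    rw [h', h.inv_right.eq, mul_inv_cancel_right]
  have hca : Commute w' a⁻¹ := by rw [hw'w]; exact (hcm w hwA a ha).inv_inv
  have hcu : Commute w' u := by rw [hw'w]; exact hwu.inv_left
  rw [mul_pow_of_central_comm hswap hcu hca p]
  have hup : u ^ p = 1 := by
    have := conj_pow (a := b⁻¹) (b := a) (i := p)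
    rw [inv_inv] at this
    rw [hu, this, hap]; group
  have hch : w' ^ p.choose 2 = 1 := by
    have hp3 : 2 < p := lt_of_le_of_ne (Fact.out : p.Prime).two_le (Ne.symm hp)
    obtain ⟨c, hc⟩ := (Fact.out : p.Prime).dvd_choose_self two_ne_zero hp3
    rw [hc, pow_mul, hw'w, inv_pow, hwp, inv_one, one_pow]
  rw [hup, inv_pow, hap, hch, inv_one, one_mul, one_mul]

/-- The rank does not drop under replacement. -/
theorem card_pow_eq_one_le_starSub [Finite G] [Fact p.Prime] (hp : p ≠ 2) {B A : Subgroup G}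
    [B.Normal] (hA : IsMulCommutative A) (hBA : ⁅B, B⁆ ≤ A) {b : G} (hb : b ∈ B)
    (hbN : b ∈ normalizer ((normalizer (A : Set G)) : Set G))
    (hS : IsMulCommutative ↥(starSub A b)) :
    Nat.card {x : G // x ∈ A ∧ x ^ p = 1} ≤ Nat.card {x : G // x ∈ starSub A b ∧ x ^ p = 1} := by
  classical
  haveI := hA
  let E : Subgroup G :=
    { carrier := {x | x ∈ A ∧ x ^ p = 1}
      one_mem' := ⟨one_mem A, one_pow p⟩
      mul_mem' := fun {x y} hx hy => ⟨mul_mem hx.1 hy.1, by
        rw [Commute.mul_pow (Subgroup.mul_comm_of_mem_isMulCommutative A hx.1 hy.1), hx.2, hy.2, one_mul]⟩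
      inv_mem' := fun {x} hx => ⟨inv_mem hx.1, by rw [inv_pow, hx.2, inv_one]⟩ }
  let Z : Subgroup G := A ⊓ A.map (MulAut.conj b⁻¹).toMonoidHom
  have hcrit : ∀ a ∈ A, b⁻¹ * a * b ∈ A → a ∈ Z := by
    intro a ha hu
    refine ⟨ha, mem_map_conj_inv.mpr ?_⟩
    set x := b⁻¹ * a * b * a⁻¹ with hx
    have hxA : x ∈ A := mul_mem hu (inv_mem ha)
    have hxB : x ∈ B := by
      have := mul_mem (inv_mem hb) ((inferInstance : B.Normal).conj_mem b hb a)
      simpa [hx, mul_assoc] using this
    have h1 : b * x * b⁻¹ ∈ A := by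
      have := mul_mem (hBA (commutator_mem_commutator hb hxB)) hxA
      simpa [commutatorElement_def] using this
    have h2 := inv_mem (mul_mem (inv_mem ha) h1)
    convert h2 using 1
    simp only [hx]
    group
  let r : E → G := fun a => ((Quotient.out (QuotientGroup.mk a : E ⧸ Z.subgroupOf E) : E) : G)
  have hr : ∀ a : E, r a ∈ E ∧ (a : G) * (r a)⁻¹ ∈ Z := fun a => by
    refine ⟨SetLike.coe_mem _, ?_⟩
    have h := QuotientGroup.eq.mp (QuotientGroup.out_eq' (QuotientGroup.mk a : E ⧸ Z.subgroupOf E))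
    rw [mem_subgroupOf] at h
    have hc : Commute ((r a)⁻¹) (a : G) :=
      Subgroup.mul_comm_of_mem_isMulCommutative A (inv_mem (SetLike.coe_mem
        (Quotient.out (QuotientGroup.mk a : E ⧸ Z.subgroupOf E))).1) a.2.1
    rw [← hc.eq]
    simpa using h
  have hin : ∀ a : E, (a : G) * (r a)⁻¹ * (b⁻¹ * r a * b * (r a)⁻¹) ∈ starSub A b ∧
      ((a : G) * (r a)⁻¹ * (b⁻¹ * r a * b * (r a)⁻¹)) ^ p = 1 := by
    intro a
    have h1 : (a : G) * (r a)⁻¹ ∈ starSub A b := Subgroup.mem_sup_left (hr a).2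
    have h2 : b⁻¹ * r a * b * (r a)⁻¹ ∈ starSub A b :=
      Subgroup.mem_sup_right (subset_closure ⟨r a, (hr a).1.1, rfl⟩)
    refine ⟨mul_mem h1 h2, ?_⟩
    haveI := hS
    rw [Commute.mul_pow (Subgroup.mul_comm_of_mem_isMulCommutative (starSub A b) h1 h2),
      replacement_gen_pow_eq_one hp hA hbN (hr a).1.1 (hr a).1.2, mul_one]
    exact (mul_mem a.2 (inv_mem (hr a).1)).2
  let f : E → {x : G // x ∈ starSub A b ∧ x ^ p = 1} := fun a => ⟨_, hin a⟩
  refine Nat.card_le_card_of_injective (α := E) f fun a a' he => ?_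
  have he' : (a : G) * (r a)⁻¹ * (b⁻¹ * r a * b * (r a)⁻¹) =
      (a' : G) * (r a')⁻¹ * (b⁻¹ * r a' * b * (r a')⁻¹) := congrArg Subtype.val he
  set u := b⁻¹ * r a * b with hu
  set u' := b⁻¹ * r a' * b with hu'
  have huN : u ∈ normalizer (A : Set G) := by
    refine (mem_normalizer_iff.mp hbN u).mpr ?_
    simpa [hu, mul_assoc] using le_normalizer (hr a).1.1
  have hvv : u * (r a)⁻¹ * (u' * (r a')⁻¹)⁻¹ ∈ A := by
    have := mul_mem (inv_mem (Subgroup.mem_inf.mp (hr a).2).1) (Subgroup.mem_inf.mp (hr a').2).1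
    convert this using 1
    have e := congrArg (fun t => ((a : G) * (r a)⁻¹)⁻¹ * t * (u' * (r a')⁻¹)⁻¹) he'
    simpa [mul_assoc] using e
  have huu : u * u'⁻¹ ∈ A := by
    have h := mul_mem ((mem_normalizer_iff.mp huN _).mp (mul_mem (inv_mem (hr a').1.1) (hr a).1.1)) hvv
    convert h using 1
    group
  have hrr : r a * (r a')⁻¹ ∈ Z := by
    refine hcrit _ (mul_mem (hr a).1.1 (inv_mem (hr a').1.1)) ?_
    convert huu using 1
    simp only [hu, hu']
    group
  have hq : (QuotientGroup.mk a : E ⧸ Z.subgroupOf E) = QuotientGroup.mk a' := by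
    rw [← QuotientGroup.out_eq' (QuotientGroup.mk a : E ⧸ Z.subgroupOf E),
      ← QuotientGroup.out_eq' (QuotientGroup.mk a' : E ⧸ Z.subgroupOf E), QuotientGroup.eq,
      mem_subgroupOf]
    have hc : Commute ((r a)⁻¹) (r a') :=
      Subgroup.mul_comm_of_mem_isMulCommutative A (inv_mem (hr a).1.1) (hr a').1.1
    change (r a)⁻¹ * r a' ∈ Z
    rw [hc.eq]
    simpa using inv_mem hrr
  have hr' : r a = r a' := congrArg (fun q => ((Quotient.out q : E) : G)) hq
  rw [hu, hu', hr'] at he'
  exact Subtype.ext (mul_right_cancel (mul_right_cancel he'))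

theorem omegaOne_eq_setOf {A : Subgroup G} (hA : IsMulCommutative A) :
    (Cfsg.omegaOne p A : Set G) = {x | x ∈ A ∧ x ^ p = 1} := by
  haveI := hA
  refine Set.Subset.antisymm (fun x hx => ?_) subset_closure
  induction hx using closure_induction with
  | mem x hx => exact hx
  | one => exact ⟨one_mem A, one_pow p⟩
  | mul u v _ _ hu hv => exact ⟨mul_mem hu.1 hv.1, by
      rw [Commute.mul_pow (Subgroup.mul_comm_of_mem_isMulCommutative A hu.1 hv.1), hu.2, hv.2, one_mul]⟩
  | inv u _ hu => exact ⟨inv_mem hu.1, by rw [inv_pow, hu.2, inv_one]⟩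

theorem card_omegaOne_eq {A : Subgroup G} (hA : IsMulCommutative A) :
    Nat.card (Cfsg.omegaOne p A) = Nat.card {x : G // x ∈ A ∧ x ^ p = 1} :=
  Nat.card_congr (Equiv.setCongr (omegaOne_eq_setOf hA))

/-- Replacement for abelian subgroups against a normalized subgroup of class at most two. -/
theorem abelian_replacement_odd [Finite G] [Fact p.Prime] (hp : p ≠ 2) (hG : IsPGroup p G)
    {A B : Subgroup G} (hA : IsMulCommutative A) (hBA : ⁅B, B⁆ ≤ A)
    (hAB : A ≤ normalizer (B : Set G)) (hBnA : ¬ B ≤ normalizer (A : Set G)) :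
    ∃ S : Subgroup G, IsMulCommutative S ∧ Nat.card S = Nat.card A ∧ A ⊓ B < S ⊓ B ∧
      S ≤ normalizer (A : Set G) ∧ S ≤ normalClosure (A : Set G) ∧
      Monoid.exponent S ∣ Monoid.exponent A ∧
      Nat.card (Cfsg.omegaOne p A) ≤ Nat.card (Cfsg.omegaOne p S) := by
  haveI := hA
  set H := normalizer (B : Set G) with hH
  have hBH : B ≤ H := le_normalizer
  set A0 := A.subgroupOf H with hA0
  set B0 := B.subgroupOf H with hB0
  haveI : B0.Normal := normal_subgroupOf_of_le_normalizer le_rfl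
  have hA0c : IsMulCommutative A0 := IsMulCommutative.of_setLike_mul_comm fun u hu v hv =>
    Subtype.ext (Subgroup.mul_comm_of_mem_isMulCommutative A hu hv)
  have hBA0 : ⁅B0, B0⁆ ≤ A0 := commutator_le.mpr fun u hu v hv =>
    hBA (commutator_mem_commutator (mem_subgroupOf.mp hu) (mem_subgroupOf.mp hv))
  have hmapA : A0.map H.subtype = A := map_subgroupOf_eq_of_le hAB
  have hmapB : B0.map H.subtype = B := map_subgroupOf_eq_of_le hBH
  have hnot : ¬ B0 ≤ normalizer (A0 : Set H) := by
    intro h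
    refine hBnA ?_
    have := (map_mono (f := H.subtype) h).trans (le_normalizer_map _)
    rwa [hmapA, hmapB] at this
  obtain ⟨b, hb, hbN, hbA⟩ := exists_mem_normalizer_normalizer (hG.to_subgroup H) hnot
  obtain ⟨hcard, hcomm, -, hlt, -, -, hSN, -, -, hexp⟩ :=
    replacement (hG.to_subgroup H) (fun h => absurd h hp) hA0c hBA0 hb hbN hbA
  have hinj := H.subtype_injective
  haveI := hcomm
  refine ⟨(starSub A0 b).map H.subtype, Subgroup.map_isMulCommutative _ (f := H.subtype), ?_, ?_, ?_, ?_, ?_, ?_⟩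
  · rw [card_map_of_injective hinj, hcard, ← hmapA, card_map_of_injective hinj]
  · have h := (Subgroup.map_lt_map_iff_of_injective hinj).mpr hlt
    rwa [Subgroup.map_inf _ _ _ hinj, Subgroup.map_inf _ _ _ hinj, hmapA, hmapB] at h
  · have := (map_mono (f := H.subtype) hSN).trans (le_normalizer_map _)
    rwa [hmapA] at this
  · rw [map_le_iff_le_comap]
    haveI : (normalClosure (A : Set G)).Normal := normalClosure_normal
    have hAn : ∀ a ∈ A, a ∈ normalClosure (A : Set G) := fun a ha => subset_normalClosure ha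
    refine sup_le (fun x hx => hAn _ hx.1) ((closure_le _).mpr ?_)
    rintro _ ⟨a, ha, rfl⟩
    have h := mul_mem ((inferInstance : (normalClosure (A : Set G)).Normal).conj_mem _ (hAn _ ha) (b : G)⁻¹)
      (inv_mem (hAn _ ha))
    rw [inv_inv] at h
    exact h
  · refine Monoid.exponent_dvd_of_forall_pow_eq_one fun x => ?_
    obtain ⟨y, hy, hyx⟩ := x.2
    apply Subtype.ext
    rw [SubgroupClass.coe_pow, ← hyx]
    have h := hexp hp (Monoid.exponent A) (fun a ha => Subtype.ext (by
      simpa using congrArg Subtype.val (Monoid.pow_exponent_eq_one (G := A) ⟨(a : G), ha⟩))) y hy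
    exact congrArg Subtype.val h
  · have key : ∀ K : Subgroup H, IsMulCommutative K →
        Nat.card (Cfsg.omegaOne p (K.map H.subtype)) = Nat.card {x : H // x ∈ K ∧ x ^ p = 1} := by
      intro K hK
      rw [card_omegaOne_eq (Subgroup.map_isMulCommutative K (f := H.subtype))]
      symm
      refine Nat.card_eq_of_bijective (fun x => ⟨(x.1 : G), ⟨x.1, x.2.1, rfl⟩, congrArg Subtype.val x.2.2⟩)
        ⟨fun x y h => Subtype.ext (Subtype.ext (congrArg Subtype.val h :)), ?_⟩
      rintro ⟨x, ⟨y, hy, rfl⟩, hx⟩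
      exact ⟨⟨y, hy, Subtype.ext hx⟩, rfl⟩
    rw [← hmapA, key A0 hA0c, key _ hcomm]
    exact card_pow_eq_one_le_starSub hp hA0c hBA0 hb hbN hcomm

end CfsgLib.PLoc
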