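import Mathlib.Algebra.BigOperators.Group.Finset.Basic
import Mathlib.GroupTheory.Commutator.Basic
import Mathlib.GroupTheory.OrderOfElement
import Cfsg.Agent.Lib.PLocal.Quadratic

/-! Coprime action on an abelian group: `[V, L]` has no nontrivial fixed point. -/

set_option autoImplicit false

open scoped commutatorElement

namespace CfsgLib.PLocal

variable {G : Type*} [Group G] [Finite G]

/-- The norm map shows that the commutator meets the fixed points trivially. -/
theorem commutator_inf_fixed_eq_bot {V L : Subgroup G} (hV : IsMulCommutative V)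
    (hL : L ≤ Subgroup.normalizer (V : Set G)) (hcop : (Nat.card L).Coprime (Nat.card V)) :
    ⁅V, L⁆ ⊓ Subgroup.centralizer (L : Set G) = ⊥ := by
  classical
  letI : Fintype L := Fintype.ofFinite L
  letI : CommGroup V := { (inferInstance : Group V) with
    mul_comm := fun x y => Subtype.ext (commute_of_mem_comm hV x.2 y.2).eq }
  let cj : L → V → V := fun l v => ⟨(l : G) * v * (l : G)⁻¹,
    (Subgroup.mem_normalizer_iff.mp (hL l.2) _).mp v.2⟩
  let τ : V →* V :=
    { toFun := fun v => ∏ l : L, cj l v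
      map_one' := Finset.prod_eq_one fun l _ => Subtype.ext (by simp [cj])
      map_mul' := fun v w => by
        rw [← Finset.prod_mul_distrib]
        exact Finset.prod_congr rfl fun l _ => Subtype.ext (by simp [cj, mul_assoc]) }
  have hinv : ∀ (m : L) (v : V), τ (cj m v) = τ v := fun m v =>
    Fintype.prod_equiv (Equiv.mulRight m) _ _ fun l => Subtype.ext (by simp [cj, mul_assoc])
  have hle : ⁅V, L⁆ ≤ τ.ker.map V.subtype := by
    rw [Subgroup.commutator_le]
    intro v hv l hl
    refine ⟨⟨v, hv⟩ * (cj ⟨l, hl⟩ ⟨v, hv⟩)⁻¹, ?_, ?_⟩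
    · rw [SetLike.mem_coe, MonoidHom.mem_ker, map_mul, map_inv, hinv, mul_inv_cancel]
    · show v * (l * v * l⁻¹)⁻¹ = ⁅v, l⁆
      rw [commutatorElement_def]
      group
  rw [eq_bot_iff]
  intro x hx
  obtain ⟨v, hv, hvx⟩ := hle hx.1
  subst hvx
  have hfix : ∀ l : L, cj l v = v := fun l => Subtype.ext (by
    show (l : G) * v * (l : G)⁻¹ = v
    exact mul_inv_eq_iff_eq_mul.mpr (hx.2 l l.2))
  have h1 : v ^ Nat.card L = 1 := by
    rw [← MonoidHom.mem_ker.mp hv, Nat.card_eq_fintype_card]
    show v ^ Fintype.card L = ∏ l : L, cj l v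
    rw [Finset.prod_congr rfl (fun l _ => hfix l), Finset.prod_const, Finset.card_univ]
  have h2 : v = 1 := orderOf_eq_one_iff.mp
    (Nat.eq_one_of_dvd_coprimes hcop (orderOf_dvd_of_pow_eq_one h1) (orderOf_dvd_natCard v))
  rw [h2, map_one]
  exact one_mem _

/-- Elements normalizing `V` and `L` normalize `[V, L]`. -/
theorem normalizer_inf_le_normalizer_commutator (V L : Subgroup G) :
    Subgroup.normalizer (V : Set G) ⊓ Subgroup.normalizer (L : Set G) ≤
      Subgroup.normalizer ((⁅V, L⁆ : Subgroup G) : Set G) := by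
  intro g hg
  rw [Subgroup.mem_normalizer_iff_map_conj_eq, Subgroup.map_commutator]
  rw [Subgroup.mem_inf, Subgroup.mem_normalizer_iff_map_conj_eq, Subgroup.mem_normalizer_iff_map_conj_eq] at hg
  rw [hg.1, hg.2]

end CfsgLib.PLocal
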