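import Mathlib.Data.Finset.NoncommProd
import Mathlib.Algebra.Group.Subgroup.Finite
import Mathlib.GroupTheory.QuotientGroup.Defs
import Mathlib.GroupTheory.Commutator.Basic
import Mathlib.GroupTheory.Coset.Card
import Mathlib.Data.Fintype.EquivFin
import Mathlib.GroupTheory.GroupAction.Quotient
import Mathlib.Data.Fintype.Sets
import Mathlib.Tactic.Group

/-! The diagonal of a subgroup over a finite abelian group of operators permuting its conjugates. -/

set_option autoImplicit false

namespace CfsgLib.PLocal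

variable {Γ : Type*} [Group Γ] {X : Type*} [Group X]

/-- If the stabilizer `X₀` fixes `S` pointwise and the other conjugates commute with `S`, then
`z ↦ ∏ z^x` over `X / X₀` is a homomorphism to the fixed points. -/
theorem exists_diag [Finite X] (ξ : X →* Γ) (hX : ∀ a b : X, a * b = b * a) (X₀ : Subgroup X)
    (S : Subgroup Γ) (hfix : ∀ x ∈ X₀, ∀ z ∈ S, ξ x * z * (ξ x)⁻¹ = z)
    (hcomm : ∀ x, x ∉ X₀ → ∀ z ∈ S, ∀ y ∈ S, Commute y (ξ x * z * (ξ x)⁻¹)) :
    ∃ Δ : ↥S →* Γ, (∀ x z, Commute (ξ x) (Δ z)) ∧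
      (∀ z : S, ∀ R : Subgroup Γ, (∀ x, x ∉ X₀ → ∀ y ∈ S, ξ x * y * (ξ x)⁻¹ ∈ R) → (z : Γ)⁻¹ * Δ z ∈ R) ∧
      ∀ g : Γ, (∀ x, Commute (ξ x) g) → ∀ z z' : S, g * z * g⁻¹ = z' → g * Δ z * g⁻¹ = Δ z' := by
  classical
  letI : Fintype (X ⧸ X₀) := Fintype.ofFinite _
  let f : S → (X ⧸ X₀) → Γ := fun z => Quotient.lift (fun x => ξ x * (z : Γ) * (ξ x)⁻¹) fun a b hab => by
    have hmem : a⁻¹ * b ∈ X₀ := QuotientGroup.leftRel_apply.mp hab
    have h := hfix _ hmem z z.2
    show ξ a * (z : Γ) * (ξ a)⁻¹ = ξ b * (z : Γ) * (ξ b)⁻¹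
    conv_lhs => rw [← h]
    rw [map_mul, map_inv]
    group
  have hf : ∀ z x, f z (QuotientGroup.mk x) = ξ x * (z : Γ) * (ξ x)⁻¹ := fun _ _ => rfl
  have hc : ∀ z z' : S, ∀ a b : X ⧸ X₀, a ≠ b → Commute (f z a) (f z' b) := by
    intro z z' a b hne
    induction a using QuotientGroup.induction_on with
    | _ a =>
    induction b using QuotientGroup.induction_on with
    | _ b =>
    have hmem : a⁻¹ * b ∉ X₀ := fun h => hne (QuotientGroup.eq.mpr h)
    have h := (Commute.conj_iff (ξ a)).mpr (hcomm _ hmem z' z'.2 z z.2)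
    rw [hf, hf]
    convert h using 1
    rw [map_mul, map_inv]
    group
  have hp : ∀ z : S, ((Finset.univ : Finset (X ⧸ X₀)) : Set (X ⧸ X₀)).Pairwise
      (Function.onFun Commute (f z)) := fun z a _ b _ hne => hc z z a b hne
  let Δ : S →* Γ :=
    { toFun := fun z => Finset.univ.noncommProd (f z) (hp z)
      map_one' := by
        refine Finset.noncommProd_induction _ _ _ (fun y => y = 1) (fun a b ha hb => by rw [ha, hb, one_mul])
          rfl fun a _ => ?_
        induction a using QuotientGroup.induction_on with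
        | _ a => rw [hf]; simp
      map_mul' := fun z z' => by
        rw [← Finset.noncommProd_mul_distrib (f z) (f z') (hp z) (hp z') fun a _ b _ hne => hc z' z a b hne]
        refine Finset.noncommProd_congr rfl (fun a _ => ?_) _
        induction a using QuotientGroup.induction_on with
        | _ a =>
          rw [Pi.mul_apply, hf, hf, hf, Subgroup.coe_mul]
          group }
  have hΔ : ∀ z, Δ z = Finset.univ.noncommProd (f z) (hp z) := fun _ => rfl
  refine ⟨Δ, fun x z => ?_, fun z R hR => ?_, fun g hg z z' hzz => ?_⟩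
  · have h1 : (MulAut.conj (ξ x)).toMonoidHom (Δ z) = Δ z := by
      rw [hΔ, Finset.map_noncommProd]
      unfold Finset.noncommProd
      congr 1
      have hperm : Multiset.map (fun a : X ⧸ X₀ => x • a) (Finset.univ : Finset (X ⧸ X₀)).1 =
          (Finset.univ : Finset (X ⧸ X₀)).1 := by
        have := congrArg Finset.val (Finset.map_univ_equiv (MulAction.toPerm x : Equiv.Perm (X ⧸ X₀)))
        exact this
      conv_rhs => rw [← hperm, Multiset.map_map]
      refine Multiset.map_congr rfl fun a _ => ?_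
      induction a using QuotientGroup.induction_on with
      | _ a =>
        show ξ x * f z (QuotientGroup.mk a) * (ξ x)⁻¹ = f z (QuotientGroup.mk (x * a))
        rw [hf, hf, map_mul]
        group
    exact mul_inv_eq_iff_eq_mul.mp h1
  · rw [hΔ, ← Finset.mul_noncommProd_erase Finset.univ (Finset.mem_univ (QuotientGroup.mk (1 : X))) (f z) (hp z)]
    rw [show f z (QuotientGroup.mk 1) = z by rw [hf]; simp, inv_mul_cancel_left]
    refine Subgroup.noncommProd_mem R _ fun a ha => ?_
    induction a using QuotientGroup.induction_on with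
    | _ a =>
      refine hR a (fun h => (Finset.mem_erase.mp ha).1 ?_) z z.2
      rw [QuotientGroup.eq, mul_one]
      exact X₀.inv_mem h
  · show (MulAut.conj g).toMonoidHom (Δ z) = Δ z'
    rw [hΔ, hΔ, Finset.map_noncommProd]
    refine Finset.noncommProd_congr rfl (fun a _ => ?_) _
    induction a using QuotientGroup.induction_on with
    | _ a =>
      show g * f z (QuotientGroup.mk a) * g⁻¹ = f z' (QuotientGroup.mk a)
      rw [hf, hf, ← hzz]
      calc g * (ξ a * z * (ξ a)⁻¹) * g⁻¹ = (g * ξ a) * z * (g * ξ a)⁻¹ := by group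
        _ = ξ a * (g * z * g⁻¹) * (ξ a)⁻¹ := by rw [← (hg a).eq]; group

end CfsgLib.PLocal
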