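import Cfsg.Agent.Lib.PLocal.FFSemidirect
import Cfsg.Agent.Lib.PLocal.Factorization
import Cfsg.Agent.Lib.PLocal.Diagonal
import Mathlib.GroupTheory.Perm.Basic
import Mathlib.Data.Fintype.Perm
import Mathlib.Data.Nat.Prime.Factorial

/-! Failure of factorization under coprime action of an elementary abelian group. -/

set_option autoImplicit false

open scoped commutatorElement MatrixGroups

universe u

namespace CfsgLib.PLocal

theorem perm_eq_one_of_card_lt {α : Type*} [Finite α] {q : ℕ} [hq : Fact q.Prime] (hlt : Nat.card α < q)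
    {σ : Equiv.Perm α} (h : σ ^ q = 1) : σ = 1 := by
  classical
  letI := Fintype.ofFinite α
  rcases (Nat.dvd_prime hq.out).mp (orderOf_dvd_of_pow_eq_one h) with h1 | h1
  · exact orderOf_eq_one_iff.mp h1
  · exfalso
    have h2 := orderOf_dvd_natCard σ
    rw [h1, Nat.card_eq_fintype_card (α := Equiv.Perm α), Fintype.card_perm, hq.out.dvd_factorial,
      ← Nat.card_eq_fintype_card] at h2
    omega

theorem mem_normalizer_map_char {G : Type*} [Group G] {H : Subgroup G} (K : Subgroup H) [K.Characteristic]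
    {g : G} (hg : g ∈ Subgroup.normalizer (H : Set G)) :
    g ∈ Subgroup.normalizer (K.map H.subtype : Set G) := by
  apply mem_normalizer_of_map_conj_eq
  conv_rhs => rw [← Subgroup.characteristic_iff_map_eq.mp (inferInstance : K.Characteristic)
    (H.normalizerMonoidHom ⟨g, hg⟩), Subgroup.map_map]
  rw [Subgroup.map_map]
  rfl

/-- An element of order dividing a prime above `|X|` fixes `X` pointwise when it normalizes it. -/
theorem conj_fixed_of_card_lt {G : Type*} [Group G] [Finite G] {q : ℕ} [Fact q.Prime] {X : Subgroup G}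
    (hlt : Nat.card X < q) {g : G} (hg : g ∈ Subgroup.normalizer (X : Set G)) (hgq : g ^ q = 1)
    {x : G} (hx : x ∈ X) : g * x * g⁻¹ = x := by
  let ψ : Subgroup.normalizer (X : Set G) →* Equiv.Perm X :=
    { toFun := fun n => (X.normalizerMonoidHom n).toEquiv
      map_one' := by rw [map_one]; rfl
      map_mul' := fun a b => by rw [map_mul]; rfl }
  have h1 : ψ ⟨g, hg⟩ ^ q = 1 := by
    rw [← map_pow, show (⟨g, hg⟩ : Subgroup.normalizer (X : Set G)) ^ q = 1 from Subtype.ext hgq, map_one]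
  have h2 := Equiv.congr_fun (perm_eq_one_of_card_lt hlt h1) ⟨x, hx⟩
  exact congrArg Subtype.val h2

variable {p q : ℕ} [hp : Fact p.Prime] [hq : Fact q.Prime]

/-- An operator of order `q ≥ 5` normalizing a component centralizes it and its plane. -/
theorem stabilizer_centralizes {G : Type*} [Group G] [Finite G] {V H Q : Subgroup G}
    (S : FFSetup p V H Q) {A : Subgroup G} (hA : IsTransv p V H A) (hq5 : 5 ≤ q)
    {g : G} (hgV : g ∈ Subgroup.normalizer (V : Set G))
    (hgE : g ∈ Subgroup.normalizer ((⁅Q, A⁆ ⊔ A : Subgroup G) : Set G)) (hgq : g ^ q = 1) :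
    (∀ e ∈ ⁅Q, A⁆ ⊔ A, g * e * g⁻¹ = e) ∧ ∀ w ∈ ⁅V, ⁅Q, A⁆ ⊔ A⁆, g * w * g⁻¹ = w := by
  obtain ⟨P, -, -, -⟩ := S.transv_group hA
  set E := ⁅Q, A⁆ ⊔ A with hE
  set W := ⁅V, E⁆ with hW
  obtain ⟨φ⟩ := P.iso
  -- at most four Sylow subgroups, all fixed
  have hidx : (A.subgroupOf E).index = p ^ 2 - 1 := by
    have h1 := (A.subgroupOf E).card_mul_index
    rw [Nat.card_congr (Subgroup.subgroupOfEquivOfLe P.leA).toEquiv, hA.card, Nat.card_congr φ.toEquiv,
      card_sl2_prime] at h1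
    exact Nat.eq_of_mul_eq_mul_left hp.out.pos h1
  have hndvd : ¬ p ∣ (A.subgroupOf E).index := by
    rw [hidx]
    rcases P.hp23 with rfl | rfl <;> norm_num
  let SA : Sylow p E :=
    (IsPGroup.of_card (n := 1) (by
      rw [Nat.card_congr (Subgroup.subgroupOfEquivOfLe P.leA).toEquiv, hA.card, pow_one]) :
        IsPGroup p (A.subgroupOf E)).toSylow hndvd
  have hsyl : Nat.card (Sylow p E) < q := by
    have h1 : Nat.card (Sylow p E) ∣ p ^ 2 - 1 := hidx ▸ Sylow.card_dvd_index SA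
    have h2 := card_sylow_modEq_one p E
    have h3 : Nat.card (Sylow p E) ≤ p ^ 2 - 1 := Nat.le_of_dvd (by
      have := hp.out.two_le
      have : 2 ^ 2 ≤ p ^ 2 := Nat.pow_le_pow_left this 2
      omega) h1
    rcases P.hp23 with rfl | rfl
    · norm_num at h3; omega
    · rw [Nat.ModEq] at h2
      norm_num at h3 h1
      by_contra hc
      interval_cases h : Nat.card (Sylow 3 E) <;> omega
  set α : MulAut E := E.normalizerMonoidHom ⟨g, hgE⟩ with hα
  have hperm : (MulAction.toPermHom (MulAut E) (Sylow p E) α) = 1 := by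
    refine perm_eq_one_of_card_lt hsyl ?_
    rw [← map_pow, hα, ← map_pow,
      show (⟨g, hgE⟩ : Subgroup.normalizer (E : Set G)) ^ q = 1 from Subtype.ext hgq, map_one, map_one]
  have hfixA : ∀ e ∈ E, g ∈ Subgroup.normalizer ((A.map (MulAut.conj e).toMonoidHom : Subgroup G) : Set G) := by
    intro e he
    set T : Sylow p E := (⟨e, he⟩ : E) • SA
    have hT : ((T : Sylow p E) : Subgroup E).map E.subtype = A.map (MulAut.conj e).toMonoidHom := by
      rw [Sylow.coe_subgroup_smul, Subgroup.pointwise_smul_def]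
      ext y
      constructor
      · rintro ⟨_, ⟨a, ha, rfl⟩, rfl⟩
        exact ⟨(a : G), ha, rfl⟩
      · rintro ⟨a, ha, rfl⟩
        exact ⟨_, ⟨⟨a, P.leA ha⟩, (show (⟨a, P.leA ha⟩ : E) ∈ A.subgroupOf E from ha), rfl⟩, rfl⟩
    have h2 : α • T = T := Equiv.congr_fun hperm T
    apply mem_normalizer_of_map_conj_eq
    rw [← hT]
    conv_rhs => rw [← h2]
    rw [Sylow.pointwise_smul_def, Subgroup.pointwise_smul_def]
    ext y
    constructor
    · rintro ⟨_, ⟨t, ht, rfl⟩, rfl⟩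
      exact ⟨_, ⟨t, ht, rfl⟩, rfl⟩
    · rintro ⟨_, ⟨t, ht, rfl⟩, rfl⟩
      exact ⟨_, ⟨t, ht, rfl⟩, rfl⟩
  obtain ⟨qA, cA⟩ := hA.quad S
  have hgA : g ∈ Subgroup.normalizer (A : Set G) := by
    have := hfixA 1 (one_mem _)
    rwa [show (MulAut.conj (1 : G)).toMonoidHom = MonoidHom.id G by ext; simp, Subgroup.map_id] at this
  have hgl : g ∈ Subgroup.normalizer ((⁅V, A⁆ : Subgroup G) : Set G) :=
    normalizer_inf_le_normalizer_commutator V A ⟨hgV, hgA⟩
  have hplt : p < q := by rcases P.hp23 with rfl | rfl <;> omega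
  haveI : Nontrivial ↥(⁅V, A⁆) := Finite.one_lt_card_iff_nontrivial.mp (cA.symm ▸ hp.out.one_lt)
  obtain ⟨⟨u, hu⟩, hu1'⟩ := exists_ne (1 : ↥(⁅V, A⁆))
  have hu1 : u ≠ 1 := fun h => hu1' (Subtype.ext h)
  have hlW : ⁅V, A⁆ ≤ W := Subgroup.commutator_mono le_rfl P.leA
  obtain ⟨n, hn, hline⟩ := P.noline
  have hnV : n ∈ Subgroup.normalizer (V : Set G) := S.hHV (P.le hn.1)
  have hm : n * u * n⁻¹ ∈ ⁅V, A.map (MulAut.conj n).toMonoidHom⁆ := by
    rw [commutator_map_conj hnV]; exact ⟨u, hu, rfl⟩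
  have hgm : g * (n * u * n⁻¹) * g⁻¹ = n * u * n⁻¹ := by
    refine conj_fixed_of_card_lt (X := ⁅V, A.map (MulAut.conj n).toMonoidHom⁆) ?_
      (normalizer_inf_le_normalizer_commutator V _ ⟨hgV, hfixA n hn.1⟩) hgq hm
    rw [commutator_map_conj hnV, Subgroup.card_map_of_injective (MulAut.conj n).injective, cA]
    exact hplt
  have hmW : n * u * n⁻¹ ∈ W :=
    (Subgroup.mem_normalizer_iff.mp (Subgroup.normalizer_commutator_ge_right V E hn.1) u).mp (hlW hu)
  have hml : n * u * n⁻¹ ∉ ⁅V, A⁆ := fun h => by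
    obtain ⟨i, hi⟩ : ∃ i : ℕ, u ^ i = n * u * n⁻¹ := (isOfFinOrder_of_finite _).mem_powers_iff_mem_zpowers.mpr
      ((zpowers_eq_of_card_prime cA hu hu1).symm ▸ h)
    exact hline u (hlW hu) hu1 i hi.symm
  have hW' : W ≤ Subgroup.centralizer ({g} : Set G) := by
    refine (S.line_facts hA P hmW hml).1.trans (sup_le (fun w hw => ?_) (Subgroup.zpowers_le.mpr ?_))
    · rw [Subgroup.mem_centralizer_singleton_iff]
      exact (mul_inv_eq_iff_eq_mul.mp (conj_fixed_of_card_lt (cA.symm ▸ hplt) hgl hgq hw)).symm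
    · rw [Subgroup.mem_centralizer_singleton_iff]
      exact (mul_inv_eq_iff_eq_mul.mp hgm).symm
  have hWfix : ∀ w ∈ W, g * w * g⁻¹ = w := fun w hw => by
    rw [← Subgroup.mem_centralizer_singleton_iff.mp (hW' hw), mul_inv_cancel_right]
  refine ⟨fun e he => ?_, hWfix⟩
  have hmem : e⁻¹ * (g * e * g⁻¹) ∈ E ⊓ Subgroup.centralizer (W : Set G) := by
    refine ⟨E.mul_mem (E.inv_mem he) ((Subgroup.mem_normalizer_iff.mp hgE e).mp he), fun w hw => ?_⟩
    have hew : e * w * e⁻¹ ∈ W :=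
      (Subgroup.mem_normalizer_iff.mp (Subgroup.normalizer_commutator_ge_right V E he) w).mp hw
    have e1 := hWfix w hw
    have e2 := hWfix _ hew
    have e3 : g * e * g⁻¹ * w * (g * e * g⁻¹)⁻¹ = e * w * e⁻¹ := by
      calc g * e * g⁻¹ * w * (g * e * g⁻¹)⁻¹ = g * e * g⁻¹ * (g * w * g⁻¹) * (g * e * g⁻¹)⁻¹ := by rw [e1]
        _ = g * (e * w * e⁻¹) * g⁻¹ := by group
        _ = _ := e2
    calc w * (e⁻¹ * (g * e * g⁻¹)) = e⁻¹ * (e * w * e⁻¹) * (g * e * g⁻¹) := by group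
      _ = e⁻¹ * (g * e * g⁻¹ * w * (g * e * g⁻¹)⁻¹) * (g * e * g⁻¹) := by rw [e3]
      _ = e⁻¹ * (g * e * g⁻¹) * w := by group
  rw [P.faithful, Subgroup.mem_bot, inv_mul_eq_one] at hmem
  exact hmem.symm

variable {G : Type u} [Group G] [Finite G]

/-- The hypotheses of the coprime action statements, inside `G = K X`. -/
structure CoprimeCtx (p q : ℕ) (K X : Subgroup G) : Prop where
  hK : K.Normal
  htop : K ⊔ X = ⊤
  hX : Cfsg.IsElementaryAbelian q X
  hq : ¬ q ∣ Nat.card K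
  hsep : Cfsg.IsPSolvable p ↥K
  hO : Cfsg.pPrimeCore p ↥K = ⊥

namespace CoprimeCtx

variable {K X : Subgroup G} (T : CoprimeCtx p q K X)
include T

theorem le_of_ne (hpq : p ≠ q) {P : Subgroup G} (hP : IsPGroup p P) : P ≤ K := by
  haveI := T.hK
  intro x hx
  obtain ⟨n, hn⟩ := hP ⟨x, hx⟩
  have hn' : x ^ p ^ n = 1 := congrArg Subtype.val hn
  have hq' : (QuotientGroup.mk' K x) ^ q = 1 := by
    have hx' : x ∈ ((K ⊔ X : Subgroup G) : Set G) := by rw [T.htop]; trivial
    rw [Subgroup.normal_mul] at hx'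
    obtain ⟨k, hk, y, hy, rfl⟩ := hx'
    rw [map_mul, show QuotientGroup.mk' K k = 1 from (QuotientGroup.eq_one_iff k).mpr hk, one_mul,
      ← map_pow, T.hX.2 y hy, map_one]
  refine (QuotientGroup.eq_one_iff x).mp (orderOf_eq_one_iff.mp (Nat.eq_one_of_dvd_coprimes ?_
    (orderOf_dvd_of_pow_eq_one (show (QuotientGroup.mk' K x) ^ p ^ n = 1 by rw [← map_pow, hn', map_one]))
    (orderOf_dvd_of_pow_eq_one hq')))
  exact Nat.Coprime.pow_left n ((Nat.coprime_primes hp.out hq.out).mpr hpq)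

omit hq in
theorem omega_le (hle : ∀ P : Subgroup G, IsPGroup p P → P ≤ K) :
    Cfsg.IsElementaryAbelian p (omegaCenterClosure p G) ∧ omegaCenterClosure p G ≤ K := by
  have hc := CfsgLib.PLoc.centralizer_pCore_le_self T.hsep T.hO
  have h : omegaCenterClosure p G ≤ (omegaCenterClosure p ↥K).map K.subtype := by
    refine iSup_le fun S => ?_
    have hSK : (S : Subgroup G) ≤ K := hle _ S.2
    have h1 := omegaCenter_map (p := p) K.subtype_injective ((S.subtype hSK : Sylow p K) : Subgroup K)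
    rw [Sylow.coe_subtype, Subgroup.map_subgroupOf_eq_of_le hSK] at h1
    rw [← h1]
    refine Subgroup.map_mono (le_of_eq_of_le ?_ (le_iSup (fun R : Sylow p K =>
      Cfsg.omegaOne p ((R : Subgroup K) ⊓ Subgroup.centralizer ((R : Subgroup K) : Set K))) (S.subtype hSK)))
    rw [Sylow.coe_subtype]
  exact ⟨isEA_mono (isEA_map (omegaCenterClosure_isEA hc) _) h, h.trans (Subgroup.map_subtype_le _)⟩

theorem main (hpq : p ≠ q) (S : Sylow p G) :
    (K ≤ (Subgroup.normalizer (Cfsg.thompsonSubgroupOf p (S : Subgroup G) : Set G) ⊓ K) ⊔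
        (Subgroup.centralizer (Cfsg.omegaOne p ((S : Subgroup G) ⊓
          Subgroup.centralizer ((S : Subgroup G) : Set G)) : Set G) ⊓ K) ⊔
        (Subgroup.centralizer (X : Set G) ⊓ K)) ∧
    (¬ Cfsg.thompsonSubgroup p G ≤ Subgroup.centralizer (omegaCenterClosure p G : Set G) →
      (p = 2 ∨ p = 3) ∧ ∃ W D : Subgroup G, W ≤ K ⊓ Subgroup.centralizer (X : Set G) ∧
        D ≤ K ⊓ Subgroup.centralizer (X : Set G) ∧ Cfsg.IsElementaryAbelian p W ∧ Nat.card W = p ^ 2 ∧
        D ≤ Subgroup.normalizer (W : Set G) ∧ ∃ ψ : ↥D →* SL(2, ZMod p),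
          Function.Surjective ψ ∧ ψ.ker = (Subgroup.centralizer (W : Set G)).subgroupOf D) := by
  haveI := T.hK
  have hle : ∀ P : Subgroup G, IsPGroup p P → P ≤ K := fun P hP => T.le_of_ne hpq hP
  obtain ⟨hV, hVK⟩ := T.omega_le hle
  haveI := omegaCenterClosure_normal (p := p) (G := G)
  set V := omegaCenterClosure p G with hVdef
  set C := Subgroup.centralizer (V : Set G) with hC
  set J := Cfsg.thompsonSubgroup p G with hJ
  haveI := thompsonSubgroup_characteristic (G := G) (p := p)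
  have hJK : J ≤ K := sSup_le fun A hA => hle A (isEA_isPGroup hA.1)
  set JS := Cfsg.thompsonSubgroupOf p (S : Subgroup G) with hJS
  set Z := Cfsg.omegaOne p ((S : Subgroup G) ⊓ Subgroup.centralizer ((S : Subgroup G) : Set G)) with hZ
  set M := (Subgroup.normalizer (JS : Set G) ⊓ K) ⊔ (Subgroup.centralizer (Z : Set G) ⊓ K) ⊔
    (Subgroup.centralizer (X : Set G) ⊓ K) with hM
  have hZV : Z ≤ V := le_iSup (fun T : Sylow p G =>
    Cfsg.omegaOne p ((T : Subgroup G) ⊓ Subgroup.centralizer ((T : Subgroup G) : Set G))) S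
  have hCM : C ⊓ K ≤ M :=
    le_sup_of_le_left (le_sup_of_le_right (inf_le_inf_right _ (Subgroup.centralizer_le hZV)))
  have hMK : M ≤ K := sup_le (sup_le inf_le_right inf_le_right) inf_le_right
  have hJSJ : JS ≤ J := by
    rw [hJ, thompsonSubgroup_eq_iSup_sylow]
    exact le_iSup (fun T : Sylow p G => Cfsg.thompsonSubgroupOf p (T : Subgroup G)) S
  have hJSM : JS ≤ M := le_sup_of_le_left (le_sup_of_le_left (le_inf Subgroup.le_normalizer (hJSJ.trans hJK)))
  have hGtop := frattini_thompson S J hJSJ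
  have hOq := pCore_quotient_centralizer_eq_bot V omegaCenterClosure_eq_fixed
  obtain ⟨m⟩ := exists_ffModel (p := p) V
  have F := m.setup hV J (isPSolvable_of_injective (Subgroup.inclusion_injective hJK) T.hsep) hOq
  have hS3 := m.hS3 hV
  rw [← hJ] at hS3
  set H := m.img J with hH
  set Q := (Cfsg.pPrimeCore p ↥H).map H.subtype with hQ
  set f := m.ι.comp (QuotientGroup.mk' C) with hf
  have hker : ∀ x, f x = 1 ↔ x ∈ C := fun x => by
    refine ⟨fun hx => (QuotientGroup.eq_one_iff x).mp (m.ι_inj (hx.trans (map_one _).symm)), fun hx => ?_⟩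
    show m.ι (QuotientGroup.mk x) = 1
    rw [(QuotientGroup.eq_one_iff x).mpr hx, map_one]
  have hfH : ∀ g, f g ∈ Subgroup.normalizer (H : Set m.Γ) := by
    intro g
    have h1 : g ∈ Subgroup.normalizer (J : Set G) := by rw [Subgroup.normalizer_eq_top]; trivial
    rw [hH, m.img_eq]
    exact Subgroup.le_normalizer_map f (Subgroup.mem_map_of_mem f h1)
  haveI := CfsgLib.Solvable.pPrimeCore_characteristic p ↥H
  have hfQ : ∀ g, f g ∈ Subgroup.normalizer (Q : Set m.Γ) := fun g => mem_normalizer_map_char _ (hfH g)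
  have hfV : ∀ g, f g ∈ Subgroup.normalizer (m.VG : Set m.Γ) := by
    have key : ∀ g, ∀ y ∈ m.VG, f g * y * (f g)⁻¹ ∈ m.VG := by
      rintro g _ ⟨v, rfl⟩; exact ⟨_, (m.conj g v).symm⟩
    intro g
    rw [Subgroup.mem_normalizer_iff]
    refine fun y => ⟨key g y, fun h => ?_⟩
    have h2 := key g⁻¹ _ h
    rw [map_inv] at h2
    simpa [mul_assoc] using h2
  have hconjE : ∀ g B, IsTransv p m.VG H B → IsTransv p m.VG H (B.map (MulAut.conj (f g)).toMonoidHom) ∧
      (⁅Q, B⁆ ⊔ B).map (MulAut.conj (f g)).toMonoidHom =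
        ⁅Q, B.map (MulAut.conj (f g)).toMonoidHom⁆ ⊔ B.map (MulAut.conj (f g)).toMonoidHom := by
    intro g B hB
    refine ⟨⟨?_, ?_, ?_⟩, ?_⟩
    · rintro _ ⟨b, hb, rfl⟩
      exact (Subgroup.mem_normalizer_iff.mp (hfH g) b).mp (hB.le hb)
    · rw [Subgroup.card_map_of_injective (MulAut.conj (f g)).injective, hB.card]
    · have hb' : IsTransv p m.VG ⊤ B := ⟨le_top, hB.card, hB.idx⟩
      exact (hb'.map_conj (Subgroup.mem_top _) (hfV g)).idx
    · rw [Subgroup.map_sup, Subgroup.map_commutator, map_conj_eq_of_mem_normalizer (hfQ g)]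
  -- every component comes from `J(S)`
  have hgen : ∀ K' : Subgroup m.Γ,
      (∀ B, IsTransv p m.VG H B → B ≤ m.img JS → ⁅Q, B⁆ ⊔ B ≤ K') → H ≤ K' := by
    intro K' hK'
    set Y := ⨆ B : {B : Subgroup m.Γ // IsTransv p m.VG H B ∧ B ≤ m.img JS},
      (⁅Q, (B : Subgroup m.Γ)⁆ ⊔ B) with hY
    have hYK : Y ≤ K' := iSup_le fun B => hK' B B.2.1 B.2.2
    have hYn : H ≤ Subgroup.normalizer (Y : Set m.Γ) := by
      intro h hh
      apply mem_normalizer_of_map_conj_eq
      rw [hY, Subgroup.map_iSup]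
      refine iSup_congr fun B => ?_
      exact map_conj_eq_of_mem_normalizer ((F.factor hS3 B.2.1).1 hh)
    refine le_trans ?_ hYK
    conv_lhs => rw [hH, m.img_eq, hJ, Cfsg.thompsonSubgroup, sSup_eq_iSup]
    simp only [Subgroup.map_iSup]
    refine iSup₂_le fun A hA => ?_
    obtain ⟨R, hR⟩ := (isEA_isPGroup hA.1).exists_le_sylow
    obtain ⟨g, hg⟩ := sylow_eq_map_conj R S
    obtain ⟨j, hj, n, hn, hjn⟩ := exists_mul_of_sup_eq_top hGtop g⁻¹
    set A' := A.map (MulAut.conj g).toMonoidHom with hA'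
    have hA'max : A' ∈ Cfsg.maxElementaryAbelianSubgroups p G := by
      refine ⟨isEA_map hA.1 _, fun B hB => ?_⟩
      rw [hA', Subgroup.card_map_of_injective (MulAut.conj g).injective]
      exact hA.2 B hB
    have hA'S : A' ≤ JS := by
      rw [hJS, thompsonSubgroupOf_eq]
      exact le_sSup (maxEA_mem_maxEAIn hA'max (hg ▸ Subgroup.map_mono hR))
    set A'' := A'.map (MulAut.conj n).toMonoidHom with hA''
    have hA''S : A'' ≤ JS := by
      rintro _ ⟨a, ha, rfl⟩
      exact (Subgroup.mem_normalizer_iff.mp hn a).mp (hA'S ha)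
    have hA''max : A'' ∈ Cfsg.maxElementaryAbelianSubgroups p G := by
      refine ⟨isEA_map hA'max.1 _, fun B hB => ?_⟩
      rw [hA'', Subgroup.card_map_of_injective (MulAut.conj n).injective]
      exact hA'max.2 B hB
    have hA''Y : A''.map f ≤ Y := by
      rw [← m.img_eq]
      by_cases h1 : m.img A'' = ⊥
      · rw [h1]; exact bot_le
      obtain ⟨-, k, B, hB, -, hsup⟩ := F.offender_decomp
        (Subgroup.map_mono (Subgroup.map_mono (maxEA_le_thompson hA''max)))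
        (m.isBestOffender_img (maxEA_isBestOffenderOn hV hA''max)) h1
      refine hsup.ge.trans (iSup_le fun i => ?_)
      exact le_iSup_of_le ⟨B i, (hB i).2, (hB i).1.trans (Subgroup.map_mono (Subgroup.map_mono hA''S))⟩
        le_sup_right
    rintro _ ⟨a, ha, rfl⟩
    have hmem : f (n * (g * a * g⁻¹) * n⁻¹) ∈ Y :=
      hA''Y (Subgroup.mem_map_of_mem f ⟨_, ⟨a, ha, rfl⟩, rfl⟩)
    have hjY : f j ∈ Subgroup.normalizer (Y : Set m.Γ) :=
      hYn (by rw [hH, m.img_eq]; exact Subgroup.mem_map_of_mem f hj)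
    have := (Subgroup.mem_normalizer_iff.mp hjY _).mp hmem
    rw [← map_inv, ← map_mul, ← map_mul] at this
    have e : j * (n * (g * a * g⁻¹) * n⁻¹) * j⁻¹ = a := by
      have hg' : g = (j * n)⁻¹ := by rw [← hjn, inv_inv]
      rw [hg']; group
    rwa [e] at this
  -- the action of `X`
  set ξ : X →* m.Γ := f.comp X.subtype with hξ
  have hXc : ∀ a b : X, a * b = b * a := fun a b =>
    Subtype.ext (commute_of_mem_comm T.hX.1 a.2 b.2).eq
  haveI : IsMulCommutative X := T.hX.1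
  have hcopXK : (Nat.card X).Coprime (Nat.card K) := by
    obtain ⟨n, hn⟩ := IsPGroup.iff_card.mp (isEA_isPGroup T.hX)
    rw [hn]
    exact Nat.Coprime.pow_left n (hq.out.coprime_iff_not_dvd.mpr T.hq)
  haveI := (isEA_isPGroup T.hX).isNilpotent
  have hlift : ∀ h ∈ H, (∀ x, Commute (ξ x) h) → ∃ g ∈ K ⊓ Subgroup.centralizer (X : Set G), f g = h := by
    intro h hh hhx
    obtain ⟨g, hg, rfl⟩ : h ∈ J.map f := by rw [hf, ← m.img_eq J, ← hH]; exact hh
    have hgK := hJK hg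
    obtain ⟨c, hc, hgc⟩ := CfsgLib.Solvable.exists_fixed_of_fixed_mod (A := X) (K := K) (N := C ⊓ K)
      Subgroup.le_normalizer_of_normal hcopXK (Or.inl inferInstance) inf_le_right
      Subgroup.le_normalizer_of_normal Subgroup.le_normalizer_of_normal hgK (fun x hx => by
        refine ⟨(hker _).mp ?_, K.mul_mem (T.hK.conj_mem _ hgK x) (K.inv_mem hgK)⟩
        have h1 : f x * f g = f g * f x := (hhx ⟨x, hx⟩).eq
        rw [map_mul, map_mul, map_mul, map_inv, map_inv, h1]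
        group)
    refine ⟨c, hc, ?_⟩
    have h1 := (hker _).mpr hgc.1
    rw [map_mul, map_inv, inv_mul_eq_one] at h1
    exact h1.symm
  have hdiag : ∀ B, IsTransv p m.VG H B →
      ∃ Δ : ↥(⁅Q, B⁆ ⊔ B) →* m.Γ, ∃ δ : ↥(⁅m.VG, ⁅Q, B⁆ ⊔ B⁆) →* m.Γ,
        (∀ z, Δ z ∈ H ∧ (z : m.Γ)⁻¹ * Δ z ∈ Subgroup.centralizer ((⁅Q, B⁆ ⊔ B : Subgroup m.Γ) : Set m.Γ) ∧
          (z : m.Γ)⁻¹ * Δ z ∈ Subgroup.centralizer ((⁅m.VG, ⁅Q, B⁆ ⊔ B⁆ : Subgroup m.Γ) : Set m.Γ)) ∧
        (∀ x z, Commute (ξ x) (Δ z)) ∧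
        (∀ x (w : ↥(⁅m.VG, ⁅Q, B⁆ ⊔ B⁆)), Commute (ξ x) (δ w)) ∧
        (∀ w, δ w ∈ m.VG) ∧
        (∀ w : ↥(⁅m.VG, ⁅Q, B⁆ ⊔ B⁆), (w : m.Γ)⁻¹ * δ w ∈ Subgroup.centralizer ((⁅Q, B⁆ ⊔ B : Subgroup m.Γ) : Set m.Γ)) ∧
        (∀ (z : ↥(⁅Q, B⁆ ⊔ B)) (w w' : ↥(⁅m.VG, ⁅Q, B⁆ ⊔ B⁆)),
          (z : m.Γ) * (w : m.Γ) * (z : m.Γ)⁻¹ = (w' : m.Γ) → Δ z * δ w * (Δ z)⁻¹ = δ w') := by
    intro B hB
    obtain ⟨P, -, -, -⟩ := F.transv_group hB
    set E := ⁅Q, B⁆ ⊔ B with hE
    set W := ⁅m.VG, E⁆ with hW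
    have hq5 : 5 ≤ q := by
      obtain ⟨φ⟩ := P.iso
      have h1 : Nat.card E ∣ Nat.card J := by
        refine (Subgroup.card_dvd_of_le P.le).trans ?_
        rw [hH, m.img_eq]
        exact Subgroup.card_map_dvd J f
      rw [Nat.card_congr φ.toEquiv, card_sl2_prime] at h1
      have h2 : ¬ q ∣ p * (p ^ 2 - 1) := fun h =>
        T.hq ((h.trans h1).trans (Subgroup.card_dvd_of_le hJK))
      by_contra h5
      have h2' := hq.out.two_le
      rcases P.hp23 with rfl | rfl <;> interval_cases q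
      all_goals first
        | (refine absurd hq.out ?_; norm_num; done)
        | (refine h2 ?_; norm_num; done)
    let X₀ : Subgroup X := (Subgroup.normalizer (E : Set m.Γ)).comap ξ
    have hstab : ∀ x ∈ X₀, (∀ e ∈ E, ξ x * e * (ξ x)⁻¹ = e) ∧ ∀ w ∈ W, ξ x * w * (ξ x)⁻¹ = w := by
      intro x hx
      refine stabilizer_centralizes (q := q) F hB hq5 (hfV _) hx ?_
      rw [← map_pow, show x ^ q = 1 from Subtype.ext (T.hX.2 x x.2), map_one]
    have hother : ∀ x, x ∉ X₀ → (∀ e ∈ E, ξ x * e * (ξ x)⁻¹ ∈ Subgroup.centralizer (E : Set m.Γ) ⊓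
        (H ⊓ Subgroup.centralizer (W : Set m.Γ))) ∧
        ∀ w ∈ W, ξ x * w * (ξ x)⁻¹ ∈ m.VG ⊓ Subgroup.centralizer (E : Set m.Γ) := by
      intro x hx
      obtain ⟨hB', hEB⟩ := hconjE (x : G) B hB
      obtain ⟨P', -, -, -⟩ := F.transv_group hB'
      rcases F.transv_dichotomy hB hB' with h | ⟨h1, h2, h3⟩
      · exact absurd (mem_normalizer_of_map_conj_eq (hEB.trans h.symm)) hx
      · refine ⟨fun e he => ?_, fun w hw => ?_⟩
        · have he' : ξ x * e * (ξ x)⁻¹ ∈ ⁅Q, B.map (MulAut.conj (f x)).toMonoidHom⁆ ⊔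
              B.map (MulAut.conj (f x)).toMonoidHom := hEB ▸ Subgroup.mem_map_of_mem _ he
          exact ⟨Subgroup.le_centralizer_iff.mp h1 he', P'.le he', Subgroup.le_centralizer_iff.mp h2 he'⟩
        · refine ⟨(Subgroup.mem_normalizer_iff.mp (hfV _) w).mp
            (commutator_le_of_le_normalizer (P.le.trans F.hHV) hw), h3 ?_⟩
          rw [← hEB, ← map_conj_eq_of_mem_normalizer (hfV (x : G)), ← Subgroup.map_commutator]
          exact ⟨w, hw, rfl⟩
    obtain ⟨Δ, hΔx, hΔR, -⟩ := exists_diag ξ hXc X₀ E (fun x hx z hz => (hstab x hx).1 z hz)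
      fun x hx z hz y hy => ((hother x hx).1 z hz).1 y hy
    obtain ⟨δ, hδx, hδR, hδg⟩ := exists_diag ξ hXc X₀ W (fun x hx z hz => (hstab x hx).2 z hz)
      fun x hx z hz y hy => commute_of_mem_comm F.hV.1 (commutator_le_of_le_normalizer (P.le.trans F.hHV) hy)
        ((hother x hx).2 z hz).1
    have hΔr : ∀ z : E, (z : m.Γ)⁻¹ * Δ z ∈
        Subgroup.centralizer (E : Set m.Γ) ⊓ (H ⊓ Subgroup.centralizer (W : Set m.Γ)) :=
      fun z => hΔR z _ fun x hx y hy => (hother x hx).1 y hy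
    have hδr : ∀ w : ↥W, (w : m.Γ)⁻¹ * δ w ∈ m.VG ⊓ Subgroup.centralizer (E : Set m.Γ) :=
      fun w => hδR w _ fun x hx y hy => (hother x hx).2 y hy
    refine ⟨Δ, δ, fun z => ⟨?_, (hΔr z).1, (hΔr z).2.2⟩, hΔx, hδx, fun w => ?_, fun w => (hδr w).2,
      fun z w w' hzw => hδg _ (fun x => hΔx x z) w w' ?_⟩
    · have := H.mul_mem (P.le z.2) (hΔr z).2.1
      rwa [mul_inv_cancel_left] at this
    · have := m.VG.mul_mem (commutator_le_of_le_normalizer (P.le.trans F.hHV) w.2) (hδr w).1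
      rwa [mul_inv_cancel_left] at this
    · set r := (z : m.Γ)⁻¹ * Δ z with hr
      have h1 : (w : m.Γ) * r = r * (w : m.Γ) := (hΔr z).2.2 w w.2
      rw [show Δ z = (z : m.Γ) * r by rw [hr, mul_inv_cancel_left], ← hzw]
      calc (z : m.Γ) * r * w * ((z : m.Γ) * r)⁻¹ = (z : m.Γ) * (r * w) * r⁻¹ * (z : m.Γ)⁻¹ := by group
        _ = _ := by rw [← h1]; group
  refine ⟨?_, fun hnf => ?_⟩
  · -- generation
    have hHM : H ≤ M.map f := by
      refine hgen _ fun B hB hBJS => ?_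
      have hBM : B ≤ M.map f := hBJS.trans (by rw [m.img_eq]; exact Subgroup.map_mono hJSM)
      refine sup_le ?_ hBM
      rw [← F.comm_comm hB, Subgroup.commutator_le]
      intro y hy b hb
      obtain ⟨Δ, δ, hΔ, hΔx, -⟩ := hdiag B hB
      obtain ⟨hΔH, hΔc, -⟩ := hΔ ⟨y, Subgroup.mem_sup_left hy⟩
      obtain ⟨g, hg, hgh⟩ := hlift _ hΔH (fun x => hΔx x _)
      have hh : Δ ⟨y, Subgroup.mem_sup_left hy⟩ ∈ M.map f :=
        ⟨g, Subgroup.mem_sup_right ⟨hg.2, hg.1⟩, hgh⟩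
      have hcb := hΔc b (Subgroup.mem_sup_right hb)
      set r := (y : m.Γ)⁻¹ * Δ ⟨y, Subgroup.mem_sup_left hy⟩ with hr
      have e : ⁅Δ ⟨y, Subgroup.mem_sup_left hy⟩, b⁆ = ⁅y, b⁆ := by
        rw [show Δ ⟨y, Subgroup.mem_sup_left hy⟩ = y * r by rw [hr, mul_inv_cancel_left]]
        have h1 : ⁅r, b⁆ = 1 := commutatorElement_eq_one_iff_mul_comm.mpr hcb.symm
        rw [show ⁅y * r, b⁆ = y * ⁅r, b⁆ * y⁻¹ * ⁅y, b⁆ by simp only [commutatorElement_def]; group, h1,
          mul_one, mul_inv_cancel, one_mul]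
      rw [← e, commutatorElement_def]
      exact mul_mem (mul_mem (mul_mem hh (hBM hb)) (inv_mem hh)) (inv_mem (hBM hb))
    intro k hk
    obtain ⟨j, hj, n, hn, hkn⟩ := exists_mul_of_sup_eq_top hGtop k
    have hjM : j ∈ M := by
      obtain ⟨y, hy, hyj⟩ := hHM (by rw [hH, m.img_eq]; exact Subgroup.mem_map_of_mem f hj : f j ∈ H)
      have h1 : y⁻¹ * j ∈ C ⊓ K := ⟨(hker _).mp (by rw [map_mul, map_inv, hyj, inv_mul_cancel]),
        K.mul_mem (K.inv_mem (hMK hy)) (hJK hj)⟩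
      have := M.mul_mem hy (hCM h1)
      rwa [mul_inv_cancel_left] at this
    have hnK : n ∈ K := by
      have := K.mul_mem (K.inv_mem (hJK hj)) hk
      rwa [hkn, inv_mul_cancel_left] at this
    rw [hkn]
    exact M.mul_mem hjM (Subgroup.mem_sup_left (Subgroup.mem_sup_left ⟨hn, hnK⟩))
  · -- the plane
    have hHne : H ≠ ⊥ := by
      intro h
      apply hnf
      intro x hx
      have h1 : f x ∈ H := by rw [hH, m.img_eq]; exact Subgroup.mem_map_of_mem f hx
      rw [h, Subgroup.mem_bot] at h1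
      exact (hker x).mp h1
    obtain ⟨B, hB⟩ : ∃ B, IsTransv p m.VG H B := by
      by_contra hno
      push Not at hno
      exact hHne (le_bot_iff.mp (F.le_of_transv_le hS3 fun B hB => absurd hB (hno B)))
    obtain ⟨P, -, -, -⟩ := F.transv_group hB
    have hd := hdiag B hB
    set E := ⁅Q, B⁆ ⊔ B with hE
    set WE := ⁅m.VG, E⁆ with hWE
    obtain ⟨Δ, δ, hΔ, hΔx, hδx, hδV, hδc, hact⟩ := hd
    have hδinj : Function.Injective δ := by
      rw [injective_iff_map_eq_one]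
      intro w hw
      have h1 := hδc w
      rw [hw, mul_one] at h1
      have h2 : (w : m.Γ) ∈ WE ⊓ (m.VG ⊓ Subgroup.centralizer (E : Set m.Γ)) :=
        ⟨w.2, commutator_le_of_le_normalizer (P.le.trans F.hHV) w.2, inv_inv (w : m.Γ) ▸ Subgroup.inv_mem _ h1⟩
      rw [P.inf, Subgroup.mem_bot] at h2
      exact Subtype.ext h2
    have hΔinj : Function.Injective Δ := by
      rw [injective_iff_map_eq_one]
      intro z hz
      have h1 := (hΔ z).2.2
      rw [hz, mul_one] at h1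
      have h2 : (z : m.Γ) ∈ E ⊓ Subgroup.centralizer (WE : Set m.Γ) :=
        ⟨z.2, inv_inv (z : m.Γ) ▸ Subgroup.inv_mem _ h1⟩
      rw [P.faithful, Subgroup.mem_bot] at h2
      exact Subtype.ext h2
    set W := (δ.range.comap m.j).map V.subtype with hWdef
    have hWV : W ≤ V := Subgroup.map_subtype_le _
    have hWcard : Nat.card W = p ^ 2 := by
      rw [hWdef, Subgroup.card_map_of_injective V.subtype_injective,
        ← Subgroup.card_map_of_injective m.j_inj, Subgroup.map_comap_eq_self,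
        ← Nat.card_congr (MonoidHom.ofInjective hδinj).toEquiv]
      · exact P.card
      · rintro _ ⟨w, rfl⟩
        exact hδV w
    set D := K ⊓ Subgroup.centralizer (X : Set G) ⊓ Δ.range.comap f with hD
    have hWX : W ≤ K ⊓ Subgroup.centralizer (X : Set G) := by
      rintro _ ⟨v, ⟨w, hw⟩, rfl⟩
      refine ⟨hVK v.2, fun x hx => ?_⟩
      have h1 := hδx ⟨x, hx⟩ w
      rw [hw] at h1
      have h3 := m.conj x v
      rw [show m.ι (QuotientGroup.mk x) * m.j v = m.j v * m.ι (QuotientGroup.mk x) from h1.eq,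
        mul_inv_cancel_right] at h3
      exact mul_inv_eq_iff_eq_mul.mp (congrArg Subtype.val (m.j_inj h3)).symm
    have hDW : D ≤ Subgroup.normalizer (W : Set G) := by
      rw [Subgroup.le_normalizer_iff]
      rintro g hg _ ⟨v, ⟨w, hw⟩, rfl⟩
      obtain ⟨z, hz⟩ := hg.2
      have hzw : (z : m.Γ) * w * (z : m.Γ)⁻¹ ∈ WE :=
        (Subgroup.mem_normalizer_iff.mp (Subgroup.normalizer_commutator_ge_right _ E z.2) _).mp w.2
      refine ⟨⟨g * v * g⁻¹, (inferInstance : V.Normal).conj_mem v v.2 g⟩, ⟨⟨_, hzw⟩, ?_⟩, rfl⟩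
      rw [← hact z w ⟨_, hzw⟩ rfl, hw, hz]
      exact m.conj g v
    refine ⟨P.hp23, W, D, hWX, inf_le_left, isEA_mono hV hWV, hWcard, hDW, ?_⟩
    obtain ⟨φ⟩ := P.iso
    let e : ↥E ≃* ↥Δ.range := MonoidHom.ofInjective hΔinj
    let f' : ↥D →* ↥Δ.range := (f.comp D.subtype).codRestrict Δ.range fun g => g.2.2
    have hf's : Function.Surjective f' := by
      rintro ⟨y, z, rfl⟩
      obtain ⟨g, hg, hgh⟩ := hlift _ (hΔ z).1 (fun x => hΔx x z)
      exact ⟨⟨g, hg, ⟨z, hgh.symm⟩⟩, Subtype.ext hgh⟩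
    refine ⟨(φ.toMonoidHom.comp e.symm.toMonoidHom).comp f',
      (φ.surjective.comp e.symm.surjective).comp hf's, ?_⟩
    ext g
    rw [MonoidHom.mem_ker, Subgroup.mem_subgroupOf]
    constructor
    · intro hg
      have h1 : f' g = 1 := e.symm.injective (φ.injective (hg.trans (by simp)))
      exact Subgroup.centralizer_le hWV ((hker _).mp (congrArg Subtype.val h1))
    · intro hg
      suffices h1 : f' g = 1 by simp [h1]
      obtain ⟨z, hz⟩ := g.2.2
      have hz1 : z = 1 := by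
        have hmem : (z : m.Γ) ∈ E ⊓ Subgroup.centralizer (WE : Set m.Γ) := by
          refine ⟨z.2, fun w hw => ?_⟩
          have hzw : (z : m.Γ) * w * (z : m.Γ)⁻¹ ∈ WE :=
            (Subgroup.mem_normalizer_iff.mp (Subgroup.normalizer_commutator_ge_right _ E z.2) _).mp hw
          have h1 := hact z ⟨w, hw⟩ ⟨_, hzw⟩ rfl
          obtain ⟨v, hv⟩ := hδV ⟨w, hw⟩
          have hvW : (v : G) ∈ W := ⟨v, ⟨_, hv.symm⟩, rfl⟩
          have h2 : (g : G) * v * (g : G)⁻¹ = v := by rw [← hg v hvW, mul_inv_cancel_right]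
          have h3 := m.conj g v
          rw [show (⟨(g : G) * v * (g : G)⁻¹, (inferInstance : V.Normal).conj_mem v v.2 g⟩ : V) = v from
            Subtype.ext h2, hv] at h3
          change f g * _ * (f g)⁻¹ = _ at h3
          rw [show f g = Δ z from hz.symm, h1] at h3
          have h4 : (z : m.Γ) * w * (z : m.Γ)⁻¹ = w := congrArg Subtype.val (hδinj h3)
          exact (mul_inv_eq_iff_eq_mul.mp h4).symm
        rw [P.faithful, Subgroup.mem_bot] at hmem
        exact Subtype.ext hmem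
      refine Subtype.ext ?_
      show f g = 1
      rw [show f g = Δ z from hz.symm, hz1, map_one]

end CoprimeCtx

end CfsgLib.PLocal
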