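import Cfsg.Agent.Lib.PLocal.CoprimeFF

/-! From `K` normalized by `X` to `G = K X`. -/

set_option autoImplicit false

open scoped MatrixGroups

namespace CfsgLib.PLocal

theorem mem_normalizer_map_iff {A B : Type*} [Group A] [Group B] {f : A →* B} (hf : Function.Injective f)
    {Y : Subgroup A} {a : A} :
    f a ∈ Subgroup.normalizer (Y.map f : Set B) ↔ a ∈ Subgroup.normalizer (Y : Set A) := by
  refine ⟨fun h => ?_, fun h => Subgroup.le_normalizer_map f (Subgroup.mem_map_of_mem f h)⟩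
  rw [Subgroup.mem_normalizer_iff]
  intro y
  rw [← Subgroup.mem_map_iff_mem hf, ← Subgroup.mem_map_iff_mem hf (x := a * y * a⁻¹), map_mul, map_mul, map_inv]
  exact Subgroup.mem_normalizer_iff.mp h (f y)

theorem mem_centralizer_map_iff {A B : Type*} [Group A] [Group B] {f : A →* B} (hf : Function.Injective f)
    {Y : Subgroup A} {a : A} :
    f a ∈ Subgroup.centralizer (Y.map f : Set B) ↔ a ∈ Subgroup.centralizer (Y : Set A) := by
  constructor
  · intro h y hy
    apply hf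
    rw [map_mul, map_mul]
    exact h _ (Subgroup.mem_map_of_mem f hy)
  · rintro h _ ⟨y, hy, rfl⟩
    rw [← map_mul, ← map_mul, h y hy]

theorem isThompsonFactorizable_of_subsingleton {p : ℕ} {K : Type*} [Group K] [Subsingleton K] :
    Cfsg.IsThompsonFactorizable p K := by
  intro S g
  exact ⟨1, one_mem _, 1, one_mem _, 1, one_mem _, Subsingleton.elim _ _⟩

variable {G : Type*} [Group G] [Finite G] {p q : ℕ} [hp : Fact p.Prime] [hq : Fact q.Prime]

theorem subsingleton_of_eq {K : Subgroup G} (hqK : ¬ q ∣ Nat.card K) (hO : Cfsg.pPrimeCore p ↥K = ⊥)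
    (hpq : p = q) : Subsingleton K := by
  subst hpq
  have h : (⊤ : Subgroup K) = ⊥ := le_bot_iff.mp (hO ▸ CfsgLib.Solvable.le_pPrimeCore inferInstance
    (by rw [Subgroup.card_top]; exact (hp.out.coprime_iff_not_dvd.mpr hqK).symm))
  exact ⟨fun a b => by
    have ha : a ∈ (⊥ : Subgroup K) := h ▸ Subgroup.mem_top a
    have hb : b ∈ (⊥ : Subgroup K) := h ▸ Subgroup.mem_top b
    rw [Subgroup.mem_bot.mp ha, Subgroup.mem_bot.mp hb]⟩

theorem coprime_ctx {K X : Subgroup G} (hXK : X ≤ Subgroup.normalizer (K : Set G))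
    (hX : Cfsg.IsElementaryAbelian q X) (hqK : ¬ q ∣ Nat.card K) (hsep : Cfsg.IsPSolvable p ↥K)
    (hO : Cfsg.pPrimeCore p ↥K = ⊥) :
    CoprimeCtx p q (K.subgroupOf (K ⊔ X)) (X.subgroupOf (K ⊔ X)) := by
  let e : ↥(K.subgroupOf (K ⊔ X)) ≃* ↥K := Subgroup.subgroupOfEquivOfLe le_sup_left
  refine ⟨?_, ?_, ?_, ?_, isPSolvable_of_injective (f := e.toMonoidHom) e.injective hsep, ?_⟩
  · exact (Subgroup.normal_subgroupOf_iff_le_normalizer le_sup_left).mpr (sup_le Subgroup.le_normalizer hXK)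
  · rw [← Subgroup.subgroupOf_sup le_sup_left le_sup_right, Subgroup.subgroupOf_self]
  · exact isEA_of_map (K ⊔ X).subtype_injective (by rwa [Subgroup.map_subgroupOf_eq_of_le le_sup_right])
  · rw [Nat.card_congr e.toEquiv]; exact hqK
  · rw [← Subgroup.map_eq_bot_iff_of_injective _ (f := e.toMonoidHom) e.injective,
      CfsgLib.Solvable.map_pPrimeCore_mulEquiv, hO]

theorem exists_sylow_sup {K X : Subgroup G}
    (T : CoprimeCtx p q (K.subgroupOf (K ⊔ X)) (X.subgroupOf (K ⊔ X))) (hpq : p ≠ q) (S : Sylow p ↥K) :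
    ∃ R : Sylow p ↥(K ⊔ X), (R : Subgroup ↥(K ⊔ X)).map (K ⊔ X).subtype = (S : Subgroup ↥K).map K.subtype := by
  set S₀ := (S : Subgroup ↥K).map K.subtype with hS₀
  have hle : S₀ ≤ K ⊔ X := (Subgroup.map_subtype_le _).trans le_sup_left
  have hS₀p : IsPGroup p (S₀.subgroupOf (K ⊔ X)) :=
    (S.2.map K.subtype).comap_of_injective _ (K ⊔ X).subtype_injective
  obtain ⟨R, hR⟩ := hS₀p.exists_le_sylow
  refine ⟨R, ?_⟩
  have hRK : (R : Subgroup ↥(K ⊔ X)).map (K ⊔ X).subtype ≤ K :=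
    (Subgroup.map_mono (T.le_of_ne hpq R.2)).trans (Subgroup.map_subgroupOf_eq_of_le le_sup_left).le
  have h1 : ((R : Subgroup ↥(K ⊔ X)).map (K ⊔ X).subtype).subgroupOf K = (S : Subgroup ↥K) := by
    refine S.is_maximal' ((R.2.map _).comap_of_injective _ K.subtype_injective) ?_
    intro x hx
    exact ⟨⟨x, hle ⟨x, hx, rfl⟩⟩, hR (Subgroup.mem_subgroupOf.mpr ⟨x, hx, rfl⟩), rfl⟩
  rw [hS₀, ← h1, Subgroup.map_subgroupOf_eq_of_le hRK]

theorem coprime_generation {K X : Subgroup G} (hXK : X ≤ Subgroup.normalizer (K : Set G))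
    (hX : Cfsg.IsElementaryAbelian q X) (hqK : ¬ q ∣ Nat.card K) (hsep : Cfsg.IsPSolvable p ↥K)
    (hO : Cfsg.pPrimeCore p ↥K = ⊥) (S : Sylow p ↥K) :
    (Subgroup.normalizer (Cfsg.thompsonSubgroupOf p (S : Subgroup ↥K) : Set ↥K) ⊔
      Subgroup.centralizer (Cfsg.omegaOne p ((S : Subgroup ↥K) ⊓
        Subgroup.centralizer ((S : Subgroup ↥K) : Set ↥K)) : Set ↥K) ⊔
      (Subgroup.centralizer (X : Set G)).subgroupOf K) = ⊤ := by
  by_cases hpq : p = q
  · haveI := subsingleton_of_eq hqK hO hpq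
    exact Subsingleton.elim _ _
  have T := coprime_ctx hXK hX hqK hsep hO
  obtain ⟨R, hR⟩ := exists_sylow_sup T hpq S
  let P := K ⊔ X
  set N₁ := Subgroup.normalizer (Cfsg.thompsonSubgroupOf p (S : Subgroup ↥K) : Set ↥K) with hN₁
  set N₂ := Subgroup.centralizer (Cfsg.omegaOne p ((S : Subgroup ↥K) ⊓
        Subgroup.centralizer ((S : Subgroup ↥K) : Set ↥K)) : Set ↥K) with hN₂
  have hJ : (Cfsg.thompsonSubgroupOf p (R : Subgroup ↥P)).map P.subtype =
      (Cfsg.thompsonSubgroupOf p (S : Subgroup ↥K)).map K.subtype := by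
    rw [thompsonSubgroupOf_map P.subtype_injective, thompsonSubgroupOf_map K.subtype_injective, hR]
  have hZ : (Cfsg.omegaOne p ((R : Subgroup ↥P) ⊓ Subgroup.centralizer ((R : Subgroup ↥P) : Set ↥P))).map P.subtype =
      (Cfsg.omegaOne p ((S : Subgroup ↥K) ⊓
        Subgroup.centralizer ((S : Subgroup ↥K) : Set ↥K))).map K.subtype := by
    rw [omegaCenter_map P.subtype_injective, omegaCenter_map K.subtype_injective, hR]
  rw [eq_top_iff]
  intro k _
  obtain ⟨h1, -⟩ := T.main hpq R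
  have hk := h1 (show (⟨(k : G), le_sup_left (b := X) k.2⟩ : P) ∈ K.subgroupOf P from k.2)
  set M := N₁ ⊔ N₂ ⊔ (Subgroup.centralizer (X : Set G)).subgroupOf K with hM
  have key : (Subgroup.normalizer (Cfsg.thompsonSubgroupOf p (R : Subgroup ↥P) : Set ↥P) ⊓ K.subgroupOf P) ⊔
      (Subgroup.centralizer (Cfsg.omegaOne p ((R : Subgroup ↥P) ⊓
        Subgroup.centralizer ((R : Subgroup ↥P) : Set ↥P)) : Set ↥P) ⊓ K.subgroupOf P) ⊔
      (Subgroup.centralizer (X.subgroupOf P : Set ↥P) ⊓ K.subgroupOf P) ≤ (M.map K.subtype).subgroupOf P := by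
    refine sup_le (sup_le ?_ ?_) ?_
    · rintro x ⟨hx, hxK⟩
      refine ⟨⟨x, hxK⟩, Subgroup.mem_sup_left (Subgroup.mem_sup_left ?_), rfl⟩
      rw [hN₁, ← mem_normalizer_map_iff K.subtype_injective, ← hJ]
      exact (mem_normalizer_map_iff P.subtype_injective).mpr hx
    · rintro x ⟨hx, hxK⟩
      refine ⟨⟨x, hxK⟩, Subgroup.mem_sup_left (Subgroup.mem_sup_right ?_), rfl⟩
      rw [hN₂, ← mem_centralizer_map_iff K.subtype_injective, ← hZ]
      exact (mem_centralizer_map_iff P.subtype_injective).mpr hx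
    · rintro x ⟨hx, hxK⟩
      refine ⟨⟨x, hxK⟩, Subgroup.mem_sup_right ?_, rfl⟩
      rw [Subgroup.mem_subgroupOf]
      have := (mem_centralizer_map_iff P.subtype_injective).mpr hx
      rwa [Subgroup.map_subgroupOf_eq_of_le (le_sup_right : X ≤ P)] at this
  obtain ⟨y, hy, hyk⟩ := key hk
  have : y = k := Subtype.ext hyk
  exact this ▸ hy

theorem coprime_plane {K X : Subgroup G} (hXK : X ≤ Subgroup.normalizer (K : Set G))
    (hX : Cfsg.IsElementaryAbelian q X) (hqK : ¬ q ∣ Nat.card K) (hsep : Cfsg.IsPSolvable p ↥K)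
    (hO : Cfsg.pPrimeCore p ↥K = ⊥) (hnf : ¬ Cfsg.IsThompsonFactorizable p ↥K) :
    (p = 2 ∨ p = 3) ∧ ∃ W D : Subgroup G, W ≤ K ⊓ Subgroup.centralizer (X : Set G) ∧
      D ≤ K ⊓ Subgroup.centralizer (X : Set G) ∧ Cfsg.IsElementaryAbelian p W ∧ Nat.card W = p ^ 2 ∧
      D ≤ Subgroup.normalizer (W : Set G) ∧
      ∃ hn : ((Subgroup.centralizer (W : Set G)).subgroupOf D).Normal,
        Nonempty ((↥D ⧸ (Subgroup.centralizer (W : Set G)).subgroupOf D) ≃* SL(2, ZMod p)) := by
  by_cases hpq : p = q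
  · haveI := subsingleton_of_eq hqK hO hpq
    exact absurd isThompsonFactorizable_of_subsingleton hnf
  have T := coprime_ctx hXK hX hqK hsep hO
  let P := K ⊔ X
  have hle : ∀ Y : Subgroup ↥P, IsPGroup p Y → Y ≤ K.subgroupOf P := fun Y hY => T.le_of_ne hpq hY
  haveI := T.hK
  have hne : ¬ Cfsg.thompsonSubgroup p ↥P ≤ Subgroup.centralizer (omegaCenterClosure p ↥P : Set ↥P) := by
    intro h
    apply hnf
    haveI := omegaCenterClosure_normal (p := p) (G := ↥P)
    intro S g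
    obtain ⟨R, hR⟩ := exists_sylow_sup T hpq S
    set C := Subgroup.centralizer (omegaCenterClosure p ↥P : Set ↥P) with hC
    have hJR : Cfsg.thompsonSubgroupOf p (R : Subgroup ↥P) ≤ C ⊓ K.subgroupOf P := by
      refine le_inf (le_trans ?_ h) ((thompsonSubgroupOf_le p _).trans (hle _ R.2))
      rw [thompsonSubgroup_eq_iSup_sylow]
      exact le_iSup (fun T : Sylow p ↥P => Cfsg.thompsonSubgroupOf p (T : Subgroup ↥P)) R
    have htop := frattini_thompson R (C ⊓ K.subgroupOf P) hJR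
    obtain ⟨c, hc, n, hn, hgn⟩ := exists_mul_of_sup_eq_top htop ⟨(g : G), le_sup_left (b := X) g.2⟩
    have hgn' : (g : G) = c * n := congrArg Subtype.val hgn
    have hcK : (c : G) ∈ K := hc.2
    have hnK : (n : G) ∈ K := by
      rw [← inv_mul_cancel_left (c : G) n, ← hgn']
      exact K.mul_mem (K.inv_mem hcK) g.2
    refine ⟨1, one_mem _, ⟨c, hcK⟩, ?_, ⟨n, hnK⟩, ?_, ?_⟩
    · rw [← mem_centralizer_map_iff K.subtype_injective, omegaCenter_map K.subtype_injective, ← hR,
        ← omegaCenter_map P.subtype_injective]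
      refine (mem_centralizer_map_iff P.subtype_injective).mpr ?_
      exact Subgroup.centralizer_le (le_iSup (fun T : Sylow p ↥P =>
        Cfsg.omegaOne p ((T : Subgroup ↥P) ⊓ Subgroup.centralizer ((T : Subgroup ↥P) : Set ↥P))) R) hc.1
    · rw [← mem_normalizer_map_iff K.subtype_injective, thompsonSubgroupOf_map K.subtype_injective, ← hR,
        ← thompsonSubgroupOf_map P.subtype_injective]
      exact (mem_normalizer_map_iff P.subtype_injective).mpr hn
    · rw [one_mul]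
      exact Subtype.ext hgn'
  obtain ⟨R⟩ : Nonempty (Sylow p ↥P) := inferInstance
  obtain ⟨hp23, W, D, hW, hD, hWEA, hWc, hDW, ψ, hψs, hψk⟩ := (T.main hpq R).2 hne
  have hmapX : (X.subgroupOf P).map P.subtype = X := Subgroup.map_subgroupOf_eq_of_le le_sup_right
  have hdown : ∀ Y : Subgroup ↥P, Y ≤ K.subgroupOf P ⊓ Subgroup.centralizer (X.subgroupOf P : Set ↥P) →
      Y.map P.subtype ≤ K ⊓ Subgroup.centralizer (X : Set G) := by
    rintro Y hY _ ⟨y, hy, rfl⟩
    refine ⟨(hY hy).1, ?_⟩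
    rw [← hmapX]
    exact (mem_centralizer_map_iff P.subtype_injective).mpr (hY hy).2
  refine ⟨hp23, W.map P.subtype, D.map P.subtype, hdown W hW, hdown D hD, isEA_map hWEA _, ?_, ?_, ?_⟩
  · rw [Subgroup.card_map_of_injective P.subtype_injective, hWc]
  · exact (Subgroup.map_mono hDW).trans (Subgroup.le_normalizer_map P.subtype)
  · set e := D.equivMapOfInjective P.subtype P.subtype_injective with he
    set χ : ↥(D.map P.subtype) →* SL(2, ZMod p) := ψ.comp e.symm.toMonoidHom with hχ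
    have hk : χ.ker = (Subgroup.centralizer (W.map P.subtype : Set G)).subgroupOf (D.map P.subtype) := by
      ext y
      obtain ⟨d, rfl⟩ := e.surjective y
      rw [MonoidHom.mem_ker, hχ, MonoidHom.comp_apply]
      show ψ (e.symm (e d)) = 1 ↔ _
      rw [e.symm_apply_apply, ← MonoidHom.mem_ker, hψk, Subgroup.mem_subgroupOf, Subgroup.mem_subgroupOf]
      exact (mem_centralizer_map_iff P.subtype_injective).symm
    have hχs : Function.Surjective χ := hψs.comp e.symm.surjective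
    haveI hn : ((Subgroup.centralizer (W.map P.subtype : Set G)).subgroupOf (D.map P.subtype)).Normal :=
      hk ▸ MonoidHom.normal_ker χ
    exact ⟨hn, ⟨(QuotientGroup.quotientMulEquivOfEq hk.symm).trans
      (QuotientGroup.quotientKerEquivOfSurjective χ hχs)⟩⟩

end CfsgLib.PLocal
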