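import Mathlib.GroupTheory.Sylow
import Cfsg.Agent.Lib.PLocal.Unipotent
import Cfsg.Agent.Lib.PLocal.Thompson
import Cfsg.Agent.Lib.PLocal.QuadraticElt
import Cfsg.Agent.Lib.Solvable.Core
import Cfsg.Agent.Lib.Solvable.CoprimeAction
import Cfsg.Agent.Lib.Solvable.CoprimeGeneration

/-! Failure of factorization: the setup, and minimal best offenders. -/

set_option autoImplicit false

open scoped commutatorElement

namespace CfsgLib.PLocal

variable {G : Type*} [Group G] {p : ℕ}

/-- The hypotheses on a group `H` acting faithfully on `V`, with `Q` playing the part of `O_{p'}(H)`. -/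
structure FFSetup (p : ℕ) (V H Q : Subgroup G) : Prop where
  hV : Cfsg.IsElementaryAbelian p V
  hHV : H ≤ Subgroup.normalizer (V : Set G)
  hf : H ⊓ Subgroup.centralizer (V : Set G) = ⊥
  hQH : Q ≤ H
  hHQ : H ≤ Subgroup.normalizer (Q : Set G)
  hcop : (Nat.card Q).Coprime p
  hS1 : H ⊓ Subgroup.centralizer (Q : Set G) ≤ Q

/-- A subgroup of order `p` fixing a subgroup of index `p` of `V`. -/
structure IsTransv (p : ℕ) (V H A : Subgroup G) : Prop where
  le : A ≤ H
  card : Nat.card A = p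
  idx : (V ⊓ Subgroup.centralizer (A : Set G)).relIndex V = p

theorem mem_normalizer_centralizer_of_mem_normalizer {U : Subgroup G} {g : G}
    (hg : g ∈ Subgroup.normalizer (U : Set G)) :
    g ∈ Subgroup.normalizer (Subgroup.centralizer (U : Set G) : Set G) := by
  have key : ∀ h ∈ Subgroup.normalizer (U : Set G), ∀ c ∈ Subgroup.centralizer (U : Set G),
      h * c * h⁻¹ ∈ Subgroup.centralizer (U : Set G) := by
    intro h hh c hc v hv
    have h1 := (Subgroup.mem_normalizer_iff.mp (inv_mem hh) v).mp hv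
    rw [inv_inv] at h1
    have h2 := hc _ h1
    calc v * (h * c * h⁻¹) = h * ((h⁻¹ * v * h) * c) * h⁻¹ := by group
      _ = h * (c * (h⁻¹ * v * h)) * h⁻¹ := by rw [h2]
      _ = h * c * h⁻¹ * v := by group
  rw [Subgroup.mem_normalizer_iff]
  refine fun c => ⟨key g hg c, fun h => ?_⟩
  have := key _ (inv_mem hg) _ h
  simpa [mul_assoc] using this

/-- An element centralizing `U` and acting trivially on `X / U` has `p`-th power centralizing `X`. -/
theorem pow_mem_centralizer_of_step [Finite G] {U X : Subgroup G} (hX : Cfsg.IsElementaryAbelian p X) {e : G}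
    (heX : e ∈ Subgroup.normalizer (X : Set G)) (hU : ∀ u ∈ U, e * u * e⁻¹ = u)
    (hmod : ∀ v ∈ X, ⁅e, v⁆ ∈ U) : e ^ p ∈ Subgroup.centralizer (X : Set G) :=
  quadratic_pow_mem_centralizer hX (Subgroup.zpowers_le.mpr heX)
    (bot_of_quadElt fun v hv => hU _ (hmod v hv)) (Subgroup.mem_zpowers e)

theorem conj_fixed_of_commutator_eq_bot {X A : Subgroup G} (h : ⁅X, A⁆ = ⊥) {x a : G} (hx : x ∈ X)
    (ha : a ∈ A) : a * x * a⁻¹ = x := by
  have := Subgroup.commutator_eq_bot_iff_le_centralizer.mp h hx a ha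
  rw [this, mul_inv_cancel_right]

theorem le_centralizer_iff_conj {X A : Subgroup G} :
    X ≤ Subgroup.centralizer (A : Set G) ↔ ∀ x ∈ X, ∀ a ∈ A, a * x * a⁻¹ = x :=
  ⟨fun h x hx a ha => by rw [h hx a ha, mul_inv_cancel_right],
    fun h x hx a ha => mul_inv_eq_iff_eq_mul.mp (h x hx a ha)⟩

variable [Finite G] [hp : Fact p.Prime]

/-- A `p`-group normalizing a subgroup of order `p` centralizes it. -/
theorem le_centralizer_of_card_prime {X P : Subgroup G} (hX : Nat.card X = p) (hP : IsPGroup p P)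
    (hPX : P ≤ Subgroup.normalizer (X : Set G)) : X ≤ Subgroup.centralizer (P : Set G) := by
  rw [← Subgroup.commutator_eq_bot_iff_le_centralizer]
  have hle : ⁅X, P⁆ ≤ X := commutator_le_of_le_normalizer hPX
  have hd : Nat.card ↥(⁅X, P⁆) ∣ p := hX ▸ Subgroup.card_dvd_of_le hle
  rcases (Nat.dvd_prime hp.out).mp hd with h | h
  · exact Subgroup.card_eq_one.mp h
  · have he : ⁅X, P⁆ = X := Subgroup.eq_of_le_of_card_ge hle (by rw [h, hX])
    rw [he]
    exact eq_bot_of_commutator_eq_self_pgroup (IsPGroup.of_card (n := 1) (by rw [hX, pow_one])) hP hPX he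

omit [Finite G] hp in
theorem offender_isEA {V H A : Subgroup G} (hf : H ⊓ Subgroup.centralizer (V : Set G) = ⊥) (hAH : A ≤ H)
    (hA : Cfsg.IsBestOffenderOn p V A) : Cfsg.IsElementaryAbelian p A := by
  refine ⟨Subgroup.le_centralizer_iff_isMulCommutative.mp ?_, fun a ha => ?_⟩
  · rw [← Subgroup.commutator_eq_bot_iff_le_centralizer, eq_bot_iff, ← hf]
    exact le_inf ((Subgroup.commutator_le_self A).trans hAH) hA.2.1
  · rw [← Subgroup.mem_bot, ← hf]
    exact ⟨hAH (A.pow_mem ha _), hA.2.2 a ha⟩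

omit [Finite G] hp in
theorem eq_bot_of_commutator_faithful {V H A : Subgroup G} (hf : H ⊓ Subgroup.centralizer (V : Set G) = ⊥)
    (hAH : A ≤ H) (h : ⁅V, A⁆ = ⊥) : A = ⊥ := by
  rw [eq_bot_iff, ← hf]
  exact le_inf hAH (Subgroup.le_centralizer_iff.mp (Subgroup.commutator_eq_bot_iff_le_centralizer.mp h))

namespace FFSetup

variable {V H Q : Subgroup G} (S : FFSetup p V H Q)
include S

theorem eq_one_of_fixes {e : G} (he : e ∈ H) (h : ∀ v ∈ V, e * v * e⁻¹ = v) : e = 1 := by
  rw [← Subgroup.mem_bot, ← S.hf]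
  exact ⟨he, fun v hv => (mul_inv_eq_iff_eq_mul.mp (h v hv)).symm⟩

theorem eq_one_of_mem_p {x : G} (hx : x ∈ Q) {n : ℕ} (h : x ^ p ^ n = 1) : x = 1 := by
  have h1 : orderOf x ∣ Nat.card Q := Subgroup.orderOf_dvd_natCard Q hx
  exact orderOf_eq_one_iff.mp (Nat.eq_one_of_dvd_coprimes (Nat.Coprime.pow_right n S.hcop) h1
    (orderOf_dvd_of_pow_eq_one h))

theorem inf_eq_bot {P : Subgroup G} (hP : IsPGroup p P) : P ⊓ Q = ⊥ := by
  rw [eq_bot_iff]
  intro x hx
  obtain ⟨n, hn⟩ := hP ⟨x, hx.1⟩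
  exact Subgroup.mem_bot.mpr (S.eq_one_of_mem_p hx.2 (congrArg Subtype.val hn))

theorem coprime_card {P : Subgroup G} (hP : IsPGroup p P) : (Nat.card P).Coprime (Nat.card Q) := by
  obtain ⟨n, hn⟩ := IsPGroup.iff_card.mp hP
  rw [hn]
  exact (Nat.Coprime.pow_right n S.hcop).symm

theorem not_le_centralizer {P : Subgroup G} (hPH : P ≤ H) (hP : IsPGroup p P) (hP1 : P ≠ ⊥) :
    ¬ Q ≤ Subgroup.centralizer (P : Set G) := by
  intro h
  apply hP1
  rw [← S.inf_eq_bot hP, left_eq_inf]
  exact (le_inf hPH (Subgroup.le_centralizer_iff.mp h)).trans S.hS1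

/-- Minimal nontrivially acting best offenders are transvection groups. -/
theorem isTransv_of_minimal {A : Subgroup G} (hAH : A ≤ H) (hA : Cfsg.IsBestOffenderOn p V A)
    (hAV : ⁅V, A⁆ ≠ ⊥)
    (hmin : ∀ B : Subgroup G, B ≤ A → Cfsg.IsBestOffenderOn p V B → ⁅V, B⁆ ≠ ⊥ → B = A) :
    IsTransv p V H A := by
  have hEA := offender_isEA S.hf hAH hA
  haveI : IsMulCommutative A := hEA.1
  have hAp := isEA_isPGroup hEA
  have hA1 : A ≠ ⊥ := fun h => hAV (by rw [h, Subgroup.commutator_bot_right])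
  have hstrict : ∀ B : Subgroup G, B ≤ A → B ≠ A → B ≠ ⊥ →
      Nat.card B * Nat.card ↥(V ⊓ Subgroup.centralizer (B : Set G)) <
        Nat.card A * Nat.card ↥(V ⊓ Subgroup.centralizer (A : Set G)) := by
    intro B hB hne hB1
    refine lt_of_le_of_ne (hA.1 B hB) fun heq => hne (hmin B hB ?_ fun h =>
      hB1 (eq_bot_of_commutator_faithful S.hf (hB.trans hAH) h))
    refine ⟨fun C hC => heq ▸ hA.1 C (hC.trans hB), ?_, fun a ha => hA.2.2 a (hB ha)⟩
    exact (Subgroup.commutator_mono hB hB).trans hA.2.1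
  obtain ⟨B, hBA, ⟨a₀, ha₀, hcyc⟩, hB⟩ : ∃ B : Subgroup G, B ≤ A ∧
      (∃ a ∈ A, A ≤ B ⊔ Subgroup.zpowers a) ∧
        ¬ Q ⊓ Subgroup.centralizer (B : Set G) ≤ Subgroup.centralizer (A : Set G) := by
    by_contra hno
    push Not at hno
    exact S.not_le_centralizer hAH hAp hA1
      (CfsgLib.Solvable.le_of_cyclic_quotient_centralizer_le (hAH.trans S.hHQ) (S.coprime_card hAp)
        fun B hB hc => hno B hB hc)
  obtain ⟨n, hn⟩ := IsPGroup.iff_card.mp hAp
  have hza : Nat.card (Subgroup.zpowers a₀) ≤ p := by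
    rw [Nat.card_zpowers]
    exact Nat.le_of_dvd hp.out.pos (orderOf_dvd_of_pow_eq_one (hEA.2 a₀ ha₀))
  have hne : B ≠ A := fun h => hB (h ▸ inf_le_right)
  have hcardA : Nat.card A = p := by
    by_contra hnp
    have hB1 : B ≠ ⊥ := by
      intro h
      rw [h, bot_sup_eq] at hcyc
      have h1 := (Subgroup.card_le_of_le hcyc).trans hza
      rcases n with _ | _ | m
      · exact hA1 (Subgroup.card_eq_one.mp (by rw [hn, pow_zero]))
      · exact hnp (by rw [hn, pow_one])
      · rw [hn] at h1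
        have : p ^ 2 ≤ p ^ (m + 2) := Nat.pow_le_pow_right hp.out.pos (by omega)
        nlinarith [hp.out.one_lt]
    have hcardB : Nat.card A ≤ Nat.card B * p := by
      have hnorm : Subgroup.zpowers a₀ ≤ Subgroup.centralizer (B : Set G) :=
        ((Subgroup.zpowers_le.mpr ha₀).trans
          (Subgroup.le_centralizer_iff_isMulCommutative.mpr hEA.1)).trans (Subgroup.centralizer_le hBA)
      have h1 := card_sup_mul_card_inf_le (A := Subgroup.zpowers a₀) (B := B) hnorm
      rw [sup_comm] at h1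
      calc Nat.card A ≤ Nat.card ↥(B ⊔ Subgroup.zpowers a₀) := Subgroup.card_le_of_le hcyc
        _ ≤ Nat.card ↥(B ⊔ Subgroup.zpowers a₀) * Nat.card ↥(Subgroup.zpowers a₀ ⊓ B) :=
            Nat.le_mul_of_pos_right _ Nat.card_pos
        _ ≤ Nat.card (Subgroup.zpowers a₀) * Nat.card B := h1
        _ ≤ p * Nat.card B := Nat.mul_le_mul_right _ hza
        _ = _ := mul_comm _ _
    set CB := V ⊓ Subgroup.centralizer (B : Set G) with hCB
    set CA := V ⊓ Subgroup.centralizer (A : Set G) with hCA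
    have hlt := hstrict B hBA hne hB1
    have hlt2 : Nat.card CB < p * Nat.card CA := by
      refine Nat.lt_of_mul_lt_mul_left (a := Nat.card B) (lt_of_lt_of_le hlt ?_)
      rw [← mul_assoc]
      exact Nat.mul_le_mul_right _ hcardB
    have hle : CA ≤ CB := inf_le_inf_left _ (Subgroup.centralizer_le hBA)
    obtain ⟨i, hi⟩ := IsPGroup.iff_card.mp (isEA_isPGroup (isEA_mono S.hV (inf_le_left : CA ≤ V)))
    obtain ⟨j, hj⟩ := IsPGroup.iff_card.mp (isEA_isPGroup (isEA_mono S.hV (inf_le_left : CB ≤ V)))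
    have hCeq : CA = CB := by
      refine Subgroup.eq_of_le_of_card_ge hle ?_
      rw [hi, hj] at hlt2
      rw [hi, hj]
      rw [← pow_succ'] at hlt2
      exact Nat.pow_le_pow_right hp.out.pos
        (Nat.lt_succ_iff.mp ((Nat.pow_lt_pow_iff_right hp.out.one_lt).mp hlt2))
    set R := Q ⊓ Subgroup.centralizer (B : Set G) with hR
    have hBp := hAp.to_le hBA
    have hRA : A ≤ Subgroup.normalizer (R : Set G) := by
      have h2 : A ≤ Subgroup.centralizer (B : Set G) :=
        (Subgroup.le_centralizer_iff_isMulCommutative.mpr hEA.1).trans (Subgroup.centralizer_le hBA)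
      exact fun x hx => Subgroup.inf_normalizer_le_normalizer_inf
        ⟨S.hHQ (hAH hx), Subgroup.le_normalizer (h2 hx)⟩
    have hcop' : (Nat.card A).Coprime (Nat.card R) :=
      (S.coprime_card hAp).coprime_dvd_right (Subgroup.card_dvd_of_le inf_le_left)
    set L := ⁅R, A⁆ with hL
    have hLR : L ≤ R := commutator_le_of_le_normalizer hRA
    have hLC : L ≤ Subgroup.centralizer (CB : Set G) := by
      rw [hL, Subgroup.commutator_le]
      intro r hr x hx c hc
      have hRC : ∀ r ∈ R, r * c * r⁻¹ ∈ CB := fun r hr =>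
        ⟨(Subgroup.mem_normalizer_iff.mp (S.hHV (S.hQH hr.1)) c).mp hc.1,
          (Subgroup.mem_normalizer_iff.mp
            (mem_normalizer_centralizer_of_mem_normalizer (Subgroup.centralizer_le_normalizer _ hr.2)) c).mp
              hc.2⟩
      have hfix : ∀ d ∈ CB, x * d = d * x := fun d hd => (hCeq ▸ hd : d ∈ CA).2 x hx
      have h1 := hfix _ (hRC _ (R.inv_mem hr))
      rw [inv_inv] at h1
      have h2 : x * c = c * x := hfix c hc
      calc c * ⁅r, x⁆ = r * ((r⁻¹ * c * r) * x) * r⁻¹ * x⁻¹ := by rw [commutatorElement_def]; group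
        _ = r * (x * (r⁻¹ * c * r)) * r⁻¹ * x⁻¹ := by rw [h1]
        _ = r * x * r⁻¹ * (c * x⁻¹) := by group
        _ = r * x * r⁻¹ * (x⁻¹ * c) := by
          rw [show c * x⁻¹ = x⁻¹ * c from (eq_inv_mul_iff_mul_eq.mpr (by
            rw [← mul_assoc, h2, mul_inv_cancel_right]))]
        _ = ⁅r, x⁆ * c := by rw [commutatorElement_def]; group
    have hLV : L ≤ Subgroup.centralizer (V : Set G) :=
      CfsgLib.Solvable.thompson_pxq hBp (S.hcop.coprime_dvd_left
        (Subgroup.card_dvd_of_le (hLR.trans inf_le_left))) (isEA_isPGroup S.hV)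
        (Subgroup.le_centralizer_iff.mp (hLR.trans inf_le_right))
        ((hBA.trans hAH).trans S.hHV) ((hLR.trans (inf_le_left.trans S.hQH)).trans S.hHV)
        (Subgroup.le_centralizer_iff.mp hLC)
    have hL1 : L = ⊥ := by
      rw [eq_bot_iff, ← S.hf]
      exact le_inf (hLR.trans (inf_le_left.trans S.hQH)) hLV
    exact hB (Subgroup.commutator_eq_bot_iff_le_centralizer.mp hL1)
  refine ⟨hAH, hcardA, ?_⟩
  set C := V ⊓ Subgroup.centralizer (A : Set G) with hC
  have hbot := hA.1 ⊥ bot_le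
  rw [Subgroup.card_bot, one_mul, Subgroup.coe_bot] at hbot
  have hVc : V ⊓ Subgroup.centralizer ({1} : Set G) = V :=
    inf_eq_left.mpr fun v _ w hw => by rw [Set.mem_singleton_iff.mp hw, one_mul, mul_one]
  rw [hVc, hcardA] at hbot
  have hmul : Nat.card C * C.relIndex V = Nat.card V := by
    rw [← Subgroup.relIndex_bot_left, Subgroup.relIndex_mul_relIndex _ _ _ bot_le inf_le_left,
      Subgroup.relIndex_bot_left]
  have hle : C.relIndex V ≤ p := by
    rw [← hmul, mul_comm p] at hbot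
    exact Nat.le_of_mul_le_mul_left hbot Nat.card_pos
  obtain ⟨k, hk⟩ := IsPGroup.iff_card.mp (isEA_isPGroup S.hV)
  have hdvd : C.relIndex V ∣ p ^ k := by
    rw [← hk, ← hmul]
    exact dvd_mul_left _ _
  obtain ⟨i, -, hi⟩ := (Nat.dvd_prime_pow hp.out).mp hdvd
  rw [hi] at hle ⊢
  rcases i with _ | _ | i
  · exfalso
    apply hAV
    rw [Subgroup.commutator_eq_bot_iff_le_centralizer]
    rw [pow_zero] at hi
    exact (Subgroup.relIndex_eq_one.mp hi).trans inf_le_right
  · exact pow_one p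
  · have : p ^ 2 ≤ p ^ (i + 2) := Nat.pow_le_pow_right hp.out.pos (by omega)
    nlinarith [hp.out.one_lt]

theorem minimal_of_isTransv {A : Subgroup G} (hA : IsTransv p V H A) :
    Cfsg.IsBestOffenderOn p V A ∧ ⁅V, A⁆ ≠ ⊥ ∧
      ∀ B : Subgroup G, B ≤ A → Cfsg.IsBestOffenderOn p V B → ⁅V, B⁆ ≠ ⊥ → B = A := by
  have hbot : ∀ B : Subgroup G, B ≤ A → B = ⊥ ∨ B = A := by
    intro B hB
    have h := hA.card ▸ Subgroup.card_dvd_of_le hB
    rcases (Nat.dvd_prime hp.out).mp h with h | h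
    · exact Or.inl (Subgroup.card_eq_one.mp h)
    · exact Or.inr (Subgroup.eq_of_le_of_card_ge hB (by rw [h, hA.card]))
  have hne : ⁅V, A⁆ ≠ ⊥ := by
    intro h
    have h1 := eq_bot_of_commutator_faithful S.hf hA.le h
    have h2 := hA.card
    rw [h1, Subgroup.card_bot] at h2
    exact hp.out.one_lt.ne h2
  refine ⟨⟨fun B hB => ?_, ?_, fun a ha => ?_⟩, hne, fun B hB _ hBV => (hbot B hB).resolve_left
    fun h => hBV (by rw [h, Subgroup.commutator_bot_right])⟩
  · rcases hbot B hB with rfl | rfl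
    · rw [Subgroup.card_bot, one_mul, hA.card, mul_comm, ← hA.idx, ← Subgroup.relIndex_bot_left
        (H := V ⊓ Subgroup.centralizer (A : Set G)),
        Subgroup.relIndex_mul_relIndex _ _ _ bot_le inf_le_left, Subgroup.relIndex_bot_left]
      exact Subgroup.card_le_of_le inf_le_left
    · rfl
  · haveI : IsCyclic A := isCyclic_of_prime_card hA.card
    exact (Subgroup.commutator_eq_bot_iff_le_centralizer.mpr
      (Subgroup.le_centralizer_iff_isMulCommutative.mpr inferInstance)).le.trans bot_le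
  · have : a ^ p = 1 := by
      have h1 : a ^ Nat.card A = 1 := congrArg Subtype.val (pow_card_eq_one' (x := (⟨a, ha⟩ : A)))
      rwa [hA.card] at h1
    rw [this]
    exact one_mem _

end FFSetup

namespace IsTransv

variable {V H Q A : Subgroup G} (S : FFSetup p V H Q) (hA : IsTransv p V H A)
include S hA

theorem isPGroup : IsPGroup p A := IsPGroup.of_card (n := 1) (by rw [hA.card, pow_one])

theorem quad : ⁅V, A⁆ ≤ V ⊓ Subgroup.centralizer (A : Set G) ∧ Nat.card ↥(⁅V, A⁆) = p := by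
  haveI : IsCyclic A := isCyclic_of_prime_card hA.card
  obtain ⟨a, ha⟩ := (Subgroup.isCyclic_iff_exists_zpowers_eq_top A).mp inferInstance
  subst ha
  have haN : a ∈ Subgroup.normalizer (V : Set G) := S.hHV (hA.le (Subgroup.mem_zpowers a))
  set f := commHom V S.hV.1 a haN with hf
  set R := f.range.map V.subtype with hR
  have hker : f.ker = (V ⊓ Subgroup.centralizer (Subgroup.zpowers a : Set G)).subgroupOf V := by
    ext v
    rw [commHom_mem_ker_iff, Subgroup.mem_subgroupOf]
    exact ⟨fun h => ⟨v.2, h⟩, fun h => h.2⟩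
  have hRcard : Nat.card R = p := by
    rw [hR, Subgroup.card_map_of_injective V.subtype_injective, ← Subgroup.index_ker, hker]
    exact hA.idx
  have haR : a ∈ Subgroup.normalizer (R : Set G) := by
    refine mem_normalizer_of_map_conj_eq (Subgroup.eq_of_le_of_card_ge ?_ ?_)
    · rintro _ ⟨_, ⟨_, ⟨v, rfl⟩, rfl⟩, rfl⟩
      refine ⟨_, ⟨⟨a * (v : G) * a⁻¹, (Subgroup.mem_normalizer_iff.mp haN _).mp v.2⟩, rfl⟩, ?_⟩
      show ⁅a, a * (v : G) * a⁻¹⁆ = a * ⁅a, (v : G)⁆ * a⁻¹
      simp only [commutatorElement_def]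
      group
    · exact (Subgroup.card_map_of_injective (K := R) (MulAut.conj a).injective).ge
  have hRC : R ≤ Subgroup.centralizer (Subgroup.zpowers a : Set G) :=
    le_centralizer_of_card_prime hRcard (hA.isPGroup S) (Subgroup.zpowers_le.mpr haR)
  have hle : ⁅V, Subgroup.zpowers a⁆ ≤ R := by
    rw [Subgroup.commutator_le]
    intro v hv b hb
    obtain ⟨n, rfl⟩ : ∃ n : ℕ, a ^ n = b := (isOfFinOrder_of_finite a).mem_powers_iff_mem_zpowers.mpr hb
    have hmem : ⁅a, v⁆ ∈ R := ⟨_, ⟨⟨v, hv⟩, rfl⟩, rfl⟩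
    have hcm : Commute a ⁅a, v⁆ := hRC hmem a (Subgroup.mem_zpowers a)
    have h2 : ∀ m : ℕ, a ^ m * v * (a ^ m)⁻¹ = ⁅a, v⁆ ^ m * v := by
      intro m
      induction m with
      | zero => simp
      | succ m ih =>
        calc a ^ (m + 1) * v * (a ^ (m + 1))⁻¹ = a * (a ^ m * v * (a ^ m)⁻¹) * a⁻¹ := by
              rw [pow_succ']; group
          _ = (a * ⁅a, v⁆ ^ m * a⁻¹) * (a * v * a⁻¹) := by rw [ih]; group
          _ = ⁅a, v⁆ ^ (m + 1) * v := by
              rw [(hcm.pow_right m).eq, mul_inv_cancel_right, ← commElt_eq_conj a v, ← mul_assoc,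
                ← pow_succ]
    rw [← commutatorElement_inv]
    refine R.inv_mem ?_
    rw [commutatorElement_def, h2, mul_inv_cancel_right]
    exact R.pow_mem hmem n
  refine ⟨hle.trans (le_inf (Subgroup.map_subtype_le _) hRC), ?_⟩
  have hge : R ≤ ⁅V, Subgroup.zpowers a⁆ := by
    rintro _ ⟨_, ⟨v, rfl⟩, rfl⟩
    rw [Subgroup.commutator_comm]
    exact Subgroup.commutator_mem_commutator (Subgroup.mem_zpowers a) v.2
  rw [le_antisymm hle hge, hRcard]

end IsTransv

/-- The setup attached to a faithful group with self-centralizing `p'`-core. -/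
theorem FFSetup.of_core {V H : Subgroup G} (hV : Cfsg.IsElementaryAbelian p V)
    (hHV : H ≤ Subgroup.normalizer (V : Set G)) (hf : H ⊓ Subgroup.centralizer (V : Set G) = ⊥)
    (hS1 : Subgroup.centralizer (Cfsg.pPrimeCore p ↥H : Set ↥H) ≤ Cfsg.pPrimeCore p ↥H) :
    FFSetup p V H ((Cfsg.pPrimeCore p ↥H).map H.subtype) := by
  haveI : (Cfsg.pPrimeCore p ↥H).Normal := CfsgLib.Solvable.pPrimeCore_normal p ↥H
  refine ⟨hV, hHV, hf, Subgroup.map_subtype_le _, ?_, ?_, ?_⟩
  · intro h hh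
    have := Subgroup.le_normalizer_map (H := Cfsg.pPrimeCore p ↥H) H.subtype
    refine this ⟨⟨h, hh⟩, ?_, rfl⟩
    rw [Subgroup.normalizer_eq_top]
    trivial
  · rw [Subgroup.card_map_of_injective H.subtype_injective]
    exact CfsgLib.Solvable.pPrimeCore_card_coprime p ↥H
  · intro h hh
    refine ⟨⟨h, hh.1⟩, hS1 fun q hq => Subtype.ext ?_, rfl⟩
    exact hh.2 _ (Subgroup.mem_map_of_mem H.subtype hq)

end CfsgLib.PLocal
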