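import Cfsg.Agent.Lib.PLocal.FFBasic
import Cfsg.Agent.Lib.PLocal.FFCoord

/-! Two transvection groups generating `SL(2, p)`. -/

set_option autoImplicit false

open scoped commutatorElement MatrixGroups

namespace CfsgLib.PLocal

variable {G : Type*} [Group G] {p : ℕ}

theorem commutator_sup_of_le_normalizer {V A B : Subgroup G} (hA : A ≤ Subgroup.normalizer (V : Set G))
    (hB : B ≤ Subgroup.normalizer (V : Set G)) : ⁅V, A ⊔ B⁆ = ⁅V, A⁆ ⊔ ⁅V, B⁆ := by
  refine le_antisymm ?_ (sup_le (Subgroup.commutator_mono le_rfl le_sup_left)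
    (Subgroup.commutator_mono le_rfl le_sup_right))
  set U := ⁅V, A⁆ ⊔ ⁅V, B⁆ with hU
  have hUV : U ≤ V := sup_le (commutator_le_of_le_normalizer hA) (commutator_le_of_le_normalizer hB)
  rw [Subgroup.commutator_le]
  intro v hv e he
  have hkey : e ∈ Subgroup.normalizer (V : Set G) ∧ ∀ v ∈ V, ⁅v, e⁆ ∈ U := by
    rw [Subgroup.sup_eq_closure] at he
    induction he using Subgroup.closure_induction with
    | mem x hx =>
      rcases hx with hx | hx
      · exact ⟨hA hx, fun v hv => Subgroup.mem_sup_left (Subgroup.commutator_mem_commutator hv hx)⟩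
      · exact ⟨hB hx, fun v hv => Subgroup.mem_sup_right (Subgroup.commutator_mem_commutator hv hx)⟩
    | one => exact ⟨one_mem _, fun v _ => by rw [commutatorElement_one_right]; exact one_mem _⟩
    | mul x y _ _ ihx ihy =>
      refine ⟨mul_mem ihx.1 ihy.1, fun v hv => ?_⟩
      have hfix : ∀ u ∈ U, x * u * x⁻¹ ∈ U := by
        intro u hu
        have h1 := U.mul_mem (U.inv_mem (ihx.2 u (hUV hu))) hu
        rwa [commutatorElement_inv, commElt_eq_conj] at h1
      have e1 : ⁅v, x * y⁆ = ⁅v, x⁆ * (x * ⁅v, y⁆ * x⁻¹) := by simp only [commutatorElement_def]; group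
      rw [e1]
      exact U.mul_mem (ihx.2 v hv) (hfix _ (ihy.2 v hv))
    | inv x _ ih =>
      refine ⟨inv_mem ih.1, fun v hv => ?_⟩
      have hv' : x⁻¹ * v * x ∈ V := by simpa using (Subgroup.mem_normalizer_iff.mp (inv_mem ih.1) v).mp hv
      have h1 := ih.2 _ hv'
      have h3 : ⁅v, x⁻¹⁆ = x⁻¹ * ⁅v, x⁆⁻¹ * x := by simp only [commutatorElement_def]; group
      -- `x⁻¹` maps `U` into itself, as `⁅u, x⁆ ∈ U` for `u ∈ V`
      rw [h3]
      have hw : x⁻¹ * ⁅v, x⁆⁻¹ * x ∈ V := by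
        simpa using (Subgroup.mem_normalizer_iff.mp (inv_mem ih.1) _).mp (hUV (U.inv_mem (ih.2 v hv)))
      have h4 := ih.2 _ hw
      have h5 : x⁻¹ * ⁅v, x⁆⁻¹ * x = ⁅x⁻¹ * ⁅v, x⁆⁻¹ * x, x⁆ * ⁅v, x⁆⁻¹ := by
        simp only [commutatorElement_def]; group
      rw [h5]
      exact U.mul_mem h4 (U.inv_mem (ih.2 v hv))
  exact hkey.2 v hv

theorem mem_centralizer_sup {A B : Subgroup G} {x : G}
    (ha : x ∈ Subgroup.centralizer (A : Set G)) (hb : x ∈ Subgroup.centralizer (B : Set G)) :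
    x ∈ Subgroup.centralizer ((A ⊔ B : Subgroup G) : Set G) := by
  have h : A ⊔ B ≤ Subgroup.centralizer ({x} : Set G) := sup_le
    (fun a h => Subgroup.mem_centralizer_singleton_iff.mpr (ha a h))
    (fun a h => Subgroup.mem_centralizer_singleton_iff.mpr (hb a h))
  intro y hy
  exact Subgroup.mem_centralizer_singleton_iff.mp (h hy)

/-- What two transvection groups generate when they are not in a `p`-group. -/
structure SLPair (p : ℕ) (V H Q A E : Subgroup G) : Prop where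
  le : E ≤ H
  leA : A ≤ E
  hp23 : p = 2 ∨ p = 3
  card : Nat.card ↥(⁅V, E⁆) = p ^ 2
  inf : ⁅V, E⁆ ⊓ (V ⊓ Subgroup.centralizer (E : Set G)) = ⊥
  sup : ⁅V, E⁆ ⊔ (V ⊓ Subgroup.centralizer (E : Set G)) = V
  faithful : E ⊓ Subgroup.centralizer ((⁅V, E⁆ : Subgroup G) : Set G) = ⊥
  iso : Nonempty (↥E ≃* SL(2, ZMod p))
  split : E ≤ (E ⊓ Q) ⊔ A
  two : p = 2 → IsPGroup 3 ↥(E ⊓ Q)
  three : p = 3 → IsPGroup 2 ↥(E ⊓ Q) ∧ ∃ g ∈ E ⊓ Q, ∃ h ∈ E ⊓ Q, g * h ≠ h * g
  noline : ∃ g ∈ E ⊓ Q, ∀ w ∈ ⁅V, E⁆, w ≠ 1 → ∀ n : ℕ, g * w * g⁻¹ ≠ w ^ n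

variable [Finite G] [hp : Fact p.Prime]

theorem eq_bot_or_le_of_card_prime {X Y : Subgroup G} (hX : Nat.card X = p) : X ⊓ Y = ⊥ ∨ X ≤ Y := by
  rcases (Nat.dvd_prime hp.out).mp (hX ▸ Subgroup.card_dvd_of_le (inf_le_left : X ⊓ Y ≤ X)) with h | h
  · exact Or.inl (Subgroup.card_eq_one.mp h)
  · exact Or.inr (inf_eq_left.mp (Subgroup.eq_of_le_of_card_ge inf_le_left (by rw [h, hX])))

theorem zpowers_eq_of_card_prime {X : Subgroup G} (hX : Nat.card X = p) {x : G} (hx : x ∈ X) (hx1 : x ≠ 1) :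
    Subgroup.zpowers x = X := by
  refine Subgroup.eq_of_le_of_card_ge (Subgroup.zpowers_le.mpr hx) ?_
  rcases eq_bot_or_le_of_card_prime (Y := Subgroup.zpowers x) hX with h | h
  · exact absurd (Subgroup.mem_bot.mp (h ▸ Subgroup.mem_inf.mpr ⟨hx, Subgroup.mem_zpowers x⟩)) hx1
  · exact Subgroup.card_le_of_le h

/-- `⁅a ^ n, v⁆ = ⁅a, v⁆ ^ n` when `a` fixes `⁅a, v⁆`. -/
theorem commElt_pow_left {a v : G} (h : Commute a ⁅a, v⁆) (n : ℕ) : ⁅a ^ n, v⁆ = ⁅a, v⁆ ^ n := by
  have h2 : a ^ n * v * (a ^ n)⁻¹ = ⁅a, v⁆ ^ n * v := by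
    induction n with
    | zero => simp
    | succ n ih =>
      calc a ^ (n + 1) * v * (a ^ (n + 1))⁻¹ = a * (a ^ n * v * (a ^ n)⁻¹) * a⁻¹ := by
            rw [pow_succ']; group
        _ = (a * ⁅a, v⁆ ^ n * a⁻¹) * (a * v * a⁻¹) := by rw [ih]; group
        _ = ⁅a, v⁆ ^ (n + 1) * v := by
            rw [(h.pow_right n).eq, mul_inv_cancel_right, ← commElt_eq_conj a v, ← mul_assoc, ← pow_succ]
  rw [commutatorElement_def, h2, mul_inv_cancel_right]

namespace FFSetup

variable {V H Q : Subgroup G} (S : FFSetup p V H Q)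
include S

theorem pair_plane {A B : Subgroup G} (hA : IsTransv p V H A) (hB : IsTransv p V H B)
    (hnp : ¬ IsPGroup p ↥(A ⊔ B)) :
    ¬ ⁅V, A⁆ ≤ Subgroup.centralizer (B : Set G) := by
  intro hle
  set E := A ⊔ B with hE
  have hAN := hA.le.trans S.hHV
  have hBN := hB.le.trans S.hHV
  have hWeq := commutator_sup_of_le_normalizer hAN hBN
  rw [← hE] at hWeq
  set W := ⁅V, E⁆ with hWdef
  have hWV : W ≤ V := commutator_le_of_le_normalizer (sup_le hAN hBN)
  have hW1 : ⁅V, A⁆ ≤ Subgroup.centralizer (E : Set G) := fun w hw =>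
    mem_centralizer_sup ((hA.quad S).1 hw).2 (hle hw)
  apply hnp
  intro e
  have heN : (e : G) ∈ Subgroup.normalizer (W : Set G) :=
    (Subgroup.normalizer_commutator_ge_right V E) e.2
  have hWA : ⁅W, A⁆ ≤ ⁅V, A⁆ := Subgroup.commutator_mono hWV le_rfl
  have hWB : ⁅W, B⁆ = ⊥ := by
    rw [Subgroup.commutator_eq_bot_iff_le_centralizer, hWeq]
    exact sup_le hle ((hB.quad S).1.trans inf_le_right)
  have hWE : ⁅W, E⁆ ≤ ⁅V, A⁆ := by
    rw [hE, commutator_sup_of_le_normalizer (le_sup_left.trans (Subgroup.normalizer_commutator_ge_right V E))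
      (le_sup_right.trans (Subgroup.normalizer_commutator_ge_right V E)), hWB, sup_bot_eq]
    exact hWA
  have h1 : (e : G) ^ p ∈ Subgroup.centralizer (W : Set G) := by
    refine pow_mem_centralizer_of_step (U := ⁅V, A⁆) (isEA_mono S.hV hWV) heN (fun u hu => ?_) fun w hw => ?_
    · exact le_centralizer_iff_conj.mp hW1 u hu _ e.2
    · have := hWE (Subgroup.commutator_mem_commutator hw e.2)
      rw [← commutatorElement_inv]
      exact (⁅V, A⁆).inv_mem this
  have h2 : ((e : G) ^ p) ^ p ∈ Subgroup.centralizer (V : Set G) := by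
    refine pow_mem_centralizer_of_step (U := W) S.hV
      (pow_mem (S.hHV (sup_le hA.le hB.le e.2)) p) (fun u hu => ?_) fun v hv => ?_
    · rw [← h1 u hu, mul_inv_cancel_right]
    · rw [← commutatorElement_inv]
      exact W.inv_mem (Subgroup.commutator_mem_commutator hv (E.pow_mem e.2 p))
  refine ⟨2, Subtype.ext ?_⟩
  rw [SubgroupClass.coe_pow, pow_two, pow_mul, Subgroup.coe_one, ← Subgroup.mem_bot, ← S.hf]
  exact ⟨H.pow_mem (H.pow_mem (sup_le hA.le hB.le e.2) p) p, h2⟩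

theorem pair_decomp {A B : Subgroup G} (hA : IsTransv p V H A) (hB : IsTransv p V H B)
    (hnp : ¬ IsPGroup p ↥(A ⊔ B)) :
    Nat.card ↥(⁅V, A ⊔ B⁆) = p ^ 2 ∧
      ⁅V, A ⊔ B⁆ ⊓ (V ⊓ Subgroup.centralizer ((A ⊔ B : Subgroup G) : Set G)) = ⊥ ∧
      ⁅V, A ⊔ B⁆ ⊔ (V ⊓ Subgroup.centralizer ((A ⊔ B : Subgroup G) : Set G)) = V ∧
      (A ⊔ B) ⊓ Subgroup.centralizer ((⁅V, A ⊔ B⁆ : Subgroup G) : Set G) = ⊥ := by
  have n1 : ¬ ⁅V, A⁆ ≤ Subgroup.centralizer (B : Set G) := S.pair_plane hA hB hnp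
  have n2 : ¬ ⁅V, B⁆ ≤ Subgroup.centralizer (A : Set G) := S.pair_plane hB hA (by rwa [sup_comm])
  set E := A ⊔ B with hE
  set W₁ := ⁅V, A⁆ with hW₁
  set W₂ := ⁅V, B⁆ with hW₂
  have hAN := hA.le.trans S.hHV
  have hBN := hB.le.trans S.hHV
  obtain ⟨q1, c1⟩ := hA.quad S
  obtain ⟨q2, c2⟩ := hB.quad S
  rw [← hW₁] at q1 c1
  rw [← hW₂] at q2 c2
  have hWeq : ⁅V, E⁆ = W₁ ⊔ W₂ := commutator_sup_of_le_normalizer hAN hBN
  have hW1B : W₁ ⊓ Subgroup.centralizer (B : Set G) = ⊥ := (eq_bot_or_le_of_card_prime c1).resolve_right n1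
  have hW2A : W₂ ⊓ Subgroup.centralizer (A : Set G) = ⊥ := (eq_bot_or_le_of_card_prime c2).resolve_right n2
  have hd : W₁ ⊓ W₂ = ⊥ := by
    rw [eq_bot_iff, ← hW1B]
    exact inf_le_inf_left _ (q2.trans inf_le_right)
  have hVc : V ≤ Subgroup.centralizer (V : Set G) := Subgroup.le_centralizer_iff_isMulCommutative.mpr S.hV.1
  have hW1V : W₁ ≤ V := q1.trans inf_le_left
  have hW2V : W₂ ≤ V := q2.trans inf_le_left
  have hc12 : W₁ ≤ Subgroup.centralizer (W₂ : Set G) :=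
    hW1V.trans (hVc.trans (Subgroup.centralizer_le hW2V))
  have hcardW : Nat.card ↥(W₁ ⊔ W₂) = p ^ 2 := by
    have h1 := card_mul_card_le_sup_inf W₁ W₂
    have h2 := card_sup_mul_card_inf_le (A := W₁) (B := W₂) hc12
    rw [hd, Subgroup.card_bot, mul_one, c1, c2] at h1 h2
    rw [pow_two]
    exact le_antisymm h2 h1
  have hinf : ⁅V, E⁆ ⊓ (V ⊓ Subgroup.centralizer (E : Set G)) = ⊥ := by
    rw [eq_bot_iff]
    intro w hw
    obtain ⟨hwW, -, hwE⟩ := hw
    have hwW' : w ∈ ((W₁ ⊔ W₂ : Subgroup G) : Set G) := hWeq ▸ hwW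
    rw [Subgroup.coe_mul_of_left_le_normalizer_right W₁ W₂
      (hc12.trans (Subgroup.centralizer_le_normalizer _))] at hwW'
    obtain ⟨w1, h1, w2, h2, rfl⟩ := hwW'
    have hA' : w1 * w2 ∈ Subgroup.centralizer (A : Set G) :=
      fun y hy => hwE y (Subgroup.mem_sup_left hy)
    have hB' : w1 * w2 ∈ Subgroup.centralizer (B : Set G) :=
      fun y hy => hwE y (Subgroup.mem_sup_right hy)
    have e2 : w2 = 1 := by
      rw [← Subgroup.mem_bot, ← hW2A]
      refine ⟨h2, ?_⟩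
      have h3 := Subgroup.mul_mem _ (Subgroup.inv_mem _ (q1 h1).2) hA'
      rwa [inv_mul_cancel_left] at h3
    show w1 * w2 ∈ _
    rw [e2, mul_one] at hB' ⊢
    rw [← hW1B]
    exact ⟨h1, hB'⟩
  have hsup : ⁅V, E⁆ ⊔ (V ⊓ Subgroup.centralizer (E : Set G)) = V := by
    set C := V ⊓ Subgroup.centralizer (E : Set G) with hC
    refine Subgroup.eq_of_le_of_card_ge
      (sup_le (commutator_le_of_le_normalizer (sup_le hAN hBN)) inf_le_left) ?_
    have hCle : (V ⊓ Subgroup.centralizer (A : Set G)) ⊓ (V ⊓ Subgroup.centralizer (B : Set G)) ≤ C :=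
      fun x hx => ⟨hx.1.1, mem_centralizer_sup hx.1.2 hx.2.2⟩
    have hidx : C.relIndex V ≤ p * p := by
      have h1 := Subgroup.relIndex_inf_le (H := V ⊓ Subgroup.centralizer (A : Set G))
        (K := V ⊓ Subgroup.centralizer (B : Set G)) (L := V)
      rw [hA.idx, hB.idx] at h1
      refine le_trans (Nat.le_of_dvd ?_ (Subgroup.relIndex_dvd_of_le_left V hCle)) h1
      exact Nat.pos_of_ne_zero (Subgroup.index_ne_zero_of_finite (H := Subgroup.subgroupOf _ V))
    have h2 := card_mul_card_le_sup_inf ⁅V, E⁆ C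
    rw [hinf, Subgroup.card_bot, mul_one, hWeq, hcardW] at h2
    rw [hWeq]
    refine le_trans ?_ h2
    rw [← Subgroup.relIndex_bot_left V, ← Subgroup.relIndex_mul_relIndex ⊥ C V bot_le inf_le_left,
      Subgroup.relIndex_bot_left, mul_comm, pow_two]
    exact Nat.mul_le_mul_right _ hidx
  refine ⟨hWeq ▸ hcardW, hinf, hsup, ?_⟩
  rw [eq_bot_iff]
  intro e he
  rw [Subgroup.mem_bot]
  refine S.eq_one_of_fixes (sup_le hA.le hB.le he.1) fun v hv => ?_
  have hle : ⁅V, E⁆ ⊔ (V ⊓ Subgroup.centralizer (E : Set G)) ≤ Subgroup.centralizer ({e} : Set G) :=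
    sup_le (fun w hw => Subgroup.mem_centralizer_singleton_iff.mpr (he.2 w hw))
      (fun w hw => Subgroup.mem_centralizer_singleton_iff.mpr (hw.2 e he.1).symm)
  rw [hsup] at hle
  rw [← Subgroup.mem_centralizer_singleton_iff.mp (hle hv), mul_inv_cancel_right]

/-- A transvection group and a conjugate under a non-centralizing element of `Q`. -/
theorem slPair {A : Subgroup G} (hA : IsTransv p V H A) {x : G} (hx : x ∈ Q)
    (hxA : x ∉ Subgroup.centralizer (A : Set G)) :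
    SLPair p V H Q A (A ⊔ A.map (MulAut.conj x).toMonoidHom) := by
  set B := A.map (MulAut.conj x).toMonoidHom with hBdef
  have hxN : x ∈ Subgroup.normalizer (V : Set G) := S.hHV (S.hQH hx)
  have hB : IsTransv p V H B := by
    refine ⟨?_, ?_, ?_⟩
    · rintro _ ⟨a, ha, rfl⟩
      exact H.mul_mem (H.mul_mem (S.hQH hx) (hA.le ha)) (H.inv_mem (S.hQH hx))
    · rw [hBdef, Subgroup.card_map_of_injective (MulAut.conj x).injective, hA.card]
    · have hcent : (Subgroup.centralizer (A : Set G)).map (MulAut.conj x).toMonoidHom =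
          Subgroup.centralizer (B : Set G) := by
        ext y
        constructor
        · rintro ⟨c, hc, rfl⟩ _ ⟨a, ha, rfl⟩
          rw [← map_mul, ← map_mul, hc a ha]
        · intro hy
          refine ⟨(MulAut.conj x).symm y, fun a ha => (MulAut.conj x).injective ?_,
            (MulAut.conj x).apply_symm_apply y⟩
          rw [map_mul, map_mul, MulEquiv.apply_symm_apply]
          exact hy _ ⟨a, ha, rfl⟩
      have hmap : V ⊓ Subgroup.centralizer (B : Set G) =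
          (V ⊓ Subgroup.centralizer (A : Set G)).map (MulAut.conj x).toMonoidHom := by
        rw [Subgroup.map_inf V _ _ (MulAut.conj x).injective, map_conj_eq_of_mem_normalizer hxN, hcent]
      rw [hmap]
      conv_lhs => arg 2; rw [← map_conj_eq_of_mem_normalizer hxN]
      rw [Subgroup.relIndex_map_map_of_injective _ _ (MulAut.conj x).injective]
      exact hA.idx
  set E := A ⊔ B with hE
  have hsplit : E ≤ (E ⊓ Q) ⊔ A := by
    have hle : E ≤ Q ⊔ A := sup_le le_sup_right (by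
      rintro _ ⟨a, ha, rfl⟩
      exact mul_mem (mul_mem (Subgroup.mem_sup_left hx) (Subgroup.mem_sup_right ha))
        (inv_mem (Subgroup.mem_sup_left hx)))
    intro e he
    have h1 : e ∈ ((A ⊔ Q : Subgroup G) : Set G) := by rw [sup_comm]; exact hle he
    rw [Subgroup.coe_mul_of_left_le_normalizer_right A Q (hA.le.trans S.hHQ)] at h1
    obtain ⟨a, ha, q, hq, rfl⟩ := h1
    have haE : a ∈ E := Subgroup.mem_sup_left ha
    have hqE : q ∈ E := by
      have := E.mul_mem (E.inv_mem haE) he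
      rwa [inv_mul_cancel_left] at this
    exact mul_mem (Subgroup.mem_sup_right ha) (Subgroup.mem_sup_left ⟨hqE, hq⟩)
  have hnp : ¬ IsPGroup p E := by
    intro hEp
    have hEA : E = A := le_antisymm (by rw [S.inf_eq_bot hEp, bot_sup_eq] at hsplit; exact hsplit) le_sup_left
    apply hxA
    intro a ha
    have hmem : x * a * x⁻¹ ∈ A := hEA ▸ (Subgroup.mem_sup_right ⟨a, ha, rfl⟩ : x * a * x⁻¹ ∈ E)
    have h1 : ⁅x, a⁆ ∈ A ⊓ Q := by
      refine ⟨A.mul_mem hmem (A.inv_mem ha), ?_⟩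
      have h2 : a * x⁻¹ * a⁻¹ ∈ Q :=
        (Subgroup.mem_normalizer_iff.mp (S.hHQ (hA.le ha)) _).mp (inv_mem hx)
      rw [show ⁅x, a⁆ = x * (a * x⁻¹ * a⁻¹) by rw [commutatorElement_def]; group]
      exact mul_mem hx h2
    rw [S.inf_eq_bot (hA.isPGroup S), Subgroup.mem_bot, commutatorElement_eq_one_iff_mul_comm] at h1
    exact h1.symm
  obtain ⟨hcard, hinf, hsup, hfaith⟩ := S.pair_decomp hA hB hnp
  -- generators
  obtain ⟨q1, c1⟩ := hA.quad S
  obtain ⟨q2, c2⟩ := hB.quad S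
  have n1 : ¬ ⁅V, A⁆ ≤ Subgroup.centralizer (B : Set G) := S.pair_plane hA hB hnp
  have n2 : ¬ ⁅V, B⁆ ≤ Subgroup.centralizer (A : Set G) := S.pair_plane hB hA (by rwa [sup_comm])
  haveI : IsCyclic A := isCyclic_of_prime_card hA.card
  obtain ⟨a, ha⟩ := (Subgroup.isCyclic_iff_exists_zpowers_eq_top A).mp inferInstance
  haveI : IsCyclic B := isCyclic_of_prime_card hB.card
  obtain ⟨b₀, hb₀⟩ := (Subgroup.isCyclic_iff_exists_zpowers_eq_top B).mp inferInstance
  have haA : a ∈ A := ha ▸ Subgroup.mem_zpowers a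
  have hbB : b₀ ∈ B := hb₀ ▸ Subgroup.mem_zpowers b₀
  haveI : Nontrivial ↥(⁅V, B⁆) := Finite.one_lt_card_iff_nontrivial.mp (c2.symm ▸ hp.out.one_lt)
  obtain ⟨u', hu'1⟩ := exists_ne (1 : ↥(⁅V, B⁆))
  have hu'B : (u' : G) ∈ ⁅V, B⁆ := u'.2
  have hu'z : Subgroup.zpowers (u' : G) = ⁅V, B⁆ :=
    zpowers_eq_of_card_prime c2 hu'B (fun h => hu'1 (Subtype.ext h))
  set u := ⁅a, (u' : G)⁆ with hu
  have huA : u ∈ ⁅V, A⁆ := by
    rw [Subgroup.commutator_comm]
    exact Subgroup.commutator_mem_commutator haA ((q2 hu'B).1)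
  have hu1 : u ≠ 1 := by
    intro h
    apply n2
    rw [← hu'z, Subgroup.zpowers_le, ← ha, Subgroup.zpowers_eq_closure, Subgroup.centralizer_closure,
      Subgroup.mem_centralizer_singleton_iff]
    exact (commutatorElement_eq_one_iff_mul_comm.mp h).symm
  have huz : Subgroup.zpowers u = ⁅V, A⁆ := zpowers_eq_of_card_prime c1 huA hu1
  set d₀ := ⁅b₀, u⁆ with hd₀
  have hd₀B : d₀ ∈ ⁅V, B⁆ := by
    rw [Subgroup.commutator_comm]
    exact Subgroup.commutator_mem_commutator hbB ((q1 huA).1)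
  have hd₀1 : d₀ ≠ 1 := by
    intro h
    apply n1
    rw [← huz, Subgroup.zpowers_le, ← hb₀, Subgroup.zpowers_eq_closure, Subgroup.centralizer_closure,
      Subgroup.mem_centralizer_singleton_iff]
    exact (commutatorElement_eq_one_iff_mul_comm.mp h).symm
  obtain ⟨k, hk⟩ : ∃ k : ℕ, d₀ ^ k = u' := (isOfFinOrder_of_finite d₀).mem_powers_iff_mem_zpowers.mpr
    ((zpowers_eq_of_card_prime c2 hd₀B hd₀1).symm ▸ hu'B)
  set b := b₀ ^ k with hb
  have hbu : ⁅b, u⁆ = u' := by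
    rw [hb, commElt_pow_left ((q2 hd₀B).2 b₀ hbB) k]
    exact hk
  have hbB' : b ∈ B := B.pow_mem hbB k
  have hb1 : b ≠ 1 := fun h => hu'1 (Subtype.ext (by rw [← hbu, h, commutatorElement_one_left]; rfl))
  have hau : a * u * a⁻¹ = u := le_centralizer_iff_conj.mp (q1.trans inf_le_right) u huA a haA
  have hau' : a * u' * a⁻¹ = u * u' := (commElt_eq_conj a _).symm
  have hbu1 : b * u * b⁻¹ = u * u' := by
    rw [← commElt_eq_conj b u, hbu]
    exact (commute_of_mem_comm S.hV.1 (q2 hu'B).1 (q1 huA).1).eq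
  have hbu' : b * u' * b⁻¹ = u' := le_centralizer_iff_conj.mp (q2.trans inf_le_right) _ hu'B b hbB'
  have hgenE : E = Subgroup.closure {a, b} := by
    have hz : Subgroup.zpowers b = B := zpowers_eq_of_card_prime hB.card hbB' hb1
    rw [hE, ← ha, ← hz, Subgroup.zpowers_eq_closure, Subgroup.zpowers_eq_closure, ← Subgroup.closure_union,
      Set.singleton_union]
  have hWeq : ⁅V, E⁆ = ⁅V, A⁆ ⊔ ⁅V, B⁆ :=
    commutator_sup_of_le_normalizer (hA.le.trans S.hHV) (hB.le.trans S.hHV)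
  have hWV : ⁅V, E⁆ ≤ V := commutator_le_of_le_normalizer ((sup_le hA.le hB.le).trans S.hHV)
  obtain ⟨φ, hφa, hφw⟩ := exists_sl2_coordinates (isEA_mono S.hV hWV) hcard
    (Subgroup.normalizer_commutator_ge_right V E) hfaith
    (hWeq ▸ Subgroup.mem_sup_left huA) (hWeq ▸ Subgroup.mem_sup_right hu'B)
    (by rw [hWeq, huz, hu'z]) hgenE hau hau' hbu1 hbu'
  have haE : a ∈ E := Subgroup.mem_sup_left haA
  -- the `p'`-elements of `E` lie in `Q`
  set D := (E ⊓ Q).subgroupOf E with hD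
  have hDn : D.Normal := by
    refine (Subgroup.normal_subgroupOf_iff_le_normalizer inf_le_left).mpr ?_
    intro e he
    exact Subgroup.inf_normalizer_le_normalizer_inf
      ⟨Subgroup.le_normalizer he, S.hHQ (sup_le hA.le hB.le he)⟩
  have hmod : ∀ e : E, ∃ i : ℕ, (QuotientGroup.mk e : E ⧸ D) = (QuotientGroup.mk ⟨a, haE⟩ : E ⧸ D) ^ i := by
    intro e
    have h1 : (e : G) ∈ ((A ⊔ (E ⊓ Q) : Subgroup G) : Set G) := by rw [sup_comm]; exact hsplit e.2
    rw [Subgroup.coe_mul_of_left_le_normalizer_right A (E ⊓ Q) (fun y hy =>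
      Subgroup.inf_normalizer_le_normalizer_inf
        ⟨Subgroup.le_normalizer (Subgroup.mem_sup_left hy), S.hHQ (hA.le hy)⟩)] at h1
    obtain ⟨y, hy, q, hq, he⟩ := h1
    obtain ⟨i, hi⟩ : ∃ i : ℕ, a ^ i = y :=
      (isOfFinOrder_of_finite a).mem_powers_iff_mem_zpowers.mpr (ha ▸ hy)
    refine ⟨i, ?_⟩
    rw [← QuotientGroup.mk_pow, eq_comm, QuotientGroup.eq, hD, Subgroup.mem_subgroupOf]
    rw [Subgroup.coe_mul, Subgroup.coe_inv, Subgroup.coe_pow, ← he, ← hi, inv_mul_cancel_left]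
    exact hq
  have hap : (⟨a, haE⟩ : E) ^ p = 1 := by
    apply Subtype.ext
    have : (⟨a, haA⟩ : A) ^ Nat.card A = 1 := pow_card_eq_one'
    rw [hA.card] at this
    have h' := congrArg Subtype.val this
    simpa using h'
  have hcoprime : ∀ e : E, ∀ m : ℕ, e ^ m = 1 → m.Coprime p → (e : G) ∈ E ⊓ Q := by
    intro e m hm hcop
    have hep : (QuotientGroup.mk e : E ⧸ D) ^ p = 1 := by
      obtain ⟨i, hi⟩ := hmod e
      rw [hi, ← pow_mul, mul_comm, pow_mul, ← QuotientGroup.mk_pow, hap, QuotientGroup.mk_one, one_pow]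
    have hem : (QuotientGroup.mk e : E ⧸ D) ^ m = 1 := by rw [← QuotientGroup.mk_pow, hm, QuotientGroup.mk_one]
    have h1 : (QuotientGroup.mk e : E ⧸ D) = 1 := orderOf_eq_one_iff.mp
      (Nat.eq_one_of_dvd_coprimes hcop (orderOf_dvd_of_pow_eq_one hem) (orderOf_dvd_of_pow_eq_one hep))
    exact Subgroup.mem_subgroupOf.mp ((QuotientGroup.eq_one_iff e).mp h1)
  have hp23 : p = 2 ∨ p = 3 := by
    by_contra hne
    push Not at hne
    have h5 : 5 ≤ p := by
      rcases Nat.lt_or_ge p 5 with h | h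
      · exfalso
        have h2 := hp.out.two_le
        interval_cases p
        · exact hne.1 rfl
        · exact hne.2 rfl
        · exact absurd hp.out (by norm_num)
      · exact h
    have h1 := slU_one_mem_commutator (p := p) h5
    have hcomm : _root_.commutator ↥E ≤ D := by
      rw [commutator_def, Subgroup.commutator_le]
      intro e _ f _
      rw [← QuotientGroup.eq_one_iff]
      show ((QuotientGroup.mk' D) ⁅e, f⁆) = 1
      rw [map_commutatorElement, commutatorElement_eq_one_iff_mul_comm]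
      obtain ⟨i, hi⟩ := hmod e
      obtain ⟨j, hj⟩ := hmod f
      show (QuotientGroup.mk e : E ⧸ D) * QuotientGroup.mk f = QuotientGroup.mk f * QuotientGroup.mk e
      rw [hi, hj, ← pow_add, ← pow_add, add_comm]
    have h2 : (⟨a, haE⟩ : E) ∈ D := by
      apply hcomm
      have hmap : (_root_.commutator ↥E).map φ.toMonoidHom = _root_.commutator SL(2, ZMod p) := by
        rw [commutator_def, Subgroup.map_commutator, Subgroup.map_top_of_surjective _ φ.surjective,
          ← commutator_def]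
      rw [← hmap] at h1
      obtain ⟨e, he, hea⟩ := h1
      have : e = ⟨a, haE⟩ := φ.injective (hea.trans (hφa ⟨a, haE⟩ rfl).symm)
      rwa [this] at he
    have h3 : a ∈ A ⊓ Q := ⟨haA, (Subgroup.mem_subgroupOf.mp h2).2⟩
    rw [S.inf_eq_bot (hA.isPGroup S), Subgroup.mem_bot] at h3
    exact hu1 (by rw [hu, h3, commutatorElement_one_left])
  have hDcard : Nat.card ↥(E ⊓ Q) ∣ p * (p ^ 2 - 1) := by
    rw [← card_sl2_prime (p := p), ← Nat.card_congr φ.toEquiv]
    exact Subgroup.card_dvd_of_le inf_le_left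
  have hDcop : (Nat.card ↥(E ⊓ Q)).Coprime p :=
    S.hcop.coprime_dvd_left (Subgroup.card_dvd_of_le inf_le_right)
  have hDcard' : Nat.card ↥(E ⊓ Q) ∣ p ^ 2 - 1 := hDcop.dvd_of_dvd_mul_left hDcard
  refine ⟨sup_le hA.le hB.le, le_sup_left, hp23, hcard, hinf, hsup, hfaith, ⟨φ⟩, hsplit, ?_, ?_, ?_⟩
  · rintro rfl
    obtain ⟨n, -, hn⟩ := (Nat.dvd_prime_pow Nat.prime_three (m := 1)).mp hDcard'
    exact IsPGroup.of_card hn
  · rintro rfl
    obtain ⟨n, -, hn⟩ := (Nat.dvd_prime_pow Nat.prime_two (m := 3)).mp hDcard'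
    refine ⟨IsPGroup.of_card hn, ?_⟩
    obtain ⟨g, h, hg4, hh4, hne, -⟩ := exists_noline_three
    refine ⟨_, hcoprime (φ.symm g) 4 (by rw [← map_pow, hg4, map_one]) (by norm_num),
      _, hcoprime (φ.symm h) 4 (by rw [← map_pow, hh4, map_one]) (by norm_num), fun he => hne ?_⟩
    apply φ.symm.injective
    rw [map_mul, map_mul]
    exact Subtype.ext he
  · rcases hp23 with rfl | rfl
    · obtain ⟨g, hg3, hline⟩ := exists_noline_two
      refine ⟨_, hcoprime (φ.symm g) 3 (by rw [← map_pow, hg3, map_one]) (by norm_num), ?_⟩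
      intro w hw hw1 n hn
      obtain ⟨v, hv0, hv⟩ := hφw (φ.symm g) w hw hw1 n hn
      rw [MulEquiv.apply_symm_apply] at hv
      exact hline v _ hv0 hv
    · obtain ⟨g, h, hg4, -, -, hline⟩ := exists_noline_three
      refine ⟨_, hcoprime (φ.symm g) 4 (by rw [← map_pow, hg4, map_one]) (by norm_num), ?_⟩
      intro w hw hw1 n hn
      obtain ⟨v, hv0, hv⟩ := hφw (φ.symm g) w hw hw1 n hn
      rw [MulEquiv.apply_symm_apply] at hv
      exact hline v _ hv0 hv

end FFSetup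

end CfsgLib.PLocal
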