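import Cfsg.Agent.Lib.PLocal.FFStruct
import Mathlib.Data.Fin.Tuple.Basic
import Mathlib.Order.SupIndep

/-! The groups `[Q, A] A` and their product. -/

set_option autoImplicit false

open scoped commutatorElement MatrixGroups

namespace CfsgLib.PLocal

variable {G : Type*} [Group G] [Finite G] {p : ℕ} [hp : Fact p.Prime]

theorem map_conj_le_normalizer_iff {X : Subgroup G} {g : G} :
    g ∈ Subgroup.normalizer (X : Set G) ↔ X.map (MulAut.conj g).toMonoidHom = X :=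
  ⟨map_conj_eq_of_mem_normalizer, mem_normalizer_of_map_conj_eq⟩

theorem commutator_map_conj {V A : Subgroup G} {g : G} (hg : g ∈ Subgroup.normalizer (V : Set G)) :
    ⁅V, A.map (MulAut.conj g).toMonoidHom⁆ = (⁅V, A⁆).map (MulAut.conj g).toMonoidHom := by
  rw [Subgroup.map_commutator, map_conj_eq_of_mem_normalizer hg]

namespace FFSetup

variable {V H Q : Subgroup G} (S : FFSetup p V H Q)
include S

theorem mem_sup_mul {X Y : Subgroup G} (hX : X ≤ V) (hY : Y ≤ V) {v : G} (hv : v ∈ X ⊔ Y) :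
    ∃ x ∈ X, ∃ y ∈ Y, v = x * y := by
  have hv' : v ∈ ((X ⊔ Y : Subgroup G) : Set G) := hv
  rw [Subgroup.coe_mul_of_left_le_normalizer_right X Y (fun u hu =>
    Subgroup.centralizer_le_normalizer _ (Subgroup.centralizer_le hY
      (Subgroup.le_centralizer_iff_isMulCommutative.mpr S.hV.1 (hX hu))))] at hv'
  obtain ⟨x, hx, y, hy, rfl⟩ := hv'
  exact ⟨x, hx, y, hy, rfl⟩

theorem line_facts {A E : Subgroup G} (hA : IsTransv p V H A) (P : SLPair p V H Q A E) {w : G}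
    (hw : w ∈ ⁅V, E⁆) (hwl : w ∉ ⁅V, A⁆) :
    ⁅V, E⁆ ≤ ⁅V, A⁆ ⊔ Subgroup.zpowers w ∧ ∀ d ∈ ⁅V, A⁆, ∃ a ∈ A, a * w * a⁻¹ = d * w := by
  obtain ⟨qA, cA⟩ := hA.quad S
  have hlW : ⁅V, A⁆ ≤ ⁅V, E⁆ := Subgroup.commutator_mono le_rfl P.leA
  have hWV : ⁅V, E⁆ ≤ V := commutator_le_of_le_normalizer (P.le.trans S.hHV)
  have hsup : ⁅V, A⁆ ⊔ Subgroup.zpowers w = ⁅V, E⁆ := by
    refine Subgroup.eq_of_le_of_card_ge (sup_le hlW (Subgroup.zpowers_le.mpr hw)) ?_
    set X := ⁅V, A⁆ ⊔ Subgroup.zpowers w with hX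
    have hXV : X ≤ V := sup_le (hlW.trans hWV) (Subgroup.zpowers_le.mpr (hWV hw))
    obtain ⟨n, hn⟩ := IsPGroup.iff_card.mp (isEA_isPGroup (isEA_mono S.hV hXV))
    have hlt : Nat.card ↥(⁅V, A⁆) < Nat.card X := by
      by_contra h
      exact hwl (Subgroup.eq_of_le_of_card_ge (le_sup_left : ⁅V, A⁆ ≤ X) (not_lt.mp h) ▸
        Subgroup.mem_sup_right (Subgroup.mem_zpowers w))
    rw [cA, hn] at hlt
    rw [P.card, hn]
    refine Nat.pow_le_pow_right hp.out.pos ?_
    by_contra h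
    have : n ≤ 1 := by omega
    have := Nat.pow_le_pow_right hp.out.pos this
    rw [pow_one] at this
    omega
  refine ⟨hsup.ge, fun d hd => ?_⟩
  obtain ⟨a, haA, hne⟩ : ∃ a ∈ A, ⁅a, w⁆ ≠ 1 := by
    by_contra hno
    push Not at hno
    have hwA : w ∈ Subgroup.centralizer (A : Set G) := fun a ha =>
      commutatorElement_eq_one_iff_mul_comm.mp (hno a ha)
    have hle : A ≤ E ⊓ Subgroup.centralizer ((⁅V, E⁆ : Subgroup G) : Set G) := by
      refine le_inf P.leA (Subgroup.le_centralizer_iff.mp ?_)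
      rw [← hsup]
      exact sup_le (qA.trans inf_le_right) (Subgroup.zpowers_le.mpr hwA)
    rw [P.faithful] at hle
    have h1 := hA.card
    rw [le_bot_iff.mp hle, Subgroup.card_bot] at h1
    exact hp.out.one_lt.ne h1
  have hmem : ⁅a, w⁆ ∈ ⁅V, A⁆ := by
    rw [Subgroup.commutator_comm]
    exact Subgroup.commutator_mem_commutator haA (hWV hw)
  obtain ⟨n, hn⟩ : ∃ n : ℕ, ⁅a, w⁆ ^ n = d := (isOfFinOrder_of_finite _).mem_powers_iff_mem_zpowers.mpr
    ((zpowers_eq_of_card_prime cA hmem hne).symm ▸ hd)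
  refine ⟨a ^ n, A.pow_mem haA n, ?_⟩
  rw [← commElt_eq_conj, commElt_pow_left ((qA hmem).2 a haA), hn]

theorem exists_conj_line {A E : Subgroup G} (hA : IsTransv p V H A) (P : SLPair p V H Q A E) {w : G}
    (hw : w ∈ ⁅V, E⁆) (hw1 : w ≠ 1) :
    ∃ e ∈ E, e⁻¹ * w * e ∈ ⁅V, A⁆ := by
  by_cases hwl : w ∈ ⁅V, A⁆
  · exact ⟨1, one_mem _, by simpa using hwl⟩
  obtain ⟨qA, cA⟩ := hA.quad S
  have hlW : ⁅V, A⁆ ≤ ⁅V, E⁆ := Subgroup.commutator_mono le_rfl P.leA
  have hWV : ⁅V, E⁆ ≤ V := commutator_le_of_le_normalizer (P.le.trans S.hHV)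
  haveI : Nontrivial ↥(⁅V, A⁆) := Finite.one_lt_card_iff_nontrivial.mp (cA.symm ▸ hp.out.one_lt)
  obtain ⟨⟨u, hu⟩, hu1'⟩ := exists_ne (1 : ↥(⁅V, A⁆))
  have hu1 : u ≠ 1 := fun h => hu1' (Subtype.ext h)
  obtain ⟨g, hg, hgline⟩ := P.noline
  set m₀ := g * u * g⁻¹ with hm₀
  have hm0W : m₀ ∈ ⁅V, E⁆ :=
    (Subgroup.mem_normalizer_iff.mp (Subgroup.normalizer_commutator_ge_right V E hg.1) u).mp (hlW hu)
  have hm0l : m₀ ∉ ⁅V, A⁆ := fun h => by
    obtain ⟨n, hn⟩ : ∃ n : ℕ, u ^ n = m₀ := (isOfFinOrder_of_finite _).mem_powers_iff_mem_zpowers.mpr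
      ((zpowers_eq_of_card_prime cA hu hu1).symm ▸ h)
    exact hgline u (hlW hu) hu1 n hn.symm
  obtain ⟨d, hd, y, hy, rfl⟩ := S.mem_sup_mul (hlW.trans hWV) (Subgroup.zpowers_le.mpr (hWV hm0W))
    ((S.line_facts hA P hm0W hm0l).1 hw)
  obtain ⟨i, rfl⟩ := Subgroup.mem_zpowers_iff.mp hy
  have hyl : m₀ ^ i ∉ ⁅V, A⁆ := fun h => hwl (Subgroup.mul_mem _ hd h)
  obtain ⟨a, ha, hae⟩ := (S.line_facts hA P (Subgroup.zpow_mem _ hm0W i) hyl).2 d hd
  refine ⟨a * g, E.mul_mem (P.leA ha) hg.1, ?_⟩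
  rw [← hae, show m₀ ^ i = g * u ^ i * g⁻¹ by rw [hm₀, conj_zpow]]
  have e : (a * g)⁻¹ * (a * (g * u ^ i * g⁻¹) * a⁻¹) * (a * g) = u ^ i := by group
  rw [e]
  exact Subgroup.zpow_mem _ hu i

/-- Transvection groups with line in the plane of `E`, fixing its complement, lie in `E`. -/
theorem transv_le {A E B : Subgroup G} (hA : IsTransv p V H A) (P : SLPair p V H Q A E)
    (hB : IsTransv p V H B) (hline : ⁅V, B⁆ ≤ ⁅V, E⁆)
    (hC : V ⊓ Subgroup.centralizer (E : Set G) ≤ Subgroup.centralizer (B : Set G)) : B ≤ E := by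
  obtain ⟨qA, cA⟩ := hA.quad S
  obtain ⟨qB, cB⟩ := hB.quad S
  haveI : Nontrivial ↥(⁅V, B⁆) := Finite.one_lt_card_iff_nontrivial.mp (cB.symm ▸ hp.out.one_lt)
  obtain ⟨⟨w, hw⟩, hw1'⟩ := exists_ne (1 : ↥(⁅V, B⁆))
  have hw1 : w ≠ 1 := fun h => hw1' (Subtype.ext h)
  obtain ⟨e, he, hel⟩ := S.exists_conj_line hA P (hline hw) hw1
  have heH : e⁻¹ ∈ H := H.inv_mem (P.le he)
  have heV : e⁻¹ ∈ Subgroup.normalizer (V : Set G) := S.hHV heH
  set B' := B.map (MulAut.conj e⁻¹).toMonoidHom with hB'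
  have hB'T : IsTransv p V H B' := hB.map_conj heH heV
  obtain ⟨qB', cB'⟩ := hB'T.quad S
  have hmem : e⁻¹ * w * e ∈ ⁅V, B'⁆ := by
    rw [hB', commutator_map_conj heV]
    exact ⟨w, hw, by simp [MulAut.conj_apply]⟩
  have hne : e⁻¹ * w * e ≠ 1 := by
    intro h
    apply hw1
    calc w = e * (e⁻¹ * w * e) * e⁻¹ := by group
      _ = 1 := by rw [h]; group
  have hleq : ⁅V, B'⁆ = ⁅V, A⁆ := by
    rw [← zpowers_eq_of_card_prime cB' hmem hne, ← zpowers_eq_of_card_prime cA hel hne]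
  have hC' : ∀ c ∈ V ⊓ Subgroup.centralizer (E : Set G), ∀ b ∈ B', b * c * b⁻¹ = c := by
    rintro c hc _ ⟨b, hb, rfl⟩
    have h1 : e * c = c * e := hc.2 e he
    have h2 : b * c = c * b := hC hc b hb
    show e⁻¹ * b * e⁻¹⁻¹ * c * (e⁻¹ * b * e⁻¹⁻¹)⁻¹ = c
    calc e⁻¹ * b * e⁻¹⁻¹ * c * (e⁻¹ * b * e⁻¹⁻¹)⁻¹ = e⁻¹ * b * (e * c) * e⁻¹ * b⁻¹ * e := by group
      _ = e⁻¹ * (b * c) * b⁻¹ * e := by rw [h1]; group
      _ = e⁻¹ * (c * e) := by rw [h2]; group
      _ = c := by rw [← h1, inv_mul_cancel_left]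
  -- `B' ≤ A`
  have hlt : ⁅V, A⁆ < ⁅V, E⁆ := by
    refine lt_of_le_of_ne (Subgroup.commutator_mono le_rfl P.leA) fun h => ?_
    have := P.card
    rw [← h, cA, pow_two] at this
    nlinarith [hp.out.one_lt]
  obtain ⟨w₀, hw0, hw0l⟩ := SetLike.exists_of_lt hlt
  have hWV : ⁅V, E⁆ ≤ V := commutator_le_of_le_normalizer (P.le.trans S.hHV)
  have hB'A : B' ≤ A := by
    intro b hb
    have hd : ⁅b, w₀⁆ ∈ ⁅V, A⁆ := by
      rw [← hleq, Subgroup.commutator_comm]
      exact Subgroup.commutator_mem_commutator hb (hWV hw0)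
    obtain ⟨hspan, htr⟩ := S.line_facts hA P hw0 hw0l
    obtain ⟨a, ha, hae⟩ := htr _ hd
    rw [commElt_eq_conj] at hae
    have key : ∀ v ∈ V, (a⁻¹ * b) * v * (a⁻¹ * b)⁻¹ = v := by
      have hfixset : ⁅V, E⁆ ⊔ (V ⊓ Subgroup.centralizer (E : Set G)) ≤
          Subgroup.centralizer ({a⁻¹ * b} : Set G) := by
        refine sup_le (hspan.trans (sup_le ?_ (Subgroup.zpowers_le.mpr ?_))) ?_
        · intro u hu
          rw [Subgroup.mem_centralizer_singleton_iff]
          have h1 : a * u = u * a := (qA hu).2 a ha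
          have h2 : b * u = u * b := (qB' (hleq ▸ hu)).2 b hb
          calc u * (a⁻¹ * b) = a⁻¹ * (a * u) * (a⁻¹ * b) := by group
            _ = a⁻¹ * b * u := by rw [h1, mul_assoc a⁻¹ b u, h2]; group
        · rw [Subgroup.mem_centralizer_singleton_iff]
          calc w₀ * (a⁻¹ * b) = a⁻¹ * (a * w₀ * a⁻¹) * b := by group
            _ = a⁻¹ * b * w₀ := by rw [hae]; group
        · intro c hc
          rw [Subgroup.mem_centralizer_singleton_iff]
          have h1 : a * c = c * a := hc.2 a (P.leA ha)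
          have h2 : b * c = c * b := mul_inv_eq_iff_eq_mul.mp (hC' c hc b hb)
          calc c * (a⁻¹ * b) = a⁻¹ * (a * c) * (a⁻¹ * b) := by group
            _ = a⁻¹ * b * c := by rw [h1, mul_assoc a⁻¹ b c, h2]; group
      rw [P.sup] at hfixset
      intro v hv
      rw [← Subgroup.mem_centralizer_singleton_iff.mp (hfixset hv), mul_inv_cancel_right]
    have := S.eq_one_of_fixes (H.mul_mem (H.inv_mem (hA.le ha)) (hB'T.le hb)) key
    rw [inv_mul_eq_one] at this
    exact this ▸ ha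
  intro b hb
  have h1 : e⁻¹ * b * e ∈ A := hB'A ⟨b, hb, by simp [MulAut.conj_apply]⟩
  have h2 := E.mul_mem (E.mul_mem he (P.leA h1)) (E.inv_mem he)
  rwa [show e * (e⁻¹ * b * e) * e⁻¹ = b by group] at h2

/-- The group `[Q, A] A` of a transvection group. -/
theorem transv_group {A : Subgroup G} (hA : IsTransv p V H A) :
    SLPair p V H Q A (⁅Q, A⁆ ⊔ A) ∧ (⁅Q, A⁆ ⊔ A) ⊓ Q = ⁅Q, A⁆ ∧
      ⁅V, ⁅Q, A⁆ ⊔ A⁆ = ⁅V, ⁅Q, A⁆⁆ ∧
      V ⊓ Subgroup.centralizer ((⁅Q, A⁆ ⊔ A : Subgroup G) : Set G) =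
        V ⊓ Subgroup.centralizer ((⁅Q, A⁆ : Subgroup G) : Set G) := by
  obtain ⟨x, hx, hxA, hWM, hCLA⟩ := S.plane_eq hA
  obtain ⟨hLQ, hAL, hQL⟩ := S.comm_le hA
  have P := S.slPair hA hx hxA
  set E₀ := A ⊔ A.map (MulAut.conj x).toMonoidHom
  set L := ⁅Q, A⁆ with hL
  have hE0 : E₀ ≤ L ⊔ A := by
    refine sup_le le_sup_right ?_
    rintro _ ⟨a, ha, rfl⟩
    show x * a * x⁻¹ ∈ L ⊔ A
    have h := Subgroup.mul_mem_sup (Subgroup.commutator_mem_commutator hx ha) ha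
    rwa [commutatorElement_def, inv_mul_cancel_right] at h
  have hcopV : (Nat.card L).Coprime (Nat.card V) := by
    obtain ⟨n, hn⟩ := IsPGroup.iff_card.mp (isEA_isPGroup S.hV)
    rw [hn]
    exact Nat.Coprime.pow_right n (S.hcop.coprime_dvd_left (Subgroup.card_dvd_of_le hLQ))
  have hLN : L ≤ Subgroup.normalizer (V : Set G) := hLQ.trans (S.hQH.trans S.hHV)
  haveI : IsMulCommutative V := S.hV.1
  haveI := (isEA_isPGroup S.hV).isNilpotent
  have hsupM : ⁅V, L⁆ ⊔ (V ⊓ Subgroup.centralizer (L : Set G)) = V :=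
    CfsgLib.Solvable.commutator_sup_centralizer hLN hcopV (Or.inr inferInstance)
  have hCle : V ⊓ Subgroup.centralizer (L : Set G) ≤ V ⊓ Subgroup.centralizer (E₀ : Set G) := fun c hc =>
    ⟨hc.1, Subgroup.centralizer_le hE0 (mem_centralizer_sup hc.2 (hCLA hc))⟩
  have hCeq : V ⊓ Subgroup.centralizer (E₀ : Set G) = V ⊓ Subgroup.centralizer (L : Set G) := by
    refine le_antisymm (fun c hc => ?_) hCle
    obtain ⟨m, hm, d, hd, rfl⟩ := S.mem_sup_mul (commutator_le_of_le_normalizer hLN) inf_le_left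
      (hsupM.symm ▸ hc.1 : c ∈ _)
    have h1 : m ∈ ⁅V, E₀⁆ ⊓ (V ⊓ Subgroup.centralizer (E₀ : Set G)) := by
      refine ⟨hWM.symm ▸ hm, ?_⟩
      have h2 := Subgroup.mul_mem _ hc (Subgroup.inv_mem _ (hCle hd))
      rwa [mul_inv_cancel_right] at h2
    rw [P.inf, Subgroup.mem_bot] at h1
    rwa [h1, one_mul]
  have hQN : ∀ y ∈ Q, y ∈ Subgroup.normalizer (V : Set G) := fun y hy => S.hHV (S.hQH hy)
  have hconj : ∀ y ∈ Q, A.map (MulAut.conj y).toMonoidHom ≤ E₀ := by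
    intro y hy
    refine S.transv_le hA P (hA.map_conj (S.hQH hy) (hQN y hy)) ?_ ?_
    · rw [commutator_map_conj (hQN y hy), hWM]
      have hle : ⁅V, A⁆ ≤ ⁅V, L⁆ := hWM ▸ Subgroup.commutator_mono le_rfl P.leA
      refine (Subgroup.map_mono hle).trans ?_
      exact (map_conj_eq_of_mem_normalizer
        (normalizer_inf_le_normalizer_commutator V L ⟨hQN y hy, hQL hy⟩)).le
    · rintro c hc _ ⟨a, ha, rfl⟩
      rw [hCeq] at hc
      have hy' : y⁻¹ ∈ Subgroup.normalizer (V : Set G) ⊓ Subgroup.normalizer (L : Set G) :=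
        ⟨Subgroup.inv_mem _ (hQN y hy), Subgroup.inv_mem _ (hQL hy)⟩
      have hc' : y⁻¹ * c * y ∈ V ⊓ Subgroup.centralizer (L : Set G) := by
        refine ⟨by simpa using (Subgroup.mem_normalizer_iff.mp hy'.1 c).mp hc.1, ?_⟩
        simpa using (Subgroup.mem_normalizer_iff.mp (mem_normalizer_centralizer_of_mem_normalizer hy'.2) c).mp hc.2
      have h1 : a * (y⁻¹ * c * y) = y⁻¹ * c * y * a := hCLA hc' a ha
      show y * a * y⁻¹ * c = c * (y * a * y⁻¹)
      calc y * a * y⁻¹ * c = y * (a * (y⁻¹ * c * y)) * y⁻¹ := by group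
        _ = c * (y * a * y⁻¹) := by rw [h1]; group
  have hLE : L ≤ E₀ := by
    rw [hL, Subgroup.commutator_le]
    intro y hy a ha
    rw [commutatorElement_def]
    exact E₀.mul_mem (hconj y hy ⟨a, ha, rfl⟩) (E₀.inv_mem (P.leA ha))
  have heq : L ⊔ A = E₀ := le_antisymm (sup_le hLE P.leA) hE0
  rw [heq]
  exact ⟨P, le_antisymm (S.pair_inf_le_comm hA hx) (le_inf hLE hLQ), hWM, hCeq⟩

/-- Two such groups coincide, or centralize each other and each other's plane. -/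
theorem transv_dichotomy {A B : Subgroup G} (hA : IsTransv p V H A) (hB : IsTransv p V H B) :
    ⁅Q, A⁆ ⊔ A = ⁅Q, B⁆ ⊔ B ∨
      (⁅Q, A⁆ ⊔ A ≤ Subgroup.centralizer ((⁅Q, B⁆ ⊔ B : Subgroup G) : Set G) ∧
        ⁅V, ⁅Q, A⁆ ⊔ A⁆ ≤ Subgroup.centralizer ((⁅Q, B⁆ ⊔ B : Subgroup G) : Set G) ∧
        ⁅V, ⁅Q, B⁆ ⊔ B⁆ ≤ Subgroup.centralizer ((⁅Q, A⁆ ⊔ A : Subgroup G) : Set G)) := by
  obtain ⟨PA, hIA, hWA, hCA⟩ := S.transv_group hA
  obtain ⟨PB, hIB, hWB, hCB⟩ := S.transv_group hB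
  obtain ⟨hLAQ, -, hQA⟩ := S.comm_le hA
  obtain ⟨hLBQ, -, hQB⟩ := S.comm_le hB
  set EA := ⁅Q, A⁆ ⊔ A with hEA
  set EB := ⁅Q, B⁆ ⊔ B with hEB
  set LA := ⁅Q, A⁆ with hLA
  set LB := ⁅Q, B⁆ with hLB
  have hQN : Q ≤ Subgroup.normalizer (V : Set G) := S.hQH.trans S.hHV
  have hQWA : Q ≤ Subgroup.normalizer ((⁅V, EA⁆ : Subgroup G) : Set G) := fun y hy => by
    rw [hWA]; exact normalizer_inf_le_normalizer_commutator V LA ⟨hQN hy, hQA hy⟩
  have hQWB : Q ≤ Subgroup.normalizer ((⁅V, EB⁆ : Subgroup G) : Set G) := fun y hy => by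
    rw [hWB]; exact normalizer_inf_le_normalizer_commutator V LB ⟨hQN hy, hQB hy⟩
  have hEAV : ⁅V, EA⁆ ≤ V := commutator_le_of_le_normalizer (PA.le.trans S.hHV)
  have hEBV : ⁅V, EB⁆ ≤ V := commutator_le_of_le_normalizer (PB.le.trans S.hHV)
  set U := ⁅V, EA⁆ ⊓ ⁅V, EB⁆ with hU
  have hUp : IsPGroup p U := isEA_isPGroup (isEA_mono S.hV (inf_le_left.trans hEAV))
  obtain ⟨n, hn⟩ := IsPGroup.iff_card.mp hUp
  have hn2 : n ≤ 2 := by
    have h := Nat.le_of_dvd Nat.card_pos (Subgroup.card_dvd_of_le (inf_le_left : U ≤ ⁅V, EA⁆))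
    rw [hn, PA.card] at h
    exact (Nat.pow_le_pow_iff_right hp.out.one_lt).mp h
  have hn1 : n ≠ 1 := by
    intro h1
    rw [h1, pow_one] at hn
    haveI : Nontrivial U := Finite.one_lt_card_iff_nontrivial.mp (hn.symm ▸ hp.out.one_lt)
    obtain ⟨⟨w, hw⟩, hw1'⟩ := exists_ne (1 : U)
    have hw1 : w ≠ 1 := fun h => hw1' (Subtype.ext h)
    obtain ⟨g, hg, hgl⟩ := PB.noline
    have hgU : g * w * g⁻¹ ∈ U :=
      ⟨(Subgroup.mem_normalizer_iff.mp (hQWA hg.2) w).mp hw.1,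
        (Subgroup.mem_normalizer_iff.mp (hQWB hg.2) w).mp hw.2⟩
    obtain ⟨i, hi⟩ : ∃ i : ℕ, w ^ i = g * w * g⁻¹ := (isOfFinOrder_of_finite _).mem_powers_iff_mem_zpowers.mpr
      ((zpowers_eq_of_card_prime hn hw hw1).symm ▸ hgU)
    exact hgl w hw.2 hw1 i hi.symm
  rcases Nat.lt_or_ge n 1 with h0 | h0
  · -- planes meet trivially
    right
    have hU1 : U = ⊥ := Subgroup.card_eq_one.mp (by rw [hn, show n = 0 by omega, pow_zero])
    have hAB : ⁅V, EA⁆ ≤ Subgroup.centralizer (EB : Set G) := by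
      have h1 : ⁅V, EA⁆ ≤ V ⊓ Subgroup.centralizer (LB : Set G) := by
        refine le_inf hEAV ?_
        rw [← Subgroup.commutator_eq_bot_iff_le_centralizer, eq_bot_iff, ← hU1]
        exact le_inf (commutator_le_of_le_normalizer (hLBQ.trans hQWA))
          (hWB ▸ Subgroup.commutator_mono hEAV le_rfl)
      rw [← hCB] at h1
      exact h1.trans inf_le_right
    have hBA : ⁅V, EB⁆ ≤ Subgroup.centralizer (EA : Set G) := by
      have h1 : ⁅V, EB⁆ ≤ V ⊓ Subgroup.centralizer (LA : Set G) := by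
        refine le_inf hEBV ?_
        rw [← Subgroup.commutator_eq_bot_iff_le_centralizer, eq_bot_iff, ← hU1]
        exact le_inf (hWA ▸ Subgroup.commutator_mono hEBV le_rfl)
          (commutator_le_of_le_normalizer (hLAQ.trans hQWB))
      rw [← hCA] at h1
      exact h1.trans inf_le_right
    refine ⟨?_, hAB, hBA⟩
    intro e he f hf
    have heH := PA.le he
    have hfH := PB.le hf
    have key : ∀ v ∈ V, (f⁻¹ * e⁻¹ * f * e) * v * (f⁻¹ * e⁻¹ * f * e)⁻¹ = v := by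
      intro v hv
      obtain ⟨w, hw, c, hc, rfl⟩ := S.mem_sup_mul hEBV inf_le_left
        (PB.sup.symm ▸ hv : v ∈ _)
      have hfixw : ∀ u ∈ ⁅V, EB⁆, e * u * e⁻¹ = u := fun u hu => by
        rw [hBA hu e he, mul_inv_cancel_right]
      have hfw : f * w * f⁻¹ ∈ ⁅V, EB⁆ :=
        (Subgroup.mem_normalizer_iff.mp (Subgroup.normalizer_commutator_ge_right V EB hf) w).mp hw
      have ew : (f⁻¹ * e⁻¹ * f * e) * w * (f⁻¹ * e⁻¹ * f * e)⁻¹ = w := by
        have e1 := hfixw w hw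
        have e2 := hfixw _ hfw
        calc (f⁻¹ * e⁻¹ * f * e) * w * (f⁻¹ * e⁻¹ * f * e)⁻¹
            = f⁻¹ * e⁻¹ * (f * (e * w * e⁻¹) * f⁻¹) * e * f := by group
          _ = f⁻¹ * e⁻¹ * (e * (f * w * f⁻¹) * e⁻¹) * e * f := by rw [e1, e2]
          _ = w := by group
      have hd : ⁅e, c⁆ ∈ ⁅V, EA⁆ := by
        rw [Subgroup.commutator_comm]
        exact Subgroup.commutator_mem_commutator he hc.1
      have ec : (f⁻¹ * e⁻¹ * f * e) * c * (f⁻¹ * e⁻¹ * f * e)⁻¹ = c := by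
        have e1 : f * c = c * f := hc.2 f hf
        have e2 : f * ⁅e, c⁆ = ⁅e, c⁆ * f := hAB hd f hf
        calc (f⁻¹ * e⁻¹ * f * e) * c * (f⁻¹ * e⁻¹ * f * e)⁻¹
            = f⁻¹ * e⁻¹ * (f * (⁅e, c⁆ * c) * f⁻¹) * e * f := by rw [commElt_eq_conj]; group
          _ = f⁻¹ * e⁻¹ * (⁅e, c⁆ * c) * e * f := by
              rw [← mul_assoc f ⁅e, c⁆ c, e2, mul_assoc ⁅e, c⁆ f c, e1]; group
          _ = f⁻¹ * c * f := by rw [commElt_eq_conj]; group
          _ = c := by rw [mul_assoc, ← e1, inv_mul_cancel_left]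
      calc (f⁻¹ * e⁻¹ * f * e) * (w * c) * (f⁻¹ * e⁻¹ * f * e)⁻¹
          = ((f⁻¹ * e⁻¹ * f * e) * w * (f⁻¹ * e⁻¹ * f * e)⁻¹) *
            ((f⁻¹ * e⁻¹ * f * e) * c * (f⁻¹ * e⁻¹ * f * e)⁻¹) := by group
        _ = w * c := by rw [ew, ec]
    have h1 := S.eq_one_of_fixes (H.mul_mem (H.mul_mem (H.mul_mem (H.inv_mem hfH) (H.inv_mem heH)) hfH) heH) key
    calc f * e = e * f * (f⁻¹ * e⁻¹ * f * e) := by group
      _ = e * f := by rw [h1, mul_one]
  · -- equal planes
    left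
    have hW : ⁅V, EA⁆ = ⁅V, EB⁆ := by
      have h2 : n = 2 := by omega
      rw [h2] at hn
      have e1 : U = ⁅V, EA⁆ := Subgroup.eq_of_le_of_card_ge inf_le_left (by rw [hn, PA.card])
      have e2 : U = ⁅V, EB⁆ := Subgroup.eq_of_le_of_card_ge inf_le_right (by rw [hn, PB.card])
      rw [← e1, e2]
    set L₂ := LA ⊔ LB with hL₂
    have hL2Q : L₂ ≤ Q := sup_le hLAQ hLBQ
    have hW2 : ⁅V, L₂⁆ = ⁅V, EA⁆ := by
      rw [hL₂, commutator_sup_of_le_normalizer (hLAQ.trans hQN) (hLBQ.trans hQN), ← hWA, ← hWB, ← hW, sup_idem]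
    have hcopV : (Nat.card L₂).Coprime (Nat.card V) := by
      obtain ⟨k, hk⟩ := IsPGroup.iff_card.mp (isEA_isPGroup S.hV)
      rw [hk]
      exact Nat.Coprime.pow_right k (S.hcop.coprime_dvd_left (Subgroup.card_dvd_of_le hL2Q))
    haveI : IsMulCommutative V := S.hV.1
    haveI := (isEA_isPGroup S.hV).isNilpotent
    have hdec := CfsgLib.Solvable.commutator_sup_centralizer (hL2Q.trans hQN) hcopV (Or.inr inferInstance)
    rw [hW2] at hdec
    have hC2A : V ⊓ Subgroup.centralizer (L₂ : Set G) ≤ V ⊓ Subgroup.centralizer (LA : Set G) :=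
      inf_le_inf_left _ (Subgroup.centralizer_le (le_sup_left : LA ≤ L₂))
    have hC2B : V ⊓ Subgroup.centralizer (L₂ : Set G) ≤ V ⊓ Subgroup.centralizer (LB : Set G) :=
      inf_le_inf_left _ (Subgroup.centralizer_le (le_sup_right : LB ≤ L₂))
    have hCsub : ∀ {E : Subgroup G} {L : Subgroup G}, V ⊓ Subgroup.centralizer (E : Set G) =
        V ⊓ Subgroup.centralizer (L : Set G) → ⁅V, E⁆ = ⁅V, EA⁆ →
        ⁅V, E⁆ ⊓ (V ⊓ Subgroup.centralizer (E : Set G)) = ⊥ →
        V ⊓ Subgroup.centralizer (L₂ : Set G) ≤ V ⊓ Subgroup.centralizer (L : Set G) →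
        V ⊓ Subgroup.centralizer (E : Set G) = V ⊓ Subgroup.centralizer (L₂ : Set G) := by
      intro E L hEL hWE hinf hle
      rw [← hEL] at hle
      refine le_antisymm (fun c hc => ?_) hle
      obtain ⟨m, hm, d, hd, rfl⟩ := S.mem_sup_mul hEAV inf_le_left (hdec.symm ▸ hc.1 : c ∈ _)
      have h1 : m ∈ ⁅V, E⁆ ⊓ (V ⊓ Subgroup.centralizer (E : Set G)) := by
        refine ⟨hWE.symm ▸ hm, ?_⟩
        have h2 := Subgroup.mul_mem _ hc (Subgroup.inv_mem _ (hle hd))
        rwa [mul_inv_cancel_right] at h2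
      rw [hinf, Subgroup.mem_bot] at h1
      rwa [h1, one_mul]
    have hCeq : V ⊓ Subgroup.centralizer (EA : Set G) = V ⊓ Subgroup.centralizer (EB : Set G) :=
      (hCsub hCA rfl PA.inf hC2A).trans (hCsub hCB hW.symm PB.inf hC2B).symm
    have hle : EB ≤ EA := by
      have hconj : ∀ y ∈ Q, B.map (MulAut.conj y).toMonoidHom ≤ EA := by
        intro y hy
        refine S.transv_le hA PA (hB.map_conj (S.hQH hy) (hQN hy)) ?_ ?_
        · rw [commutator_map_conj (hQN hy), hW]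
          refine (Subgroup.map_mono (Subgroup.commutator_mono le_rfl PB.leA)).trans ?_
          exact (map_conj_eq_of_mem_normalizer (hQWB hy)).le
        · rw [hCeq]
          rintro c hc _ ⟨b, hb, rfl⟩
          rw [hCB] at hc
          have hc' : y⁻¹ * c * y ∈ V ⊓ Subgroup.centralizer (EB : Set G) := by
            rw [hCB]
            refine ⟨by simpa using (Subgroup.mem_normalizer_iff.mp (inv_mem (hQN hy)) c).mp hc.1, ?_⟩
            simpa using (Subgroup.mem_normalizer_iff.mp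
              (mem_normalizer_centralizer_of_mem_normalizer (inv_mem (hQB hy))) c).mp hc.2
          have h1 : b * (y⁻¹ * c * y) = y⁻¹ * c * y * b := hc'.2 b (PB.leA hb)
          show y * b * y⁻¹ * c = c * (y * b * y⁻¹)
          calc y * b * y⁻¹ * c = y * (b * (y⁻¹ * c * y)) * y⁻¹ := by group
            _ = c * (y * b * y⁻¹) := by rw [h1]; group
      have hB1 : B ≤ EA := by
        intro b hb
        have := hconj 1 (one_mem _) ⟨b, hb, rfl⟩
        simpa using this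
      refine sup_le ?_ hB1
      rw [Subgroup.commutator_le]
      intro y hy b hb
      rw [commutatorElement_def]
      exact EA.mul_mem (hconj y hy ⟨b, hb, rfl⟩) (EA.inv_mem (hB1 hb))
    obtain ⟨φA⟩ := PA.iso
    obtain ⟨φB⟩ := PB.iso
    exact (Subgroup.eq_of_le_of_card_ge hle
      (by rw [Nat.card_congr φA.toEquiv, Nat.card_congr φB.toEquiv])).symm

/-- Best offenders are products of transvection groups. -/
theorem offender_decomp {A : Subgroup G} (hAH : A ≤ H) (hA : Cfsg.IsBestOffenderOn p V A) (hA1 : A ≠ ⊥) :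
    Nat.card A * Nat.card ↥(V ⊓ Subgroup.centralizer (A : Set G)) = Nat.card V ∧
      ∃ (k : ℕ) (B : Fin k → Subgroup G), (∀ i, B i ≤ A ∧ IsTransv p V H (B i)) ∧
        iSupIndep B ∧ ⨆ i, B i = A := by
  induction hn : Nat.card A using Nat.strong_induction_on generalizing A with
  | _ N ih =>
  obtain ⟨B, ⟨hBA, hBo, hBV⟩, hBmin⟩ := Set.Finite.exists_minimal
    (Set.toFinite {B : Subgroup G | B ≤ A ∧ Cfsg.IsBestOffenderOn p V B ∧ ⁅V, B⁆ ≠ ⊥})
    ⟨A, le_rfl, hA, fun h => hA1 (eq_bot_of_commutator_faithful S.hf hAH h)⟩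
  have hBT := S.isTransv_of_minimal (hBA.trans hAH) hBo hBV
    fun C hC hCo hCV => le_antisymm hC (hBmin ⟨hC.trans hBA, hCo, hCV⟩ hC)
  obtain ⟨PB, -, hWB, -⟩ := S.transv_group hBT
  obtain ⟨hLQ, -, -⟩ := S.comm_le hBT
  have hEA := offender_isEA S.hf hAH hA
  have hAc : A ≤ Subgroup.centralizer (A : Set G) := Subgroup.le_centralizer_iff_isMulCommutative.mpr hEA.1
  have hAp := isEA_isPGroup hEA
  have hAN := hAH.trans S.hHV
  set E := ⁅Q, B⁆ ⊔ B with hEdef
  set W := ⁅V, E⁆ with hW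
  set l := ⁅V, B⁆ with hl
  obtain ⟨qB, cB⟩ := hBT.quad S
  rw [← hl] at qB cB
  have hAB : ∀ a ∈ A, a ∈ Subgroup.normalizer (B : Set G) := fun a ha =>
    Subgroup.centralizer_le_normalizer _ (Subgroup.centralizer_le hBA (hAc ha))
  have hAW : A ≤ Subgroup.normalizer (W : Set G) := fun a ha => by
    rw [hWB]
    exact normalizer_inf_le_normalizer_commutator V _ ⟨hAN ha,
      normalizer_inf_le_normalizer_commutator Q B ⟨S.hHQ (hAH ha), hAB a ha⟩⟩
  have hlW : l ≤ W := Subgroup.commutator_mono le_rfl PB.leA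
  have hWV : W ≤ V := commutator_le_of_le_normalizer (PB.le.trans S.hHV)
  have hAl : A ≤ Subgroup.normalizer (l : Set G) := fun a ha =>
    normalizer_inf_le_normalizer_commutator V B ⟨hAN ha, hAB a ha⟩
  have hlA : l ≤ Subgroup.centralizer (A : Set G) := le_centralizer_of_card_prime cB hAp hAl
  have hlt : l < W := by
    refine lt_of_le_of_ne hlW fun h => ?_
    have := PB.card
    rw [← hW, ← h, cB, pow_two] at this
    nlinarith [hp.out.one_lt]
  have hWAl : ⁅W, A⁆ ≤ l := by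
    have hle : ⁅W, A⁆ ≤ W := commutator_le_of_le_normalizer hAW
    obtain ⟨m, hm⟩ := IsPGroup.iff_card.mp (isEA_isPGroup (isEA_mono S.hV (hle.trans hWV)))
    have hm2 : m ≤ 1 := by
      by_contra hc
      have h1 := Nat.le_of_dvd Nat.card_pos (Subgroup.card_dvd_of_le hle)
      have heq : ⁅W, A⁆ = W := Subgroup.eq_of_le_of_card_ge hle (by
        rw [hW, PB.card, ← hW, hm]
        exact Nat.pow_le_pow_right hp.out.pos (by omega))
      have := eq_bot_of_commutator_eq_self_pgroup (isEA_isPGroup (isEA_mono S.hV hWV)) hAp hAW heq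
      exact (lt_of_lt_of_le hlt (this.le.trans bot_le)).false
    rcases Nat.le_one_iff_eq_zero_or_eq_one.mp hm2 with h | h
    · rw [h, pow_zero] at hm
      rw [Subgroup.card_eq_one.mp hm]
      exact bot_le
    · rw [h, pow_one] at hm
      by_contra hnot
      have hXA : ⁅W, A⁆ ≤ Subgroup.centralizer (A : Set G) :=
        le_centralizer_of_card_prime hm hAp (Subgroup.normalizer_commutator_ge_right W A)
      haveI : Nontrivial ↥(⁅W, A⁆) := Finite.one_lt_card_iff_nontrivial.mp (hm.symm ▸ hp.out.one_lt)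
      obtain ⟨w, hw, hwl⟩ := SetLike.not_le_iff_exists.mp hnot
      have hWA : ⁅W, A⁆ = ⊥ := by
        rw [Subgroup.commutator_eq_bot_iff_le_centralizer]
        exact ((S.line_facts hBT PB (hle hw) hwl).1).trans
          (sup_le hlA (Subgroup.zpowers_le.mpr (hXA hw)))
      rw [hWA, Subgroup.card_bot] at hm
      exact hp.out.one_lt.ne hm
  set A' := A ⊓ Subgroup.centralizer (W : Set G) with hA'
  obtain ⟨w₀, hw0, hw0l⟩ := SetLike.exists_of_lt hlt
  obtain ⟨hspan, htr⟩ := S.line_facts hBT PB hw0 hw0l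
  have hdec : A ≤ B ⊔ A' := by
    intro a ha
    have hd : ⁅a, w₀⁆ ∈ l := by
      rw [← commutatorElement_inv]
      exact l.inv_mem (hWAl (Subgroup.commutator_mem_commutator hw0 ha))
    obtain ⟨b, hb, hbe⟩ := htr _ hd
    rw [commElt_eq_conj] at hbe
    have hmem : b⁻¹ * a ∈ A' := by
      refine ⟨A.mul_mem (A.inv_mem (hBA hb)) ha, ?_⟩
      have : W ≤ Subgroup.centralizer ({b⁻¹ * a} : Set G) := by
        refine hspan.trans (sup_le ?_ (Subgroup.zpowers_le.mpr ?_))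
        · intro u hu
          rw [Subgroup.mem_centralizer_singleton_iff]
          have h1 : b * u = u * b := (qB hu).2 b hb
          have h2 : a * u = u * a := hlA hu a ha
          calc u * (b⁻¹ * a) = b⁻¹ * (b * u) * (b⁻¹ * a) := by group
            _ = b⁻¹ * a * u := by rw [h1, mul_assoc b⁻¹ a u, h2]; group
        · rw [Subgroup.mem_centralizer_singleton_iff]
          calc w₀ * (b⁻¹ * a) = b⁻¹ * (b * w₀ * b⁻¹) * a := by group
            _ = b⁻¹ * a * w₀ := by rw [hbe]; group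
      intro u hu
      exact Subgroup.mem_centralizer_singleton_iff.mp (this hu)
    have h3 := Subgroup.mul_mem_sup hb hmem
    rwa [mul_inv_cancel_left] at h3
  have hAeq : B ⊔ A' = A := le_antisymm (sup_le hBA inf_le_left) hdec
  have hBA'bot : B ⊓ A' = ⊥ := by
    rw [eq_bot_iff, ← PB.faithful]
    exact inf_le_inf PB.leA inf_le_right
  have hcard : Nat.card A ≤ p * Nat.card A' := by
    have h1 := card_sup_mul_card_inf_le (A := B) (B := A')
      ((hBA.trans hAc).trans (Subgroup.centralizer_le inf_le_left))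
    rwa [hAeq, hBA'bot, Subgroup.card_bot, mul_one, hBT.card] at h1
  set CA := V ⊓ Subgroup.centralizer (A : Set G) with hCA
  set CA' := V ⊓ Subgroup.centralizer (A' : Set G) with hCA'
  have hCle : CA ≤ CA' := inf_le_inf_left _ (Subgroup.centralizer_le inf_le_left)
  have hCne : CA ≠ CA' := by
    intro h
    apply hBV
    rw [← le_bot_iff] at *
    have hWc : W ≤ Subgroup.centralizer (A : Set G) := by
      have h1 : W ≤ CA' := le_inf hWV (Subgroup.le_centralizer_iff.mp inf_le_right)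
      exact (h ▸ h1).trans inf_le_right
    have hB : B ≤ E ⊓ Subgroup.centralizer (W : Set G) :=
      le_inf PB.leA ((hBA).trans (Subgroup.le_centralizer_iff.mp hWc))
    rw [PB.faithful] at hB
    exact (Subgroup.commutator_mono le_rfl hB).trans (Subgroup.commutator_bot_right V).le
  have hCp : p * Nat.card CA ≤ Nat.card CA' := by
    obtain ⟨i, hi⟩ := IsPGroup.iff_card.mp (isEA_isPGroup (isEA_mono S.hV (inf_le_left : CA ≤ V)))
    obtain ⟨j, hj⟩ := IsPGroup.iff_card.mp (isEA_isPGroup (isEA_mono S.hV (inf_le_left : CA' ≤ V)))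
    have hlt' : Nat.card CA < Nat.card CA' := by
      by_contra hc
      exact hCne (Subgroup.eq_of_le_of_card_ge hCle (not_lt.mp hc))
    rw [hi, hj] at hlt'
    rw [hi, hj, ← pow_succ']
    exact Nat.pow_le_pow_right hp.out.pos ((Nat.pow_lt_pow_iff_right hp.out.one_lt).mp hlt')
  have hge : Nat.card A * Nat.card CA ≤ Nat.card A' * Nat.card CA' :=
    calc Nat.card A * Nat.card CA ≤ p * Nat.card A' * Nat.card CA := Nat.mul_le_mul_right _ hcard
      _ = Nat.card A' * (p * Nat.card CA) := by ring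
      _ ≤ Nat.card A' * Nat.card CA' := Nat.mul_le_mul_left _ hCp
  have hprod : Nat.card A' * Nat.card CA' = Nat.card A * Nat.card CA :=
    le_antisymm (hA.1 A' inf_le_left) hge
  have hA'o : Cfsg.IsBestOffenderOn p V A' := by
    refine ⟨fun C hC => ?_, (Subgroup.commutator_mono inf_le_left inf_le_left).trans hA.2.1,
      fun a ha => hA.2.2 a ha.1⟩
    rw [← hCA', hprod]
    exact hA.1 C (hC.trans inf_le_left)
  by_cases hA'1 : A' = ⊥
  · refine ⟨?_, 1, fun _ => B, fun _ => ⟨hBA, hBT⟩, ?_, ?_⟩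
    · have hc : CA' = V := by
        rw [hCA', hA'1, inf_eq_left]
        intro v _ w hw
        rw [Subgroup.coe_bot, Set.mem_singleton_iff] at hw
        rw [hw, one_mul, mul_one]
      rw [← hn, ← hprod, hc, hA'1, Subgroup.card_bot, one_mul]
    · intro i
      simp only [disjoint_iff]
      rw [eq_bot_iff]
      refine le_trans inf_le_right (iSup₂_le fun j hj => absurd (Subsingleton.elim j i) hj)
    · rw [ciSup_const, ← hAeq, hA'1, sup_bot_eq]
  · have hlt' : Nat.card A' < N := by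
      rw [← hn]
      by_contra hc
      have heq : A' = A := Subgroup.eq_of_le_of_card_ge inf_le_left (not_lt.mp hc)
      exact hCne (by rw [hCA, hCA', heq])
    obtain ⟨hv, k, C, hC, hind, hsup⟩ := ih _ hlt' (inf_le_left.trans hAH) hA'o hA'1 rfl
    refine ⟨by rw [← hn, ← hprod]; exact hv, k + 1, Fin.cons B C, ?_, ?_, ?_⟩
    · intro i
      induction i using Fin.cases with
      | zero => exact ⟨hBA, hBT⟩
      | succ i => simpa using ⟨(hC i).1.trans inf_le_left, (hC i).2⟩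
    · intro i
      rw [disjoint_iff, eq_bot_iff]
      induction i using Fin.cases with
      | zero =>
        rw [← hBA'bot]
        refine inf_le_inf le_rfl (iSup₂_le fun j hj => ?_)
        induction j using Fin.cases with
        | zero => exact absurd rfl hj
        | succ j => rw [Fin.cons_succ]; exact le_trans (le_iSup C j) hsup.le
      | succ i =>
        intro x hx
        rw [Fin.cons_succ] at hx
        have hsub : (⨆ (j) (_ : j ≠ i.succ), (Fin.cons B C : Fin (k + 1) → Subgroup G) j) ≤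
            B ⊔ ⨆ (j) (_ : j ≠ i), C j := by
          refine iSup₂_le fun j hj => ?_
          induction j using Fin.cases with
          | zero => exact le_sup_left
          | succ j => exact le_sup_of_le_right (le_iSup₂_of_le j (fun h => hj (by rw [h])) le_rfl)
        have hrA' : (⨆ (j) (_ : j ≠ i), C j) ≤ A' := iSup₂_le fun j _ => (le_iSup C j).trans hsup.le
        have hx2 : x ∈ ((B ⊔ ⨆ (j) (_ : j ≠ i), C j : Subgroup G) : Set G) := hsub hx.2
        rw [Subgroup.coe_mul_of_left_le_normalizer_right B _ (fun b hb =>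
          Subgroup.centralizer_le_normalizer _ (Subgroup.centralizer_le (hrA'.trans inf_le_left)
            (hAc (hBA hb))))] at hx2
        obtain ⟨b, hb, r, hr, rfl⟩ := hx2
        have hbA' : b ∈ B ⊓ A' := by
          refine ⟨hb, ?_⟩
          have h1 := A'.mul_mem ((le_iSup C i).trans hsup.le hx.1) (A'.inv_mem (hrA' hr))
          rwa [mul_inv_cancel_right] at h1
        rw [hBA'bot, Subgroup.mem_bot] at hbA'
        have h2 : b * r ∈ C i := hx.1
        show b * r ∈ _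
        rw [hbA', one_mul] at h2 ⊢
        exact (disjoint_iff.mp (hind i)).le ⟨h2, hr⟩
    · refine le_antisymm (iSup_le fun i => ?_) ?_
      · induction i using Fin.cases with
        | zero => exact hBA
        | succ i => rw [Fin.cons_succ]; exact (hC i).1.trans inf_le_left
      · rw [← hAeq]
        refine sup_le ?_ (hsup.ge.trans (iSup_le fun j => ?_))
        · exact le_iSup_of_le 0 (by rw [Fin.cons_zero])
        · exact le_iSup_of_le j.succ (by rw [Fin.cons_succ])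

theorem le_of_transv_le (hS3 : H = ⨆ A : {A : Subgroup G // A ≤ H ∧ Cfsg.IsBestOffenderOn p V A}, (A : Subgroup G))
    {K : Subgroup G} (hK : ∀ B, IsTransv p V H B → B ≤ K) : H ≤ K := by
  refine hS3.le.trans (iSup_le ?_)
  rintro ⟨A, hAH, hA⟩
  rcases eq_or_ne A ⊥ with rfl | hA1
  · exact bot_le
  obtain ⟨-, k, B, hB, -, hsup⟩ := S.offender_decomp hAH hA hA1
  show A ≤ K
  rw [← hsup]
  exact iSup_le fun i => hK _ (hB i).2

theorem factor (hS3 : H = ⨆ A : {A : Subgroup G // A ≤ H ∧ Cfsg.IsBestOffenderOn p V A}, (A : Subgroup G))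
    {A : Subgroup G} (hA : IsTransv p V H A) :
    H ≤ Subgroup.normalizer ((⁅Q, A⁆ ⊔ A : Subgroup G) : Set G) ∧
    ⁅⁅Q, A⁆ ⊔ A, H ⊓ Subgroup.centralizer ((⁅V, ⁅Q, A⁆ ⊔ A⁆ : Subgroup G) : Set G)⁆ = ⊥ ∧
    (⁅Q, A⁆ ⊔ A) ⊓ (H ⊓ Subgroup.centralizer ((⁅V, ⁅Q, A⁆ ⊔ A⁆ : Subgroup G) : Set G)) = ⊥ ∧
    (⁅Q, A⁆ ⊔ A) ⊔ (H ⊓ Subgroup.centralizer ((⁅V, ⁅Q, A⁆ ⊔ A⁆ : Subgroup G) : Set G)) = H ∧
    ⁅V, H ⊓ Subgroup.centralizer ((⁅V, ⁅Q, A⁆ ⊔ A⁆ : Subgroup G) : Set G)⁆ ≤
      V ⊓ Subgroup.centralizer ((⁅Q, A⁆ ⊔ A : Subgroup G) : Set G) := by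
  obtain ⟨P, -, -, -⟩ := S.transv_group hA
  set E := ⁅Q, A⁆ ⊔ A with hE
  set W := ⁅V, E⁆ with hW
  set F := H ⊓ Subgroup.centralizer (W : Set G) with hF
  have hnorm : H ≤ Subgroup.normalizer (E : Set G) := by
    refine S.le_of_transv_le hS3 fun B hB => ?_
    rcases S.transv_dichotomy hA hB with h | h
    · exact (le_sup_right : B ≤ ⁅Q, B⁆ ⊔ B).trans ((le_of_eq h.symm).trans Subgroup.le_normalizer)
    · exact (le_sup_right : B ≤ ⁅Q, B⁆ ⊔ B).trans
        ((Subgroup.le_centralizer_iff.mp h.1).trans (Subgroup.centralizer_le_normalizer _))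
  have hEN : E ≤ Subgroup.normalizer (W : Set G) := Subgroup.normalizer_commutator_ge_right V E
  refine ⟨hnorm, ?_, ?_, le_antisymm (sup_le P.le inf_le_left) (S.le_of_transv_le hS3 fun B hB => ?_), ?_⟩
  · rw [eq_bot_iff, ← P.faithful, Subgroup.commutator_le]
    intro e he f hf
    refine ⟨?_, ?_⟩
    · rw [commutatorElement_def, mul_assoc e f e⁻¹, mul_assoc e]
      exact E.mul_mem he ((Subgroup.mem_normalizer_iff.mp (hnorm hf.1) _).mp (E.inv_mem he))
    · rw [commutatorElement_def]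
      exact Subgroup.mul_mem _ ((Subgroup.mem_normalizer_iff.mp
        (mem_normalizer_centralizer_of_mem_normalizer (hEN he)) f).mp hf.2) (Subgroup.inv_mem _ hf.2)
  · rw [eq_bot_iff, ← P.faithful]
    exact inf_le_inf_left _ inf_le_right
  · rcases S.transv_dichotomy hA hB with h | h
    · exact le_sup_of_le_left ((le_sup_right : B ≤ ⁅Q, B⁆ ⊔ B).trans (le_of_eq h.symm))
    · refine le_sup_of_le_right (le_inf hB.le ?_)
      exact (le_sup_right : B ≤ ⁅Q, B⁆ ⊔ B).trans (Subgroup.le_centralizer_iff.mp h.2.1)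
  · rw [Subgroup.commutator_le]
    intro v hv f hf
    obtain ⟨w, hw, c, hc, rfl⟩ := S.mem_sup_mul (commutator_le_of_le_normalizer (P.le.trans S.hHV))
      inf_le_left (P.sup.symm ▸ hv : v ∈ _)
    have hwf : ⁅w, f⁆ = 1 := commutatorElement_eq_one_iff_mul_comm.mpr (hf.2 w hw)
    have hcf : ⁅c, f⁆ ∈ V ⊓ Subgroup.centralizer (E : Set G) := by
      have hn : f ∈ Subgroup.normalizer ((V ⊓ Subgroup.centralizer (E : Set G) : Subgroup G) : Set G) :=
        Subgroup.inf_normalizer_le_normalizer_inf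
          ⟨S.hHV hf.1, mem_normalizer_centralizer_of_mem_normalizer (hnorm hf.1)⟩
      have := commElt_mem_of_normalizer hn hc
      rw [← commutatorElement_inv]
      exact Subgroup.inv_mem _ this
    have e : ⁅w * c, f⁆ = w * ⁅c, f⁆ * w⁻¹ * ⁅w, f⁆ := by simp only [commutatorElement_def]; group
    rw [e, hwf, mul_one, Commute.eq (commute_of_mem_comm S.hV.1
      (commutator_le_of_le_normalizer (P.le.trans S.hHV) hw) hcf.1), mul_inv_cancel_right]
    exact hcf

end FFSetup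

end CfsgLib.PLocal
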