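import Mathlib.GroupTheory.SemidirectProduct
import Cfsg.Agent.Lib.PLocal.FFProduct
import Cfsg.Agent.Lib.PLocal.PSolvable
import Cfsg.Agent.Lib.PLocal.HallHigman
import Cfsg.Agent.Lib.PLocal.Replacement

/-! The image of `J(G)` in `G / C(V)` as a group generated by best offenders. -/

set_option autoImplicit false

open scoped commutatorElement

universe u

namespace CfsgLib.PLocal

variable {G : Type u} [Group G] [Finite G] {p : ℕ} [hp : Fact p.Prime]

/-- A realization of `G / C(V)` acting on `V` inside one finite group. -/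
structure FFModel (p : ℕ) (V : Subgroup G) [V.Normal] where
  Γ : Type u
  grp : Group Γ
  fin : Finite Γ
  j : V →* Γ
  ι : G ⧸ Subgroup.centralizer (V : Set G) →* Γ
  j_inj : Function.Injective j
  ι_inj : Function.Injective ι
  conj : ∀ (g : G) (v : V), ι (QuotientGroup.mk g) * j v * (ι (QuotientGroup.mk g))⁻¹ =
    j ⟨g * v * g⁻¹, (inferInstance : V.Normal).conj_mem v v.2 g⟩

attribute [instance] FFModel.grp FFModel.fin

theorem exists_ffModel (V : Subgroup G) [V.Normal] : Nonempty (FFModel p V) := by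
  set C := Subgroup.centralizer (V : Set G) with hC
  have hker : C ≤ (MulAut.conjNormal : G →* MulAut V).ker := by
    intro g hg
    rw [MonoidHom.mem_ker]
    ext v
    rw [MulAut.conjNormal_apply, ← hg (v : G) v.2, mul_inv_cancel_right]
    rfl
  let φ : G ⧸ C →* MulAut V := QuotientGroup.lift C MulAut.conjNormal hker
  haveI : Finite (V ⋊[φ] (G ⧸ C)) := Finite.of_equiv _ SemidirectProduct.equivProd.symm
  refine ⟨⟨V ⋊[φ] (G ⧸ C), inferInstance, inferInstance, SemidirectProduct.inl, SemidirectProduct.inr,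
    SemidirectProduct.inl_injective, SemidirectProduct.inr_injective, fun g v => ?_⟩⟩
  rw [← map_inv, ← SemidirectProduct.inl_aut]
  congr 1

namespace FFModel

variable {V : Subgroup G} [V.Normal] (m : FFModel p V)

/-- The copy of `V`. -/
def VG : Subgroup m.Γ := m.j.range

/-- The copy of the image of a subgroup of `G`. -/
def img (A : Subgroup G) : Subgroup m.Γ :=
  (A.map (QuotientGroup.mk' (Subgroup.centralizer (V : Set G)))).map m.ι

theorem card_VG : Nat.card m.VG = Nat.card V :=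
  Nat.card_congr (MonoidHom.ofInjective m.j_inj).toEquiv.symm

theorem img_eq (A : Subgroup G) :
    m.img A = A.map (m.ι.comp (QuotientGroup.mk' (Subgroup.centralizer (V : Set G)))) :=
  Subgroup.map_map _ _ _

theorem fixed_eq (A : Subgroup G) :
    m.VG ⊓ Subgroup.centralizer (m.img A : Set m.Γ) =
      ((V ⊓ Subgroup.centralizer (A : Set G)).subgroupOf V).map m.j := by
  ext y
  constructor
  · rintro ⟨⟨v, rfl⟩, hy⟩
    refine ⟨v, Subgroup.mem_subgroupOf.mpr ⟨v.2, fun a ha => ?_⟩, rfl⟩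
    have h := hy (m.ι (QuotientGroup.mk a)) ⟨_, ⟨a, ha, rfl⟩, rfl⟩
    have h2 : a * (v : G) * a⁻¹ = v := by
      have h3 := m.conj a v
      rw [h, mul_inv_cancel_right] at h3
      exact (congrArg Subtype.val (m.j_inj h3)).symm
    exact mul_inv_eq_iff_eq_mul.mp h2
  · rintro ⟨v, hv, rfl⟩
    refine ⟨⟨v, rfl⟩, ?_⟩
    rintro _ ⟨_, ⟨a, ha, rfl⟩, rfl⟩
    show m.ι (QuotientGroup.mk a) * m.j v = m.j v * m.ι (QuotientGroup.mk a)
    have h3 := m.conj a v
    have he : (⟨a * v * a⁻¹, (inferInstance : V.Normal).conj_mem v v.2 a⟩ : V) = v :=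
      Subtype.ext (mul_inv_eq_iff_eq_mul.mpr ((Subgroup.mem_subgroupOf.mp hv).2 a ha))
    rw [he] at h3
    exact mul_inv_eq_iff_eq_mul.mp h3

theorem card_fixed (A : Subgroup G) :
    Nat.card ↥(m.VG ⊓ Subgroup.centralizer (m.img A : Set m.Γ)) =
      Nat.card ↥(V ⊓ Subgroup.centralizer (A : Set G)) := by
  rw [m.fixed_eq, Subgroup.card_map_of_injective m.j_inj]
  exact Nat.card_congr (Subgroup.subgroupOfEquivOfLe inf_le_left).toEquiv

theorem card_img (A : Subgroup G) :
    Nat.card A = Nat.card (m.img A) * Nat.card ↥(A ⊓ Subgroup.centralizer (V : Set G)) := by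
  have h : Nat.card (m.img A) = (Subgroup.centralizer (V : Set G)).relIndex A := by
    rw [img, Subgroup.card_map_of_injective m.ι_inj, ← Subgroup.relIndex_ker, QuotientGroup.ker_mk']
  rw [h, ← Subgroup.inf_relIndex_left, ← Subgroup.relIndex_bot_left, ← Subgroup.relIndex_bot_left,
    mul_comm, Subgroup.relIndex_mul_relIndex _ _ _ bot_le inf_le_left]

theorem isBestOffender_img {A : Subgroup G} (hA : Cfsg.IsBestOffenderOn p V A) :
    Cfsg.IsBestOffenderOn p m.VG (m.img A) := by
  set f := m.ι.comp (QuotientGroup.mk' (Subgroup.centralizer (V : Set G))) with hf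
  have hcent : ∀ x ∈ Subgroup.centralizer (V : Set G), f x = 1 := by
    intro x hx
    show m.ι (QuotientGroup.mk x) = 1
    rw [(QuotientGroup.eq_one_iff x).mpr hx, map_one]
  refine ⟨fun B hB => ?_, ?_, ?_⟩
  · set B' := A ⊓ B.comap f with hB'
    have hBimg : m.img B' = B := by
      rw [m.img_eq, hB', ← hf]
      ext y
      constructor
      · rintro ⟨x, hx, rfl⟩
        exact hx.2
      · intro hy
        obtain ⟨x, hx, rfl⟩ := (m.img_eq A ▸ hB hy : y ∈ A.map f)
        exact ⟨x, ⟨hx, hy⟩, rfl⟩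
    have hk : B' ⊓ Subgroup.centralizer (V : Set G) = A ⊓ Subgroup.centralizer (V : Set G) := by
      refine le_antisymm (inf_le_inf_right _ inf_le_left) fun x hx => ⟨⟨hx.1, ?_⟩, hx.2⟩
      show f x ∈ B
      rw [hcent x hx.2]
      exact one_mem B
    have h := hA.1 B' inf_le_left
    rw [m.card_img B', hk, hBimg, ← m.card_fixed B', hBimg, m.card_img A, ← m.card_fixed A] at h
    refine Nat.le_of_mul_le_mul_left (?_ : Nat.card ↥(A ⊓ Subgroup.centralizer (V : Set G)) * _ ≤
      Nat.card ↥(A ⊓ Subgroup.centralizer (V : Set G)) * _) Nat.card_pos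
    linarith [h]
  · rw [m.img_eq, ← Subgroup.map_commutator]
    rintro _ ⟨x, hx, rfl⟩
    rw [show (m.ι.comp _) x = 1 from hcent x (hA.2.1 hx)]
    exact one_mem _
  · rw [m.img_eq]
    rintro _ ⟨x, hx, rfl⟩
    rw [← map_pow, show (m.ι.comp _) (x ^ p) = 1 from hcent _ (hA.2.2 x hx)]
    exact one_mem _

/-- The model of `J` satisfies the hypotheses of the structure theorem. -/
theorem setup (hV : Cfsg.IsElementaryAbelian p V) (J : Subgroup G) [J.Normal]
    (hsep : Cfsg.IsPSolvable p ↥J)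
    (hO : Cfsg.pCore p (G ⧸ Subgroup.centralizer (V : Set G)) = ⊥) :
    FFSetup p m.VG (m.img J) ((Cfsg.pPrimeCore p ↥(m.img J)).map (m.img J).subtype) := by
  set π := QuotientGroup.mk' (Subgroup.centralizer (V : Set G)) with hπ
  have hπs : Function.Surjective π := QuotientGroup.mk'_surjective _
  have hVG : Cfsg.IsElementaryAbelian p m.VG := by
    rw [VG, MonoidHom.range_eq_map]
    refine isEA_map ?_ _
    apply isEA_of_map V.subtype_injective
    rwa [← MonoidHom.range_eq_map, Subgroup.range_subtype]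
  have hN : m.img J ≤ Subgroup.normalizer (m.VG : Set m.Γ) := by
    rw [Subgroup.le_normalizer_iff]
    rintro _ ⟨_, ⟨g, -, rfl⟩, rfl⟩ _ ⟨v, rfl⟩
    exact ⟨_, (m.conj g v).symm⟩
  have hf : m.img J ⊓ Subgroup.centralizer (m.VG : Set m.Γ) = ⊥ := by
    rw [eq_bot_iff]
    rintro _ ⟨⟨_, ⟨g, -, rfl⟩, rfl⟩, hg⟩
    have hg' : g ∈ Subgroup.centralizer (V : Set G) := by
      intro v hv
      have h := hg (m.j ⟨v, hv⟩) ⟨_, rfl⟩
      have h3 := m.conj g ⟨v, hv⟩
      change m.ι (π g) * m.j _ * (m.ι (π g))⁻¹ = _ at h3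
      rw [← h, mul_inv_cancel_right] at h3
      exact (mul_inv_eq_iff_eq_mul.mp (congrArg Subtype.val (m.j_inj h3)).symm).symm
    rw [Subgroup.mem_bot, show π g = 1 from (QuotientGroup.eq_one_iff g).mpr hg', map_one]
  refine FFSetup.of_core hVG hN hf ?_
  haveI hJn : (J.map π).Normal := (inferInstance : J.Normal).map π hπs
  have hs : Cfsg.IsPSolvable p ↥(J.map π) :=
    CfsgLib.PLoc.isPSolvable_of_surjective (π.subgroupMap_surjective J) hsep
  have hcore : Cfsg.pCore p ↥(J.map π) = ⊥ := by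
    rw [← Subgroup.map_eq_bot_iff_of_injective _ (J.map π).subtype_injective, eq_bot_iff, ← hO]
    exact CfsgLib.Solvable.map_subtype_pCore_le _
  let e : ↥(J.map π) ≃* ↥(m.img J) := (J.map π).equivMapOfInjective m.ι m.ι_inj
  refine centralizer_pPrimeCore_le_self ?_ ?_
  · exact CfsgLib.PLoc.isPSolvable_of_surjective (f := e.toMonoidHom) e.surjective hs
  · rw [← CfsgLib.Solvable.map_pCore_mulEquiv (p := p) e, hcore, Subgroup.map_bot]

/-- The model of `J(G)` is generated by best offenders. -/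
theorem hS3 (hV : Cfsg.IsElementaryAbelian p V) :
    m.img (Cfsg.thompsonSubgroup p G) =
      ⨆ A : {A : Subgroup m.Γ // A ≤ m.img (Cfsg.thompsonSubgroup p G) ∧
        Cfsg.IsBestOffenderOn p m.VG A}, (A : Subgroup m.Γ) := by
  refine le_antisymm ?_ (iSup_le fun A => A.2.1)
  conv_lhs => rw [m.img_eq, Cfsg.thompsonSubgroup, sSup_eq_iSup]
  simp only [Subgroup.map_iSup]
  refine iSup₂_le fun A hA => ?_
  rw [← m.img_eq]
  exact le_iSup (fun B : {B : Subgroup m.Γ // B ≤ m.img (Cfsg.thompsonSubgroup p G) ∧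
    Cfsg.IsBestOffenderOn p m.VG B} => (B : Subgroup m.Γ))
    ⟨m.img A, Subgroup.map_mono (Subgroup.map_mono (maxEA_le_thompson hA)),
      m.isBestOffender_img (maxEA_isBestOffenderOn hV hA)⟩

end FFModel

/-- `|A : C_A(V)| |C_V(A)| = |V|` for elementary abelian subgroups of largest order. -/
theorem maxEA_offender_eq (hsep : Cfsg.IsPSolvable p G) (V : Subgroup G) [V.Normal]
    (hV : Cfsg.IsElementaryAbelian p V)
    (hO : Cfsg.pCore p (G ⧸ Subgroup.centralizer (V : Set G)) = ⊥)
    {A : Subgroup G} (hA : A ∈ Cfsg.maxElementaryAbelianSubgroups p G) :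
    Nat.card A * Nat.card ↥(V ⊓ Subgroup.centralizer (A : Set G)) =
      Nat.card ↥(A ⊓ Subgroup.centralizer (V : Set G)) * Nat.card V := by
  haveI := thompsonSubgroup_characteristic (G := G) (p := p)
  obtain ⟨m⟩ := exists_ffModel (p := p) V
  have S := m.setup hV (Cfsg.thompsonSubgroup p G) (isPSolvable_subgroup hsep _) hO
  have hb := m.isBestOffender_img (maxEA_isBestOffenderOn hV hA)
  rw [m.card_img A, mul_comm (Nat.card (m.img A)), mul_assoc]
  congr 1
  rw [← m.card_fixed A]
  by_cases h1 : m.img A = ⊥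
  · have hfix : m.VG ⊓ Subgroup.centralizer ((⊥ : Subgroup m.Γ) : Set m.Γ) = m.VG := by
      refine inf_eq_left.mpr fun v _ w hw => ?_
      rw [Subgroup.coe_bot, Set.mem_singleton_iff] at hw
      rw [hw, one_mul, mul_one]
    rw [h1, Subgroup.card_bot, one_mul, hfix, m.card_VG]
  · rw [← m.card_VG]
    exact (S.offender_decomp (Subgroup.map_mono (Subgroup.map_mono (maxEA_le_thompson hA))) hb h1).1

end CfsgLib.PLocal
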