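import Cfsg.Agent.Lib.PLocal.FFPair
import Cfsg.Agent.Lib.PLocal.CoprimeAbelian

/-! The commutator of the `p'`-core with a transvection group, and its plane. -/

set_option autoImplicit false

open scoped commutatorElement MatrixGroups

namespace CfsgLib.PLocal

variable {G : Type*} [Group G] {p : ℕ}

/-- The elements normalizing `M` and `U` that act trivially on `M` modulo `U`. -/
def actKernel (M U : Subgroup G) : Subgroup G where
  carrier := {g | g ∈ Subgroup.normalizer (M : Set G) ∧ g ∈ Subgroup.normalizer (U : Set G) ∧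
    ∀ m ∈ M, ⁅g, m⁆ ∈ U}
  one_mem' := ⟨one_mem _, one_mem _, fun m _ => by rw [commutatorElement_one_left]; exact one_mem _⟩
  mul_mem' := by
    intro g h hg hh
    refine ⟨mul_mem hg.1 hh.1, mul_mem hg.2.1 hh.2.1, fun m hm => ?_⟩
    have e : ⁅g * h, m⁆ = g * ⁅h, m⁆ * g⁻¹ * ⁅g, m⁆ := by simp only [commutatorElement_def]; group
    rw [e]
    exact U.mul_mem ((Subgroup.mem_normalizer_iff.mp hg.2.1 _).mp (hh.2.2 m hm)) (hg.2.2 m hm)
  inv_mem' := by
    intro g hg
    refine ⟨inv_mem hg.1, inv_mem hg.2.1, fun m hm => ?_⟩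
    have e : ⁅g⁻¹, m⁆ = g⁻¹ * ⁅g, m⁆⁻¹ * g⁻¹⁻¹ := by simp only [commutatorElement_def]; group
    rw [e]
    exact (Subgroup.mem_normalizer_iff.mp (inv_mem hg.2.1) _).mp (U.inv_mem (hg.2.2 m hm))

theorem mem_actKernel {M U : Subgroup G} {g : G} :
    g ∈ actKernel M U ↔ g ∈ Subgroup.normalizer (M : Set G) ∧ g ∈ Subgroup.normalizer (U : Set G) ∧
      ∀ m ∈ M, ⁅g, m⁆ ∈ U := Iff.rfl

theorem conj_mem_actKernel {M U : Subgroup G} {g h : G} (hM : h ∈ Subgroup.normalizer (M : Set G))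
    (hU : h ∈ Subgroup.normalizer (U : Set G)) (hg : g ∈ actKernel M U) :
    h * g * h⁻¹ ∈ actKernel M U := by
  refine mem_actKernel.mpr ⟨mul_mem (mul_mem hM hg.1) (inv_mem hM), mul_mem (mul_mem hU hg.2.1) (inv_mem hU),
    fun m hm => ?_⟩
  have hm' : h⁻¹ * m * h ∈ M := by simpa using (Subgroup.mem_normalizer_iff.mp (inv_mem hM) m).mp hm
  have e : ⁅h * g * h⁻¹, m⁆ = h * ⁅g, h⁻¹ * m * h⁆ * h⁻¹ := by simp only [commutatorElement_def]; group
  rw [e]
  exact (Subgroup.mem_normalizer_iff.mp hU _).mp (hg.2.2 _ hm')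

/-- If `A` acts trivially on `M / U`, so does `[X, A]` for `X` normalizing `M` and `U`. -/
theorem commutator_le_actKernel {M U X A : Subgroup G} (hXM : X ≤ Subgroup.normalizer (M : Set G))
    (hXU : X ≤ Subgroup.normalizer (U : Set G)) (hA : A ≤ actKernel M U) : ⁅X, A⁆ ≤ actKernel M U := by
  rw [Subgroup.commutator_le]
  intro x hx a ha
  rw [commutatorElement_def]
  exact mul_mem (conj_mem_actKernel (hXM hx) (hXU hx) (hA ha)) (inv_mem (hA ha))

theorem mem_centralizer_of_actKernel_bot {M : Subgroup G} {g : G} (hg : g ∈ actKernel M ⊥) :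
    g ∈ Subgroup.centralizer (M : Set G) := fun m hm =>
  (commutatorElement_eq_one_iff_mul_comm.mp (Subgroup.mem_bot.mp (hg.2.2 m hm))).symm

theorem mem_actKernel_bot {M : Subgroup G} {g : G} (hg : g ∈ Subgroup.centralizer (M : Set G)) :
    g ∈ actKernel M ⊥ := by
  refine mem_actKernel.mpr ⟨Subgroup.centralizer_le_normalizer _ hg, ?_, fun m hm => ?_⟩
  · rw [Subgroup.normalizer_eq_top]; trivial
  · rw [Subgroup.mem_bot, commutatorElement_eq_one_iff_mul_comm]
    exact (hg m hm).symm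

theorem IsTransv.map_conj {V H A : Subgroup G} (hA : IsTransv p V H A) {g : G} (hg : g ∈ H)
    (hgV : g ∈ Subgroup.normalizer (V : Set G)) : IsTransv p V H (A.map (MulAut.conj g).toMonoidHom) := by
  refine ⟨?_, ?_, ?_⟩
  · rintro _ ⟨a, ha, rfl⟩
    exact H.mul_mem (H.mul_mem hg (hA.le ha)) (H.inv_mem hg)
  · rw [Subgroup.card_map_of_injective (MulAut.conj g).injective, hA.card]
  · have hcent : (Subgroup.centralizer (A : Set G)).map (MulAut.conj g).toMonoidHom =
        Subgroup.centralizer (A.map (MulAut.conj g).toMonoidHom : Set G) := by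
      ext y
      constructor
      · rintro ⟨c, hc, rfl⟩ _ ⟨a, ha, rfl⟩
        rw [← map_mul, ← map_mul, hc a ha]
      · intro hy
        refine ⟨(MulAut.conj g).symm y, fun a ha => (MulAut.conj g).injective ?_,
          (MulAut.conj g).apply_symm_apply y⟩
        rw [map_mul, map_mul, MulEquiv.apply_symm_apply]
        exact hy _ ⟨a, ha, rfl⟩
    have hmap : V ⊓ Subgroup.centralizer (A.map (MulAut.conj g).toMonoidHom : Set G) =
        (V ⊓ Subgroup.centralizer (A : Set G)).map (MulAut.conj g).toMonoidHom := by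
      rw [Subgroup.map_inf V _ _ (MulAut.conj g).injective, map_conj_eq_of_mem_normalizer hgV, hcent]
    rw [hmap]
    conv_lhs => arg 2; rw [← map_conj_eq_of_mem_normalizer hgV]
    rw [Subgroup.relIndex_map_map_of_injective _ _ (MulAut.conj g).injective]
    exact hA.idx

variable [Finite G] [hp : Fact p.Prime]

/-- `S = R C` when `C` has full order away from the prime `q` of `R`. -/
theorem exists_mul_of_pow_dvd {Q R C : Subgroup G} {q : ℕ} [Fact q.Prime] (hRQ : R ≤ Q) (hCQ : C ≤ Q)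
    (hR : IsPGroup q R) (hfull : ¬ q ∣ R.relIndex Q)
    (hC : ∀ r k : ℕ, r.Prime → r ≠ q → r ^ k ∣ Nat.card Q → r ^ k ∣ Nat.card C) {y : G} (hy : y ∈ Q) :
    ∃ r ∈ R, ∃ c ∈ C, y = r * c := by
  have hle : R.relIndex Q ≤ R.relIndex C := by
    refine Nat.le_of_dvd (Nat.pos_of_ne_zero (Subgroup.index_ne_zero_of_finite (H := R.subgroupOf C))) ?_
    rw [Nat.dvd_iff_prime_pow_dvd_dvd]
    intro r k hr hd
    rcases k with _ | k
    · simp
    have hrq : r ≠ q := fun h => hfull (h ▸ (dvd_pow_self r (Nat.succ_ne_zero k)).trans hd)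
    have h1 := hC r (k + 1) hr hrq (hd.trans (by
      rw [← Subgroup.relIndex_bot_left Q]
      exact Dvd.intro_left _ (Subgroup.relIndex_mul_relIndex ⊥ R Q bot_le hRQ)))
    rw [← Subgroup.relIndex_bot_left C, ← Subgroup.relIndex_mul_relIndex ⊥ (R ⊓ C) C bot_le inf_le_right,
      Subgroup.relIndex_bot_left, Subgroup.inf_relIndex_right] at h1
    refine (Nat.Coprime.dvd_of_dvd_mul_left ?_ h1)
    obtain ⟨n, hn⟩ := IsPGroup.iff_card.mp (hR.to_le (inf_le_left : R ⊓ C ≤ R))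
    rw [hn]
    exact Nat.Coprime.pow _ _ ((Nat.coprime_primes hr Fact.out).mpr hrq)
  let f : C ⧸ R.subgroupOf C ↪ Q ⧸ R.subgroupOf Q := Subgroup.quotientSubgroupOfEmbeddingOfLE R hCQ
  have hbij : Function.Bijective f :=
    f.injective.bijective_of_nat_card_le hle
  obtain ⟨z, hz⟩ := hbij.2 (QuotientGroup.mk ⟨y⁻¹, Q.inv_mem hy⟩)
  induction z using QuotientGroup.induction_on with
  | _ z =>
    have hmk : f (QuotientGroup.mk z) = QuotientGroup.mk ⟨(z : G), hCQ z.2⟩ := rfl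
    rw [hmk, QuotientGroup.eq, Subgroup.mem_subgroupOf] at hz
    have hz' : (z : G)⁻¹ * y⁻¹ ∈ R := hz
    refine ⟨_, R.inv_mem hz', (z : G)⁻¹, C.inv_mem z.2, ?_⟩
    group

namespace FFSetup

variable {V H Q : Subgroup G} (S : FFSetup p V H Q)
include S

theorem sup_inf_core {U A : Subgroup G} (hU : U ≤ Q) (hA : IsPGroup p A)
    (hAU : A ≤ Subgroup.normalizer (U : Set G)) : (U ⊔ A) ⊓ Q ≤ U := by
  intro e he
  have h1 : e ∈ ((A ⊔ U : Subgroup G) : Set G) := by rw [sup_comm]; exact he.1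
  rw [Subgroup.coe_mul_of_left_le_normalizer_right A U hAU] at h1
  obtain ⟨a, ha, u, hu, rfl⟩ := h1
  have h2 : a ∈ A ⊓ Q := by
    refine ⟨ha, ?_⟩
    have := Q.mul_mem he.2 (Q.inv_mem (hU hu))
    rwa [mul_inv_cancel_right] at this
  rw [S.inf_eq_bot hA, Subgroup.mem_bot] at h2
  simpa [h2] using hu

theorem pair_inf_le {A U : Subgroup G} (hA : IsTransv p V H A) (hU : U ≤ Q)
    (hAU : A ≤ Subgroup.normalizer (U : Set G)) {x : G} (hx : x ∈ U) :
    (A ⊔ A.map (MulAut.conj x).toMonoidHom) ⊓ Q ≤ U := by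
  refine le_trans (inf_le_inf_right _ ?_) (S.sup_inf_core hU (hA.isPGroup S) hAU)
  refine sup_le le_sup_right ?_
  rintro _ ⟨a, ha, rfl⟩
  exact mul_mem (mul_mem (Subgroup.mem_sup_left hx) (Subgroup.mem_sup_right ha))
    (inv_mem (Subgroup.mem_sup_left hx))

theorem exists_not_fixed {A : Subgroup G} (hA : IsTransv p V H A) :
    ∃ x ∈ Q, x ∉ Subgroup.centralizer (A : Set G) := by
  have hA1 : A ≠ ⊥ := fun h => by
    have := hA.card
    rw [h, Subgroup.card_bot] at this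
    exact hp.out.one_lt.ne this
  exact SetLike.not_le_iff_exists.mp (S.not_le_centralizer hA.le (hA.isPGroup S) hA1)

theorem eq_prime_of_moved {A U : Subgroup G} (hA : IsTransv p V H A) (hU : U ≤ Q)
    (hAU : A ≤ Subgroup.normalizer (U : Set G)) {r : ℕ} [hr : Fact r.Prime] (hUr : IsPGroup r U)
    (hne : ¬ U ≤ Subgroup.centralizer (A : Set G)) : (p = 2 ∧ r = 3) ∨ (p = 3 ∧ r = 2) := by
  obtain ⟨x, hxU, hxA⟩ := SetLike.not_le_iff_exists.mp hne
  have P := S.slPair hA (hU hxU) hxA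
  set E := A ⊔ A.map (MulAut.conj x).toMonoidHom
  obtain ⟨a, ha, hxa⟩ : ∃ a ∈ A, ⁅x, a⁆ ≠ 1 := by
    by_contra hno
    push Not at hno
    exact hxA fun a ha => (commutatorElement_eq_one_iff_mul_comm.mp (hno a ha)).symm
  have hmemU : ⁅x, a⁆ ∈ U := (Subgroup.le_normalizer_iff_commutator_le_left.mp hAU)
    (Subgroup.commutator_mem_commutator hxU ha)
  have hmemE : ⁅x, a⁆ ∈ E := by
    rw [commutatorElement_def]
    exact E.mul_mem (Subgroup.mem_sup_right ⟨a, ha, rfl⟩) (E.inv_mem (Subgroup.mem_sup_left ha))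
  obtain ⟨n, hn⟩ := hUr ⟨_, hmemU⟩
  have hn' : ⁅x, a⁆ ^ r ^ n = 1 := congrArg Subtype.val hn
  have key : ∀ q : ℕ, q.Prime → IsPGroup q ↥(E ⊓ Q) → r = q := by
    intro q hq hD
    by_contra hne
    apply hxa
    obtain ⟨m, hm⟩ := hD ⟨_, hmemE, hU hmemU⟩
    have hm' : ⁅x, a⁆ ^ q ^ m = 1 := congrArg Subtype.val hm
    exact orderOf_eq_one_iff.mp (Nat.eq_one_of_dvd_coprimes
      (Nat.Coprime.pow n m ((Nat.coprime_primes hr.out hq).mpr hne)) (orderOf_dvd_of_pow_eq_one hn')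
      (orderOf_dvd_of_pow_eq_one hm'))
  rcases P.hp23 with h | h
  · exact Or.inl ⟨h, key 3 Nat.prime_three (P.two h)⟩
  · exact Or.inr ⟨h, key 2 Nat.prime_two (P.three h).1⟩

/-- `[Q, A]` is a `q`-group. -/
theorem comm_isPGroup {A : Subgroup G} (hA : IsTransv p V H A) :
    (p = 2 ∧ IsPGroup 3 ↥(⁅Q, A⁆)) ∨ (p = 3 ∧ IsPGroup 2 ↥(⁅Q, A⁆)) := by
  obtain ⟨x, hx, hxA⟩ := S.exists_not_fixed hA
  have hp23 := (S.slPair hA hx hxA).hp23
  obtain ⟨q, hq, hpq⟩ : ∃ q : ℕ, q.Prime ∧ ((p = 2 ∧ q = 3) ∨ (p = 3 ∧ q = 2)) := by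
    rcases hp23 with h | h
    · exact ⟨3, Nat.prime_three, Or.inl ⟨h, rfl⟩⟩
    · exact ⟨2, Nat.prime_two, Or.inr ⟨h, rfl⟩⟩
  haveI : Fact q.Prime := ⟨hq⟩
  have hAp := hA.isPGroup S
  have hAQ : A ≤ Subgroup.normalizer (Q : Set G) := hA.le.trans S.hHQ
  haveI : IsCyclic A := isCyclic_of_prime_card hA.card
  haveI := hAp.isNilpotent
  have hsolv : Group.IsSolvable A ∨ Group.IsSolvable Q := Or.inl inferInstance
  have hfix : ∀ r k : ℕ, r.Prime → r ≠ q → r ^ k ∣ Nat.card Q →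
      r ^ k ∣ Nat.card ↥(Q ⊓ Subgroup.centralizer (A : Set G)) := by
    intro r k hr hrq hd
    haveI : Fact r.Prime := ⟨hr⟩
    obtain ⟨T, hT⟩ := CfsgLib.Solvable.exists_invariant_sylow hAQ (S.coprime_card hAp) hsolv r
    have hTQ : (T : Subgroup Q).map Q.subtype ≤ Q := Subgroup.map_subtype_le _
    have hTC : (T : Subgroup Q).map Q.subtype ≤ Q ⊓ Subgroup.centralizer (A : Set G) := by
      refine le_inf hTQ ?_
      by_contra hne
      rcases S.eq_prime_of_moved hA hTQ hT (T.2.map _) hne with ⟨h1, h2⟩ | ⟨h1, h2⟩ <;>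
        rcases hpq with ⟨h3, h4⟩ | ⟨h3, h4⟩ <;> omega
    refine (T.pow_dvd_card_of_pow_dvd_card hd).trans ?_
    rw [← Subgroup.card_map_of_injective Q.subtype_injective (K := (T : Subgroup Q))]
    exact Subgroup.card_dvd_of_le hTC
  obtain ⟨T, hT⟩ := CfsgLib.Solvable.exists_invariant_sylow hAQ (S.coprime_card hAp) hsolv q
  set R := (T : Subgroup Q).map Q.subtype with hR
  have hfull : ¬ q ∣ R.relIndex Q := by
    rw [Subgroup.relIndex, hR, ← Subgroup.comap_subtype, Subgroup.comap_map_eq_self_of_injective Q.subtype_injective]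
    exact T.not_dvd_index
  have hLR : ⁅Q, A⁆ ≤ R := by
    rw [Subgroup.commutator_le]
    intro y hy a ha
    obtain ⟨r, hr, c, hc, rfl⟩ := exists_mul_of_pow_dvd (Subgroup.map_subtype_le _) inf_le_left (T.2.map _)
      hfull hfix hy
    have hca : ⁅c, a⁆ = 1 := commutatorElement_eq_one_iff_mul_comm.mpr (hc.2 a ha).symm
    have e : ⁅r * c, a⁆ = r * ⁅c, a⁆ * r⁻¹ * ⁅r, a⁆ := by simp only [commutatorElement_def]; group
    rw [e, hca, mul_one, mul_inv_cancel, one_mul]
    exact (Subgroup.le_normalizer_iff_commutator_le_left.mp hT) (Subgroup.commutator_mem_commutator hr ha)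
  have hLq : IsPGroup q ↥(⁅Q, A⁆) := (T.2.map _).to_le hLR
  rcases hpq with ⟨h1, rfl⟩ | ⟨h1, rfl⟩
  · exact Or.inl ⟨h1, hLq⟩
  · exact Or.inr ⟨h1, hLq⟩

theorem comm_le {A : Subgroup G} (hA : IsTransv p V H A) :
    ⁅Q, A⁆ ≤ Q ∧ A ≤ Subgroup.normalizer ((⁅Q, A⁆ : Subgroup G) : Set G) ∧
      Q ≤ Subgroup.normalizer ((⁅Q, A⁆ : Subgroup G) : Set G) :=
  ⟨commutator_le_of_le_normalizer (hA.le.trans S.hHQ), Subgroup.normalizer_commutator_ge_right Q A,
    CfsgLib.Solvable.le_normalizer_commutator_left Q A⟩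

theorem comm_comm {A : Subgroup G} (hA : IsTransv p V H A) : ⁅⁅Q, A⁆, A⁆ = ⁅Q, A⁆ := by
  haveI := (hA.isPGroup S).isNilpotent
  exact CfsgLib.Solvable.commutator_commutator_eq (hA.le.trans S.hHQ) (S.coprime_card (hA.isPGroup S))
    (Or.inl inferInstance)

theorem pair_inf_le_comm {A : Subgroup G} (hA : IsTransv p V H A) {x : G} (hx : x ∈ Q) :
    (A ⊔ A.map (MulAut.conj x).toMonoidHom) ⊓ Q ≤ ⁅Q, A⁆ := by
  obtain ⟨hLQ, hAL, -⟩ := S.comm_le hA
  refine le_trans (inf_le_inf_right _ (sup_le (le_sup_right (a := ⁅Q, A⁆)) ?_))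
    (S.sup_inf_core hLQ (hA.isPGroup S) hAL)
  rintro _ ⟨a, ha, rfl⟩
  show x * a * x⁻¹ ∈ ⁅Q, A⁆ ⊔ A
  have h := Subgroup.mul_mem_sup (Subgroup.commutator_mem_commutator hx ha) ha
  rwa [commutatorElement_def, inv_mul_cancel_right] at h

/-- The plane `[V, [Q, A]]`: everything about `[V, [Q, A]]` before the group is identified. -/
theorem plane_eq {A : Subgroup G} (hA : IsTransv p V H A) :
    ∃ x ∈ Q, x ∉ Subgroup.centralizer (A : Set G) ∧
      ⁅V, A⊔ A.map (MulAut.conj x).toMonoidHom⁆ = ⁅V, ⁅Q, A⁆⁆ ∧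
      V ⊓ Subgroup.centralizer ((⁅Q, A⁆ : Subgroup G) : Set G) ≤ Subgroup.centralizer (A : Set G) := by
  set L := ⁅Q, A⁆ with hL
  obtain ⟨hLQ, hAL, hQL⟩ := S.comm_le hA
  rw [← hL] at hLQ hAL hQL
  have hAp := hA.isPGroup S
  have hAN := hA.le.trans S.hHV
  have hLN : L ≤ Subgroup.normalizer (V : Set G) := hLQ.trans (S.hQH.trans S.hHV)
  obtain ⟨qA, cA⟩ := hA.quad S
  have hcopV : (Nat.card L).Coprime (Nat.card V) := by
    obtain ⟨n, hn⟩ := IsPGroup.iff_card.mp (isEA_isPGroup S.hV)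
    rw [hn]
    exact Nat.Coprime.pow_right n (S.hcop.coprime_dvd_left (Subgroup.card_dvd_of_le hLQ))
  haveI : IsMulCommutative V := S.hV.1
  haveI := (isEA_isPGroup S.hV).isNilpotent
  set M := ⁅V, L⁆ with hM
  set CL := V ⊓ Subgroup.centralizer (L : Set G) with hCL
  have hMV : M ≤ V := commutator_le_of_le_normalizer hLN
  have hsupM : M ⊔ CL = V := CfsgLib.Solvable.commutator_sup_centralizer hLN hcopV (Or.inr inferInstance)
  have hMM : ⁅M, L⁆ = M := CfsgLib.Solvable.commutator_commutator_eq hLN hcopV (Or.inr inferInstance)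
  have hMC : M ⊓ Subgroup.centralizer (L : Set G) = ⊥ := commutator_inf_fixed_eq_bot S.hV.1 hLN hcopV
  have hAM : A ≤ Subgroup.normalizer (M : Set G) := fun a ha =>
    normalizer_inf_le_normalizer_commutator V L ⟨hAN ha, hAL ha⟩
  have hLM : L ≤ Subgroup.normalizer (M : Set G) := Subgroup.normalizer_commutator_ge_right V L
  -- any pair
  have hpair : ∀ x ∈ Q, x ∉ Subgroup.centralizer (A : Set G) →
      ⁅V, A ⊔ A.map (MulAut.conj x).toMonoidHom⁆ ≤ M ⊔ ⁅V, A⁆ := by
    intro x hx hxA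
    rw [hM, ← commutator_sup_of_le_normalizer hLN hAN]
    refine Subgroup.commutator_mono le_rfl (sup_le le_sup_right ?_)
    rintro _ ⟨a, ha, rfl⟩
    show x * a * x⁻¹ ∈ L ⊔ A
    have h := Subgroup.mul_mem_sup (Subgroup.commutator_mem_commutator hx ha) ha
    rwa [commutatorElement_def, inv_mul_cancel_right] at h
  obtain ⟨x₁, hx₁, hx₁A⟩ := S.exists_not_fixed hA
  have P₁ := S.slPair hA hx₁ hx₁A
  have hline : ⁅V, A⁆ ⊓ Subgroup.centralizer (L : Set G) = ⊥ := by
    rw [eq_bot_iff]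
    intro w hw
    by_contra hw1
    obtain ⟨g, hg, hgw⟩ := P₁.noline
    refine hgw w (Subgroup.commutator_mono le_rfl P₁.leA hw.1) (fun h => hw1 (Subgroup.mem_bot.mpr h)) 1 ?_
    rw [pow_one, hw.2 g (S.pair_inf_le_comm hA hx₁ hg), mul_inv_cancel_right]
  have hCLA : CL ≤ Subgroup.centralizer (A : Set G) := by
    rw [← Subgroup.commutator_eq_bot_iff_le_centralizer, eq_bot_iff, ← hline]
    refine le_inf (Subgroup.commutator_mono inf_le_left le_rfl) (le_trans ?_ (inf_le_right : CL ≤ _))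
    exact commutator_le_of_le_normalizer fun a ha => Subgroup.inf_normalizer_le_normalizer_inf
      ⟨hAN ha, mem_normalizer_centralizer_of_mem_normalizer (hAL ha)⟩
  have hlineM : ⁅V, A⁆ ≤ M := by
    rw [Subgroup.commutator_le]
    intro v hv a ha
    have hv' : v ∈ ((M ⊔ CL : Subgroup G) : Set G) := hsupM.symm ▸ hv
    rw [Subgroup.coe_mul_of_left_le_normalizer_right M CL (fun m hm =>
      Subgroup.centralizer_le_normalizer _ (Subgroup.centralizer_le inf_le_left
        (Subgroup.le_centralizer_iff_isMulCommutative.mpr S.hV.1 (hMV hm))))] at hv'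
    obtain ⟨m, hm, c, hc, rfl⟩ := hv'
    have hca : ⁅c, a⁆ = 1 := commutatorElement_eq_one_iff_mul_comm.mpr (hCLA hc a ha).symm
    have e : ⁅m * c, a⁆ = m * ⁅c, a⁆ * m⁻¹ * ⁅m, a⁆ := by simp only [commutatorElement_def]; group
    rw [e, hca, mul_one, mul_inv_cancel, one_mul]
    exact (Subgroup.le_normalizer_iff_commutator_le_left.mp hAM) (Subgroup.commutator_mem_commutator hm ha)
  have hWM : ∀ x ∈ Q, x ∉ Subgroup.centralizer (A : Set G) →
      ⁅V, A ⊔ A.map (MulAut.conj x).toMonoidHom⁆ ≤ M :=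
    fun x hx hxA => (hpair x hx hxA).trans (sup_le le_rfl hlineM)
  -- irreducibility
  have hirr : ∀ U : Subgroup G, U ≤ M → L ≤ Subgroup.normalizer (U : Set G) →
      A ≤ Subgroup.normalizer (U : Set G) → U = ⊥ ∨ U = M := by
    intro U hU hLU hAU
    by_cases hc : ⁅U, A⁆ = ⊥
    · left
      rw [eq_bot_iff, ← hMC]
      refine le_inf hU (Subgroup.le_centralizer_iff.mp ?_)
      have h1 : A ≤ actKernel U ⊥ := fun a ha => mem_actKernel_bot
        (Subgroup.le_centralizer_iff.mp (Subgroup.commutator_eq_bot_iff_le_centralizer.mp hc) ha)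
      intro l hl
      rw [hL, ← S.comm_comm hA] at hl
      exact mem_centralizer_of_actKernel_bot (commutator_le_actKernel hLU
        (by rw [Subgroup.normalizer_eq_top]; exact le_top) h1 hl)
    · right
      have hle : ⁅U, A⁆ ≤ ⁅V, A⁆ := Subgroup.commutator_mono (hU.trans hMV) le_rfl
      have hlU : ⁅V, A⁆ ≤ U := by
        rcases eq_bot_or_le_of_card_prime (Y := U) cA with h | h
        · exact absurd (le_bot_iff.mp ((le_inf hle (commutator_le_of_le_normalizer hAU)).trans h.le)) hc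
        · exact h
      have h1 : A ≤ actKernel M U := fun a ha => mem_actKernel.mpr ⟨hAM ha, hAU ha, fun m hm => hlU (by
        rw [Subgroup.commutator_comm]
        exact Subgroup.commutator_mem_commutator ha (hMV hm))⟩
      refine le_antisymm hU ?_
      rw [← hMM, Subgroup.commutator_le]
      intro m hm l hl
      rw [hL, ← S.comm_comm hA] at hl
      have := (commutator_le_actKernel hLM hLU h1 hl).2.2 m hm
      rw [← commutatorElement_inv]
      exact U.inv_mem this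
  -- a minimal subgroup of `L` moved by `A`
  have hLne : ¬ L ≤ Subgroup.centralizer (A : Set G) := by
    intro h
    have h1 : L = ⊥ := by
      rw [hL, ← S.comm_comm hA]
      exact Subgroup.commutator_eq_bot_iff_le_centralizer.mpr h
    exact hx₁A (Subgroup.commutator_eq_bot_iff_le_centralizer.mp h1 hx₁)
  obtain ⟨N, ⟨hNL, hLNn, hANn, hNA⟩, hNmin⟩ := Set.Finite.exists_minimal
    (Set.toFinite {N : Subgroup G | N ≤ L ∧ L ≤ Subgroup.normalizer (N : Set G) ∧
      A ≤ Subgroup.normalizer (N : Set G) ∧ ¬ N ≤ Subgroup.centralizer (A : Set G)})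
    ⟨L, le_rfl, Subgroup.le_normalizer, hAL, hLne⟩
  have hN' : ⁅N, N⁆ ≤ Subgroup.centralizer (A : Set G) ⊓ Subgroup.centralizer (L : Set G) := by
    have hn : ∀ X : Subgroup G, X ≤ Subgroup.normalizer (N : Set G) →
        X ≤ Subgroup.normalizer ((⁅N, N⁆ : Subgroup G) : Set G) := fun X hX x hx =>
      normalizer_inf_le_normalizer_commutator N N ⟨hX hx, hX hx⟩
    have hle : ⁅N, N⁆ ≤ N := Subgroup.commutator_le_self N
    have hNA' : ⁅N, N⁆ ≤ Subgroup.centralizer (A : Set G) := by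
      by_contra h
      have heq : ⁅N, N⁆ = N := le_antisymm hle
        (hNmin ⟨hle.trans hNL, hn L hLNn, hn A hANn, h⟩ hle)
      apply hNA
      rcases S.comm_isPGroup hA with ⟨-, h3⟩ | ⟨-, h3⟩
      · haveI : Fact (Nat.Prime 3) := ⟨Nat.prime_three⟩
        rw [eq_bot_of_commutator_eq_self_pgroup (h3.to_le hNL) (h3.to_le hNL) Subgroup.le_normalizer heq]
        exact bot_le
      · haveI : Fact (Nat.Prime 2) := ⟨Nat.prime_two⟩
        rw [eq_bot_of_commutator_eq_self_pgroup (h3.to_le hNL) (h3.to_le hNL) Subgroup.le_normalizer heq]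
        exact bot_le
    refine le_inf hNA' (Subgroup.le_centralizer_iff.mp fun l hl => ?_)
    rw [hL, ← S.comm_comm hA] at hl
    exact mem_centralizer_of_actKernel_bot (commutator_le_actKernel (hn L hLNn)
      (by rw [Subgroup.normalizer_eq_top]; exact le_top)
      (fun a ha => mem_actKernel_bot (Subgroup.le_centralizer_iff.mp hNA' ha)) hl)
  have hCLfix : ∀ e ∈ L ⊔ A, ∀ c ∈ CL, e * c * e⁻¹ = c := by
    intro e he c hc
    have hc' : c ∈ Subgroup.centralizer ((L ⊔ A : Subgroup G) : Set G) := mem_centralizer_sup hc.2 (hCLA hc)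
    rw [hc' e he, mul_inv_cancel_right]
  -- a central element of `LA` in `L` is trivial as soon as it fixes the line
  have hcentral : ∀ z ∈ L, z ∈ Subgroup.centralizer (L : Set G) → z ∈ Subgroup.centralizer (A : Set G) →
      ∀ w ∈ ⁅V, A⁆, w ≠ 1 → z * w * z⁻¹ = w → z = 1 := by
    intro z hzL hzcL hzcA w hw hw1 hzw
    have hn : ∀ X : Subgroup G, X ≤ Subgroup.normalizer (M : Set G) → z ∈ Subgroup.centralizer (X : Set G) →
        X ≤ Subgroup.normalizer ((M ⊓ Subgroup.centralizer ({z} : Set G) : Subgroup G) : Set G) :=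
      fun X hXM hz x hx => Subgroup.inf_normalizer_le_normalizer_inf ⟨hXM hx, by
        rw [← Subgroup.centralizer_closure, ← Subgroup.zpowers_eq_closure]
        exact mem_normalizer_centralizer_of_mem_normalizer (Subgroup.centralizer_le_normalizer _
          (Subgroup.le_centralizer_iff.mp (Subgroup.zpowers_le.mpr hz) hx))⟩
    rcases hirr (M ⊓ Subgroup.centralizer ({z} : Set G)) inf_le_left (hn L hLM hzcL) (hn A hAM hzcA)
      with h | h
    · refine absurd (Subgroup.mem_bot.mp (h ▸ Subgroup.mem_inf.mpr ⟨hlineM hw, ?_⟩)) hw1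
      rw [Subgroup.mem_centralizer_singleton_iff]
      exact (mul_inv_eq_iff_eq_mul.mp hzw).symm
    · refine S.eq_one_of_fixes (S.hQH (hLQ hzL)) fun v hv => ?_
      have hle : M ⊔ CL ≤ Subgroup.centralizer ({z} : Set G) := sup_le (inf_eq_left.mp h) fun c hc =>
        Subgroup.mem_centralizer_singleton_iff.mpr
          (mul_inv_eq_iff_eq_mul.mp (hCLfix z (Subgroup.mem_sup_left hzL) c hc)).symm
      rw [hsupM] at hle
      rw [← Subgroup.mem_centralizer_singleton_iff.mp (hle hv), mul_inv_cancel_right]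
  haveI : Nontrivial ↥(⁅V, A⁆) := Finite.one_lt_card_iff_nontrivial.mp (cA.symm ▸ hp.out.one_lt)
  obtain ⟨⟨w, hw⟩, hw1'⟩ := exists_ne (1 : ↥(⁅V, A⁆))
  have hw1 : w ≠ 1 := fun h => hw1' (Subtype.ext h)
  have hznorm : ∀ z ∈ L, z ∈ Subgroup.centralizer (A : Set G) → z * w * z⁻¹ ∈ ⁅V, A⁆ := fun z hz hzA =>
    (Subgroup.mem_normalizer_iff.mp (normalizer_inf_le_normalizer_commutator V A
      ⟨hLN hz, Subgroup.centralizer_le_normalizer _ hzA⟩) w).mp hw
  rcases S.comm_isPGroup hA with ⟨hp2, h3⟩ | ⟨hp3, h2⟩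
  · -- `p = 2`
    subst hp2
    haveI : Fact (Nat.Prime 3) := ⟨Nat.prime_three⟩
    set Z := L ⊓ Subgroup.centralizer (L : Set G) with hZ
    have hAZ : A ≤ Subgroup.normalizer (Z : Set G) := fun a ha =>
      Subgroup.inf_normalizer_le_normalizer_inf ⟨hAL ha, mem_normalizer_centralizer_of_mem_normalizer (hAL ha)⟩
    have hZne : ¬ Z ≤ Subgroup.centralizer (A : Set G) := by
      intro h
      haveI : Nontrivial L := (Subgroup.nontrivial_iff_ne_bot L).mpr fun h0 => hLne (h0 ▸ bot_le)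
      have := h3.center_nontrivial
      obtain ⟨⟨⟨z, hzL⟩, hzc⟩, hz1⟩ := exists_ne (1 : Subgroup.center L)
      have hzcL : z ∈ Subgroup.centralizer (L : Set G) := fun l hl =>
        congrArg Subtype.val (Subgroup.mem_center_iff.mp hzc ⟨l, hl⟩)
      apply hz1
      refine Subtype.ext (Subtype.ext (hcentral z hzL hzcL (h ⟨hzL, hzcL⟩) w hw hw1 ?_))
      have hcard := cA
      rw [Nat.card_eq_two_iff' (⟨1, one_mem _⟩ : ↥(⁅V, A⁆))] at hcard
      obtain ⟨y, -, huniq⟩ := hcard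
      have e1 := huniq ⟨w, hw⟩ (fun h => hw1 (congrArg Subtype.val h))
      have e2 := huniq ⟨_, hznorm z hzL (h ⟨hzL, hzcL⟩)⟩ (fun h => hw1 (by
        have h' : z * w * z⁻¹ = 1 := congrArg Subtype.val h
        rwa [conj_eq_one_iff] at h'))
      exact congrArg Subtype.val (e2.trans e1.symm)
    obtain ⟨x, hxZ, hxA⟩ := SetLike.not_le_iff_exists.mp hZne
    have hxQ : x ∈ Q := hLQ hxZ.1
    have P := S.slPair hA hxQ hxA
    refine ⟨x, hxQ, hxA, le_antisymm (hWM x hxQ hxA) ?_, hCLA⟩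
    set E := A ⊔ A.map (MulAut.conj x).toMonoidHom
    set D := E ⊓ Q with hD
    have hDZ : D ≤ Z := S.pair_inf_le hA (inf_le_left.trans hLQ) hAZ hxZ
    have hLD : L ≤ Subgroup.normalizer (D : Set G) :=
      (Subgroup.le_centralizer_iff.mp (hDZ.trans inf_le_right)).trans (Subgroup.centralizer_le_normalizer _)
    have hAD : A ≤ Subgroup.normalizer (D : Set G) := fun a ha =>
      Subgroup.inf_normalizer_le_normalizer_inf
        ⟨Subgroup.le_normalizer (P.leA ha), S.hHQ (hA.le ha)⟩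
    rcases hirr ⁅V, D⁆ (Subgroup.commutator_mono le_rfl (hDZ.trans inf_le_left))
      (fun l hl => normalizer_inf_le_normalizer_commutator V D ⟨hLN hl, hLD hl⟩)
      (fun a ha => normalizer_inf_le_normalizer_commutator V D ⟨hAN ha, hAD ha⟩) with h | h
    · exfalso
      obtain ⟨g, hg, hgw⟩ := P.noline
      refine hgw w (Subgroup.commutator_mono le_rfl P.leA hw) hw1 1 ?_
      rw [pow_one, (Subgroup.commutator_eq_bot_iff_le_centralizer.mp h
        ((qA hw).1)) g hg, mul_inv_cancel_right]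
    · rw [← h]
      exact Subgroup.commutator_mono le_rfl inf_le_left
  · -- `p = 3`
    subst hp3
    obtain ⟨x, hxN, hxA⟩ := SetLike.not_le_iff_exists.mp hNA
    have hxQ : x ∈ Q := hLQ (hNL hxN)
    have P := S.slPair hA hxQ hxA
    refine ⟨x, hxQ, hxA, ?_, hCLA⟩
    have hDN := S.pair_inf_le hA (hNL.trans hLQ) hANn hxN
    obtain ⟨-, g, hg, k, hk, hgk⟩ := P.three rfl
    set E := A ⊔ A.map (MulAut.conj x).toMonoidHom
    set z := ⁅g, k⁆ with hz
    have hz1 : z ≠ 1 := fun h => hgk (commutatorElement_eq_one_iff_mul_comm.mp h)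
    have hzE : z ∈ E := by
      rw [hz, commutatorElement_def]
      exact E.mul_mem (E.mul_mem (E.mul_mem hg.1 hk.1) (E.inv_mem hg.1)) (E.inv_mem hk.1)
    have hzN : z ∈ ⁅N, N⁆ := Subgroup.commutator_mem_commutator (hDN hg) (hDN hk)
    have hzL : z ∈ L := hNL (Subgroup.commutator_le_self N hzN)
    obtain ⟨hzcA, hzcL⟩ := hN' hzN
    have hw3 : w ^ 3 = 1 := S.hV.2 w (qA hw).1
    have hmem := hznorm z hzL hzcA
    obtain ⟨n, hn⟩ := Subgroup.mem_zpowers_iff.mp ((zpowers_eq_of_card_prime cA hw hw1).symm ▸ hmem)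
    have hinv : z * w * z⁻¹ = w⁻¹ := by
      have hn3 : w ^ n = w ^ (n % 3) := by
        conv_lhs => rw [← Int.emod_add_mul_ediv n 3, zpow_add, zpow_mul]
        rw [show (w : G) ^ (3 : ℤ) = 1 from by exact_mod_cast hw3, one_zpow, mul_one]
      rw [← hn, hn3]
      have h0 : 0 ≤ n % 3 := Int.emod_nonneg n (by norm_num)
      have h3' : n % 3 < 3 := Int.emod_lt_of_pos n (by norm_num)
      interval_cases h : n % 3
      · exfalso
        rw [hn3, zpow_zero] at hn
        exact hw1 (conj_eq_one_iff.mp hn.symm)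
      · exfalso
        rw [hn3, zpow_one] at hn
        exact hz1 (hcentral z hzL hzcL hzcA w hw hw1 hn.symm)
      · rw [eq_inv_iff_mul_eq_one, show (w : G) ^ (2 : ℤ) = w ^ (2 : ℕ) from zpow_natCast w 2, ← pow_succ, hw3]
    let U : Subgroup G :=
      { carrier := {m | m ∈ M ∧ z * m * z⁻¹ = m⁻¹}
        one_mem' := ⟨one_mem _, by simp⟩
        mul_mem' := fun {a b} ha hb => ⟨M.mul_mem ha.1 hb.1, by
          calc z * (a * b) * z⁻¹ = (z * a * z⁻¹) * (z * b * z⁻¹) := by group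
            _ = b⁻¹ * a⁻¹ := by
              rw [ha.2, hb.2]
              exact (commute_of_mem_comm S.hV.1 (V.inv_mem (hMV ha.1)) (V.inv_mem (hMV hb.1))).eq
            _ = (a * b)⁻¹ := by group⟩
        inv_mem' := fun {a} ha => ⟨M.inv_mem ha.1, by
          calc z * a⁻¹ * z⁻¹ = (z * a * z⁻¹)⁻¹ := by group
            _ = a⁻¹⁻¹ := by rw [ha.2]⟩ }
    have hUn : ∀ X : Subgroup G, X ≤ Subgroup.normalizer (M : Set G) →
        z ∈ Subgroup.centralizer (X : Set G) → X ≤ Subgroup.normalizer (U : Set G) := by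
      intro X hXM hzX
      rw [Subgroup.le_normalizer_iff]
      intro x hx m hm
      refine ⟨(Subgroup.mem_normalizer_iff.mp (hXM hx) m).mp hm.1, ?_⟩
      have hxz : z * x = x * z := (hzX x hx).symm
      have hxz' : x⁻¹ * z⁻¹ = z⁻¹ * x⁻¹ := by rw [← mul_inv_rev, hxz, mul_inv_rev]
      calc z * (x * m * x⁻¹) * z⁻¹ = (z * x) * m * (x⁻¹ * z⁻¹) := by group
        _ = x * (z * m * z⁻¹) * x⁻¹ := by rw [hxz, hxz']; group
        _ = (x * m * x⁻¹)⁻¹ := by rw [hm.2]; group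
    have hUM : U = M := (hirr U (fun m hm => hm.1) (hUn L hLM hzcL) (hUn A hAM hzcA)).resolve_left
      fun h => hw1 (Subgroup.mem_bot.mp (h ▸ (⟨hlineM hw, hinv⟩ : w ∈ U)))
    have hMCE : M ⊓ (V ⊓ Subgroup.centralizer (E : Set G)) = ⊥ := by
      rw [eq_bot_iff]
      rintro m ⟨hmM, hmV, hmE⟩
      have h1 : z * m * z⁻¹ = m⁻¹ := (hUM.symm ▸ hmM : m ∈ U).2
      rw [hmE z hzE, mul_inv_cancel_right] at h1
      have hm2 : m ^ 2 = 1 := by rw [pow_two]; exact mul_eq_one_iff_eq_inv.mpr h1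
      have hm3 : m ^ 3 = 1 := S.hV.2 m hmV
      rw [Subgroup.mem_bot]
      rw [pow_succ, hm2, one_mul] at hm3
      exact hm3
    refine le_antisymm (hWM x hxQ hxA) ?_
    intro m hm
    have hm' : m ∈ ((⁅V, E⁆ ⊔ (V ⊓ Subgroup.centralizer (E : Set G)) : Subgroup G) : Set G) :=
      P.sup.symm ▸ hMV hm
    rw [Subgroup.coe_mul_of_left_le_normalizer_right _ _ (fun u hu =>
      Subgroup.centralizer_le_normalizer _ (Subgroup.centralizer_le inf_le_left
        (Subgroup.le_centralizer_iff_isMulCommutative.mpr S.hV.1 (hMV (hWM x hxQ hxA hu)))))] at hm'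
    obtain ⟨u, hu, c, hc, rfl⟩ := hm'
    have hcM : c ∈ M ⊓ (V ⊓ Subgroup.centralizer (E : Set G)) := by
      refine ⟨?_, hc⟩
      have := M.mul_mem (M.inv_mem (hWM x hxQ hxA hu)) hm
      rwa [inv_mul_cancel_left] at this
    rw [hMCE, Subgroup.mem_bot] at hcM
    show u * c ∈ _
    rw [hcM, mul_one]
    exact hu

end FFSetup

end CfsgLib.PLocal
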