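import Cfsg.Agent.Lib.PLocal.QuadSubnormal
import Cfsg.Agent.Lib.PLocal.FFProduct

/-! Subnormal subgroups irreducible on their commutator modules. -/

set_option autoImplicit false

open scoped commutatorElement

namespace CfsgLib.PLocal

variable {G : Type*} [Group G] [Finite G] {p : ℕ} [hp : Fact p.Prime]

/-- A subnormal subgroup of `E` of order above two, irreducible on `[V, F]`. -/
structure IrrSub (V E F : Subgroup G) : Prop where
  le : F ≤ E
  sn : (F.subgroupOf E).IsSubnormal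
  irr : ∀ U : Subgroup G, U ≤ ⁅V, F⁆ → F ≤ Subgroup.normalizer (U : Set G) → U = ⊥ ∨ U = ⁅V, F⁆
  big : 2 < Nat.card F

/-- The standing hypotheses on `E`. -/
structure IrrCtx (p : ℕ) (V E : Subgroup G) : Prop where
  hV : Cfsg.IsElementaryAbelian p V
  hEV : E ≤ Subgroup.normalizer (V : Set G)
  hf : E ⊓ Subgroup.centralizer (V : Set G) = ⊥
  hOp : Cfsg.pCore p ↥E = ⊥

namespace IrrCtx

variable {V E : Subgroup G} (K : IrrCtx p V E)
include K

theorem eq_bot_of_subnormal_pgroup {X : Subgroup G} (hX : X ≤ E) (hs : (X.subgroupOf E).IsSubnormal)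
    (hp' : IsPGroup p X) : X = ⊥ := by
  have h := CfsgLib.Components.le_pCore_of_isSubnormal hs
    (hp'.comap_of_injective E.subtype E.subtype_injective)
  rw [K.hOp, le_bot_iff, Subgroup.subgroupOf_eq_bot, disjoint_iff, inf_eq_left.mpr hX] at h
  exact h

theorem chain_trivial {F N U : Subgroup G} (hF : F ≤ E) (hs : (F.subgroupOf E).IsSubnormal)
    (hN : N ≤ F) (hFN : F ≤ Subgroup.normalizer (N : Set G))
    (hfix : ∀ n ∈ N, ∀ u ∈ U, n * u * n⁻¹ = u) (hmod : ⁅V, N⁆ ≤ U) : N = ⊥ := by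
  refine K.eq_bot_of_subnormal_pgroup (hN.trans hF) ?_ ?_
  · refine Subgroup.IsSubnormal.step _ _ (Subgroup.comap_mono hN) hs ?_
    refine (Subgroup.normal_subgroupOf_iff_le_normalizer (Subgroup.comap_mono hN)).mpr fun j hj => ?_
    rw [Subgroup.mem_normalizer_iff]
    exact fun x => Subgroup.mem_normalizer_iff.mp (hFN hj) x
  · intro x
    refine ⟨1, Subtype.ext ?_⟩
    rw [pow_one, SubgroupClass.coe_pow, Subgroup.coe_one, ← Subgroup.mem_bot, ← K.hf]
    refine ⟨E.pow_mem (hF (hN x.2)) p, pow_mem_centralizer_of_step K.hV (K.hEV (hF (hN x.2)))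
      (hfix x x.2) fun v hv => ?_⟩
    rw [← commutatorElement_inv]
    exact U.inv_mem (hmod (Subgroup.commutator_mem_commutator hv x.2))

theorem fixed_eq_bot {F : Subgroup G} (hF : IrrSub V E F) :
    ⁅V, F⁆ ⊓ Subgroup.centralizer (F : Set G) = ⊥ := by
  refine (hF.irr _ inf_le_left fun f hf => ?_).resolve_right fun h => ?_
  · exact Subgroup.inf_normalizer_le_normalizer_inf ⟨Subgroup.normalizer_commutator_ge_right V F hf,
      mem_normalizer_centralizer_of_mem_normalizer (Subgroup.le_normalizer hf)⟩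
  · have h1 := K.chain_trivial hF.le hF.sn le_rfl Subgroup.le_normalizer (U := ⁅V, F⁆)
      (fun n hn u hu => by rw [inf_eq_left.mp h hu n hn, mul_inv_cancel_right]) le_rfl
    have h2 := hF.big
    rw [h1, Subgroup.card_bot] at h2
    omega

theorem commutator_self {F : Subgroup G} (hF : IrrSub V E F) : ⁅⁅V, F⁆, F⁆ = ⁅V, F⁆ := by
  refine (hF.irr _ (commutator_le_of_le_normalizer (Subgroup.normalizer_commutator_ge_right V F))
    (Subgroup.normalizer_commutator_ge_right _ F)).resolve_left fun h => ?_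
  have h0 := K.fixed_eq_bot hF
  rw [inf_eq_left.mpr (Subgroup.commutator_eq_bot_iff_le_centralizer.mp h)] at h0
  have h1 := eq_bot_of_commutator_faithful K.hf hF.le h0
  have h2 := hF.big
  rw [h1, Subgroup.card_bot] at h2
  omega

theorem conj {F : Subgroup G} (hF : IrrSub V E F) {g : G} (hg : g ∈ E) :
    IrrSub V E (F.map (MulAut.conj g).toMonoidHom) := by
  have hgV : g ∈ Subgroup.normalizer (V : Set G) := K.hEV hg
  refine ⟨?_, ?_, ?_, ?_⟩
  · rintro _ ⟨f, hf, rfl⟩
    exact E.mul_mem (E.mul_mem hg (hF.le hf)) (E.inv_mem hg)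
  · have he : (F.map (MulAut.conj g).toMonoidHom).subgroupOf E =
        (F.subgroupOf E).map (MulAut.conj (⟨g, hg⟩ : E)).toMonoidHom := by
      ext x
      constructor
      · intro hx
        obtain ⟨f, hf, hfx⟩ := (Subgroup.mem_subgroupOf.mp hx : (x : G) ∈ F.map _)
        exact ⟨⟨f, hF.le hf⟩, hf, Subtype.ext hfx⟩
      · rintro ⟨f, hf, rfl⟩
        exact ⟨f, hf, rfl⟩
    rw [he]
    exact CfsgLib.Components.isSubnormal_map_conj hF.sn _
  · intro U hU hn
    rw [commutator_map_conj hgV] at hU ⊢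
    set c := (MulAut.conj g).toMonoidHom with hc
    have hinj : Function.Injective c := (MulAut.conj g).injective
    have hU' : U.comap c ≤ ⁅V, F⁆ := by
      intro x hx
      exact (Subgroup.mem_map_iff_mem hinj).mp (hU hx)
    have hn' : F ≤ Subgroup.normalizer (U.comap c : Set G) := by
      intro f hf
      rw [Subgroup.mem_normalizer_iff]
      intro x
      rw [Subgroup.mem_comap, Subgroup.mem_comap, map_mul, map_mul, map_inv]
      exact Subgroup.mem_normalizer_iff.mp (hn (Subgroup.mem_map_of_mem c hf)) _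
    have hmap : (U.comap c).map c = U :=
      Subgroup.map_comap_eq_self_of_surjective (MulAut.conj g).surjective U
    rcases hF.irr _ hU' hn' with h | h
    · exact Or.inl (by rw [← hmap, h, Subgroup.map_bot])
    · exact Or.inr (by rw [← hmap, h])
  · rw [Subgroup.card_map_of_injective (MulAut.conj g).injective]
    exact hF.big

theorem restrict {E' : Subgroup G} (hE' : E' ≤ E) (hs : (E'.subgroupOf E).IsSubnormal) :
    IrrCtx p V E' := by
  refine ⟨K.hV, hE'.trans K.hEV, ?_, ?_⟩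
  · rw [eq_bot_iff, ← K.hf]
    exact inf_le_inf_right _ hE'
  · set X := (Cfsg.pCore p E').map E'.subtype with hX
    haveI : (Cfsg.pCore p E').Normal := CfsgLib.Solvable.pCore_normal p E'
    have hXle : X ≤ E' := Subgroup.map_subtype_le _
    have h1 : X = ⊥ := by
      refine K.eq_bot_of_subnormal_pgroup (hXle.trans hE') ?_ ((CfsgLib.Solvable.pCore_isPGroup p E').map _)
      refine Subgroup.IsSubnormal.step _ _ (Subgroup.comap_mono hXle) hs ?_
      refine (Subgroup.normal_subgroupOf_iff_le_normalizer (Subgroup.comap_mono hXle)).mpr fun j hj => ?_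
      rw [Subgroup.mem_normalizer_iff]
      intro x
      have hn : (j : G) ∈ Subgroup.normalizer (X : Set G) :=
        Subgroup.le_normalizer_map E'.subtype ⟨⟨j, hj⟩, by rw [Subgroup.normalizer_eq_top]; trivial, rfl⟩
      exact Subgroup.mem_normalizer_iff.mp hn x
    exact (Subgroup.map_eq_bot_iff_of_injective _ E'.subtype_injective).mp h1

omit [Finite G] in
theorem mem_sup_mul {X Y : Subgroup G} (hX : X ≤ V) (hY : Y ≤ V) {v : G} (hv : v ∈ X ⊔ Y) :
    ∃ x ∈ X, ∃ y ∈ Y, v = x * y := by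
  have hv' : v ∈ ((X ⊔ Y : Subgroup G) : Set G) := hv
  rw [Subgroup.coe_mul_of_left_le_normalizer_right X Y (fun u hu =>
    Subgroup.centralizer_le_normalizer _ (Subgroup.centralizer_le hY
      (Subgroup.le_centralizer_iff_isMulCommutative.mpr K.hV.1 (hX hu))))] at hv'
  obtain ⟨x, hx, y, hy, rfl⟩ := hv'
  exact ⟨x, hx, y, hy, rfl⟩

/-- Conclusion once `[V, E₁, E₂] = 1`. -/
theorem split {E₁ E₂ : Subgroup G} (h₁ : IrrSub V E E₁) (h₂ : IrrSub V E E₂)
    (h12 : ¬ ⁅V, E₁⁆ ≤ ⁅V, E₂⁆) (hc : ⁅⁅V, E₁⁆, E₂⁆ = ⊥) :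
    ⁅E₁, E₂⁆ = ⊥ ∧ ⁅V, E₁⁆ ⊓ ⁅V, E₂⁆ = ⊥ := by
  have h := commutator_le_pCore_of_chain K.hV K.hEV K.hf h₁.le h₂.le h₁.sn h₂.sn hc
  rw [K.hOp, Subgroup.map_bot, le_bot_iff] at h
  refine ⟨h, (h₁.irr _ inf_le_left fun e he => ?_).resolve_right fun heq => h12 (inf_eq_left.mp heq)⟩
  refine Subgroup.inf_normalizer_le_normalizer_inf ⟨Subgroup.normalizer_commutator_ge_right V E₁ he,
    normalizer_inf_le_normalizer_commutator V E₂ ⟨K.hEV (h₁.le he), ?_⟩⟩
  exact Subgroup.centralizer_le_normalizer _ (Subgroup.commutator_eq_bot_iff_le_centralizer.mp h he)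

end IrrCtx

/-- The difference map of a moved module lands in the commutator. -/
theorem diff_mem {V X : Subgroup G} {F : Subgroup G} {x w : G} (hx : x ∈ F) (hw : w ∈ X) (hX : X ≤ V) :
    w * (x * w * x⁻¹)⁻¹ ∈ ⁅V, F⁆ := by
  have : w * (x * w * x⁻¹)⁻¹ = ⁅w, x⁆ := by rw [commutatorElement_def]; group
  rw [this]
  exact Subgroup.commutator_mem_commutator (hX hw) hx

theorem irr_pair_aux : ∀ (n : ℕ) (V E : Subgroup G), IrrCtx p V E → ∀ E₁ E₂ : Subgroup G,
    Nat.card E ≤ n → E = E₁ ⊔ E₂ → IrrSub V E E₁ → IrrSub V E E₂ →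
    ¬ ⁅V, E₁⁆ ≤ ⁅V, E₂⁆ → ¬ ⁅V, E₂⁆ ≤ ⁅V, E₁⁆ → ⁅⁅V, E₁⁆, E₂⁆ = ⊥ := by
  intro n
  induction n with
  | zero => intro V E _ E₁ E₂ hn; have := Nat.card_pos (α := E); omega
  | succ n ih =>
  intro V E K E₁ E₂ hn hgen h₁ h₂ h12 h21
  -- facts about one moved module
  have moved : ∀ F₁ F₂ : Subgroup G, E = F₁ ⊔ F₂ → IrrSub V E F₁ → IrrSub V E F₂ →
      ¬ ⁅V, F₁⁆ ≤ ⁅V, F₂⁆ → ¬ ⁅V, F₂⁆ ≤ ⁅V, F₁⁆ → ∀ x ∈ E,
      (⁅V, F₁⁆).map (MulAut.conj x).toMonoidHom ≠ ⁅V, F₁⁆ →
      ⁅V, F₁⁆ ⊓ (⁅V, F₁⁆).map (MulAut.conj x).toMonoidHom = ⊥ ∧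
        (⁅V, F₁⁆).map (MulAut.conj x).toMonoidHom ≤ Subgroup.centralizer (F₁ : Set G) := by
    intro F₁ F₂ hg hF₁ hF₂ _ hn21 x hx hne
    set F' := F₁.map (MulAut.conj x).toMonoidHom with hF'
    have hI' := K.conj hF₁ hx
    have hne' : F₁.subgroupOf E ≠ ⊤ := by
      intro h
      rw [Subgroup.subgroupOf_eq_top] at h
      exact hn21 (Subgroup.commutator_mono le_rfl (hF₂.le.trans h))
    obtain ⟨N, hNn, hFN, hNlt⟩ := hF₁.sn.exists_normal_and_le_and_lt_top_of_ne hne'
    set E' := F₁ ⊔ F' with hE'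
    have hE'E : E' ≤ E := sup_le hF₁.le hI'.le
    have hE'N : E'.subgroupOf E ≤ N := by
      rw [hE', Subgroup.subgroupOf_sup hF₁.le hI'.le]
      refine sup_le hFN ?_
      intro y hy
      obtain ⟨f, hf, hfy⟩ := (Subgroup.mem_subgroupOf.mp hy : (y : G) ∈ F')
      have h := hNn.conj_mem ⟨f, hF₁.le hf⟩ (hFN hf) ⟨x, hx⟩
      convert h using 1
      exact Subtype.ext hfy.symm
    have hlt : Nat.card E' < Nat.card E := by
      rw [← Nat.card_congr (Subgroup.subgroupOfEquivOfLe hE'E).toEquiv]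
      have h1 : Nat.card N < Nat.card E := by
        by_contra hc
        exact hNlt.ne (Subgroup.eq_top_of_card_eq N
          (le_antisymm (Subgroup.card_le_card_group N) (not_lt.mp hc)))
      exact lt_of_le_of_lt (Subgroup.card_le_of_le hE'N) h1
    have hsn : (E'.subgroupOf E).IsSubnormal := by
      rw [hE', Subgroup.subgroupOf_sup hF₁.le hI'.le]
      exact CfsgLib.Subnormal.isSubnormal_sup hF₁.sn hI'.sn
    have K' := K.restrict hE'E hsn
    have i1 : IrrSub V E' F₁ :=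
      ⟨le_sup_left, hF₁.sn.comap (Subgroup.inclusion hE'E), hF₁.irr, hF₁.big⟩
    have i2 : IrrSub V E' F' :=
      ⟨le_sup_right, hI'.sn.comap (Subgroup.inclusion hE'E), hI'.irr, hI'.big⟩
    have hVx : ⁅V, F'⁆ = (⁅V, F₁⁆).map (MulAut.conj x).toMonoidHom := commutator_map_conj (K.hEV hx)
    have hcard : Nat.card ↥(⁅V, F'⁆) = Nat.card ↥(⁅V, F₁⁆) := by
      rw [hVx, Subgroup.card_map_of_injective (MulAut.conj x).injective]
    have a12 : ¬ ⁅V, F₁⁆ ≤ ⁅V, F'⁆ := fun h => hne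
      (hVx ▸ (Subgroup.eq_of_le_of_card_ge h hcard.le).symm)
    have a21 : ¬ ⁅V, F'⁆ ≤ ⁅V, F₁⁆ := fun h => hne
      (hVx ▸ Subgroup.eq_of_le_of_card_ge h hcard.ge)
    have hbot := ih V E' K' F₁ F' (by omega) hE' i1 i2 a12 a21
    have hbot' := ih V E' K' F' F₁ (by omega) (by rw [hE', sup_comm]) i2 i1 a21 a12
    obtain ⟨-, hd⟩ := K'.split i1 i2 a12 hbot
    rw [hVx] at hd
    refine ⟨hd, ?_⟩
    rw [← hVx]
    exact Subgroup.commutator_eq_bot_iff_le_centralizer.mp hbot'
  -- a fixed module and a moved one are incompatible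
  have fixed_moved : ∀ F₁ F₂ : Subgroup G, E = F₁ ⊔ F₂ → IrrSub V E F₁ → IrrSub V E F₂ →
      ¬ ⁅V, F₁⁆ ≤ ⁅V, F₂⁆ → ¬ ⁅V, F₂⁆ ≤ ⁅V, F₁⁆ →
      E ≤ Subgroup.normalizer ((⁅V, F₂⁆ : Subgroup G) : Set G) →
      E ≤ Subgroup.normalizer ((⁅V, F₁⁆ : Subgroup G) : Set G) := by
    intro F₁ F₂ hg hF₁ hF₂ a12 a21 hfix
    refine hg ▸ sup_le (Subgroup.normalizer_commutator_ge_right V F₁) fun x hx => ?_
    by_contra hne
    have hne' : (⁅V, F₁⁆).map (MulAut.conj x).toMonoidHom ≠ ⁅V, F₁⁆ :=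
      fun h => hne (mem_normalizer_of_map_conj_eq h)
    obtain ⟨-, hcen⟩ := moved F₁ F₂ hg hF₁ hF₂ a12 a21 x (hF₂.le hx) hne'
    apply a12
    rw [← K.commutator_self hF₁, Subgroup.commutator_le]
    intro w hw e he
    have hwV : w ∈ V := commutator_le_of_le_normalizer (hF₁.le.trans K.hEV) hw
    have hd := diff_mem (V := V) (X := ⁅V, F₁⁆) hx hw (commutator_le_of_le_normalizer (hF₁.le.trans K.hEV))
    have hw' : e * (x * w * x⁻¹) = x * w * x⁻¹ * e := hcen ⟨w, hw, rfl⟩ e he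
    have h1 := (Subgroup.mem_normalizer_iff.mp (hfix (hF₁.le he)) _).mp hd
    have h2 := Subgroup.mul_mem _ hd (Subgroup.inv_mem _ h1)
    have hvc : x * w * x⁻¹ ∈ V := (Subgroup.mem_normalizer_iff.mp (K.hEV (hF₂.le hx)) w).mp hwV
    have hew : e * w * e⁻¹ ∈ V := (Subgroup.mem_normalizer_iff.mp (K.hEV (hF₁.le he)) w).mp hwV
    have e3 : e * (x * w * x⁻¹) * e⁻¹ = x * w * x⁻¹ := by rw [hw', mul_inv_cancel_right]
    have e2 : e * (w * (x * w * x⁻¹)⁻¹) * e⁻¹ = e * w * e⁻¹ * (x * w * x⁻¹)⁻¹ := by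
      calc e * (w * (x * w * x⁻¹)⁻¹) * e⁻¹ = (e * w * e⁻¹) * (e * (x * w * x⁻¹) * e⁻¹)⁻¹ := by group
        _ = e * w * e⁻¹ * (x * w * x⁻¹)⁻¹ := by rw [e3]
    rw [e2] at h2
    have e4 : ⁅w, e⁆ = w * (e * w * e⁻¹)⁻¹ := by rw [commutatorElement_def]; group
    rw [e4]
    convert h2 using 1
    group
  -- the smaller module cannot have its partner moved
  have small_fixed : ∀ F₁ F₂ : Subgroup G, E = F₁ ⊔ F₂ → IrrSub V E F₁ → IrrSub V E F₂ →
      ¬ ⁅V, F₁⁆ ≤ ⁅V, F₂⁆ → ¬ ⁅V, F₂⁆ ≤ ⁅V, F₁⁆ →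
      Nat.card ↥(⁅V, F₂⁆) ≤ Nat.card ↥(⁅V, F₁⁆) →
      E ≤ Subgroup.normalizer ((⁅V, F₁⁆ : Subgroup G) : Set G) := by
    intro F₁ F₂ hg hF₁ hF₂ a12 a21 hcard
    refine hg ▸ sup_le (Subgroup.normalizer_commutator_ge_right V F₁) fun x hx => ?_
    by_contra hne
    set V₁ := ⁅V, F₁⁆ with hV₁
    set W' := V₁.map (MulAut.conj x).toMonoidHom with hW'
    have hne' : W' ≠ V₁ := fun h => hne (mem_normalizer_of_map_conj_eq h)
    obtain ⟨hd, hcen⟩ := moved F₁ F₂ hg hF₁ hF₂ a12 a21 x (hF₂.le hx) hne'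
    have hV1V : V₁ ≤ V := commutator_le_of_le_normalizer (hF₁.le.trans K.hEV)
    have hV2V : ⁅V, F₂⁆ ≤ V := commutator_le_of_le_normalizer (hF₂.le.trans K.hEV)
    have hxV : x ∈ Subgroup.normalizer (V : Set G) := K.hEV (hF₂.le hx)
    have hW'V : W' ≤ V := (Subgroup.map_mono hV1V).trans (map_conj_eq_of_mem_normalizer hxV).le
    let δ : V₁ →* G :=
      { toFun := fun w => (w : G) * (x * w * x⁻¹)⁻¹
        map_one' := by simp
        map_mul' := fun u w => by
          have hc : Commute (x * (u : G) * x⁻¹)⁻¹ ((w : G) * (x * w * x⁻¹)⁻¹) :=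
            commute_of_mem_comm K.hV.1 (V.inv_mem (hW'V ⟨u, u.2, rfl⟩))
              (V.mul_mem (hV1V w.2) (V.inv_mem (hW'V ⟨w, w.2, rfl⟩)))
          calc ((u * w : V₁) : G) * (x * ((u * w : V₁) : G) * x⁻¹)⁻¹
              = (u : G) * ((w : G) * (x * w * x⁻¹)⁻¹ * (x * (u : G) * x⁻¹)⁻¹) := by
                rw [Subgroup.coe_mul]; group
            _ = (u : G) * (x * (u : G) * x⁻¹)⁻¹ * ((w : G) * (x * w * x⁻¹)⁻¹) := by
                rw [← hc.eq]; group }
    have hδ : Function.Injective δ := by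
      rw [injective_iff_map_eq_one]
      intro w hw
      have hw2 : (w : G) = x * w * x⁻¹ := mul_inv_eq_one.mp hw
      have hmem : (w : G) ∈ V₁ ⊓ W' := ⟨w.2, hw2 ▸ Subgroup.mem_map_of_mem (MulAut.conj x).toMonoidHom w.2⟩
      rw [hd, Subgroup.mem_bot] at hmem
      exact Subtype.ext hmem
    have hTle : δ.range ≤ ⁅V, F₂⁆ := by
      rintro _ ⟨w, rfl⟩
      exact diff_mem hx w.2 hV1V
    have hT : δ.range = ⁅V, F₂⁆ := Subgroup.eq_of_le_of_card_ge hTle
      (hcard.trans (Nat.card_congr (MonoidHom.ofInjective hδ).toEquiv).le)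
    have hV2le : ⁅V, F₂⁆ ≤ V₁ ⊔ W' := by
      rw [← hT]
      rintro _ ⟨w, rfl⟩
      exact Subgroup.mul_mem_sup w.2 (W'.inv_mem ⟨w, w.2, rfl⟩)
    have hV12 : V₁ ⊓ ⁅V, F₂⁆ = ⊥ ∧ W' ⊓ ⁅V, F₂⁆ = ⊥ := by
      constructor <;>
      · rw [eq_bot_iff, ← hT]
        rintro _ ⟨hy, w, rfl⟩
        have hu : δ w = (w : G) * (x * w * x⁻¹)⁻¹ := rfl
        rw [Subgroup.mem_bot]
        have hyd : δ w * 1 = δ w := mul_one _
        suffices hw1 : w = 1 by rw [hw1, map_one]
        refine Subtype.ext ?_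
        have hxw : x * (w : G) * x⁻¹ ∈ W' := ⟨w, w.2, rfl⟩
        first
          | (have h1 : x * (w : G) * x⁻¹ ∈ V₁ ⊓ W' := by
              refine ⟨?_, hxw⟩
              have h2 := V₁.mul_mem (V₁.inv_mem hy) w.2
              rw [hu] at h2
              rwa [mul_inv_rev, inv_inv, mul_assoc, inv_mul_cancel, mul_one] at h2
             rw [hd, Subgroup.mem_bot, conj_eq_one_iff] at h1
             exact h1)
          | (have h1 : (w : G) ∈ V₁ ⊓ W' := by
              refine ⟨w.2, ?_⟩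
              have h2 := W'.mul_mem hy hxw
              rw [hu] at h2
              rwa [inv_mul_cancel_right] at h2
             rw [hd, Subgroup.mem_bot] at h1
             exact h1)
    have horbit : ∀ y ∈ F₂, V₁.map (MulAut.conj y).toMonoidHom = V₁ ∨
        V₁.map (MulAut.conj y).toMonoidHom = W' := by
      intro y hy
      refine or_iff_not_imp_left.mpr fun hy' => ?_
      obtain ⟨-, hcy⟩ := moved F₁ F₂ hg hF₁ hF₂ a12 a21 y (hF₂.le hy) hy'
      refine Subgroup.eq_of_le_of_card_ge ?_ (by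
        rw [hW', Subgroup.card_map_of_injective (MulAut.conj x).injective,
          Subgroup.card_map_of_injective (MulAut.conj y).injective])
      rintro _ ⟨w, hw, rfl⟩
      show y * w * y⁻¹ ∈ W'
      have h1 := hV2le (diff_mem (V := V) (X := V₁) hy hw hV1V)
      obtain ⟨a, ha, b, hb, hab⟩ := K.mem_sup_mul hV1V hW'V h1
      have h3 : y * w * y⁻¹ = b⁻¹ * (a⁻¹ * w) := by
        have h4 : (y * w * y⁻¹)⁻¹ = w⁻¹ * (a * b) := by rw [← hab, inv_mul_cancel_left]
        rw [← inv_inv (y * w * y⁻¹), h4]; group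
      have h5 : a⁻¹ * w ∈ V₁ ⊓ Subgroup.centralizer (F₁ : Set G) := by
        refine ⟨V₁.mul_mem (V₁.inv_mem ha) hw, ?_⟩
        have h6 := Subgroup.mul_mem _ (hcen hb) (hcy ⟨w, hw, rfl⟩)
        rwa [show b * ((MulAut.conj y).toMonoidHom w) = a⁻¹ * w by
          show b * (y * w * y⁻¹) = _
          rw [h3, mul_inv_cancel_left]] at h6
      rw [K.fixed_eq_bot hF₁, Subgroup.mem_bot] at h5
      rw [h3, h5, mul_one]
      exact W'.inv_mem hb
    set N := F₂ ⊓ Subgroup.centralizer ((V₁ ⊔ W' : Subgroup G) : Set G) with hN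
    have hkey : ∀ y ∈ F₂, V₁.map (MulAut.conj y).toMonoidHom = V₁ → y ∈ N := by
      intro y hy hy1
      have hyW : W'.map (MulAut.conj y).toMonoidHom = W' := by
        have hmul : W'.map (MulAut.conj y).toMonoidHom = V₁.map (MulAut.conj (y * x)).toMonoidHom := by
          rw [hW', Subgroup.map_map]
          congr 1
          ext z
          simp [MulAut.conj_apply, mul_assoc]
        rcases horbit (y * x) (F₂.mul_mem hy hx) with h | h
        · exfalso
          apply hne'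
          have h2 : W'.map (MulAut.conj y).toMonoidHom = V₁.map (MulAut.conj y).toMonoidHom := by
            rw [hmul, h, hy1]
          exact Subgroup.map_injective (MulAut.conj y).injective h2
        · rw [hmul, h]
      refine ⟨hy, mem_centralizer_sup ?_ ?_⟩
      · intro w hw
        have hyn : y ∈ Subgroup.normalizer (V₁ : Set G) := mem_normalizer_of_map_conj_eq hy1
        have h1 : ⁅w, y⁆ ∈ V₁ ⊓ ⁅V, F₂⁆ := by
          refine ⟨?_, Subgroup.commutator_mem_commutator (hV1V hw) hy⟩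
          rw [← commutatorElement_inv]
          exact V₁.inv_mem (commElt_mem_of_normalizer hyn hw)
        rw [hV12.1, Subgroup.mem_bot, commutatorElement_eq_one_iff_mul_comm] at h1
        exact h1
      · intro w hw
        have hyn : y ∈ Subgroup.normalizer (W' : Set G) := mem_normalizer_of_map_conj_eq hyW
        have h1 : ⁅w, y⁆ ∈ W' ⊓ ⁅V, F₂⁆ := by
          refine ⟨?_, Subgroup.commutator_mem_commutator (hW'V hw) hy⟩
          rw [← commutatorElement_inv]
          exact W'.inv_mem (commElt_mem_of_normalizer hyn hw)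
        rw [hV12.2, Subgroup.mem_bot, commutatorElement_eq_one_iff_mul_comm] at h1
        exact h1
    have hNfix : ∀ y ∈ N, V₁.map (MulAut.conj y).toMonoidHom = V₁ := fun y hy =>
      map_conj_eq_of_mem_normalizer (Subgroup.centralizer_le_normalizer _
        (Subgroup.centralizer_le (le_sup_left : V₁ ≤ V₁ ⊔ W') hy.2))
    have hN1 : N = ⊥ := by
      refine K.chain_trivial hF₂.le hF₂.sn inf_le_left ?_ (U := V₁ ⊔ W')
        (fun y hy u hu => by rw [hy.2 u hu |>.symm, mul_inv_cancel_right]) ?_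
      · rw [Subgroup.le_normalizer_iff]
        intro g hg' y hy
        refine hkey _ (F₂.mul_mem (F₂.mul_mem hg' hy.1) (F₂.inv_mem hg')) ?_
        rcases horbit g⁻¹ (F₂.inv_mem hg') with h | h
        · have hg1 : V₁.map (MulAut.conj g).toMonoidHom = V₁ := by
            conv_lhs => rw [← h]
            rw [Subgroup.map_map]
            convert Subgroup.map_id V₁ using 2
            ext z
            simp [MulAut.conj_apply, mul_assoc]
          refine map_conj_eq_of_mem_normalizer ?_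
          have hgn := mem_normalizer_of_map_conj_eq hg1
          exact mul_mem (mul_mem hgn (mem_normalizer_of_map_conj_eq (hNfix y hy))) (inv_mem hgn)
        · refine map_conj_eq_of_mem_normalizer ?_
          rw [Subgroup.mem_normalizer_iff]
          intro z
          have hyW : y ∈ Subgroup.normalizer (W' : Set G) := Subgroup.centralizer_le_normalizer _
            (Subgroup.centralizer_le (le_sup_right : W' ≤ V₁ ⊔ W') hy.2)
          have e1 : ∀ z, g⁻¹ * z * g ∈ W' ↔ z ∈ V₁ := fun z => by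
            rw [← h]
            constructor
            · rintro ⟨u, hu, hue⟩
              have : u = z := by
                have h' : g⁻¹ * u * g⁻¹⁻¹ = g⁻¹ * z * g := hue
                simpa using h'
              exact this ▸ hu
            · intro hz
              exact ⟨z, hz, by simp [MulAut.conj_apply]⟩
          rw [← e1 z, ← e1 (g * y * g⁻¹ * z * (g * y * g⁻¹)⁻¹)]
          rw [show g⁻¹ * (g * y * g⁻¹ * z * (g * y * g⁻¹)⁻¹) * g = y * (g⁻¹ * z * g) * y⁻¹ by group]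
          exact Subgroup.mem_normalizer_iff.mp hyW _
      · exact (Subgroup.commutator_mono le_rfl inf_le_left).trans hV2le
    have hcard2 : Nat.card F₂ ≤ 2 := by
      classical
      refine le_trans (Nat.card_le_card_of_injective
        (fun y : F₂ => decide (V₁.map (MulAut.conj (y : G)).toMonoidHom = V₁)) ?_) (by simp)
      intro y z hyz
      have hyz' : V₁.map (MulAut.conj (y : G)).toMonoidHom = V₁.map (MulAut.conj (z : G)).toMonoidHom := by
        simp only [decide_eq_decide] at hyz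
        rcases horbit y y.2 with hy | hy <;> rcases horbit z z.2 with hz | hz
        · rw [hy, hz]
        · exact absurd (hz.symm.trans (hyz.mp hy)) hne'
        · exact absurd (hy.symm.trans (hyz.mpr hz)) hne'
        · rw [hy, hz]
      have h1 : V₁.map (MulAut.conj ((z : G)⁻¹ * y)).toMonoidHom = V₁ := by
        have h2 := congrArg (Subgroup.map (MulAut.conj (z : G)⁻¹).toMonoidHom) hyz'
        rw [Subgroup.map_map, Subgroup.map_map] at h2
        convert h2 using 1
        · congr 1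
          ext u
          simp [MulAut.conj_apply, mul_assoc]
        · symm
          convert Subgroup.map_id V₁ using 2
          ext u
          simp [MulAut.conj_apply, mul_assoc]
      have h3 := hkey _ (F₂.mul_mem (F₂.inv_mem z.2) y.2) h1
      rw [hN1, Subgroup.mem_bot, inv_mul_eq_one] at h3
      exact Subtype.ext h3.symm
    exact absurd hF₂.big (not_lt.mpr hcard2)
  -- conclusion
  have hboth : E ≤ Subgroup.normalizer ((⁅V, E₁⁆ : Subgroup G) : Set G) ∧
      E ≤ Subgroup.normalizer ((⁅V, E₂⁆ : Subgroup G) : Set G) := by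
    have hgen' : E = E₂ ⊔ E₁ := by rw [hgen, sup_comm]
    rcases le_total (Nat.card ↥(⁅V, E₂⁆)) (Nat.card ↥(⁅V, E₁⁆)) with h | h
    · have h1 := small_fixed E₁ E₂ hgen h₁ h₂ h12 h21 h
      exact ⟨h1, fixed_moved E₂ E₁ hgen' h₂ h₁ h21 h12 h1⟩
    · have h1 := small_fixed E₂ E₁ hgen' h₂ h₁ h21 h12 h
      exact ⟨fixed_moved E₁ E₂ hgen h₁ h₂ h12 h21 h1, h1⟩
  have hinf : ⁅V, E₁⁆ ⊓ ⁅V, E₂⁆ = ⊥ :=
    (h₁.irr _ inf_le_left fun e he => Subgroup.inf_normalizer_le_normalizer_inf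
      ⟨hboth.1 (h₁.le he), hboth.2 (h₁.le he)⟩).resolve_right fun h => h12 (inf_eq_left.mp h)
  rw [eq_bot_iff, ← hinf]
  refine le_inf (commutator_le_of_le_normalizer (h₂.le.trans hboth.1)) ?_
  exact Subgroup.commutator_mono (commutator_le_of_le_normalizer (h₁.le.trans K.hEV)) le_rfl

end CfsgLib.PLocal
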