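import Cfsg.Agent.Lib.PLocal.FFStruct
import Cfsg.Agent.Lib.Subnormal.Join
import Cfsg.Agent.Lib.Components.Subnormal

/-! `[V, E₁, E₂] = 1` for subnormal subgroups. -/

set_option autoImplicit false

open scoped commutatorElement

namespace CfsgLib.PLocal

variable {G : Type*} [Group G] [Finite G] {p : ℕ}

theorem commutator_le_pCore_of_chain {V H E₁ E₂ : Subgroup G}
    (hV : Cfsg.IsElementaryAbelian p V) (hHV : H ≤ Subgroup.normalizer (V : Set G))
    (hf : H ⊓ Subgroup.centralizer (V : Set G) = ⊥) (h₁ : E₁ ≤ H) (h₂ : E₂ ≤ H)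
    (hs₁ : (E₁.subgroupOf H).IsSubnormal) (hs₂ : (E₂.subgroupOf H).IsSubnormal)
    (hc : ⁅⁅V, E₁⁆, E₂⁆ = ⊥) : ⁅E₁, E₂⁆ ≤ (Cfsg.pCore p H).map H.subtype := by
  set W := ⁅V, E₁⁆ with hW
  have hWV : W ≤ V := commutator_le_of_le_normalizer (h₁.trans hHV)
  have hE1W : E₁ ≤ Subgroup.normalizer (W : Set G) := Subgroup.normalizer_commutator_ge_right V E₁
  have hE2W : E₂ ≤ Subgroup.centralizer (W : Set G) :=
    Subgroup.le_centralizer_iff.mp (Subgroup.commutator_eq_bot_iff_le_centralizer.mp hc)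
  set J := E₁ ⊔ E₂ with hJ
  have hJH : J ≤ H := sup_le h₁ h₂
  have hJW : J ≤ Subgroup.normalizer (W : Set G) :=
    sup_le hE1W (hE2W.trans (Subgroup.centralizer_le_normalizer _))
  set X := J ⊓ (actKernel V W ⊓ actKernel W ⊥) with hX
  have hJn : J ≤ Subgroup.normalizer (X : Set G) := by
    rw [Subgroup.le_normalizer_iff]
    intro j hj x hx
    exact ⟨J.mul_mem (J.mul_mem hj hx.1) (J.inv_mem hj),
      conj_mem_actKernel (hHV (hJH hj)) (hJW hj) hx.2.1,
      conj_mem_actKernel (hJW hj) (by rw [Subgroup.normalizer_eq_top]; trivial) hx.2.2⟩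
  have hXp : IsPGroup p X := by
    intro x
    refine ⟨1, Subtype.ext ?_⟩
    rw [pow_one, SubgroupClass.coe_pow, Subgroup.coe_one, ← Subgroup.mem_bot, ← hf]
    refine ⟨H.pow_mem (hJH x.2.1) p, pow_mem_centralizer_of_step hV x.2.2.1.1 (fun w hw => ?_) x.2.2.1.2.2⟩
    rw [← mem_centralizer_of_actKernel_bot x.2.2.2 w hw, mul_inv_cancel_right]
  have hsub : (J.subgroupOf H).IsSubnormal := by
    rw [hJ, Subgroup.subgroupOf_sup h₁ h₂]
    exact CfsgLib.Subnormal.isSubnormal_sup hs₁ hs₂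
  have hXJ : (X.subgroupOf H).IsSubnormal := by
    refine Subgroup.IsSubnormal.step _ _ (Subgroup.comap_mono inf_le_left) hsub ?_
    refine (Subgroup.normal_subgroupOf_iff_le_normalizer (Subgroup.comap_mono (inf_le_left : X ≤ J))).mpr ?_
    intro j hj
    rw [Subgroup.mem_normalizer_iff]
    intro x
    exact Subgroup.mem_normalizer_iff.mp (hJn hj) x
  have hXle : X ≤ (Cfsg.pCore p H).map H.subtype := by
    intro x hx
    exact ⟨⟨x, hJH hx.1⟩, CfsgLib.Components.le_pCore_of_isSubnormal hXJ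
      (hXp.comap_of_injective H.subtype H.subtype_injective) hx, rfl⟩
  refine le_trans (le_inf ?_ (le_inf ?_ ?_)) hXle
  · exact (Subgroup.commutator_mono le_sup_left le_sup_right).trans (Subgroup.commutator_le_self J)
  · rw [Subgroup.commutator_comm]
    refine commutator_le_actKernel (h₂.trans hHV) (le_sup_right.trans hJW) fun e he => ?_
    refine mem_actKernel.mpr ⟨hHV (h₁ he), hE1W he, fun v hv => ?_⟩
    rw [← commutatorElement_inv]
    exact W.inv_mem (Subgroup.commutator_mem_commutator hv he)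
  · exact commutator_le_actKernel hE1W (by rw [Subgroup.normalizer_eq_top]; exact le_top)
      fun e he => mem_actKernel_bot (hE2W he)

end CfsgLib.PLocal
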