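import Cfsg.Agent.Lib.PLocal.SL2Finite
import Cfsg.Agent.Lib.PLocal.PSolvable
import Cfsg.Agent.Lib.PLocal.Unipotent
import Cfsg.Agent.Lib.Solvable.CoprimeAction

/-!
`p`-solvable finite subgroups of `SL₂` generated by two unipotents, `p` odd: `p`-groups, or `p = 3`
and there is a subgroup isomorphic to `SL(2,3)`.
-/

set_option autoImplicit false

open scoped MatrixGroups commutatorElement
open CfsgLib.SchurSL2

namespace CfsgLib.PLocal

variable {K : Type*} [Field K]

local notation "M2" => Matrix (Fin 2) (Fin 2) K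

theorem sl2_scalar_eq_one_or_neg {g : SL(2, K)} (h : IsScalarMat (g : M2)) : g = 1 ∨ g = -1 := by
  obtain ⟨h1, h2, h3⟩ := h
  have hdet : (g : M2).det = 1 := g.2
  rw [Matrix.det_fin_two, h1, ← h3, zero_mul, sub_zero] at hdet
  rcases mul_self_eq_one_iff.mp hdet with e | e
  · left
    ext i j
    fin_cases i <;> fin_cases j <;> simp [h1, h2, ← h3, e]
  · right
    ext i j
    fin_cases i <;> fin_cases j <;> simp [h1, h2, ← h3, e]

theorem scalar_eq_zero_of_sq_zero {N : M2} {x d : K} (hN : N * N = 0) (hN0 : N ≠ 0)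
    (h : (x • (1 : M2) + d • N) * (x • (1 : M2) + d • N) = 0) : x = 0 := by
  have h1 : (x • (1 : M2) + d • N) * (x • (1 : M2) + d • N) =
      (x * x) • (1 : M2) + (2 * x * d) • N := by
    simp only [add_mul, mul_add, smul_mul_assoc, mul_smul_comm, one_mul, mul_one, hN, smul_zero,
      smul_smul, smul_add, add_zero]
    rw [add_assoc, ← add_smul]
    congr 2
    ring
  rw [h1] at h
  have h4 := congrArg (fun T => N * T) h
  simp only [mul_add, mul_smul_comm, mul_one, hN, smul_zero, add_zero, mul_zero] at h4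
  exact mul_self_eq_zero.mp ((smul_eq_zero.mp h4).resolve_right hN0)

theorem sl2_sq_neg_one_commute (h2F : (2 : K) ≠ 0) {i r : SL(2, K)} (hi : i * i = -1)
    (hr : r * r = -1) (hc : Commute i r) : r = i ∨ r = -i := by
  have h1 : (i * r) * (i * r) = 1 := by
    calc (i * r) * (i * r) = (i * i) * (r * r) := by
          rw [mul_assoc, ← mul_assoc r i, ← hc.eq, mul_assoc i r r, ← mul_assoc]
      _ = 1 := by rw [hi, hr, neg_mul_neg, one_mul]
  have h3 : i * (i * r) = -r := by rw [← mul_assoc, hi, neg_mul, one_mul]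
  rcases sl2_scalar_eq_one_or_neg (isScalarMat_of_sq_eq_one h2F h1) with h | h <;> rw [h] at h3
  · right
    rw [mul_one] at h3
    rw [h3, neg_neg]
  · left
    rw [mul_neg, mul_one] at h3
    exact (neg_injective h3).symm

/-- `SL(2,3)` is generated by the two standard generators. -/
theorem sl2_three_generated (e : ZMod 3) (he : e * e = 1) (i a : SL(2, ZMod 3))
    (hi : (i : Matrix (Fin 2) (Fin 2) (ZMod 3)) = !![0, -1; 1, 0])
    (ha : (a : Matrix (Fin 2) (Fin 2) (ZMod 3)) = !![1, e; 0, 1]) :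
    Subgroup.closure ({i, a} : Set SL(2, ZMod 3)) = ⊤ := by
  set S := Subgroup.closure ({i, a} : Set SL(2, ZMod 3)) with hS
  have hiS : i ∈ S := Subgroup.subset_closure (by simp)
  have haS : a ∈ S := Subgroup.subset_closure (by simp)
  let U : ZMod 3 → SL(2, ZMod 3) := fun t => ⟨!![1, t; 0, 1], by simp [Matrix.det_fin_two]⟩
  let L : ZMod 3 → SL(2, ZMod 3) := fun t => ⟨!![1, 0; t, 1], by simp [Matrix.det_fin_two]⟩
  have hpow : ∀ n : ℕ, a ^ n = U ((n : ZMod 3) * e) := by
    intro n
    induction n with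
    | zero => apply Subtype.ext; simp [U, Matrix.one_fin_two]
    | succ n ih =>
      apply Subtype.ext
      rw [pow_succ, ih, Matrix.SpecialLinearGroup.coe_mul, ha]
      show !![1, (n : ZMod 3) * e; 0, 1] * !![1, e; 0, 1] = !![1, ((n + 1 : ℕ) : ZMod 3) * e; 0, 1]
      rw [Matrix.mul_fin_two]
      push_cast
      simp only [one_mul, mul_one, mul_zero, zero_mul, add_zero, zero_add]
      congr 1
      ext i' j'
      fin_cases i' <;> fin_cases j' <;> simp [add_mul, add_comm]
  have hU : ∀ t, U t ∈ S := by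
    intro t
    have h := hpow (t * e).val
    rw [ZMod.natCast_zmod_val, mul_assoc, he, mul_one] at h
    rw [← h]
    exact S.pow_mem haS _
  have hL : ∀ t, L t ∈ S := by
    intro t
    have h : L t = i * U (-t) * i⁻¹ := by
      rw [eq_mul_inv_iff_mul_eq]
      apply Subtype.ext
      rw [Matrix.SpecialLinearGroup.coe_mul, Matrix.SpecialLinearGroup.coe_mul, hi]
      show !![1, 0; t, 1] * !![0, -1; 1, 0] = !![0, -1; 1, 0] * !![1, -t; 0, 1]
      rw [Matrix.mul_fin_two, Matrix.mul_fin_two]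
      ext i' j'
      fin_cases i' <;> fin_cases j' <;> simp
    rw [h]
    exact S.mul_mem (S.mul_mem hiS (hU _)) (S.inv_mem hiS)
  have hc0 : ∀ g : SL(2, ZMod 3), (g : Matrix (Fin 2) (Fin 2) (ZMod 3)) 1 0 ≠ 0 → g ∈ S := by
    intro g hg
    haveI : Fact (Nat.Prime 3) := ⟨Nat.prime_three⟩
    have hdet : (g : Matrix (Fin 2) (Fin 2) (ZMod 3)) 0 0 * (g : Matrix (Fin 2) (Fin 2) (ZMod 3)) 1 1 -
        (g : Matrix (Fin 2) (Fin 2) (ZMod 3)) 0 1 * (g : Matrix (Fin 2) (Fin 2) (ZMod 3)) 1 0 = 1 := by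
      rw [← Matrix.det_fin_two]; exact g.2
    have h : g = U (((g : Matrix (Fin 2) (Fin 2) (ZMod 3)) 0 0 - 1) / (g : Matrix (Fin 2) (Fin 2) (ZMod 3)) 1 0) *
        L ((g : Matrix (Fin 2) (Fin 2) (ZMod 3)) 1 0) *
        U (((g : Matrix (Fin 2) (Fin 2) (ZMod 3)) 1 1 - 1) / (g : Matrix (Fin 2) (Fin 2) (ZMod 3)) 1 0) := by
      apply Subtype.ext
      rw [Matrix.SpecialLinearGroup.coe_mul, Matrix.SpecialLinearGroup.coe_mul]
      show (g : Matrix (Fin 2) (Fin 2) (ZMod 3)) = !![1, _; 0, 1] * !![1, 0; _, 1] * !![1, _; 0, 1]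
      rw [Matrix.mul_fin_two, Matrix.mul_fin_two]
      ext i' j'
      fin_cases i' <;> fin_cases j' <;> simp <;> field_simp
      · ring
      · linear_combination -hdet
      · ring
    rw [h]
    exact S.mul_mem (S.mul_mem (hU _) (hL _)) (hU _)
  rw [eq_top_iff]
  intro g _
  by_cases hg : (g : Matrix (Fin 2) (Fin 2) (ZMod 3)) 1 0 = 0
  · have h1 : (g * L 1 : SL(2, ZMod 3)) ∈ S := by
      apply hc0
      rw [Matrix.SpecialLinearGroup.coe_mul]
      show ((g : Matrix (Fin 2) (Fin 2) (ZMod 3)) * (!![1, 0; 1, 1] : Matrix (Fin 2) (Fin 2) (ZMod 3))) 1 0 ≠ 0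
      intro h
      haveI : Fact (Nat.Prime 3) := ⟨Nat.prime_three⟩
      have hd : (g : Matrix (Fin 2) (Fin 2) (ZMod 3)).det = 1 := g.2
      simp [Matrix.mul_apply, Fin.sum_univ_two, hg] at h
      rw [Matrix.det_fin_two, hg, h] at hd
      simp at hd
    have := S.mul_mem h1 (S.inv_mem (hL 1))
    rwa [mul_inv_cancel_right] at this
  · exact hc0 g hg

/-- Quaternion generators normalized by an element of order 3 in characteristic 3 give `SL(2,3)`. -/
theorem sl2_three_of_quaternion [CharP K 3] (X : Subgroup SL(2, K)) {i j k a : SL(2, K)}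
    (hiX : i ∈ X) (haX : a ∈ X) (hi : i * i = -1) (hj : j * j = -1) (hk : k * k = -1)
    (hij : i * j = -(j * i)) (hk' : k = i * j ∨ k = -(i * j)) (ha1 : a ≠ 1) (ha3 : a ^ 3 = 1)
    (hai : a * i * a⁻¹ = j) (haj : a * j * a⁻¹ = k) (hak : a * k * a⁻¹ = i) :
    ∃ X₀ : Subgroup SL(2, K), X₀ ≤ X ∧ Nonempty (X₀ ≃* SL(2, ZMod 3)) := by
  classical
  haveI : Fact (Nat.Prime 3) := ⟨Nat.prime_three⟩
  have h3 : (3 : K) = 0 := by exact_mod_cast CharP.cast_eq_zero K 3
  have h2 : (2 : K) ≠ 0 := by
    intro h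
    have h1 : (1 : K) = 0 := by linear_combination h3 - h
    exact one_ne_zero h1
  set I : M2 := (i : M2) with hI
  set J : M2 := (j : M2) with hJ
  set A : M2 := (a : M2) with hA
  have hII : I * I = -1 := congrArg Subtype.val hi
  have hJJ : J * J = -1 := congrArg Subtype.val hj
  have hIJ : I * J = -(J * I) := congrArg Subtype.val hij
  obtain ⟨ε, hε, hK⟩ : ∃ ε : ZMod 3, ε * ε = 1 ∧
      (k : M2) = ((ε.cast : K)) • (I * J) := by
    rcases hk' with h | h
    · refine ⟨1, one_mul 1, ?_⟩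
      rw [h, ZMod.cast_one (dvd_refl 3), one_smul]; rfl
    · refine ⟨-1, by rw [neg_mul_neg, one_mul], ?_⟩
      rw [h, ZMod.cast_neg (dvd_refl 3), ZMod.cast_one (dvd_refl 3), neg_smul, one_smul]; rfl
  set e : K := (ε.cast : K) with he
  have he2 : e * e = 1 := by rw [he, ← ZMod.cast_mul (dvd_refl 3), hε, ZMod.cast_one (dvd_refl 3)]
  have hAI : A * I = J * A := by
    have h := mul_inv_eq_iff_eq_mul.mp hai
    exact congrArg Subtype.val h
  have hAJ : A * J = (k : M2) * A := by
    have h := mul_inv_eq_iff_eq_mul.mp haj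
    exact congrArg Subtype.val h
  have hAK : A * (k : M2) = I * A := by
    have h := mul_inv_eq_iff_eq_mul.mp hak
    exact congrArg Subtype.val h
  -- `s = i + j + k` is nilpotent and commutes with `a`
  set s : M2 := I + J + (k : M2) with hs
  have hsA : A * s = s * A := by
    rw [hs, mul_add, mul_add, hAI, hAJ, hAK, add_mul, add_mul]; abel
  have hIJI : I * J * I = J := by
    calc I * J * I = -(J * (I * I)) := by rw [hIJ, neg_mul, mul_assoc]
      _ = J := by rw [hII, mul_neg, mul_one, neg_neg]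
  have hJIJ : J * (I * J) = I := by
    rw [← mul_assoc, show J * I = -(I * J) by rw [hIJ, neg_neg], neg_mul, mul_assoc, hJJ, mul_neg,
      mul_one, neg_neg]
  have hKK : (k : M2) * (k : M2) = -1 := congrArg Subtype.val hk
  have hIK : I * (k : M2) + (k : M2) * I = 0 := by
    rw [hK, mul_smul_comm, smul_mul_assoc, ← mul_assoc, hII, neg_mul, one_mul, hIJI, smul_neg,
      neg_add_cancel]
  have hJK : J * (k : M2) + (k : M2) * J = 0 := by
    rw [hK, mul_smul_comm, smul_mul_assoc, hJIJ, mul_assoc, hJJ, mul_neg, mul_one, smul_neg,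
      add_neg_cancel]
  have hss : s * s = 0 := by
    have : s * s = I * I + J * J + (k : M2) * (k : M2) + (I * J + J * I) +
        (I * (k : M2) + (k : M2) * I) + (J * (k : M2) + (k : M2) * J) := by
      rw [hs]; noncomm_ring
    rw [this, hII, hJJ, hKK, hIK, hJK, hIJ, neg_add_cancel, add_zero, add_zero, add_zero]
    ext x y
    fin_cases x <;> fin_cases y <;> simp
    all_goals linear_combination -h3
  -- a fixed vector of `a`
  have hN2 : (A - 1) * (A - 1) = 0 := sl2_sq_zero_of_pow (p := 3) ha3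
  have hAs : ¬ IsScalarMat A := by
    intro hsc
    rcases sl2_scalar_eq_one_or_neg hsc with h | h
    · exact ha1 h
    · rw [h] at ha3
      have h00 : (((-1 : SL(2, K)) ^ 3 : SL(2, K)) : M2) 0 0 = (1 : M2) 0 0 := by rw [ha3]; rfl
      simp [Matrix.SpecialLinearGroup.coe_pow, pow_succ] at h00
      exact h2 (by linear_combination -h00)
  have hN0 : A - 1 ≠ 0 := by
    intro h
    apply hAs
    rw [sub_eq_zero.mp h]
    exact sl2_scalar_one
  obtain ⟨⟨c, d⟩, hcd⟩ := poly_of_commute hAs hsA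
  simp only at hcd
  have hsN : s = d • (A - 1) := by
    have hs' : s = (c + d) • (1 : M2) + d • (A - 1) := by rw [hcd, smul_sub, add_smul]; abel
    have hc0 : c + d = 0 := scalar_eq_zero_of_sq_zero hN2 hN0 (by rw [← hs']; exact hss)
    rw [hs', hc0, zero_smul, zero_add]
  obtain ⟨y, hy⟩ : ∃ y : Fin 2 → K, (A - 1).mulVec y ≠ 0 := by
    by_contra h
    push Not at h
    refine hN0 (Matrix.ext fun r t => ?_)
    have := congrFun (h (Pi.single t 1)) r
    rw [Matrix.mulVec_single_one] at this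
    exact this
  set v := (A - 1).mulVec y with hv
  have hAv : A.mulVec v = v := by
    have h : (A - 1).mulVec v = 0 := by rw [hv, Matrix.mulVec_mulVec, hN2, Matrix.zero_mulVec]
    rwa [Matrix.sub_mulVec, Matrix.one_mulVec, sub_eq_zero] at h
  have hsv : s.mulVec v = 0 := by
    rw [hsN, Matrix.smul_mulVec, hv, Matrix.mulVec_mulVec, hN2, Matrix.zero_mulVec, smul_zero]
  set w := I.mulVec v with hw
  have hIw : I.mulVec w = -v := by rw [hw, Matrix.mulVec_mulVec, hII, Matrix.neg_mulVec, Matrix.one_mulVec]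
  have hJv : J.mulVec v = w + e • v := by
    have h0 : w + J.mulVec v + e • I.mulVec (J.mulVec v) = 0 := by
      rw [Matrix.mulVec_mulVec v I J, ← Matrix.smul_mulVec, ← hK, hw, ← Matrix.add_mulVec,
        ← Matrix.add_mulVec, ← hs, hsv]
    set u := J.mulVec v
    have h1 : I.mulVec (w + u + e • I.mulVec u) = 0 := by rw [h0, Matrix.mulVec_zero]
    rw [Matrix.mulVec_add, Matrix.mulVec_add, Matrix.mulVec_smul, hIw, Matrix.mulVec_mulVec u I I,
      hII, Matrix.neg_mulVec, Matrix.one_mulVec] at h1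
    generalize I.mulVec u = x at h0 h1
    funext t
    have a0 := congrFun h0 t
    have a1 := congrFun h1 t
    simp only [Pi.add_apply, Pi.smul_apply, Pi.neg_apply, Pi.zero_apply, smul_eq_mul] at a0 a1 ⊢
    -- `a0 : w + u + e x = 0`, `a1 : -v + x - e u = 0` with `x = I u`
    linear_combination -a0 + e * a1 + (u t) * he2 + (u t) * h3
  have hAw : A.mulVec w = w + e • v := by
    rw [hw, Matrix.mulVec_mulVec, hAI, ← Matrix.mulVec_mulVec, hAv, hJv]
  let P : M2 := Matrix.of fun r t => (![v, w] t) r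
  have hdet : P.det ≠ 0 := by
    intro h0
    obtain ⟨cv, hcv0, hcv⟩ := Matrix.exists_mulVec_eq_zero_iff.mpr h0
    have hlin : cv 0 • v + cv 1 • w = 0 := by
      funext t
      have := congrFun hcv t
      simp [P, Matrix.mulVec, dotProduct, Fin.sum_univ_two] at this ⊢
      linear_combination this
    have hv0 : v ≠ 0 := hy
    have hc1 : cv 1 ≠ 0 := by
      intro h
      rw [h, zero_smul, add_zero] at hlin
      have h0 : cv 0 = 0 := (smul_eq_zero.mp hlin).resolve_right hv0
      exact hcv0 (funext fun t => by fin_cases t <;> simp [h, h0])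
    set r := -(cv 0 / cv 1) with hr
    have hwv : w = r • v := by
      funext t
      have := congrFun hlin t
      simp [hr] at this ⊢
      field_simp
      linear_combination this
    have hJv' : J.mulVec v = (r + e) • v := by rw [hJv, hwv, add_smul]
    have h1 : (I * J).mulVec v = ((r + e) * r) • v := by
      rw [← Matrix.mulVec_mulVec, hJv', Matrix.mulVec_smul, ← hw, hwv, smul_smul]
    have h1' : (J * I).mulVec v = (r * (r + e)) • v := by
      rw [← Matrix.mulVec_mulVec, ← hw, hwv, Matrix.mulVec_smul, hJv', smul_smul]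
    rw [hIJ, Matrix.neg_mulVec, h1', ← neg_smul] at h1
    have hne : ∀ {M : M2} {x : K}, M * M = -1 → M.mulVec v = x • v → x ≠ 0 := by
      intro M x hM hMv hx
      have : (M * M).mulVec v = 0 := by
        rw [← Matrix.mulVec_mulVec, hMv, hx, zero_smul, Matrix.mulVec_zero]
      rw [hM, Matrix.neg_mulVec, Matrix.one_mulVec, neg_eq_zero] at this
      exact hv0 this
    have h5 : (2 * (r * (r + e))) • v = 0 := by
      have e1 : (2 * (r * (r + e))) • v = ((r + e) * r) • v - (-(r * (r + e))) • v := by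
        rw [← sub_smul]; congr 1; ring
      rw [e1, ← h1, sub_self]
    have h6 := (smul_eq_zero.mp h5).resolve_right hv0
    exact mul_ne_zero h2 (mul_ne_zero (hne hII (hw ▸ hwv)) (hne hJJ hJv')) h6
  have hcol : ∀ (M : M2) (x y x' y' : K), M.mulVec v = x • v + y • w → M.mulVec w = x' • v + y' • w →
      M * P = P * !![x, x'; y, y'] := by
    intro M x y x' y' h1 h2
    ext r t
    have e1 := congrFun h1 r
    have e2 := congrFun h2 r
    simp [Matrix.mulVec, dotProduct, Fin.sum_univ_two] at e1 e2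
    fin_cases t <;> simp [P, Matrix.mul_apply, Fin.sum_univ_two]
    · linear_combination e1
    · linear_combination e2
  have hIP : I * P = P * !![0, -1; 1, 0] :=
    hcol I 0 1 (-1) 0 (by rw [← hw]; simp) (by rw [hIw]; simp)
  have hAP : A * P = P * !![1, e; 0, 1] :=
    hcol A 1 0 e 1 (by rw [hAv]; simp) (by rw [hAw]; simp [add_comm])
  let f : ZMod 3 →+* K := ZMod.castHom (dvd_refl 3) K
  have hu : IsUnit P.det := Ne.isUnit hdet
  let ψ : SL(2, ZMod 3) →* SL(2, K) :=
    { toFun := fun g => ⟨P * ((g : Matrix (Fin 2) (Fin 2) (ZMod 3)).map f) * P⁻¹, by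
        rw [Matrix.det_mul, Matrix.det_mul, ← RingHom.mapMatrix_apply, ← RingHom.map_det, g.2, map_one,
          mul_one, ← Matrix.det_mul, Matrix.mul_nonsing_inv P hu, Matrix.det_one]⟩
      map_one' := Subtype.ext (by simp [Matrix.mul_nonsing_inv P hu])
      map_mul' := fun g g' => Subtype.ext (by
        show P * ((g * g' : SL(2, ZMod 3)) : Matrix (Fin 2) (Fin 2) (ZMod 3)).map f * P⁻¹ =
          (P * (g : Matrix (Fin 2) (Fin 2) (ZMod 3)).map f * P⁻¹) *
            (P * (g' : Matrix (Fin 2) (Fin 2) (ZMod 3)).map f * P⁻¹)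
        rw [Matrix.SpecialLinearGroup.coe_mul, Matrix.map_mul]
        simp only [Matrix.mul_assoc]
        rw [Matrix.nonsing_inv_mul_cancel_left _ _ hu]) }
  have hψ : Function.Injective ψ := by
    intro g g' h
    apply Subtype.ext
    apply Matrix.map_injective f.injective
    have h' : P * (g : Matrix (Fin 2) (Fin 2) (ZMod 3)).map f * P⁻¹ =
        P * (g' : Matrix (Fin 2) (Fin 2) (ZMod 3)).map f * P⁻¹ := congrArg Subtype.val h
    have := congrArg (fun M => P⁻¹ * M * P) h'
    simpa [Matrix.mul_assoc, Matrix.nonsing_inv_mul P hu, Matrix.nonsing_inv_mul_cancel_left _ _ hu]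
      using this
  let i₀ : SL(2, ZMod 3) := ⟨!![0, -1; 1, 0], by simp [Matrix.det_fin_two]⟩
  let a₀ : SL(2, ZMod 3) := ⟨!![1, ε; 0, 1], by simp [Matrix.det_fin_two]⟩
  have hψi : ψ i₀ = i := by
    apply Subtype.ext
    show P * (!![0, -1; 1, 0] : Matrix (Fin 2) (Fin 2) (ZMod 3)).map f * P⁻¹ = I
    have : (!![0, -1; 1, 0] : Matrix (Fin 2) (Fin 2) (ZMod 3)).map f = !![0, -1; 1, 0] := by
      ext x y; fin_cases x <;> fin_cases y <;> simp
    rw [this, ← hIP, Matrix.mul_assoc, Matrix.mul_nonsing_inv P hu, Matrix.mul_one]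
  have hψa : ψ a₀ = a := by
    apply Subtype.ext
    show P * (!![1, ε; 0, 1] : Matrix (Fin 2) (Fin 2) (ZMod 3)).map f * P⁻¹ = A
    have : (!![1, ε; 0, 1] : Matrix (Fin 2) (Fin 2) (ZMod 3)).map f = !![1, e; 0, 1] := by
      ext x y; fin_cases x <;> fin_cases y <;> simp [f, he]
    rw [this, ← hAP, Matrix.mul_assoc, Matrix.mul_nonsing_inv P hu, Matrix.mul_one]
  refine ⟨ψ.range, ?_, ⟨(MonoidHom.ofInjective hψ).symm⟩⟩
  rw [MonoidHom.range_eq_map, ← sl2_three_generated ε hε i₀ a₀ rfl rfl, MonoidHom.map_closure,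
    Subgroup.closure_le]
  rintro _ ⟨x, (rfl | rfl), rfl⟩
  · rw [hψi]; exact hiX
  · rw [hψa]; exact haX

/-- A `p`-solvable subgroup of `SL₂` generated by two unipotents which is not a `p`-group contains
a subgroup isomorphic to `SL(2,3)`, and `p = 3`. -/
theorem sl2_three_of_pSolvable {p : ℕ} [hp : Fact p.Prime] [CharP K p] (hp2 : p ≠ 2)
    (X : Subgroup SL(2, K)) [Finite X] {a b : X} (hgen : Subgroup.closure {a, b} = ⊤)
    (hap : a ^ p = 1) (hbp : b ^ p = 1) (hnp : ¬ IsPGroup p X) (hs : Cfsg.IsPSolvable p X) :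
    p = 3 ∧ ∃ X₀ : Subgroup SL(2, K), X₀ ≤ X ∧ Nonempty (X₀ ≃* SL(2, ZMod 3)) := by
  classical
  have h2K : (2 : K) ≠ 0 := by
    intro h
    apply hp2
    have := (CharP.cast_eq_zero_iff K p 2).mp (by exact_mod_cast h)
    exact (Nat.prime_dvd_prime_iff_eq hp.out Nat.prime_two).mp this
  let M : X → M2 := fun x => ((x : SL(2, K)) : M2)
  have hodd : Odd p := hp.out.odd_of_ne_two hp2
  have hns : ∀ x : X, x ^ p = 1 → x ≠ 1 → ¬ IsScalarMat (M x) := by
    intro x hxp hx hsc
    apply hx
    rw [← orderOf_eq_one_iff]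
    exact Nat.eq_one_of_dvd_coprimes ((Nat.coprime_primes hp.out Nat.prime_two).mpr hp2)
      (orderOf_dvd_of_pow_eq_one hxp)
      (orderOf_dvd_of_pow_eq_one (Subtype.ext (by
        rw [Subgroup.coe_pow, pow_two]; exact sq_eq_one_of_isScalarMat hsc)))
  have hpgroup : ∀ a' : X, a' ^ p = 1 → Subgroup.closure ({a'} : Set X) = ⊤ → IsPGroup p X := by
    intro a' ha' htop x
    have hx : x ∈ Subgroup.closure ({a'} : Set X) := by rw [htop]; trivial
    obtain ⟨n, rfl⟩ := Subgroup.mem_closure_singleton.mp hx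
    refine ⟨1, ?_⟩
    rw [pow_one, ← zpow_natCast, ← zpow_mul, mul_comm, zpow_mul, zpow_natCast, ha', one_zpow]
  have ha1 : a ≠ 1 := by
    intro h
    refine hnp (hpgroup b hbp ?_)
    rw [← hgen, h]
    refine le_antisymm (Subgroup.closure_mono (by simp)) ((Subgroup.closure_le _).mpr ?_)
    rintro x (rfl | rfl)
    exacts [one_mem _, Subgroup.subset_closure (by simp)]
  -- no nontrivial normal `p`-subgroup
  have hOp : Cfsg.pCore p X = ⊥ := by
    by_contra hne
    haveI := CfsgLib.Solvable.pCore_normal p X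
    haveI : Nontrivial ↥(Cfsg.pCore p X) := (Subgroup.nontrivial_iff_ne_bot _).mpr hne
    have hNp := CfsgLib.Solvable.pCore_isPGroup p X
    haveI := hNp.center_nontrivial
    obtain ⟨n, hn, hcard⟩ :=
      (hNp.to_subgroup (Subgroup.center (Cfsg.pCore p X))).nontrivial_iff_card.mp inferInstance
    obtain ⟨z₀, hz₀⟩ := exists_prime_orderOf_dvd_card' p
      (show p ∣ Nat.card ↥(Subgroup.center (Cfsg.pCore p X)) by rw [hcard]; exact dvd_pow_self p hn.ne')
    set z : X := ((z₀ : Cfsg.pCore p X) : X) with hz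
    have hzp : z ^ p = 1 := by
      have := pow_orderOf_eq_one z₀
      rw [hz₀] at this
      exact congrArg (fun w : Subgroup.center (Cfsg.pCore p X) => ((w : Cfsg.pCore p X) : X)) this
    have hz1 : z ≠ 1 := by
      intro h
      have : z₀ = 1 := Subtype.ext (Subtype.ext h)
      rw [this, orderOf_one] at hz₀
      exact hp.out.one_lt.ne hz₀
    have hcz : ∀ g : X, g ^ p = 1 → Commute z g := by
      intro g hg
      set z' := g * z * g⁻¹ with hz'
      have hmem : z' ∈ Cfsg.pCore p X :=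
        (CfsgLib.Solvable.pCore_normal p X).conj_mem _ (z₀ : Cfsg.pCore p X).2 g
      have hcomm : Commute z z' :=
        (congrArg Subtype.val (Subgroup.mem_center_iff.mp z₀.2 ⟨z', hmem⟩)).symm
      obtain ⟨⟨c, d⟩, hcd⟩ := poly_of_commute (hns z hzp hz1)
        (congrArg (fun w : X => M w) hcomm.eq)
      simp only at hcd
      set N := M z - 1 with hN
      have hN2 : N * N = 0 := sl2_sq_zero_of_pow (p := p) (congrArg Subtype.val hzp)
      have hN0 : N ≠ 0 := by
        intro h
        apply hns z hzp hz1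
        rw [sub_eq_zero.mp h]
        exact sl2_scalar_one
      have hz'p : z' ^ p = 1 := by rw [hz', conj_pow, hzp, mul_one, mul_inv_cancel]
      have hN'2 : (M z' - 1) * (M z' - 1) = 0 := sl2_sq_zero_of_pow (p := p) (congrArg Subtype.val hz'p)
      have hz'N : M z' - 1 = d • N := by
        have e0 : M z' - 1 = (c + d - 1) • (1 : M2) + d • N := by
          show M z' - 1 = _
          rw [hN, show M z' = c • (1 : M2) + d • M z from hcd, smul_sub, sub_smul, add_smul, one_smul]
          abel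
        rw [e0, scalar_eq_zero_of_sq_zero (x := c + d - 1) (d := d) hN2 hN0 (by rw [← e0]; exact hN'2),
          zero_smul, zero_add]
      have hmul : M g * N = d • (N * M g) := by
        have h1 : M g * M z = M z' * M g := by
          have h2 : g * z = z' * g := by rw [hz', inv_mul_cancel_right]
          exact congrArg M h2
        rw [hN, mul_sub, h1, mul_one, ← smul_mul_assoc, ← hz'N, sub_mul, one_mul]
      have hpowk : ∀ k : ℕ, M g ^ k * N = d ^ k • (N * M g ^ k) := by
        intro k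
        induction k with
        | zero => simp
        | succ k ih =>
          calc M g ^ (k + 1) * N = M g ^ k * (M g * N) := by rw [pow_succ, mul_assoc]
            _ = d • ((M g ^ k * N) * M g) := by rw [hmul, mul_smul_comm, mul_assoc]
            _ = d ^ (k + 1) • (N * M g ^ (k + 1)) := by
              rw [ih, smul_mul_assoc, smul_smul, pow_succ', pow_succ, mul_assoc]
      have hgp : M g ^ p = 1 := by
        show ((g : SL(2, K)) : M2) ^ p = 1
        rw [← Matrix.SpecialLinearGroup.coe_pow, ← Subgroup.coe_pow, hg]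
        simp
      have hd : d = 1 := by
        have h := hpowk p
        rw [hgp, one_mul, mul_one] at h
        have h2 : (d ^ p - 1) • N = 0 := by rw [sub_smul, one_smul, ← h, sub_self]
        have h3 := (smul_eq_zero.mp h2).resolve_right hN0
        rw [← one_pow p, ← sub_pow_char] at h3
        exact sub_eq_zero.mp (eq_zero_of_pow_eq_zero h3)
      rw [hd, one_smul, sub_left_inj] at hz'N
      have heq : z' = z := Subtype.ext (Subtype.ext hz'N)
      exact (mul_inv_eq_iff_eq_mul.mp (hz'.symm.trans heq)).symm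
    apply hnp
    have hab : Commute a b := Subtype.ext (sl2_commute_of_commute (hns z hzp hz1)
      (congrArg Subtype.val (hcz a hap).eq) (congrArg Subtype.val (hcz b hbp).eq)).eq
    intro x
    refine ⟨1, ?_⟩
    rw [pow_one]
    have hx : x ∈ Subgroup.closure ({a, b} : Set X) := by rw [hgen]; trivial
    obtain ⟨m, n, rfl⟩ : ∃ m n : ℤ, x = a ^ m * b ^ n := by
      induction hx using Subgroup.closure_induction with
      | mem y hy => rcases hy with rfl | rfl; exacts [⟨1, 0, by simp⟩, ⟨0, 1, by simp⟩]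
      | one => exact ⟨0, 0, by simp⟩
      | mul y y' _ _ ih ih' =>
        obtain ⟨m, n, rfl⟩ := ih
        obtain ⟨m', n', rfl⟩ := ih'
        exact ⟨m + m', n + n', by
          rw [zpow_add, zpow_add, mul_assoc, ← mul_assoc (b ^ n), ((hab.symm).zpow_zpow n m').eq]
          group⟩
      | inv y _ ih =>
        obtain ⟨m, n, rfl⟩ := ih
        exact ⟨-m, -n, by rw [mul_inv_rev, ← zpow_neg, ← zpow_neg, ((hab.symm).zpow_zpow _ _).eq]⟩
    rw [(hab.zpow_zpow m n).mul_pow, ← zpow_natCast, ← zpow_natCast, ← zpow_mul, ← zpow_mul,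
      mul_comm m, mul_comm n, zpow_mul, zpow_mul, zpow_natCast, zpow_natCast, hap, hbp]
    simp
  -- `a` does not centralize the `p'`-core
  set Q := Cfsg.pPrimeCore p X with hQ
  haveI : Q.Normal := CfsgLib.Solvable.pPrimeCore_normal p X
  have hQc : (Nat.card Q).Coprime p := CfsgLib.Solvable.pPrimeCore_card_coprime p X
  have hord : orderOf a = p := orderOf_eq_prime hap ha1
  set A := Subgroup.zpowers a with hA
  have haQ : a ∉ Subgroup.centralizer (Q : Set X) := by
    intro h
    have h1 : a ∈ Q := centralizer_pPrimeCore_le_self hs hOp h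
    apply ha1
    rw [← orderOf_eq_one_iff]
    exact Nat.eq_one_of_dvd_coprimes hQc (Subgroup.orderOf_dvd_natCard _ h1)
      (orderOf_dvd_of_pow_eq_one hap)
  have hAQ : A ≤ Subgroup.normalizer (Q : Set X) := Subgroup.le_normalizer_of_normal
  have hcop : (Nat.card A).Coprime (Nat.card Q) := by
    rw [hA, Nat.card_zpowers, hord]; exact hQc.symm
  obtain ⟨r, hr, R, hRA, hRc⟩ : ∃ r : ℕ, r.Prime ∧ ∃ R : Subgroup X, (IsPGroup r R ∧ R ≤ Q ∧
      A ≤ Subgroup.normalizer (R : Set X)) ∧ True ∧ ¬ R ≤ Subgroup.centralizer {a} := by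
    by_contra hcon
    push Not at hcon
    apply haQ
    have hle : Q ≤ Subgroup.centralizer {a} := by
      have hdvd : Nat.card Q ∣ Nat.card ↥(Q ⊓ Subgroup.centralizer {a}) := by
        refine (Nat.dvd_iff_prime_pow_dvd_dvd _ _).mpr fun r k hr hk => ?_
        haveI : Fact r.Prime := ⟨hr⟩
        obtain ⟨P, hP⟩ := CfsgLib.Solvable.exists_invariant_sylow hAQ hcop
          (Or.inl inferInstance) r
        have hle := hcon r hr _ ⟨P.2.map _, Subgroup.map_subtype_le _, hP⟩ trivial
        refine (P.pow_dvd_card_of_pow_dvd_card hk).trans ?_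
        rw [← Subgroup.card_map_of_injective Q.subtype_injective]
        exact Subgroup.card_dvd_of_le (le_inf (Subgroup.map_subtype_le _) hle)
      have := Subgroup.eq_of_le_of_card_ge (inf_le_left : Q ⊓ Subgroup.centralizer {a} ≤ Q)
        (Nat.le_of_dvd Nat.card_pos hdvd)
      exact this.ge.trans inf_le_right
    intro q hq
    exact (Subgroup.mem_centralizer_singleton_iff.mp (hle hq)).symm ▸ rfl
  haveI : Fact r.Prime := ⟨hr⟩
  -- a smallest `A`-invariant `r`-subgroup not centralized by `a`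
  obtain ⟨R₀, ⟨⟨hR₀r, hR₀Q, hR₀A⟩, hR₀c⟩, hmin⟩ := Set.exists_min_image
    {R' : Subgroup X | (IsPGroup r R' ∧ R' ≤ Q ∧ A ≤ Subgroup.normalizer (R' : Set X)) ∧
      ¬ R' ≤ Subgroup.centralizer {a}} (fun R' => Nat.card R') (Set.toFinite _) ⟨R, hRA, hRc.2⟩
  have hrp : ∀ x ∈ R₀, (orderOf x).Coprime p := fun x hx =>
    hQc.coprime_dvd_left (Subgroup.orderOf_dvd_natCard _ (hR₀Q hx))
  have h2p : ∀ x ∈ R₀, x ^ (2 * p) = 1 → IsScalarMat (M x) := by
    intro x hx h
    refine isScalarMat_of_sq_eq_one h2K ?_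
    have h1 : orderOf x ∣ 2 :=
      (hrp x hx).dvd_of_dvd_mul_right (orderOf_dvd_of_pow_eq_one h)
    have h2 := orderOf_dvd_iff_pow_eq_one.mp h1
    rw [pow_two] at h2
    exact congrArg Subtype.val h2
  have hCa : ∀ x ∈ R₀, Commute a x → IsScalarMat (M x) := fun x hx hc => h2p x hx (Subtype.ext (by
    rw [Subgroup.coe_pow]
    exact sl2_centralizer_unipotent (p := p) (congrArg Subtype.val hap) (hns a hap ha1)
      (congrArg Subtype.val hc.eq)))
  have hcomm : ∀ x ∈ R₀, Commute x (a * x * a⁻¹) → IsScalarMat (M x) := by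
    intro x hx hc
    by_contra hsc
    have hx2 : (x : SL(2, K)) ^ (2 * p) ≠ 1 := fun h => hsc (h2p x hx (Subtype.ext (by
      rw [Subgroup.coe_pow]; exact h)))
    rcases sl2_conj_commute_cases hp2 hsc hx2 (congrArg Subtype.val hc.eq : Commute (x : SL(2, K)) _)
      (g := (a : SL(2, K))) (show ((a * x * a⁻¹ : X) : SL(2, K)) = _ by rfl) with h | h
    · have h' : a * x * a⁻¹ = x := Subtype.ext h
      exact hsc (hCa x hx (mul_inv_eq_iff_eq_mul.mp h'))
    · have h' : a * x * a⁻¹ = x⁻¹ := Subtype.ext h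
      have h2 : Commute (a ^ 2) x := by
        have : a ^ 2 * x * (a ^ 2)⁻¹ = x := by
          calc a ^ 2 * x * (a ^ 2)⁻¹ = a * (a * x * a⁻¹) * a⁻¹ := by rw [pow_two]; group
            _ = a * x⁻¹ * a⁻¹ := by rw [h']
            _ = (a * x * a⁻¹)⁻¹ := by group
            _ = x := by rw [h', inv_inv]
        exact mul_inv_eq_iff_eq_mul.mp this
      obtain ⟨k, hk⟩ := hodd
      have hg2 : a = (a ^ 2) ^ (k + 1) := by
        rw [← pow_mul, show 2 * (k + 1) = 2 * k + 1 + 1 by ring, pow_succ, ← hk, hap, one_mul]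
      exact hsc (hCa x hx (by rw [hg2]; exact h2.pow_left _))
  have hder : ∀ x ∈ R₀, ∀ y ∈ R₀, IsScalarMat (M ⁅x, y⁆) := by
    intro x hx y hy
    have hinv : A ≤ Subgroup.normalizer ((⁅R₀, R₀⁆ : Subgroup X) : Set X) := by
      intro g hg
      refine mem_normalizer_of_map_conj_eq ?_
      rw [Subgroup.map_commutator, map_conj_eq_of_mem_normalizer (hR₀A hg)]
    have hle : ⁅R₀, R₀⁆ ≤ R₀ := Subgroup.commutator_le_self R₀
    have hmem := Subgroup.commutator_mem_commutator hx hy
    by_cases hc : ⁅R₀, R₀⁆ ≤ Subgroup.centralizer {a}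
    · exact hCa _ (hle hmem) (Subgroup.mem_centralizer_singleton_iff.mp (hc hmem)).symm
    · exfalso
      have heq : ⁅R₀, R₀⁆ = R₀ := Subgroup.eq_of_le_of_card_ge hle
        (hmin _ ⟨⟨hR₀r.to_le hle, hle.trans hR₀Q, hinv⟩, hc⟩)
      have := eq_bot_of_commutator_eq_self_pgroup hR₀r hR₀r Subgroup.le_normalizer heq
      exact hR₀c (by rw [this]; exact bot_le)
  have hsq : ∀ x ∈ R₀, IsScalarMat (M (x * x)) := by
    intro x hx
    refine hcomm _ (R₀.mul_mem hx hx) ?_
    have hy : a * (x * x) * a⁻¹ ∈ R₀ :=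
      (Subgroup.mem_normalizer_iff.mp (hR₀A (Subgroup.mem_zpowers a)) _).mp (R₀.mul_mem hx hx)
    set y := a * (x * x) * a⁻¹
    have hc : x * y * x⁻¹ = ⁅x, y⁆ * y := by rw [commutatorElement_def]; group
    have hcc : ∀ w : X, Commute ⁅x, y⁆ w := fun w =>
      Subtype.ext (commute_of_isScalarMat (hder x hx y hy) (w : SL(2, K)))
    have hc2 : ⁅x, y⁆ * ⁅x, y⁆ = 1 := Subtype.ext (sq_eq_one_of_isScalarMat (hder x hx y hy))
    refine mul_inv_eq_iff_eq_mul.mp ?_
    calc x * x * y * (x * x)⁻¹ = x * (x * y * x⁻¹) * x⁻¹ := by group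
      _ = x * (⁅x, y⁆ * y) * x⁻¹ := by rw [hc]
      _ = ⁅x, y⁆ * (x * y * x⁻¹) := by rw [← mul_assoc, ← (hcc x).eq]; group
      _ = y := by rw [hc, ← mul_assoc, hc2, one_mul]
  obtain ⟨i, hiR, hia⟩ := SetLike.not_le_iff_exists.mp hR₀c
  have hi_ns : ¬ IsScalarMat (M i) := fun h => hia (Subgroup.mem_centralizer_singleton_iff.mpr
    (Subtype.ext (commute_of_isScalarMat h (a : SL(2, K)))))
  have hsq' : ∀ x ∈ R₀, ¬ IsScalarMat (M x) → (x : SL(2, K)) * x = -1 := by
    intro x hx hxs
    rcases sl2_scalar_eq_one_or_neg (hsq x hx) with h | h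
    · exact absurd (isScalarMat_of_sq_eq_one h2K h) hxs
    · exact h
  have hanti : ∀ x ∈ R₀, ∀ y ∈ R₀, ¬ Commute x y →
      (x : SL(2, K)) * y = -((y : SL(2, K)) * x) := by
    intro x hx y hy hne
    rcases sl2_scalar_eq_one_or_neg (hder x hx y hy) with h | h
    · exact absurd (commutatorElement_eq_one_iff_mul_comm.mp (Subtype.ext h)) hne
    · have h1 : x * y = ⁅x, y⁆ * (y * x) := by rw [commutatorElement_def]; group
      have := congrArg (fun z : X => (z : SL(2, K))) h1
      simp only [Subgroup.coe_mul] at this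
      rw [this, h, neg_mul, one_mul]
  have hconjR : ∀ x ∈ R₀, a * x * a⁻¹ ∈ R₀ := fun x hx =>
    (Subgroup.mem_normalizer_iff.mp (hR₀A (Subgroup.mem_zpowers a)) x).mp hx
  have hconjns : ∀ x : X, ¬ IsScalarMat (M x) → ¬ IsScalarMat (M (a * x * a⁻¹)) := by
    intro x hx h
    apply hx
    have h1 := commute_of_isScalarMat h ((a : SL(2, K)))
    have h2 : (a * x * a⁻¹ : X) = x := by
      apply Subtype.ext
      simp only [Subgroup.coe_mul, Subgroup.coe_inv] at h1 ⊢
      calc (a : SL(2, K)) * x * (a : SL(2, K))⁻¹ =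
          (a : SL(2, K))⁻¹ * ((a : SL(2, K)) * ((a : SL(2, K)) * x * (a : SL(2, K))⁻¹)) := by group
        _ = (a : SL(2, K))⁻¹ * (((a : SL(2, K)) * x * (a : SL(2, K))⁻¹) * (a : SL(2, K))) := by rw [h1]
        _ = x := by group
    rwa [h2] at h
  set j := a * i * a⁻¹ with hj
  have hjR := hconjR i hiR
  have hj_ns := hconjns i hi_ns
  have hij : ¬ Commute i j := fun h => hi_ns (hcomm i hiR h)
  set k := a * j * a⁻¹ with hk
  have hkR := hconjR j hjR
  have hk_ns := hconjns j hj_ns
  have hjk : ¬ Commute j k := fun h => hj_ns (hcomm j hjR h)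
  have eij := hanti i hiR j hjR hij
  have ejk := hanti j hjR k hkR hjk
  have ei := hsq' i hiR hi_ns
  have ej := hsq' j hjR hj_ns
  have ek := hsq' k hkR hk_ns
  have hk' : (k : SL(2, K)) = (i : SL(2, K)) * j ∨ (k : SL(2, K)) = -((i : SL(2, K)) * j) := by
    have hik : ¬ Commute (i : SL(2, K)) (k : SL(2, K)) := by
      intro hc
      have h2 : a * a * i * (a * a)⁻¹ = k := by rw [hk, hj]; group
      have hkk : ∀ q : X, Commute (a * a) q → Commute a q := by
        intro q hq
        obtain ⟨m, hm⟩ := hodd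
        have hg2 : a = (a * a) ^ (m + 1) := by
          rw [← pow_two, ← pow_mul, show 2 * (m + 1) = 2 * m + 1 + 1 by ring, pow_succ, ← hm, hap,
            one_mul]
        rw [hg2]; exact hq.pow_left _
      apply hi_ns
      apply hCa i hiR
      apply hkk
      rcases sl2_sq_neg_one_commute h2K ei ek hc with h | h
      · exact mul_inv_eq_iff_eq_mul.mp (h2.trans (Subtype.ext h))
      · have h4 : a * a * (a * a) * i * (a * a * (a * a))⁻¹ = i := by
          have h3 : (a * a * i * (a * a)⁻¹ : X) = k := h2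
          apply Subtype.ext
          have h5 := congrArg (fun z : X => (z : SL(2, K))) h3
          simp only [Subgroup.coe_mul, Subgroup.coe_inv] at h5 ⊢
          rw [h] at h5
          calc (a : SL(2, K)) * a * (a * a) * i * ((a : SL(2, K)) * a * (a * a))⁻¹
              = (a : SL(2, K)) * a * ((a : SL(2, K)) * a * i * ((a : SL(2, K)) * a)⁻¹) *
                  ((a : SL(2, K)) * a)⁻¹ := by group
            _ = (a : SL(2, K)) * a * (-(i : SL(2, K))) * ((a : SL(2, K)) * a)⁻¹ := by rw [h5]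
            _ = -((a : SL(2, K)) * a * i * ((a : SL(2, K)) * a)⁻¹) := by rw [mul_neg, neg_mul]
            _ = (i : SL(2, K)) := by rw [h5, neg_neg]
        have h6 : Commute (a * a * (a * a)) i := mul_inv_eq_iff_eq_mul.mp h4
        obtain ⟨m, hm⟩ := hodd
        have hg2 : a * a = (a * a * (a * a)) ^ (m + 1) := by
          rw [← pow_two, ← pow_two, ← pow_mul, ← pow_mul,
            show 2 * (2 * (m + 1)) = (2 * m + 1) + (2 * m + 1) + 2 by ring, pow_add, pow_add, ← hm, hap,
            one_mul, one_mul]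
        rw [hg2]
        exact h6.pow_left _
    have eik := hanti i hiR k hkR (fun h => hik (congrArg Subtype.val h.eq))
    have hijij : ((i : SL(2, K)) * j) * ((i : SL(2, K)) * j) = -1 := by
      rw [mul_assoc, ← mul_assoc (j : SL(2, K)),
        show (j : SL(2, K)) * i = -((i : SL(2, K)) * j) by rw [eij, neg_neg], neg_mul, mul_neg,
        mul_assoc (i : SL(2, K)), ← mul_assoc (i : SL(2, K)) i, ej, ei, neg_mul, one_mul, neg_neg]
    have hc : Commute ((i : SL(2, K)) * j) (k : SL(2, K)) := by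
      show (i : SL(2, K)) * j * k = k * ((i : SL(2, K)) * j)
      rw [mul_assoc, ejk, mul_neg, ← mul_assoc, eik, neg_mul, neg_neg, mul_assoc]
    exact sl2_sq_neg_one_commute h2K hijij ek hc
  have hl : a * k * a⁻¹ = i := by
    apply Subtype.ext
    simp only [Subgroup.coe_mul, Subgroup.coe_inv]
    have hjkji : (j : SL(2, K)) * ((i : SL(2, K)) * j) = i := by
      rw [← mul_assoc, show (j : SL(2, K)) * i = -((i : SL(2, K)) * j) by rw [eij, neg_neg], neg_mul,
        mul_assoc, ej, mul_neg, mul_one, neg_neg]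
    have e1 : (a : SL(2, K)) * i * (a : SL(2, K))⁻¹ = j := by rw [hj]; rfl
    have e2 : (a : SL(2, K)) * j * (a : SL(2, K))⁻¹ = k := by rw [hk]; rfl
    have e3 : (a : SL(2, K)) * ((i : SL(2, K)) * j) * (a : SL(2, K))⁻¹ = (j : SL(2, K)) * k := by
      rw [show (a : SL(2, K)) * ((i : SL(2, K)) * j) * (a : SL(2, K))⁻¹ =
        ((a : SL(2, K)) * i * (a : SL(2, K))⁻¹) * ((a : SL(2, K)) * j * (a : SL(2, K))⁻¹) by group,
        e1, e2]
    rcases hk' with h | h
    · calc (a : SL(2, K)) * k * (a : SL(2, K))⁻¹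
          = (a : SL(2, K)) * ((i : SL(2, K)) * j) * (a : SL(2, K))⁻¹ := by rw [h]
        _ = (i : SL(2, K)) := by rw [e3, h, hjkji]
    · calc (a : SL(2, K)) * k * (a : SL(2, K))⁻¹
          = -((a : SL(2, K)) * ((i : SL(2, K)) * j) * (a : SL(2, K))⁻¹) := by
            rw [h, mul_neg, neg_mul]
        _ = (i : SL(2, K)) := by rw [e3, h, mul_neg, neg_neg, hjkji]
  have hp3 : p = 3 := by
    by_contra hne
    have h3 : Commute (a ^ 3) i := by
      have : a ^ 3 * i * (a ^ 3)⁻¹ = i := by
        calc a ^ 3 * i * (a ^ 3)⁻¹ = a * (a * (a * i * a⁻¹) * a⁻¹) * a⁻¹ := by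
              rw [show a ^ 3 = a * a * a by rw [pow_succ, pow_two]]; group
          _ = i := by rw [← hj, ← hk, hl]
      exact mul_inv_eq_iff_eq_mul.mp this
    obtain ⟨m, hm⟩ := Nat.exists_mul_mod_eq_one_of_coprime
      ((Nat.coprime_primes Nat.prime_three hp.out).mpr (Ne.symm hne)) hp.out.one_lt
    have hg : a = (a ^ 3) ^ m := by
      rw [← pow_mul, ← pow_mod_orderOf, hord, hm.2, pow_one]
    exact hi_ns (hCa i hiR (by rw [hg]; exact h3.pow_left _))
  refine ⟨hp3, ?_⟩
  subst hp3
  exact sl2_three_of_quaternion X (i := (i : SL(2, K))) (j := (j : SL(2, K))) (k := (k : SL(2, K)))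
    (a := (a : SL(2, K))) i.2 a.2 ei ej ek eij hk' (fun h => ha1 (Subtype.ext h))
    (congrArg Subtype.val hap) (congrArg Subtype.val hj.symm) (congrArg Subtype.val hk.symm)
    (congrArg Subtype.val hl)

/-- Transporting an isomorphism with a subgroup of a homomorphic image to a section. -/
theorem section_of_hom {G : Type*} [Group G] {H : Subgroup G} {Q : Type*} [Group Q] (f : H →* Q)
    (X₀ : Subgroup Q) (hX₀ : X₀ ≤ f.range) {S : Type*} [Group S] (e : X₀ ≃* S) :
    ∃ (K L : Subgroup G) (hL : (L.subgroupOf K).Normal), K ≤ H ∧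
      Nonempty ((K ⧸ L.subgroupOf K) ≃* S) := by
  let K' := X₀.comap f
  let K₁ := K'.map H.subtype
  let eK : K' ≃* K₁ := Subgroup.equivMapOfInjective K' H.subtype H.subtype_injective
  let g : K₁ →* X₀ := (f.subgroupComap X₀).comp eK.symm.toMonoidHom
  have hg : Function.Surjective g := by
    intro y
    obtain ⟨x, hx⟩ := hX₀ y.2
    refine ⟨eK ⟨x, show f x ∈ X₀ by rw [hx]; exact y.2⟩, Subtype.ext ?_⟩
    show f ((eK.symm (eK ⟨x, _⟩) : K') : H) = y
    rw [MulEquiv.symm_apply_apply]
    exact hx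
  let L := g.ker.map K₁.subtype
  have hL : L.subgroupOf K₁ = g.ker := Subgroup.comap_map_eq_self_of_injective K₁.subtype_injective _
  have hn : (L.subgroupOf K₁).Normal := by rw [hL]; infer_instance
  exact ⟨K₁, L, hn, Subgroup.map_subtype_le _,
    ⟨((QuotientGroup.quotientMulEquivOfEq hL).trans (QuotientGroup.quotientKerEquivOfSurjective g hg)).trans e⟩⟩

end CfsgLib.PLocal
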