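import Mathlib.GroupTheory.PGroup
import Cfsg.Prelude.Def_Solvable
import Cfsg.Agent.Lib.PLocal.Thompson
import Cfsg.Agent.Lib.PLocal.QuadraticElt

/-! The stable normal closure `W(S)`. -/

set_option autoImplicit false

open scoped commutatorElement

universe u

namespace CfsgLib.PLocal

variable {p : ℕ}

theorem omegaOne_center_map_equiv {S S' : Type*} [Group S] [Group S'] (e : S ≃* S') :
    (Cfsg.omegaOne p (Subgroup.center S)).map e.toMonoidHom = Cfsg.omegaOne p (Subgroup.center S') := by
  rw [omegaOne_map e.injective]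
  congr 1
  ext y
  constructor
  · rintro ⟨x, hx, rfl⟩
    rw [Subgroup.mem_center_iff]
    intro g
    obtain ⟨g, rfl⟩ := e.surjective g
    show e g * e x = e x * e g
    rw [← map_mul, ← map_mul, Subgroup.mem_center_iff.mp hx g]
  · intro hy
    refine ⟨e.symm y, Subgroup.mem_center_iff.mpr fun g => e.injective ?_, e.apply_symm_apply y⟩
    rw [map_mul, map_mul, e.apply_symm_apply]
    exact Subgroup.mem_center_iff.mp hy (e g)

theorem centerThompson_map {S H : Type*} [Group S] [Group H] {τ : S →* H} (hτ : Function.Injective τ) :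
    (Cfsg.omegaCenterThompson p S).map τ =
      Cfsg.omegaOne p ((Cfsg.thompsonSubgroup p S).map τ ⊓
        Subgroup.centralizer ((Cfsg.thompsonSubgroup p S).map τ : Set H)) := by
  rw [Cfsg.omegaCenterThompson, omegaOne_map hτ]
  congr 1
  ext y
  constructor
  · rintro ⟨x, ⟨hx, hc⟩, rfl⟩
    refine ⟨Subgroup.mem_map_of_mem τ hx, ?_⟩
    rintro _ ⟨z, hz, rfl⟩
    rw [← map_mul, ← map_mul, hc z hz]
  · rintro ⟨⟨x, hx, rfl⟩, hc⟩
    refine ⟨x, ⟨hx, fun z hz => hτ ?_⟩, rfl⟩
    rw [map_mul, map_mul]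
    exact hc _ (Subgroup.mem_map_of_mem τ hz)

theorem normal_omegaCenter {G : Type*} [Group G] (N : Subgroup G) [N.Normal] :
    (Cfsg.omegaOne p (N ⊓ Subgroup.centralizer (N : Set G))).Normal := by
  haveI : (N ⊓ Subgroup.centralizer (N : Set G)).Normal := Subgroup.normal_inf_normal _ _
  refine ⟨fun n hn g => ?_⟩
  have h := Subgroup.mem_map_of_mem (MulAut.conj g).toMonoidHom hn
  rw [omegaOne_map (MulAut.conj g).injective, map_conj_eq_of_mem_normalizer
    (by rw [Subgroup.normalizer_eq_top]; exact Subgroup.mem_top g)] at h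
  exact h

theorem omegaCenterThompson_isEA (S : Type*) [Group S] :
    Cfsg.IsElementaryAbelian p (Cfsg.omegaCenterThompson p S) :=
  omegaCenter_isEA _

theorem omegaOne_center_le_omegaCenterThompson (S : Type*) [Group S] [Finite S] :
    Cfsg.omegaOne p (Subgroup.center S) ≤ Cfsg.omegaCenterThompson p S := by
  refine (Subgroup.closure_le _).mpr fun x hx => ?_
  have hc : x ∈ Subgroup.centralizer (Cfsg.thompsonSubgroup p S : Set S) :=
    Subgroup.center_le_centralizer _ hx.1
  exact mem_omegaOne ⟨mem_thompsonSubgroup_of_centralizing hc hx.2, hc⟩ hx.2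

theorem stableNormalClosure_le_of_admissible {S : Type u} [Group S] {W : Subgroup S}
    (h1 : Cfsg.omegaOne p (Subgroup.center S) ≤ W)
    (h2 : ∀ (H : Type u) [Group H] (τ : S →* H), Cfsg.IsStableEmbedding p τ → (W.map τ).Normal) :
    Cfsg.stableNormalClosure p S ≤ W :=
  sInf_le ⟨h1, h2⟩

theorem omegaOne_center_le_stableNormalClosure (S : Type u) [Group S] :
    Cfsg.omegaOne p (Subgroup.center S) ≤ Cfsg.stableNormalClosure p S :=
  le_sInf fun _ hW => hW.1

theorem stableNormalClosure_le_omegaCenterThompson (S : Type u) [Group S] [Finite S] :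
    Cfsg.stableNormalClosure p S ≤ Cfsg.omegaCenterThompson p S := by
  refine stableNormalClosure_le_of_admissible (omegaOne_center_le_omegaCenterThompson S) ?_
  intro H _ τ hτ
  rw [centerThompson_map hτ.1]
  haveI := hτ.2.2.2.2.1
  exact normal_omegaCenter _

theorem stableNormalClosure_map_normal {S : Type u} [Group S] {H : Type u} [Group H] {τ : S →* H}
    (hτ : Cfsg.IsStableEmbedding p τ) : ((Cfsg.stableNormalClosure p S).map τ).Normal := by
  refine ⟨?_⟩
  rintro _ ⟨w, hw, rfl⟩ g
  have hrange : ∀ W : Subgroup S, (Cfsg.omegaOne p (Subgroup.center S) ≤ W ∧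
      ∀ (H : Type u) [Group H] (τ : S →* H), Cfsg.IsStableEmbedding p τ → (W.map τ).Normal) →
      g * τ w * g⁻¹ ∈ W.map τ := fun W hW =>
    (hW.2 H τ hτ).conj_mem _ (Subgroup.mem_map_of_mem τ (Subgroup.mem_sInf.mp hw W hW)) g
  by_cases hne : ∃ W : Subgroup S, Cfsg.omegaOne p (Subgroup.center S) ≤ W ∧
      ∀ (H : Type u) [Group H] (τ : S →* H), Cfsg.IsStableEmbedding p τ → (W.map τ).Normal
  · obtain ⟨W₀, hW₀⟩ := hne
    obtain ⟨s, hs, hse⟩ := hrange W₀ hW₀
    refine ⟨s, Subgroup.mem_sInf.mpr fun W hW => ?_, hse⟩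
    obtain ⟨s', hs', hse'⟩ := hrange W hW
    rwa [← hτ.1 (hse'.trans hse.symm)]
  · exfalso
    haveI : Finite H := hτ.2.1
    haveI : Finite S := Finite.of_injective τ hτ.1
    refine hne ⟨_, omegaOne_center_le_omegaCenterThompson S, ?_⟩
    intro H' _ τ' hτ'
    rw [centerThompson_map hτ'.1]
    haveI := hτ'.2.2.2.2.1
    exact normal_omegaCenter _

theorem stableNormalClosure_isEA (S : Type u) [Group S] [Finite S] :
    Cfsg.IsElementaryAbelian p (Cfsg.stableNormalClosure p S) :=
  isEA_mono (omegaCenterThompson_isEA S) (stableNormalClosure_le_omegaCenterThompson S)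

theorem isStableEmbedding_comp {S S' : Type u} [Group S] [Group S'] (e : S ≃* S') {H : Type u}
    [Group H] {τ : S' →* H} (h : Cfsg.IsStableEmbedding p τ) :
    Cfsg.IsStableEmbedding p (τ.comp e.toMonoidHom) := by
  obtain ⟨h1, h2, ⟨P, hP⟩, h4, h5, h6⟩ := h
  refine ⟨h1.comp e.injective, h2, ⟨P, ?_⟩, h4, ?_, ?_⟩
  · rw [MonoidHom.range_comp, MonoidHom.range_eq_top.mpr e.surjective, ← MonoidHom.range_eq_map]
    exact hP
  · rwa [← Subgroup.map_map, thompsonSubgroup_map_equiv]
  · intro V _ hV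
    refine h6 V ?_
    rwa [← Subgroup.map_map, centerThompson_map e.injective,
      show (Cfsg.thompsonSubgroup p S).map e.toMonoidHom = Cfsg.thompsonSubgroup p S' from
        thompsonSubgroup_map_equiv e] at hV

theorem stableNormalClosure_map_le {S S' : Type u} [Group S] [Group S'] (e : S ≃* S') :
    (Cfsg.stableNormalClosure p S).map e.toMonoidHom ≤ Cfsg.stableNormalClosure p S' := by
  refine le_sInf fun W hW => ?_
  rw [Subgroup.map_le_iff_le_comap]
  refine stableNormalClosure_le_of_admissible ?_ ?_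
  · rw [← Subgroup.map_le_iff_le_comap, omegaOne_center_map_equiv]
    exact hW.1
  · intro H _ τ hτ
    have h := hW.2 H _ (isStableEmbedding_comp e.symm hτ)
    rw [← Subgroup.map_map] at h
    have e1 : W.map e.symm.toMonoidHom = W.comap e.toMonoidHom := by
      ext y
      constructor
      · rintro ⟨x, hx, rfl⟩; simpa using hx
      · intro hy; exact ⟨e y, hy, e.symm_apply_apply y⟩
    rwa [e1] at h

theorem stableNormalClosure_map_equiv {S S' : Type u} [Group S] [Group S'] (e : S ≃* S') :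
    (Cfsg.stableNormalClosure p S).map e.toMonoidHom = Cfsg.stableNormalClosure p S' := by
  refine le_antisymm (stableNormalClosure_map_le e) fun x hx => ?_
  exact ⟨e.symm x, stableNormalClosure_map_le e.symm (Subgroup.mem_map_of_mem _ hx), e.apply_symm_apply x⟩

theorem stableNormalClosure_characteristic (S : Type u) [Group S] :
    (Cfsg.stableNormalClosure p S).Characteristic :=
  Subgroup.characteristic_iff_map_eq.mpr fun e => stableNormalClosure_map_equiv e

theorem omegaOne_center_ne_bot {S : Type*} [Group S] [Finite S] [hp : Fact p.Prime] (hS : IsPGroup p S)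
    [Nontrivial S] : Cfsg.omegaOne p (Subgroup.center S) ≠ ⊥ := by
  haveI := hS.center_nontrivial
  obtain ⟨n, hn, hcard⟩ := (hS.to_subgroup (Subgroup.center S)).nontrivial_iff_card.mp inferInstance
  have hdvd : p ∣ Nat.card (Subgroup.center S) := by rw [hcard]; exact dvd_pow_self p hn.ne'
  obtain ⟨z, hz⟩ := exists_prime_orderOf_dvd_card' p hdvd
  intro h
  have hmem : (z : S) ∈ Cfsg.omegaOne p (Subgroup.center S) := by
    refine mem_omegaOne z.2 ?_
    have := pow_orderOf_eq_one z
    rw [hz] at this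
    simpa using congrArg (Subtype.val) this
  rw [h, Subgroup.mem_bot] at hmem
  rw [show z = 1 from Subtype.ext hmem, orderOf_one] at hz
  exact hp.out.one_lt.ne hz

/-- An element of `S` acting quadratically on `W(S)` centralizes it. -/
theorem stableNormalClosure_quadratic_central {S : Type u} [Group S] [Finite S] [Fact p.Prime]
    {x : S} (hq : QuadElt (Cfsg.stableNormalClosure p S) x) :
    x ∈ Subgroup.centralizer (Cfsg.stableNormalClosure p S : Set S) := by
  set W := Cfsg.stableNormalClosure p S with hWdef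
  set U := W ⊓ Subgroup.centralizer {y | QuadElt W y} with hUdef
  suffices hWU : W ≤ U by
    intro w hw
    exact ((hWU hw).2 x hq).symm
  refine stableNormalClosure_le_of_admissible
    (le_inf (omegaOne_center_le_stableNormalClosure S)
      ((omegaOne_le _ _).trans (Subgroup.center_le_centralizer _))) ?_
  intro H _ τ hτ
  haveI : Finite H := hτ.2.1
  obtain ⟨P, hP⟩ := hτ.2.2.1
  haveI hVn : (W.map τ).Normal := stableNormalClosure_map_normal hτ
  have hst := hτ.2.2.2.2.2 (W.map τ)
    (Subgroup.map_mono (stableNormalClosure_le_omegaCenterThompson S))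
  refine ⟨?_⟩
  rintro _ ⟨u, hu, rfl⟩ h
  obtain ⟨w, hw, hwe⟩ := hVn.conj_mem _ (Subgroup.mem_map_of_mem τ hu.1) h
  refine ⟨w, ⟨hw, fun y hy => hτ.1 ?_⟩, hwe⟩
  rw [map_mul, map_mul, hwe]
  have hy' : QuadElt (W.map τ) (h⁻¹ * τ y * h) := by
    have := quadElt_conj (g := h⁻¹) (by rw [Subgroup.normalizer_eq_top]; exact Subgroup.mem_top _)
      (quadElt_map τ (show QuadElt W y from hy))
    simpa using this
  have hmem := hst _ (bot_of_quadElt hy')
  have hle : Cfsg.pCore p (H ⧸ Subgroup.centralizer (W.map τ : Set H)) ≤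
      ((P.mapSurjective (QuotientGroup.mk'_surjective (Subgroup.centralizer (W.map τ : Set H))) :
        Sylow p _) : Subgroup _) := by
    refine sSup_le fun N hN => ?_
    haveI := hN.1
    exact hN.2.le_sylow_of_normal _
  have hmem' := hle hmem
  rw [Sylow.coe_mapSurjective, hP] at hmem'
  obtain ⟨_, ⟨s, rfl⟩, hs⟩ := hmem'
  have hc := QuotientGroup.eq.mp hs
  have hact : ∀ v ∈ W.map τ, (h⁻¹ * τ y * h) * v * (h⁻¹ * τ y * h)⁻¹ = τ s * v * (τ s)⁻¹ := by
    intro v hv
    have := hc v hv
    calc (h⁻¹ * τ y * h) * v * (h⁻¹ * τ y * h)⁻¹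
        = τ s * (((τ s)⁻¹ * (h⁻¹ * τ y * h)) * v * ((τ s)⁻¹ * (h⁻¹ * τ y * h))⁻¹) * (τ s)⁻¹ := by group
      _ = τ s * v * (τ s)⁻¹ := by rw [← this, mul_inv_cancel_right]
  have hsq : QuadElt W s :=
    quadElt_of_map hτ.1 (quadElt_congr (by rw [Subgroup.normalizer_eq_top]; exact Subgroup.mem_top _)
      hact hy')
  have hsu : τ s * τ u = τ u * τ s := by rw [← map_mul, ← map_mul, hu.2 s hsq]
  have := hact _ (Subgroup.mem_map_of_mem τ hu.1)
  rw [hsu, mul_inv_cancel_right] at this
  calc τ y * (h * τ u * h⁻¹) = h * ((h⁻¹ * τ y * h) * τ u * (h⁻¹ * τ y * h)⁻¹) * h⁻¹ * τ y := by group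
    _ = h * τ u * h⁻¹ * τ y := by rw [this]

end CfsgLib.PLocal
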