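import Cfsg.Agent.Lib.PLocal.StableClosure
import Cfsg.Agent.Lib.PLocal.Unipotent
import Cfsg.Agent.Lib.PLocal.SylowAux
import Cfsg.Agent.Lib.PLocal.HallHigman
import Cfsg.Agent.Lib.Solvable.CoprimeAction

/-! Normality of `W(S)` in an action-`p`-stable `p`-constrained group. -/

set_option autoImplicit false

open scoped commutatorElement

universe u

namespace CfsgLib.PLocal

variable {G : Type u} [Group G] [Finite G] {p : ℕ} [hp : Fact p.Prime]

theorem normalizer_thompson_le_normalizer_stableClosure (hst : Cfsg.IsActionPStable p G)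
    (hc : Subgroup.centralizer (Cfsg.pCore p G : Set G) ≤ Cfsg.pCore p G) (S : Sylow p G) :
    Subgroup.normalizer (Cfsg.thompsonSubgroupOf p (S : Subgroup G) : Set G) ≤
      Subgroup.normalizer
        ((Cfsg.stableNormalClosure p ↥(S : Subgroup G)).map (S : Subgroup G).subtype : Set G) := by
  set J := Cfsg.thompsonSubgroupOf p (S : Subgroup G) with hJdef
  set N := Subgroup.normalizer (J : Set G) with hN
  have hSN : (S : Subgroup G) ≤ N :=
    Subgroup.le_normalizer.trans (normalizer_le_normalizer_thompsonSubgroupOf _)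
  let τ : ↥(S : Subgroup G) →* ↥N := Subgroup.inclusion hSN
  have hcomp : N.subtype.comp τ = (S : Subgroup G).subtype := rfl
  have hJn : (Cfsg.thompsonSubgroup p ↥(S : Subgroup G)).map τ = J.subgroupOf N := by
    apply Subgroup.map_injective N.subtype_injective
    rw [Subgroup.map_map, hcomp, Subgroup.map_subgroupOf_eq_of_le Subgroup.le_normalizer]
    rfl
  have hτ : Cfsg.IsStableEmbedding p τ := by
    refine ⟨Subgroup.inclusion_injective hSN, inferInstance, ⟨S.subtype hSN, ?_⟩, ?_, ?_, ?_⟩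
    · rw [Sylow.coe_subtype, Subgroup.inclusion_range]
    · have hON : Cfsg.pCore p G ≤ N := (CfsgLib.Solvable.pCore_le_sylow S).trans hSN
      have hO : (Cfsg.pCore p G).subgroupOf N ≤ Cfsg.pCore p N :=
        CfsgLib.Solvable.le_pCore inferInstance
          ((CfsgLib.Solvable.pCore_isPGroup p G).comap_subtype)
      refine le_trans ?_ hO
      intro x hx
      refine hc fun y hy => ?_
      have := hx ⟨y, hON hy⟩ (hO hy)
      exact congrArg Subtype.val this
    · rw [hJn]
      exact Subgroup.normal_in_normalizer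
    · intro V _ hV
      refine hst.2.2 S V ?_
      refine (Subgroup.map_mono hV).trans ?_
      rw [Subgroup.map_map, hcomp]
  haveI := stableNormalClosure_map_normal hτ
  refine Subgroup.le_normalizer_iff.mpr ?_
  intro g hg w hw
  obtain ⟨s, hs, rfl⟩ := hw
  obtain ⟨s', hs', he⟩ := this.conj_mem _ (Subgroup.mem_map_of_mem τ hs) ⟨g, hg⟩
  exact ⟨s', hs', congrArg Subtype.val he⟩

/-- The analogue of the `ZJ`-theorem for `W(S)`. -/
theorem stableNormalClosure_normal_of_stable (hst : Cfsg.IsActionPStable p G)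
    (hc : Subgroup.centralizer (Cfsg.pCore p G : Set G) ≤ Cfsg.pCore p G) (S : Sylow p G) :
    ((Cfsg.stableNormalClosure p ↥(S : Subgroup G)).map (S : Subgroup G).subtype).Normal := by
  set W := (Cfsg.stableNormalClosure p ↥(S : Subgroup G)).map (S : Subgroup G).subtype with hW
  set O := Cfsg.pCore p G with hOdef
  have hNW := normalizer_thompson_le_normalizer_stableClosure hst hc S
  have hSW : (S : Subgroup G) ≤ Subgroup.normalizer (W : Set G) :=
    (Subgroup.le_normalizer.trans (normalizer_le_normalizer_thompsonSubgroupOf _)).trans hNW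
  have hOS : O ≤ (S : Subgroup G) := CfsgLib.Solvable.pCore_le_sylow S
  have hWEA : Cfsg.IsElementaryAbelian p W := isEA_map (stableNormalClosure_isEA _) _
  have hWJ : W ≤ Subgroup.centralizer (Cfsg.thompsonSubgroupOf p (S : Subgroup G) : Set G) := by
    rintro _ ⟨w, hw, rfl⟩ _ ⟨z, hz, rfl⟩
    rw [← map_mul, ← map_mul, ((omegaOne_le _ _) (stableNormalClosure_le_omegaCenterThompson _ hw)).2 z hz]
  have hWcomm : W ≤ Subgroup.centralizer (W : Set G) :=
    Subgroup.le_centralizer_iff_isMulCommutative.mpr hWEA.1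
  -- `W ≤ O`
  have hWO : W ≤ O := by
    intro a ha
    set Φ := (frattini ↥O).map O.subtype with hΦ
    have hq : ⁅⁅O, Subgroup.zpowers a⁆, Subgroup.zpowers a⁆ ≤ Φ := by
      refine le_trans ?_ bot_le
      rw [le_bot_iff, Subgroup.commutator_eq_bot_iff_le_centralizer]
      have h1 : ⁅O, Subgroup.zpowers a⁆ ≤ W := by
        refine (Subgroup.commutator_mono le_rfl (Subgroup.zpowers_le.mpr ha)).trans ?_
        rw [Subgroup.commutator_comm]
        exact commutator_le_of_le_normalizer (hOS.trans hSW)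
      exact h1.trans (hWcomm.trans (Subgroup.centralizer_le (Subgroup.zpowers_le.mpr ha)))
    obtain ⟨D, hDn, hKD, ⟨k, hk⟩, haD⟩ := hst.2.1 a hq
    refine CfsgLib.Solvable.le_pCore hDn ?_ haD
    have hK : IsPGroup p (Cfsg.sectionKernel O Φ) := by
      refine CfsgLib.PLoc.isPGroup_of_coprime_order_trivial fun x hx ho => ?_
      have hcop : (Nat.card (Subgroup.zpowers x)).Coprime (Nat.card (frattini ↥O)) := by
        obtain ⟨n, hn⟩ := IsPGroup.iff_card.mp
          (((CfsgLib.Solvable.pCore_isPGroup p G).to_subgroup (frattini ↥O)))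
        rw [Nat.card_zpowers, hn]
        exact Nat.Coprime.pow_right n ho
      have hxC : Subgroup.zpowers x ≤ Subgroup.centralizer (O : Set G) := by
        refine CfsgLib.Solvable.le_centralizer_of_trivial_on_frattini_quotient hcop fun b hb o ho' => ?_
        have hbK : b ∈ Cfsg.sectionKernel O Φ := Subgroup.zpowers_le.mpr hx hb
        have h1 := hbK _ (Subgroup.mem_map_of_mem (QuotientGroup.mk' Φ) ho')
        show b * o * b⁻¹ * o⁻¹ ∈ Φ
        rw [← QuotientGroup.ker_mk' Φ, MonoidHom.mem_ker]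
        simp only [map_mul, map_inv]
        rw [← h1]
        group
      obtain ⟨m, hm⟩ := (CfsgLib.Solvable.pCore_isPGroup p G) ⟨x, hc (hxC (Subgroup.mem_zpowers x))⟩
      have hm' : x ^ p ^ m = 1 := congrArg Subtype.val hm
      exact orderOf_eq_one_iff.mp
        (Nat.eq_one_of_dvd_coprimes (Nat.Coprime.pow_right m ho) dvd_rfl (orderOf_dvd_of_pow_eq_one hm'))
    obtain ⟨j, hj⟩ := IsPGroup.iff_card.mp hK
    refine IsPGroup.of_card (n := j + k) ?_
    rw [pow_add, ← hj, ← hk, ← Subgroup.relIndex_bot_left, ← Subgroup.relIndex_bot_left,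
      Subgroup.relIndex_mul_relIndex _ _ _ bot_le hKD]
  -- conjugates of `W` commute
  have hcomm : ∀ g : G, ∀ w ∈ W, g * w * g⁻¹ ∈ Subgroup.centralizer (W : Set G) := by
    intro g w hw
    have hxO : g * w * g⁻¹ ∈ O := (inferInstance : O.Normal).conj_mem _ (hWO hw) g
    have hq : QuadElt W (g * w * g⁻¹) := by
      intro v hv
      set t := g * w * g⁻¹ with ht
      have hv' : g⁻¹ * v * g ∈ O := by
        have := (inferInstance : O.Normal).conj_mem _ (hWO hv) g⁻¹
        rwa [inv_inv] at this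
      have h1 : g⁻¹ * ⁅t, v⁆ * g ∈ W := by
        have h2 : g⁻¹ * v * g * w⁻¹ * (g⁻¹ * v * g)⁻¹ ∈ W :=
          (Subgroup.mem_normalizer_iff.mp (hSW (hOS hv')) _).mp (W.inv_mem hw)
        have h3 := W.mul_mem hw h2
        have e : g⁻¹ * ⁅t, v⁆ * g = w * (g⁻¹ * v * g * w⁻¹ * (g⁻¹ * v * g)⁻¹) := by
          rw [ht, commutatorElement_def]; group
        rwa [e]
      have h4 := hWcomm h1 w hw
      calc t * ⁅t, v⁆ * t⁻¹ = g * (w * (g⁻¹ * ⁅t, v⁆ * g)) * w⁻¹ * g⁻¹ := by rw [ht]; group
        _ = ⁅t, v⁆ := by rw [h4]; group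
    have hc' := stableNormalClosure_quadratic_central (x := (⟨g * w * g⁻¹, hOS hxO⟩ : ↥(S : Subgroup G)))
      (quadElt_of_map (S : Subgroup G).subtype_injective hq)
    rintro _ ⟨v, hv, rfl⟩
    exact congrArg Subtype.val (hc' v hv)
  set V := Subgroup.normalClosure (W : Set G) with hVdef
  have hWV : W ≤ V := Subgroup.subset_normalClosure
  have hVO : V ≤ O := Subgroup.normalClosure_le_normal hWO
  have hconj : ∀ x ∈ Group.conjugatesOfSet (W : Set G), ∃ g : G, ∃ w ∈ W, g * w * g⁻¹ = x := by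
    intro x hx
    obtain ⟨w, hw, hwx⟩ := Group.mem_conjugatesOfSet_iff.mp hx
    obtain ⟨g, hg⟩ := isConj_iff.mp hwx
    exact ⟨g, w, hw, hg⟩
  have hVab : V ≤ Subgroup.centralizer (V : Set G) := by
    conv_rhs => rw [hVdef, Subgroup.normalClosure, Subgroup.centralizer_closure]
    refine (Subgroup.closure_le _).mpr fun x hx y hy => ?_
    obtain ⟨g, w, hw, rfl⟩ := hconj x hx
    obtain ⟨h, v, hv, rfl⟩ := hconj y hy
    have h1 := hcomm (h⁻¹ * g) w hw v hv
    calc h * v * h⁻¹ * (g * w * g⁻¹) = h * (v * (h⁻¹ * g * w * (h⁻¹ * g)⁻¹)) * h⁻¹ := by group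
      _ = g * w * g⁻¹ * (h * v * h⁻¹) := by rw [h1]; group
  have hVEA : Cfsg.IsElementaryAbelian p V := by
    refine ⟨Subgroup.le_centralizer_iff_isMulCommutative.mp hVab, fun x hx => ?_⟩
    rw [hVdef, Subgroup.normalClosure] at hx
    induction hx using Subgroup.closure_induction with
    | mem x hx =>
      obtain ⟨g, w, hw, rfl⟩ := hconj x hx
      rw [conj_pow, hWEA.2 w hw, mul_one, mul_inv_cancel]
    | one => exact one_pow p
    | mul x y hx hy ihx ihy =>
      have hc : Commute x y := hVab hy x hx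
      rw [hc.mul_pow, ihx, ihy, one_mul]
    | inv x hx ihx => rw [inv_pow, ihx, inv_one]
  haveI : V.Normal := Subgroup.normalClosure_normal
  set C := Subgroup.centralizer (V : Set G) with hC
  set D := (Cfsg.pCore p (G ⧸ C)).comap (QuotientGroup.mk' C) with hD
  haveI : D.Normal := (inferInstance : (Cfsg.pCore p (G ⧸ C)).Normal).comap _
  set P := (S : Subgroup G) ⊓ D with hP
  have hDCP : D ≤ C ⊔ P := by
    intro d hd
    have h1 := CfsgLib.Solvable.pCore_le_sylow (S.mapSurjective (QuotientGroup.mk'_surjective C)) hd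
    rw [Sylow.coe_mapSurjective] at h1
    obtain ⟨s, hs, hsd⟩ := h1
    have hsD : s ∈ D := by
      rw [hD, Subgroup.mem_comap, hsd]
      exact hd
    have h2 : d * s⁻¹ ∈ C := by
      rw [← QuotientGroup.ker_mk' C, MonoidHom.mem_ker, map_mul, map_inv, hsd, mul_inv_cancel]
    have h3 : d * s⁻¹ * s ∈ C ⊔ P := Subgroup.mul_mem_sup h2 (Subgroup.mem_inf.mpr ⟨hs, hsD⟩)
    rwa [inv_mul_cancel_right] at h3
  have htop : C ⊔ Subgroup.normalizer (P : Set G) = ⊤ := by
    rw [eq_top_iff, ← frattini_inf S D]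
    exact sup_le (hDCP.trans (sup_le_sup_left Subgroup.le_normalizer _)) le_sup_right
  -- replacement puts offenders into `P`
  have hrep : ∀ A ∈ maxEAIn p (S : Subgroup G), ⁅V, A⁆ ≠ ⊥ →
      ∃ A₀ ∈ maxEAIn p (S : Subgroup G), A₀ ≤ P ∧ ⁅V, A₀⁆ ≠ ⊥ := by
    intro A hA hne
    obtain ⟨h0, hq0, hne0⟩ := maxEA_replacement V hVEA (maxEAIn_sylow_subset hA)
    set A₀ := ⁅V, A⁆ ⊔ (A ⊓ Subgroup.centralizer ((⁅V, A⁆ : Subgroup G) : Set G))
    have hA0S : A₀ ≤ (S : Subgroup G) :=
      sup_le ((Subgroup.commutator_le_left _ _).trans (hVO.trans hOS)) (inf_le_left.trans hA.1)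
    refine ⟨A₀, maxEA_mem_maxEAIn h0 hA0S, le_inf hA0S fun a ha => ?_, hne0 hne⟩
    refine hst.1 V hVEA a (le_bot_iff.mp ?_)
    rw [← hq0]
    exact Subgroup.commutator_mono (Subgroup.commutator_mono le_rfl (Subgroup.zpowers_le.mpr ha))
      (Subgroup.zpowers_le.mpr ha)
  have hJC : Cfsg.thompsonSubgroupOf p (S : Subgroup G) ≤ C := by
    rw [thompsonSubgroupOf_eq, sSup_le_iff]
    intro A hA
    rw [hC, Subgroup.le_centralizer_iff]
    by_contra hne
    rw [← Subgroup.commutator_eq_bot_iff_le_centralizer] at hne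
    obtain ⟨A₀, hA0, hA0P, hne0⟩ := hrep A hA hne
    apply hne0
    rw [Subgroup.commutator_eq_bot_iff_le_centralizer]
    have hPJ : Cfsg.thompsonSubgroupOf p P ≤ Cfsg.thompsonSubgroupOf p (S : Subgroup G) :=
      thompsonSubgroupOf_le_of_mem inf_le_left hA0 hA0P
    have hA0J : A₀ ≤ Cfsg.thompsonSubgroupOf p P := by
      rw [thompsonSubgroupOf_eq]
      exact le_sSup (mem_maxEAIn_of_le inf_le_left hA0 hA0P)
    refine le_trans ?_ (Subgroup.centralizer_le hA0J)
    rw [hVdef, Subgroup.normalClosure]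
    refine (Subgroup.closure_le _).mpr fun x hx => ?_
    obtain ⟨g, w, hw, rfl⟩ := hconj x hx
    obtain ⟨c, hcC, n, hn, hgn⟩ := exists_mul_of_sup_eq_top htop g⁻¹
    have hg' : g = n⁻¹ * c⁻¹ := by rw [← inv_inv g, hgn, mul_inv_rev]
    have hcw : c⁻¹ * w * c = w := by rw [mul_assoc, hcC w (hWV hw), inv_mul_cancel_left]
    intro y hy
    have hny := (Subgroup.mem_normalizer_iff.mp
      (normalizer_le_normalizer_thompsonSubgroupOf P hn) y).mp hy
    have hwy := hWJ hw _ (hPJ hny)
    calc y * (g * w * g⁻¹) = n⁻¹ * ((n * y * n⁻¹) * (c⁻¹ * w * c)) * n := by rw [hg']; group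
      _ = n⁻¹ * (w * (n * y * n⁻¹)) * n := by rw [hcw, hwy]
      _ = n⁻¹ * (c⁻¹ * w * c) * n * y := by rw [hcw]; group
      _ = g * w * g⁻¹ * y := by rw [hg']; group
  rw [← Subgroup.normalizer_eq_top_iff, eq_top_iff, ← frattini_thompson S C hJC]
  exact sup_le ((Subgroup.centralizer_le hWV).trans (Subgroup.centralizer_le_normalizer _)) hNW

end CfsgLib.PLocal
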