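import Cfsg.Agent.Lib.Transfer.ThompsonComplement
import Cfsg.Agent.Lib.PLocal.WNormal

/-! Thompson's normal p-complement theorem for `N(W(S))`. -/

set_option autoImplicit false

universe u

namespace CfsgLib.WComplement

open CfsgLib.NPC CfsgLib.PLocal
open CfsgLib.GlaubermanThompson (exists_pow_coprime eq_one_of_coprime_of_pow npc_map
  npc_normalizer_of_map npc_of_top)

variable {G : Type u} [Group G] {p : ℕ}

/-- `W(U)` as a subgroup of the ambient group. -/
def wOf (p : ℕ) {G : Type u} [Group G] (U : Subgroup G) : Subgroup G :=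
  (Cfsg.stableNormalClosure p ↥U).map U.subtype

theorem wOf_le (U : Subgroup G) : wOf p U ≤ U := Subgroup.map_subtype_le _

theorem wOf_map_injOn {H : Type u} [Group H] (f : G →* H) (U : Subgroup G)
    (hf : Function.Injective (f.comp U.subtype)) : (wOf p U).map f = wOf p (U.map f) := by
  have hb : Function.Bijective (f.subgroupMap U) :=
    ⟨fun a b h => hf (congrArg Subtype.val h), f.subgroupMap_surjective U⟩
  rw [wOf, wOf, ← stableNormalClosure_map_equiv (MulEquiv.ofBijective (f.subgroupMap U) hb),
    Subgroup.map_map, Subgroup.map_map]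
  rfl

theorem wOf_map {H : Type u} [Group H] {f : G →* H} (hf : Function.Injective f) (U : Subgroup G) :
    (wOf p U).map f = wOf p (U.map f) :=
  wOf_map_injOn f U (hf.comp U.subtype_injective)

theorem normalizer_le_normalizer_wOf (U : Subgroup G) :
    Subgroup.normalizer (U : Set G) ≤ Subgroup.normalizer (wOf p U : Set G) := by
  intro g hg
  apply mem_normalizer_of_map_conj_eq
  rw [wOf_map (MulAut.conj g).injective, map_conj_eq_of_mem_normalizer hg]

variable [Finite G] [hp : Fact p.Prime]

theorem wOf_ne_bot {U : Subgroup G} (hU : IsPGroup p U) (hU1 : U ≠ ⊥) : wOf p U ≠ ⊥ := by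
  haveI := (Subgroup.nontrivial_iff_ne_bot U).mpr hU1
  rw [wOf, Ne, Subgroup.map_eq_bot_iff_of_injective _ U.subtype_injective]
  exact fun h => omegaOne_center_ne_bot hU (le_bot_iff.mp (h ▸ omegaOne_center_le_stableNormalClosure _))

omit [Finite G] hp in
theorem npc_aux (p : ℕ) [hp : Fact p.Prime] (hp2 : p ≠ 2) :
    ∀ (n : ℕ) (G : Type u) [Group G] [Finite G], Nat.card G = n → ∀ P : Sylow p G,
    Cfsg.HasNormalPComplement p (Subgroup.normalizer (wOf p (P : Subgroup G) : Set G)) →
    Cfsg.HasNormalPComplement p G := by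
  intro n
  induction n using Nat.strong_induction_on with
  | _ n ih =>
  intro G _ _ hn P hP
  have hpp := hp.out
  by_contra hG
  have hconj : ∀ T : Sylow p G,
      Cfsg.HasNormalPComplement p (Subgroup.normalizer (wOf p (T : Subgroup G) : Set G)) := by
    intro T
    obtain ⟨g, hg⟩ := MulAction.exists_smul_eq G T P
    refine npc_normalizer_of_map (MulAut.conj g).toMonoidHom (MulAut.conj g).injective _ ?_
    rw [wOf_map (MulAut.conj g).injective,
      show (T : Subgroup G).map (MulAut.conj g).toMonoidHom = (P : Subgroup G) from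
        congrArg Sylow.toSubgroup hg]
    exact hP
  have hsub : ∀ (H : Subgroup G) (S : Sylow p H), H ≠ ⊤ →
      Cfsg.HasNormalPComplement p
        (Subgroup.normalizer (wOf p ((S : Subgroup H).map H.subtype) : Set G)) →
      Cfsg.HasNormalPComplement p H := by
    intro H S hH hS
    refine ih (Nat.card H) ?_ H rfl S (npc_normalizer_of_map H.subtype H.subtype_injective _ ?_)
    · rw [← hn]
      by_contra hge
      exact hH (Subgroup.eq_top_of_le_card H (not_lt.1 hge))
    · rwa [wOf_map H.subtype_injective]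
  have hprop : ∀ H : Subgroup G, (P : Subgroup G) ≤ H → H ≠ ⊤ → Cfsg.HasNormalPComplement p H := by
    intro H hPH hH
    refine hsub H (P.subtype hPH) hH ?_
    rwa [Sylow.coe_subtype, Subgroup.map_subgroupOf_eq_of_le hPH]
  -- a nontrivial normal p-subgroup
  obtain ⟨Q0, hQ0p, hQ0ne, hQ0n⟩ : ∃ Q0 : Subgroup G, IsPGroup p Q0 ∧ Q0 ≠ ⊥ ∧ Q0.Normal := by
    have hbad : {R : Subgroup G | IsPGroup p R ∧ R ≠ ⊥ ∧
        ¬ Cfsg.HasNormalPComplement p (Subgroup.normalizer (R : Set G))}.Nonempty := by
      by_contra hc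
      apply hG
      refine frobenius_local fun R hR hRne => ?_
      by_contra hR'
      exact hc ⟨R, hR, hRne, hR'⟩
    obtain ⟨R, ⟨hR, hRne, hR'⟩, hmax⟩ := Set.exists_max_image _
      (fun R : Subgroup G => (Nat.card (Subgroup.normalizer (R : Set G))).factorization p)
      (Set.toFinite _) hbad
    set H := Subgroup.normalizer (R : Set G) with hHdef
    refine ⟨R, hR, hRne, Subgroup.normalizer_eq_top_iff.1 ?_⟩
    by_contra hH
    obtain ⟨S⟩ : Nonempty (Sylow p H) := inferInstance
    set S' := (S : Subgroup H).map H.subtype with hS'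
    have hS'p : IsPGroup p S' := S.isPGroup'.map _
    set r := (Nat.card H).factorization p with hr
    have hS'card : Nat.card S' = p ^ r := by
      rw [hS', Subgroup.card_map_of_injective H.subtype_injective, S.card_eq_multiplicity]
    have hRS : R ≤ S' := by
      have := (hR.of_equiv (Subgroup.subgroupOfEquivOfLe Subgroup.le_normalizer).symm).le_sylow_of_normal S
      rw [hS', ← Subgroup.map_subgroupOf_eq_of_le (Subgroup.le_normalizer : R ≤ H)]
      exact Subgroup.map_mono this
    have hS'ne : S' ≠ ⊥ := fun h => hRne (le_bot_iff.1 (h ▸ hRS))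
    obtain ⟨T, hT⟩ := hS'p.exists_le_sylow
    apply hR'
    refine hsub H S hH ?_
    by_cases hr' : p ^ (r + 1) ∣ Nat.card G
    · by_contra hbadS
      have h1 := hmax (wOf p S') ⟨hS'p.to_le (wOf_le S'), wOf_ne_bot hS'p hS'ne, hbadS⟩
      have h2 : p ^ (r + 1) ∣ Nat.card (Subgroup.normalizer (wOf p S' : Set G)) :=
        (Sylow.prime_pow_dvd_card_normalizer hr' hS'card).trans
          (Subgroup.card_dvd_of_le (normalizer_le_normalizer_wOf S'))
      have h3 := (hpp.pow_dvd_iff_le_factorization Nat.card_pos.ne').1 h2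
      omega
    · have hTS : S' = (T : Subgroup G) := by
        refine Subgroup.eq_of_le_of_card_ge hT ?_
        rw [hS'card, T.card_eq_multiplicity]
        refine Nat.pow_le_pow_right hpp.pos ?_
        by_contra hlt
        exact hr' ((hpp.pow_dvd_iff_le_factorization Nat.card_pos.ne').2 (by omega))
      rw [← hS', hTS]
      exact hconj T
  set Q := (P : Subgroup G).normalCore with hQdef
  have hQP : Q ≤ (P : Subgroup G) := Subgroup.normalCore_le _
  have hQn : Q.Normal := Subgroup.normalCore_normal _
  have hQmax : ∀ N : Subgroup G, N.Normal → IsPGroup p N → N ≤ Q := fun N hNn hNp =>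
    Subgroup.normal_le_normalCore.2 (hNp.le_sylow_of_normal P)
  have hQne : Q ≠ ⊥ := fun h => hQ0ne (le_bot_iff.1 ((hQmax Q0 hQ0n hQ0p).trans h.le))
  -- no normal p'-subgroup
  have hpc : ∀ N : Subgroup G, N.Normal → (Nat.card N).Coprime p → N = ⊥ := by
    intro N hNn hco
    by_contra hNne
    apply hG
    refine CfsgLib.Transfer.hasNormalPComplement_of_quotient N
      ((Nat.Prime.coprime_iff_not_dvd hpp).1 hco.symm) ?_
    have hlt : Nat.card (G ⧸ N) < n := by
      rw [← hn, ← Subgroup.card_mul_index N, ← Subgroup.index_eq_card]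
      exact lt_mul_left (Nat.pos_of_ne_zero Subgroup.index_ne_zero_of_finite)
        (Subgroup.one_lt_card_iff_ne_bot N |>.2 hNne)
    have hsurj := QuotientGroup.mk'_surjective N
    refine ih _ hlt (G ⧸ N) rfl (P.mapSurjective hsurj) ?_
    have hinj : Function.Injective ((QuotientGroup.mk' N).comp (P : Subgroup G).subtype) := by
      rw [injective_iff_map_eq_one]
      intro x hx
      rw [MonoidHom.comp_apply, QuotientGroup.mk'_apply, QuotientGroup.eq_one_iff] at hx
      obtain ⟨j, hj⟩ := P.isPGroup' x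
      exact eq_one_of_coprime_of_pow hj (hco.coprime_dvd_left
        (by rw [← Subgroup.orderOf_coe]; exact Subgroup.orderOf_dvd_natCard _ hx))
    have hker : (Nat.card (QuotientGroup.mk' N).ker).Coprime p := by rwa [QuotientGroup.ker_mk']
    rw [Sylow.coe_mapSurjective, ← wOf_map_injOn _ _ hinj,
      CfsgLib.PLoc.normalizer_map_eq hsurj hker (P.isPGroup'.to_le (wOf_le _))]
    exact npc_map _ _ hP
  set W := wOf p (P : Subgroup G) with hW
  have hNtop : Subgroup.normalizer (W : Set G) ≠ ⊤ := fun h => by
    rw [h] at hP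
    exact hG (npc_of_top hP)
  have hQP' : Q ≠ (P : Subgroup G) := fun h => by
    apply hNtop
    rw [eq_top_iff, ← Subgroup.normalizer_eq_top_iff.2 hQn, h]
    exact normalizer_le_normalizer_wOf _
  -- the quotient by `Q` has a normal p-complement
  set f := QuotientGroup.mk' Q with hf
  have hsurj := QuotientGroup.mk'_surjective Q
  have hker : f.ker = Q := QuotientGroup.ker_mk' Q
  set Pb := (P : Subgroup G).map f with hPb
  have hPbp : IsPGroup p Pb := P.isPGroup'.map f
  have hPbne : Pb ≠ ⊥ := fun h => hQP' (le_antisymm hQP (by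
    rw [hPb, Subgroup.map_eq_bot_iff, hker] at h; exact h))
  have hZb : Cfsg.HasNormalPComplement p (G ⧸ Q) := by
    have hlt : Nat.card (G ⧸ Q) < n := by
      rw [← hn, ← Subgroup.card_mul_index Q, ← Subgroup.index_eq_card]
      exact lt_mul_left (Nat.pos_of_ne_zero Subgroup.index_ne_zero_of_finite)
        (Subgroup.one_lt_card_iff_ne_bot Q |>.2 hQne)
    refine ih _ hlt (G ⧸ Q) rfl (P.mapSurjective hsurj) ?_
    rw [Sylow.coe_mapSurjective]
    set X := (wOf p Pb).comap f with hXdef
    have hPX : (P : Subgroup G) ≤ Subgroup.normalizer (X : Set G) := fun x hx => by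
      rw [hXdef, ← Subgroup.comap_normalizer_eq_of_surjective _ hsurj]
      exact (Subgroup.le_normalizer.trans (normalizer_le_normalizer_wOf Pb))
        (Subgroup.mem_map_of_mem f hx)
    have hXp : IsPGroup p X := (hPbp.to_le (wOf_le Pb)).comap_of_ker_isPGroup f
      (by rw [hker]; exact P.isPGroup'.to_le hQP)
    have hNX : Subgroup.normalizer (X : Set G) ≠ ⊤ := fun h => by
      have hXQ : X ≤ Q := hQmax X (Subgroup.normalizer_eq_top_iff.1 h) hXp
      apply wOf_ne_bot hPbp hPbne
      rw [← Subgroup.map_comap_eq_self_of_surjective hsurj (wOf p Pb), ← hXdef, eq_bot_iff]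
      exact (Subgroup.map_mono hXQ).trans ((Subgroup.map_eq_bot_iff Q).2 hker.ge).le
    have h1 := npc_map f _ (hprop _ hPX hNX)
    rwa [hXdef, ← Subgroup.comap_normalizer_eq_of_surjective _ hsurj,
      Subgroup.map_comap_eq_self_of_surjective hsurj] at h1
  obtain ⟨Kb, hKbn, hKbco, k, hkk⟩ := hasNormalPComplement_iff.1 hZb
  set K := Kb.comap f with hKdef
  have hKidx : K.index = p ^ k := by rw [hKdef, Subgroup.index_comap_of_surjective _ hsurj, hkk]
  have hQK : Q ≤ K := hker ▸ Subgroup.ker_le_comap f Kb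
  have hKQ : K ≠ Q := fun h => by
    apply hQP'
    refine le_antisymm hQP fun x hx => ?_
    have hKb : Kb = ⊥ := by
      rw [← Subgroup.map_comap_eq_self_of_surjective hsurj Kb, ← hKdef, h]
      exact (Subgroup.map_eq_bot_iff Q).2 hker.ge
    rw [hKb, Subgroup.index_bot] at hkk
    have htopp : IsPGroup p (⊤ : Subgroup G) := by
      have := (IsPGroup.of_card (p := p) (n := k) (G := (⊤ : Subgroup (G ⧸ Q)))
        (by rw [Subgroup.card_top, hkk])).comap_of_ker_isPGroup f
          (by rw [hker]; exact P.isPGroup'.to_le hQP)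
      rwa [Subgroup.comap_top] at this
    exact hQmax ⊤ inferInstance htopp (Subgroup.mem_top x)
  have hKn : K.Normal := hKbn.comap f
  obtain ⟨hCQ, -, hab⟩ := CfsgLib.ThompsonComplement.config_structure hp2 P hQP hQmax hpc hprop hKidx hQK hKQ
    (by rwa [hKdef, ← hf, Subgroup.map_comap_eq_self_of_surjective hsurj])
  have hO : Cfsg.pCore p G = Q := le_antisymm
    (hQmax _ (CfsgLib.Solvable.pCore_normal p G) (CfsgLib.Solvable.pCore_isPGroup p G))
    (CfsgLib.Solvable.le_pCore hQn (P.isPGroup'.to_le hQP))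
  have hWn : W.Normal := stableNormalClosure_normal_of_stable (isActionPStable_of_cond hp2 (Or.inl hab))
    (by rw [hO]; exact hCQ) P
  exact hNtop (Subgroup.normalizer_eq_top_iff.2 hWn)

theorem hasNormalPComplement_of_normalizer_wOf (hp2 : p ≠ 2) (P : Sylow p G)
    (h : Cfsg.HasNormalPComplement p (Subgroup.normalizer (wOf p (P : Subgroup G) : Set G))) :
    Cfsg.HasNormalPComplement p G :=
  npc_aux p hp2 _ G rfl P h

end CfsgLib.WComplement
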